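import Groth.Agent.FF30.AD
import Mathlib.LinearAlgebra.Basis.SMul
import Mathlib.Algebra.Polynomial.Basis
import Mathlib.RingTheory.AlgebraicIndependent.Transcendental

/-! `L(D)`, principal divisors, degree of the divisor of zeros. -/

open FunFld WithZero IntermediateField
open scoped Multiplicative

namespace Groth.Agent.FF30

variable {k K : Type*} [Field k] [Field K] [Algebra k K]

theorem FF.div_apply (h : FF k K) (x : K) (P : Place k K) : div k x P = P.ord x := by
  unfold FunFld.div
  rw [dif_pos (h.finite_support_ord x)]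
  rfl

theorem mem_L {D : Divisor k K} {x : K} : x ∈ L D ↔ ∀ P : Place k K, P.1 x ≤ exp (D P) := Iff.rfl

theorem mem_L_iff_ord {D : Divisor k K} {x : K} (hx : x ≠ 0) :
    x ∈ L D ↔ ∀ P : Place k K, -D P ≤ P.ord x :=
  forall_congr' fun P => val_le_exp_iff P hx _

theorem L_mono {D₁ D₂ : Divisor k K} (h : D₁ ≤ D₂) : L D₁ ≤ L D₂ :=
  fun _ hx P => (hx P).trans (exp_le_exp.mpr (h P))

theorem L_eq_comap (D : Divisor k K) : L D = Submodule.comap (diag k K) (AD D) := rfl

/-- `L(D₂)/L(D₁) → A(D₂)/A(D₁)`. -/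
noncomputable def lToAD (D₁ D₂ : Divisor k K) : RQ (L D₁) (L D₂) →ₗ[k] RQ (AD D₁) (AD D₂) :=
  Submodule.mapQ _ _ ((diag k K ∘ₗ (L D₂).subtype).codRestrict (AD D₂) fun x => x.2)
    (fun _ hx => hx)

theorem lToAD_injective (D₁ D₂ : Divisor k K) : Function.Injective (lToAD D₁ D₂) := by
  rw [injective_iff_map_eq_zero]
  intro x hx
  obtain ⟨x, rfl⟩ := Submodule.Quotient.mk_surjective _ x
  exact (Submodule.Quotient.mk_eq_zero _).mpr fun P =>
    ((Submodule.Quotient.mk_eq_zero _).mp hx : _) P

theorem FF.rq_L (h : FF k K) {D₁ D₂ : Divisor k K} (hD : D₁ ≤ D₂) :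
    Module.Finite k (RQ (L D₁) (L D₂)) ∧
      (Module.finrank k (RQ (L D₁) (L D₂)) : ℤ) ≤ D₂.deg - D₁.deg := by
  obtain ⟨h1, h2⟩ := h.finrank_AD hD
  refine ⟨Module.Finite.of_injective _ (lToAD_injective D₁ D₂), ?_⟩
  have := LinearMap.finrank_le_finrank_of_injective (lToAD_injective D₁ D₂)
  omega

theorem FF.L_neg_single (h : FF k K) (P : Place k K) : L (-Finsupp.single P 1 : Divisor k K) = ⊥ := by
  classical
  rw [eq_bot_iff]
  intro x hx
  by_contra hne
  have hx0 : x ≠ 0 := fun h0 => hne (by simp [h0])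
  have hh := (mem_L_iff_ord hx0).mp hx
  have hP := hh P
  simp only [Finsupp.neg_apply, Finsupp.single_eq_same] at hP
  obtain ⟨Q, hQ⟩ := h.exists_place_neg (transcendental_of_ord_ne_zero P (x := x) (by omega))
  have hQ' := hh Q
  rw [Finsupp.neg_apply, Finsupp.single_apply] at hQ'
  split at hQ' <;> omega

theorem FF.nonempty_place (h : FF k K) : Nonempty (Place k K) := by
  obtain ⟨x, hx, -⟩ := id h
  exact ⟨(h.exists_place_pos hx).choose⟩

theorem FF.finite_L (h : FF k K) (D : Divisor k K) : FiniteDimensional k (L D) := by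
  classical
  obtain ⟨P⟩ := h.nonempty_place
  set D' := D ⊔ 0
  have h0 : (0 : Divisor k K) ≤ D' := le_sup_right
  have h1 : -Finsupp.single P 1 ≤ (0 : Divisor k K) := by
    simp only [neg_nonpos]
    exact Finsupp.single_nonneg.mpr zero_le_one
  have : Module.Finite k (L (-Finsupp.single P 1 : Divisor k K)) := by
    rw [h.L_neg_single P]; infer_instance
  have := (h.rq_L (h1.trans h0)).1
  have : Module.Finite k (L D') := finite_of_rq (L_mono (h1.trans h0))
  exact Module.Finite.of_injective (Submodule.inclusion (L_mono (le_sup_left : D ≤ D')))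
    (Submodule.inclusion_injective _)

theorem FF.ell_sub_le (h : FF k K) {D₁ D₂ : Divisor k K} (hD : D₁ ≤ D₂) :
    (ell D₂ : ℤ) - ell D₁ ≤ D₂.deg - D₁.deg := by
  have := h.finite_L D₂
  have h1 := finrank_of_rq (L_mono hD)
  have h2 := (h.rq_L hD).2
  unfold ell
  omega

theorem FF.ell_mono (h : FF k K) {D₁ D₂ : Divisor k K} (hD : D₁ ≤ D₂) : ell D₁ ≤ ell D₂ :=
  have := h.finite_L D₂
  Submodule.finrank_mono (L_mono hD)

theorem natCast_le_of_linear_bound {n b c : ℤ}
    (hh : ∀ t : ℕ, n * (t + 1) ≤ t * b + c) : n ≤ b := by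
  by_contra hlt
  push Not at hlt
  obtain ⟨m, hm⟩ : ∃ m : ℕ, c - n < (m : ℤ) := ⟨(c - n).natAbs + 1, by omega⟩
  have hh' := hh m
  have h3 : (m : ℤ) * 1 ≤ (m : ℤ) * (n - b) := mul_le_mul_of_nonneg_left (by omega) (by positivity)
  nlinarith

/-- The divisor of poles. -/
noncomputable def poleDiv (x : K) : Divisor k K := (-div k x) ⊔ 0

theorem FF.poleDiv_apply (h : FF k K) (x : K) (P : Place k K) :
    (poleDiv x : Divisor k K) P = max (-P.ord x) 0 := by
  rw [poleDiv, Finsupp.sup_apply, Finsupp.neg_apply, h.div_apply, Finsupp.zero_apply]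

theorem FF.exists_L_bound (h : FF k K) {x : K} (hx : Transcendental k x) :
    ∃ C : Divisor k K, 0 ≤ C ∧ ∀ t : ℕ,
      Module.finrank k⟮x⟯ K * (t + 1) ≤ ell (t • (poleDiv x : Divisor k K) + C) := by
  classical
  have := h.finiteDimensional_adjoin hx
  let u := Module.finBasis k⟮x⟯ K
  set C : Divisor k K := ∑ i, ((-div k (u i)) ⊔ 0) with hC
  have hC0 : 0 ≤ C := Finset.sum_nonneg fun i _ => le_sup_right
  refine ⟨C, hC0, fun t => ?_⟩
  set D := t • (poleDiv x : Divisor k K) + C
  have hx0 : x ≠ 0 := fun h0 => hx (h0 ▸ isAlgebraic_zero)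
  have hli : LinearIndependent k
      (fun ij : Fin (t + 1) × Fin (Module.finrank k⟮x⟯ K) => x ^ (ij.1 : ℕ) * u ij.2) := by
    have h1 : LinearIndependent k
        (fun j : Fin (t + 1) => (⟨x, mem_adjoin_simple_self k x⟩ : k⟮x⟯) ^ (j : ℕ)) := by
      rw [Fintype.linearIndependent_iff]
      intro g hg j
      have hp : Polynomial.aeval x (∑ i : Fin (t + 1), Polynomial.C (g i) * Polynomial.X ^ (i : ℕ)) = 0 := by
        have hg' := congrArg (fun e : k⟮x⟯ => (e : K)) hg
        simpa [Algebra.smul_def] using hg'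
      have h0 := transcendental_iff_injective.mp hx (hp.trans (map_zero _).symm)
      have hj := congrArg (fun p : Polynomial k => p.coeff (j : ℕ)) h0
      simp only [Polynomial.finset_sum_coeff, Polynomial.coeff_C_mul, Polynomial.coeff_X_pow,
        Polynomial.coeff_zero, mul_ite, mul_one, mul_zero] at hj
      rwa [Finset.sum_eq_single j (fun i _ hij => if_neg fun e => hij (Fin.ext e).symm) (by simp),
        if_pos rfl] at hj
    have h2 := linearIndependent_smul h1 u.linearIndependent
    convert h2 using 1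
    funext ij
    simp [IntermediateField.smul_def]
  have hmem : ∀ ij : Fin (t + 1) × Fin (Module.finrank k⟮x⟯ K),
      x ^ (ij.1 : ℕ) * u ij.2 ∈ L D := by
    intro ij
    have hu0 : u ij.2 ≠ 0 := u.ne_zero _
    rw [mem_L_iff_ord (mul_ne_zero (pow_ne_zero _ hx0) hu0)]
    intro P
    rw [ord_mul P (pow_ne_zero _ hx0) hu0, ord_pow]
    have h2 : ((-div k (u ij.2)) ⊔ 0 : Divisor k K) P ≤ C P :=
      (Finset.single_le_sum (f := fun i => ((-div k (u i)) ⊔ 0 : Divisor k K))
        (fun i _ => le_sup_right) (Finset.mem_univ ij.2)) P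
    rw [Finsupp.sup_apply, Finsupp.neg_apply, h.div_apply, Finsupp.zero_apply] at h2
    have h3 : D P = t * max (-P.ord x) 0 + C P := by
      simp [D, h.poleDiv_apply]
    rw [h3]
    have hj : (ij.1 : ℤ) ≤ t := by have := ij.1.isLt; omega
    have h4 : -(ij.1 : ℤ) * P.ord x ≤ t * max (-P.ord x) 0 := by
      rcases le_total 0 (P.ord x) with h5 | h5
      · rw [max_eq_right (by omega)]
        nlinarith
      · rw [max_eq_left (by omega)]
        nlinarith
    have h6 : -P.ord (u ij.2) ≤ C P := le_trans (le_max_left _ _) h2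
    linarith
  have := h.finite_L D
  have hli' : LinearIndependent k (fun ij => (⟨_, hmem ij⟩ : L D)) :=
    LinearIndependent.of_comp (L D).subtype hli
  have := hli'.fintype_card_le_finrank
  rwa [Fintype.card_prod, Fintype.card_fin, Fintype.card_fin, mul_comm] at this

theorem FF.deg_poleDiv (h : FF k K) {x : K} (hx : Transcendental k x) :
    (poleDiv x : Divisor k K).deg = Module.finrank k⟮x⟯ K := by
  classical
  refine le_antisymm ?_ ?_
  · set S := (poleDiv x : Divisor k K).support
    rw [deg_eq_sum _ (S := S) subset_rfl]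
    have hadj : k⟮x⁻¹⟯ = k⟮x⟯ := by
      refine le_antisymm (adjoin_simple_le_iff.mpr (inv_mem (mem_adjoin_simple_self k x))) ?_
      refine adjoin_simple_le_iff.mpr ?_
      simpa using inv_mem (mem_adjoin_simple_self k x⁻¹)
    have hS : ∀ P ∈ S, (poleDiv x : Divisor k K) P = P.ord x⁻¹ ∧ 0 < P.ord x⁻¹ := by
      intro P hP
      have := Finsupp.mem_support_iff.mp hP
      rw [h.poleDiv_apply] at this ⊢
      rw [ord_inv]
      omega
    have := h.sum_deg_mul_ord_le (x := x⁻¹) (fun ha => hx (by simpa using ha.inv)) S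
      (fun P hP => (hS P hP).2)
    rw [hadj] at this
    refine le_trans (le_of_eq (Finset.sum_congr rfl fun P hP => ?_)) this
    rw [(hS P hP).1]
  · obtain ⟨C, hC, hL⟩ := h.exists_L_bound hx
    refine natCast_le_of_linear_bound (c := C.deg + ell (0 : Divisor k K)) fun t => ?_
    have hD : (0 : Divisor k K) ≤ t • (poleDiv x : Divisor k K) + C :=
      add_nonneg (nsmul_nonneg le_sup_right t) hC
    have h1 := h.ell_sub_le hD
    rw [deg_zero, deg_add, deg_nsmul] at h1
    have h2 : ((Module.finrank k⟮x⟯ K * (t + 1) : ℕ) : ℤ) ≤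
        (ell (t • (poleDiv x : Divisor k K) + C) : ℤ) := Int.ofNat_le.mpr (hL t)
    push_cast at h2
    linarith

theorem div_eq_zero_of_isAlgebraic (h : FF k K) {x : K} (hx : IsAlgebraic k x) :
    div k x = 0 := by
  refine Finsupp.ext fun P => ?_
  rw [h.div_apply, Finsupp.zero_apply]
  by_contra hne
  exact transcendental_of_ord_ne_zero P hne hx

theorem FF.deg_zeroDiv (h : FF k K) {x : K} (hx : Transcendental k x) :
    (div k x ⊔ 0 : Divisor k K).deg = Module.finrank k⟮x⟯ K := by
  have h1 := h.deg_poleDiv (x := x⁻¹) (fun ha => hx (by simpa using ha.inv))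
  have hadj : k⟮x⁻¹⟯ = k⟮x⟯ := by
    refine le_antisymm (adjoin_simple_le_iff.mpr (inv_mem (mem_adjoin_simple_self k x))) ?_
    refine adjoin_simple_le_iff.mpr ?_
    simpa using inv_mem (mem_adjoin_simple_self k x⁻¹)
  rw [hadj] at h1
  rw [← h1]
  congr 1
  refine Finsupp.ext fun P => ?_
  rw [Finsupp.sup_apply, h.div_apply, h.poleDiv_apply, ord_inv, neg_neg, Finsupp.zero_apply]

theorem FF.deg_div (h : FF k K) (x : K) : (div k x).deg = 0 := by
  by_cases hx : Transcendental k x
  · have h1 := h.deg_zeroDiv hx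
    have h2 := h.deg_poleDiv hx
    have h3 : div k x = (div k x ⊔ 0 : Divisor k K) - poleDiv x := by
      refine Finsupp.ext fun P => ?_
      rw [Finsupp.sub_apply, Finsupp.sup_apply, h.div_apply, h.poleDiv_apply, Finsupp.zero_apply]
      omega
    rw [h3, deg_sub, h1, h2, sub_self]
  · rw [div_eq_zero_of_isAlgebraic h (not_not.mp hx), deg_zero]

theorem FF.div_mul (h : FF k K) {x y : K} (hx : x ≠ 0) (hy : y ≠ 0) :
    div k (x * y) = div k x + div k y := by
  refine Finsupp.ext fun P => ?_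
  rw [Finsupp.add_apply, h.div_apply, h.div_apply, h.div_apply, ord_mul P hx hy]

theorem FF.div_inv (h : FF k K) (x : K) : div k x⁻¹ = -div k x := by
  refine Finsupp.ext fun P => ?_
  rw [Finsupp.neg_apply, h.div_apply, h.div_apply, ord_inv]

theorem FF.L_eq_bot_of_deg_neg (h : FF k K) {D : Divisor k K} (hD : D.deg < 0) : L D = ⊥ := by
  rw [eq_bot_iff]
  intro x hx
  by_contra hne
  have hx0 : x ≠ 0 := fun h0 => hne (by simp [h0])
  have hle : -D ≤ div k x := fun P => by
    rw [h.div_apply, Finsupp.neg_apply]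
    exact (mem_L_iff_ord hx0).mp hx P
  have := deg_mono hle
  rw [deg_neg, h.deg_div] at this
  omega

theorem FF.mul_mem_L_iff (h : FF k K) (D : Divisor k K) {x : K} (hx : x ≠ 0) (y : K) :
    x * y ∈ L D ↔ y ∈ L (D + div k x) := by
  refine forall_congr' fun P => ?_
  rw [Finsupp.add_apply, h.div_apply, exp_add, map_mul, val_eq P hx]
  constructor
  · intro hle
    calc P.1 y = exp (P.ord x) * (exp (-P.ord x) * P.1 y) := by
          rw [← mul_assoc, ← exp_add, add_neg_cancel, exp_zero, one_mul]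
      _ ≤ exp (P.ord x) * exp (D P) := mul_le_mul' le_rfl hle
      _ = exp (D P) * exp (P.ord x) := mul_comm _ _
  · intro hle
    calc exp (-P.ord x) * P.1 y ≤ exp (-P.ord x) * (exp (D P) * exp (P.ord x)) := mul_le_mul' le_rfl hle
      _ = exp (D P) := by rw [← exp_add, ← exp_add]; congr 1; ring

theorem FF.ell_add_div (h : FF k K) (D : Divisor k K) {x : K} (hx : x ≠ 0) :
    ell (D + div k x) = ell D := by
  let e : L (D + div k x) ≃ₗ[k] L D :=
    { toFun := fun y => ⟨x * y, (h.mul_mem_L_iff D hx y).mpr y.2⟩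
      map_add' := fun a b => Subtype.ext (mul_add _ _ _)
      map_smul' := fun c a => Subtype.ext (mul_smul_comm c x (a : K))
      invFun := fun z => ⟨x⁻¹ * z, (h.mul_mem_L_iff D hx _).mp (by rw [mul_inv_cancel_left₀ hx]; exact z.2)⟩
      left_inv := fun y => Subtype.ext (inv_mul_cancel_left₀ hx _)
      right_inv := fun y => Subtype.ext (mul_inv_cancel_left₀ hx _) }
  exact e.finrank_eq

end Groth.Agent.FF30
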