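import Groth.Agent.FF30.RR
import Mathlib.FieldTheory.IntermediateField.Adjoin.Basic

/-! Rational function fields: genus zero. -/

open FunFld WithZero IntermediateField
open scoped Multiplicative

namespace Groth.Agent.FF30

variable {k K : Type*} [Field k] [Field K] [Algebra k K]

theorem linearIndependent_pow_of_transcendental {x : K} (hx : Transcendental k x) (t : ℕ) :
    LinearIndependent k (fun j : Fin (t + 1) => x ^ (j : ℕ)) := by
  rw [Fintype.linearIndependent_iff]
  intro g hg j
  have hp : Polynomial.aeval x (∑ i : Fin (t + 1), Polynomial.C (g i) * Polynomial.X ^ (i : ℕ)) = 0 := by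
    simpa [Algebra.smul_def] using hg
  have h0 := transcendental_iff_injective.mp hx (hp.trans (map_zero _).symm)
  have hj := congrArg (fun p : Polynomial k => p.coeff (j : ℕ)) h0
  simp only [Polynomial.finsetSum_coeff, Polynomial.coeff_C_mul, Polynomial.coeff_X_pow,
    Polynomial.coeff_zero, mul_ite, mul_one, mul_zero] at hj
  rwa [Finset.sum_eq_single j (fun i _ hij => if_neg fun e => hij (Fin.ext e).symm) (by simp),
    if_pos rfl] at hj

theorem FF.add_one_le_ell_nsmul_poleDiv (h : FF k K) {x : K} (hx : Transcendental k x) (t : ℕ) :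
    t + 1 ≤ ell (t • (poleDiv x : Divisor k K)) := by
  have hx0 : x ≠ 0 := fun h0 => hx (h0 ▸ isAlgebraic_zero)
  have hmem : ∀ j : Fin (t + 1), x ^ (j : ℕ) ∈ L (t • (poleDiv x : Divisor k K)) := by
    intro j
    rw [mem_L_iff_ord (pow_ne_zero _ hx0)]
    intro P
    rw [ord_pow, Finsupp.smul_apply, h.poleDiv_apply, nsmul_eq_mul]
    have : (j : ℤ) ≤ t := by have := j.isLt; omega
    rcases le_total 0 (P.ord x) with h5 | h5
    · rw [max_eq_right (by omega)]; nlinarith
    · rw [max_eq_left (by omega)]; nlinarith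
  have := h.finite_L (t • (poleDiv x : Divisor k K))
  have hli : LinearIndependent k (fun j => (⟨_, hmem j⟩ : L (t • (poleDiv x : Divisor k K)))) :=
    LinearIndependent.of_comp (L _).subtype (linearIndependent_pow_of_transcendental hx t)
  simpa [ell] using hli.fintype_card_le_finrank

theorem genus_eq_zero_of_deg_poleDiv_eq_one (h : IsFunctionField k K) {x : K}
    (hx : Transcendental k x) (h1 : (poleDiv x : Divisor k K).deg = 1) : genus k K = 0 := by
  have hF : FF k K := h.1
  obtain ⟨N, hN⟩ := exists_delta_eq_genus_of_deg_ge h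
  have hd : (N.natAbs • (poleDiv x : Divisor k K)).deg = (N.natAbs : ℤ) := by
    rw [deg_nsmul, h1, mul_one]
  have := hN (N.natAbs • (poleDiv x : Divisor k K)) (by rw [hd]; omega)
  rw [delta, hd] at this
  have := hF.add_one_le_ell_nsmul_poleDiv hx N.natAbs
  omega

theorem transcendental_of_adjoin_eq_top (h : IsFunctionField k K) {x : K}
    (hx : k⟮x⟯ = ⊤) : Transcendental k x := by
  intro ha
  obtain ⟨y, hy, -⟩ := h.1
  obtain ⟨c, hc⟩ := h.2 x ha
  have hmem : y ∈ k⟮x⟯ := hx ▸ mem_top
  have hb : k⟮x⟯ = ⊥ := by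
    rw [adjoin_simple_eq_bot_iff, mem_bot]; exact ⟨c, hc⟩
  rw [hb, mem_bot] at hmem
  obtain ⟨d, rfl⟩ := hmem
  exact hy (isAlgebraic_algebraMap d)

theorem finrank_eq_one_iff_adjoin_top {x : K} : Module.finrank k⟮x⟯ K = 1 ↔ k⟮x⟯ = ⊤ := by
  constructor
  · intro h
    rw [eq_top_iff]
    intro y _
    obtain ⟨c, hc⟩ := (finrank_eq_one_iff_of_nonzero' (1 : K) one_ne_zero).mp h y
    rw [← hc]
    change (c : K) * 1 ∈ k⟮x⟯
    rw [mul_one]
    exact c.2
  · intro h
    rw [h]
    exact IntermediateField.finrank_top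

theorem FF.eq_single_of_deg_one (h : FF k K) {D : Divisor k K} (hD : 0 ≤ D) (hdeg : D.deg = 1) :
    ∃ P : Place k K, P.deg = 1 ∧ D = Finsupp.single P 1 := by
  classical
  obtain ⟨P, hP⟩ : ∃ P, D P ≠ 0 := by
    by_contra hcon
    push Not at hcon
    rw [show D = 0 from Finsupp.ext hcon, deg_zero] at hdeg
    exact zero_ne_one hdeg
  have hle : Finsupp.single P 1 ≤ D := fun Q => by
    rw [Finsupp.single_apply]
    have := hD Q
    simp only [Finsupp.zero_apply] at this
    split
    · rename_i hQ; subst hQ; omega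
    · exact this
  have h1 := deg_mono hle
  rw [deg_single] at h1
  have := h.deg_pos P
  exact ⟨P, by omega, (h.eq_of_le_of_deg_le hle (by rw [deg_single]; omega)).symm⟩

theorem exists_simple_pole_iff' (h : IsFunctionField k K) :
    (∃ (x : K) (P : Place k K), P.deg = 1 ∧ P.ord x = -1 ∧
        ∀ Q : Place k K, Q ≠ P → 0 ≤ Q.ord x) ↔
      ∃ x : K, IntermediateField.adjoin k ({x} : Set K) = ⊤ := by
  classical
  have hF : FF k K := h.1
  constructor
  · rintro ⟨x, P, hP, hPx, hQ⟩
    refine ⟨x, finrank_eq_one_iff_adjoin_top.mp ?_⟩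
    have htr : Transcendental k x := transcendental_of_ord_ne_zero P (by omega)
    have hpd : (poleDiv x : Divisor k K) = Finsupp.single P 1 := by
      refine Finsupp.ext fun Q => ?_
      rw [hF.poleDiv_apply, Finsupp.single_apply]
      split
      · rename_i he; subst he; omega
      · rename_i he; have := hQ Q (Ne.symm he); omega
    have := hF.deg_poleDiv htr
    rw [hpd, deg_single, hP] at this
    omega
  · rintro ⟨x, hx⟩
    have htr := transcendental_of_adjoin_eq_top h hx
    have := hF.deg_poleDiv htr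
    rw [finrank_eq_one_iff_adjoin_top.mpr hx] at this
    obtain ⟨P, hP, he⟩ := hF.eq_single_of_deg_one le_sup_right (by exact_mod_cast this : (poleDiv x : Divisor k K).deg = 1)
    have hval : ∀ Q, max (-Q.ord x) 0 = (Finsupp.single P 1 : Divisor k K) Q := fun Q => by
      rw [← hF.poleDiv_apply]; exact congrArg (fun D : Divisor k K => D Q) he
    refine ⟨x, P, hP, ?_, fun Q hQ => ?_⟩
    · have := hval P; rw [Finsupp.single_eq_same] at this; omega
    · have := hval Q; rw [Finsupp.single_eq_of_ne hQ] at this; omega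

theorem genus_zero_and_exists_deg_one_iff' (h : IsFunctionField k K) :
    (genus k K = 0 ∧ ∃ P : Place k K, P.deg = 1) ↔
      ∃ x : K, IntermediateField.adjoin k ({x} : Set K) = ⊤ := by
  classical
  have hF : FF k K := h.1
  constructor
  · rintro ⟨hg, P, hP⟩
    rw [← exists_simple_pole_iff' h]
    have hell := ell_eq_of_deg_gt h (D := Finsupp.single P 1) (by rw [deg_single, hP, hg]; norm_num)
    rw [deg_single, hP, hg] at hell
    push_cast at hell
    obtain ⟨x, hx, hxn⟩ : ∃ x ∈ L (Finsupp.single P 1 : Divisor k K), x ∉ L (0 : Divisor k K) := by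
      by_contra hcon
      push Not at hcon
      have := hF.finite_L (0 : Divisor k K)
      have hle : ell (Finsupp.single P 1 : Divisor k K) ≤ ell (0 : Divisor k K) :=
        Submodule.finrank_mono hcon
      rw [ell_zero h] at hle
      omega
    have hx0 : x ≠ 0 := fun e => hxn (e ▸ Submodule.zero_mem _)
    have hord := (mem_L_iff_ord hx0).mp hx
    refine ⟨x, P, hP, ?_, fun Q hQ => ?_⟩
    · have h1 := hord P
      rw [Finsupp.single_eq_same] at h1
      by_contra hne
      refine hxn ((mem_L_iff_ord hx0).mpr fun Q => ?_)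
      have h2 := hord Q
      rw [Finsupp.single_apply] at h2
      rw [Finsupp.zero_apply]
      split at h2
      · rename_i he; subst he; omega
      · exact h2
    · have h1 := hord Q
      rw [Finsupp.single_eq_of_ne hQ] at h1
      omega
  · intro hx
    obtain ⟨x, P, hP, h1, h2⟩ := (exists_simple_pole_iff' h).mpr hx
    refine ⟨genus_eq_zero_of_deg_poleDiv_eq_one h
      (transcendental_of_ord_ne_zero P (x := x) (by omega)) ?_, P, hP⟩
    have hpd : (poleDiv x : Divisor k K) = Finsupp.single P 1 := by
      refine Finsupp.ext fun Q => ?_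
      rw [hF.poleDiv_apply, Finsupp.single_apply]
      split
      · rename_i he; subst he; omega
      · rename_i he; have := h2 Q (Ne.symm he); omega
    rw [hpd, deg_single, hP]; norm_num

theorem strong_approximation' (h : IsFunctionField k K) (Pinf : Place k K) (S : Finset (Place k K))
    (hS : Pinf ∉ S) (x : Place k K → K) (m : Place k K → ℤ) :
    ∃ y : K, (∀ P ∈ S, P.1 (y - x P) = exp (-(m P))) ∧
      ∀ Q : Place k K, Q ≠ Pinf → Q ∉ S → Q.1 y ≤ 1 := by
  classical
  have hF : FF k K := h.1
  obtain ⟨N, hN⟩ := exists_delta_eq_genus_of_deg_ge h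
  set D₁ : Divisor k K := Finsupp.onFinset S (fun P => if P ∈ S then -(m P) - 1 else 0)
    (fun P hP => by by_contra hc; simp [hc] at hP) with hD₁
  obtain ⟨n, hn⟩ : ∃ n : ℕ, N - D₁.deg ≤ (n : ℤ) := ⟨(N - D₁.deg).natAbs, by omega⟩
  set D := D₁ + Finsupp.single Pinf (n : ℤ) with hD
  have hdeg : N ≤ D.deg := by
    rw [hD, deg_add, deg_single]
    have : (n : ℤ) ≤ n * Pinf.deg := by
      exact le_mul_of_one_le_right (by omega) (by exact_mod_cast hF.deg_pos Pinf)
    omega
  choose t ht0 ht using fun P : Place k K => exists_val_eq P (-(m P))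
  set a : Place k K → K := fun P => if P ∈ S then x P + t P else 0 with ha
  have haA : a ∈ adele k K := by
    change ∀ᶠ P : Place k K in Filter.cofinite, P.1 (a P) ≤ 1
    rw [Filter.eventually_cofinite]
    refine S.finite_toSet.subset fun P hP => ?_
    by_contra hc
    apply hP
    simp only [ha]
    rw [if_neg (by simpa using hc), map_zero]
    exact zero_le
  have hmem : a ∈ AD D ⊔ LinearMap.range (diag k K) := by
    rw [← adele_eq_sup h (hN D hdeg)]; exact haA
  obtain ⟨b, hb, r, ⟨y, rfl⟩, hab⟩ := Submodule.mem_sup.mp hmem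
  refine ⟨y, fun P hP => ?_, fun Q hQ hQS => ?_⟩
  · have hne : P ≠ Pinf := fun e => hS (e ▸ hP)
    have hbP : P.1 (b P) ≤ exp (-(m P) - 1) := by
      refine (hb P).trans (le_of_eq ?_)
      simp [hD, hD₁, hP, hne]
    have he : b P + y = x P + t P := by
      have := congrFun hab P
      simp only [ha, if_pos hP] at this
      exact this
    have : y - x P = t P + -b P := by linear_combination he
    rw [this]
    refine (Valuation.map_add_eq_of_lt_left _ ?_).trans (ht P)
    rw [Valuation.map_neg, ht P]
    exact lt_of_le_of_lt hbP (exp_lt_exp.mpr (by omega))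
  · have hbQ : Q.1 (b Q) ≤ 1 := by
      refine (hb Q).trans (le_of_eq ?_)
      simp [hD, hD₁, hQS, hQ]
    have he : b Q + y = 0 := by
      have := congrFun hab Q
      simp only [ha, if_neg hQS] at this
      exact this
    rw [eq_neg_of_add_eq_zero_right he, Valuation.map_neg]
    exact hbQ

end Groth.Agent.FF30
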