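import Groth.Agent.FF30.Fil
import Mathlib.LinearAlgebra.Dimension.Constructions
import Mathlib.LinearAlgebra.FiniteDimensional.Basic

/-! `A(D₂)/A(D₁)`, the inequality `∑ deg P · ord_P x ≤ [K : k(x)]`, finite support. -/

open FunFld WithZero IntermediateField
open scoped Multiplicative

namespace Groth.Agent.FF30

variable {k K : Type*} [Field k] [Field K] [Algebra k K]

theorem exists_lifts {ι V : Type*} [Fintype ι] {W : ι → Type*} [AddCommGroup V] [Module k V]
    [∀ i, AddCommGroup (W i)] [∀ i, Module k (W i)] [∀ i, Module.Finite k (W i)]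
    (f : V →ₗ[k] ((i : ι) → W i)) (hf : Function.Surjective f) :
    ∃ z : Fin (∑ i, Module.finrank k (W i)) → V, ∀ c : Fin (∑ i, Module.finrank k (W i)) → k,
      f (∑ i, c i • z i) = 0 → c = 0 := by
  let bas := Module.finBasisOfFinrankEq k ((i : ι) → W i) (Module.finrank_pi_fintype k)
  choose z hz using fun i => hf (bas i)
  refine ⟨z, fun c hc => ?_⟩
  simp only [map_sum, map_smul, hz] at hc
  exact funext fun i => Fintype.linearIndependent_iff.mp bas.linearIndependent c hc i

theorem rq_of_surjective {ι M : Type*} [Fintype ι] {W : ι → Type*} [AddCommGroup M] [Module k M]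
    [∀ i, AddCommGroup (W i)] [∀ i, Module k (W i)] [∀ i, Module.Finite k (W i)]
    {A B : Submodule k M} (f : B →ₗ[k] ((i : ι) → W i)) (hf : Function.Surjective f)
    (hker : LinearMap.ker f = Submodule.comap B.subtype A) :
    Module.Finite k (RQ A B) ∧
      Module.finrank k (RQ A B) = ∑ i, Module.finrank k (W i) := by
  let e := (Submodule.quotEquivOfEq _ _ hker.symm).trans (f.quotKerEquivOfSurjective hf)
  exact ⟨Module.Finite.equiv e.symm, e.finrank_eq.trans (Module.finrank_pi_fintype k)⟩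

/-- The map `R_S → ∏ Fil b / Fil a`. -/
noncomputable def locMap (S : Finset (Place k K)) (a b : Place k K → ℤ)
    (V : Submodule k K) (hV : ∀ P ∈ S, V ≤ Fil P (b P)) :
    V →ₗ[k] ((P : S) → RQ (Fil P.1 (a P.1)) (Fil P.1 (b P.1))) :=
  LinearMap.pi fun P => (Submodule.mkQ _).comp (Submodule.inclusion (hV P.1 P.2))

theorem locMap_surjective (S : Finset (Place k K)) (a b : Place k K → ℤ) (hab : ∀ P ∈ S, a P ≤ b P) :
    Function.Surjective (locMap S a b (⨅ P ∈ S, Fil P (b P)) (fun _ hP => iInf₂_le _ hP)) := by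
  classical
  intro r
  choose w hw using fun P : S => Submodule.Quotient.mk_surjective _ (r P)
  obtain ⟨y, hy⟩ := exists_approx S (fun P => if h : P ∈ S then ((w ⟨P, h⟩ : Fil P (b P)) : K) else 0) a
  have hyw : ∀ P (h : P ∈ S), P.1 (y - (w ⟨P, h⟩ : K)) ≤ exp (a P) := fun P h => by
    simpa [h] using hy P h
  have hyV : y ∈ ⨅ P ∈ S, Fil P (b P) := by
    simp only [Submodule.mem_iInf]
    intro P hP
    have h1 : y - (w ⟨P, hP⟩ : K) ∈ Fil P (b P) := Fil_mono P (hab P hP) (hyw P hP)
    simpa using Submodule.add_mem _ h1 (w ⟨P, hP⟩).2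
  refine ⟨⟨y, hyV⟩, funext fun P => ?_⟩
  refine Eq.trans ?_ (hw P)
  exact (Submodule.Quotient.eq _).mpr (hyw P.1 P.2)

theorem FF.sum_deg_mul_ord_le (h : FF k K) {x : K} (hx : Transcendental k x)
    (S : Finset (Place k K)) (hS : ∀ P ∈ S, 0 < P.ord x) :
    ∑ P ∈ S, P.ord x * (P.deg : ℤ) ≤ Module.finrank k⟮x⟯ K := by
  classical
  have := h.finiteDimensional_adjoin hx
  have := h.finite_residueField
  let a : Place k K → ℤ := fun P => -P.ord x
  have hq := fun P : S => fil_finrank P.1 (a := a P.1) (b := 0) (by have := hS P.1 P.2; simp [a]; omega)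
  have := fun P : S => (hq P).1
  obtain ⟨z, hz⟩ := exists_lifts (W := fun P : S => RQ (Fil P.1 (a P.1)) (Fil P.1 0))
    (locMap S a (fun _ => 0) (⨅ P ∈ S, Fil P ((fun _ => (0 : ℤ)) P)) (fun _ hP => iInf₂_le _ hP))
    (locMap_surjective S a (fun _ => 0)
    (fun P hP => by have := hS P hP; simp [a]; omega))
  have hmem : ∀ i, ∀ P ∈ S, P.1 ((z i : K)) ≤ exp 0 := fun i P hP => by
    have := (z i).2
    simp only [Submodule.mem_iInf] at this
    exact this P hP
  have hli : LinearIndependent k⟮x⟯ (fun i => (z i : K)) := by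
    refine linearIndependent_of_mod hx S hS _ (fun P hP i => (hmem i P hP).trans_eq exp_zero)
      fun c hc => hz c ?_
    funext P
    refine (Submodule.Quotient.mk_eq_zero _).mpr ?_
    change P.1.1 ((∑ i, c i • z i : ↥(⨅ P ∈ S, Fil P 0)) : K) ≤ exp (a P.1)
    rw [AddSubmonoidClass.coe_finsetSum]
    exact hc P.1 P.2
  have hcard := hli.fintype_card_le_finrank
  rw [Fintype.card_fin] at hcard
  refine le_trans (le_of_eq ?_) (Int.ofNat_le.mpr hcard)
  push_cast
  rw [← Finset.sum_coe_sort]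
  refine Finset.sum_congr rfl fun P _ => ?_
  rw [(hq P).2]
  simp [a]

theorem FF.deg_pos (h : FF k K) (P : Place k K) : 0 < P.deg := by
  have := h.finite_residueField P
  exact Module.finrank_pos

theorem FF.zeros_finite (h : FF k K) (x : K) : {P : Place k K | 0 < P.ord x}.Finite := by
  by_cases hx : Transcendental k x
  · by_contra hinf
    obtain ⟨S, hS, hcard⟩ := Set.Infinite.exists_subset_card_eq hinf (Module.finrank k⟮x⟯ K + 1)
    have hS' : ∀ P ∈ S, 0 < P.ord x := fun P hP => hS hP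
    have := h.sum_deg_mul_ord_le hx S hS'
    have h2 : (S.card : ℤ) ≤ ∑ P ∈ S, P.ord x * (P.deg : ℤ) := by
      rw [Finset.card_eq_sum_ones, Nat.cast_sum]
      refine Finset.sum_le_sum fun P hP => ?_
      have h3 : 0 < (P.deg : ℤ) := by exact_mod_cast h.deg_pos P
      have := mul_pos (hS' P hP) h3
      push_cast
      omega
    omega
  · have : {P : Place k K | 0 < P.ord x} = ∅ :=
      Set.eq_empty_of_forall_notMem fun P hP => hx (transcendental_of_ord_ne_zero P (ne_of_gt hP))
    rw [this]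
    exact Set.finite_empty

theorem FF.finite_support_ord (h : FF k K) (x : K) :
    (Function.support fun P : Place k K => P.ord x).Finite := by
  refine ((h.zeros_finite x).union (h.zeros_finite x⁻¹)).subset fun P hP => ?_
  have hP' : P.ord x ≠ 0 := hP
  simp only [Set.mem_union, Set.mem_ofPred_eq, ord_inv]
  omega

/-- `A(D₂) → ∏ (Fil D₂ / Fil D₁)` over a finite set of places. -/
noncomputable def adMap (S : Finset (Place k K)) (D₁ D₂ : Divisor k K) :
    AD D₂ →ₗ[k] ((P : S) → RQ (Fil P.1 (D₁ P.1)) (Fil P.1 (D₂ P.1))) :=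
  LinearMap.pi fun P => (Submodule.mkQ _).comp
    (((LinearMap.proj P.1).comp (AD D₂).subtype).codRestrict _ fun a => a.2 P.1)

theorem adMap_surjective (S : Finset (Place k K)) (D₁ D₂ : Divisor k K) :
    Function.Surjective (adMap S D₁ D₂) := by
  classical
  intro r
  choose w hw using fun P : S => Submodule.Quotient.mk_surjective _ (r P)
  refine ⟨⟨fun P => if h : P ∈ S then ((w ⟨P, h⟩ : Fil P (D₂ P)) : K) else 0, fun P => ?_⟩,
    funext fun P => ?_⟩
  · dsimp only
    split
    · rename_i hP; exact (w ⟨P, hP⟩).2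
    · simp
  · refine Eq.trans ?_ (hw P)
    refine congrArg Submodule.Quotient.mk ?_
    apply Subtype.ext
    change dite _ _ _ = _
    rw [dif_pos P.2]

theorem ker_adMap (S : Finset (Place k K)) {D₁ D₂ : Divisor k K}
    (hS : ∀ P ∉ S, D₁ P = D₂ P) :
    LinearMap.ker (adMap S D₁ D₂) = Submodule.comap (AD D₂).subtype (AD D₁) := by
  ext a
  constructor
  · intro ha P
    by_cases hP : P ∈ S
    · exact (Submodule.Quotient.mk_eq_zero _).mp (congrFun (LinearMap.mem_ker.mp ha) ⟨P, hP⟩)
    · rw [hS P hP]; exact a.2 P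
  · intro ha
    exact LinearMap.mem_ker.mpr (funext fun P => (Submodule.Quotient.mk_eq_zero _).mpr (ha P.1))

theorem deg_eq_sum (D : Divisor k K) {S : Finset (Place k K)} (hS : D.support ⊆ S) :
    D.deg = ∑ P ∈ S, D P * (P.deg : ℤ) :=
  Finsupp.sum_of_support_subset D hS _ (fun P _ => zero_mul _)

theorem deg_add (D E : Divisor k K) : (D + E).deg = D.deg + E.deg :=
  Finsupp.sum_add_index' (fun _ => zero_mul _) (fun _ _ _ => add_mul _ _ _)

@[simp] theorem deg_zero : (0 : Divisor k K).deg = 0 := Finsupp.sum_zero_index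

theorem deg_neg (D : Divisor k K) : (-D).deg = -D.deg := by
  have := deg_add D (-D)
  rw [add_neg_cancel, deg_zero] at this
  omega

theorem deg_sub (D E : Divisor k K) : (D - E).deg = D.deg - E.deg := by
  rw [sub_eq_add_neg, deg_add, deg_neg, sub_eq_add_neg]

theorem deg_nsmul (n : ℕ) (D : Divisor k K) : (n • D).deg = n * D.deg := by
  induction n with
  | zero => simp
  | succ n ih => rw [succ_nsmul, deg_add, ih]; push_cast; ring

@[simp] theorem deg_single (P : Place k K) (n : ℤ) :
    Divisor.deg (Finsupp.single P n) = n * P.deg :=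
  Finsupp.sum_single_index (zero_mul _)

theorem deg_mono {D E : Divisor k K} (h : D ≤ E) : D.deg ≤ E.deg := by
  classical
  rw [deg_eq_sum D (S := D.support ∪ E.support) Finset.subset_union_left,
    deg_eq_sum E (S := D.support ∪ E.support) Finset.subset_union_right]
  exact Finset.sum_le_sum fun P _ => mul_le_mul_of_nonneg_right (h P) (by positivity)

theorem AD_mono {D₁ D₂ : Divisor k K} (h : D₁ ≤ D₂) : AD D₁ ≤ AD D₂ :=
  fun _ ha P => (ha P).trans (exp_le_exp.mpr (h P))

theorem finrank_AD_aux [∀ P : Place k K, FiniteDimensional k (IsLocalRing.ResidueField P.O)]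
    (S : Finset (Place k K)) {D₁ D₂ : Divisor k K} (hD : D₁ ≤ D₂)
    (h1 : D₁.support ⊆ S) (h2 : D₂.support ⊆ S) :
    Module.Finite k (RQ (AD D₁) (AD D₂)) ∧
      (Module.finrank k (RQ (AD D₁) (AD D₂)) : ℤ) = D₂.deg - D₁.deg := by
  have hS : ∀ P ∉ S, D₁ P = D₂ P := fun P hP => by
    rw [Finsupp.notMem_support_iff.mp fun h => hP (h1 h),
      Finsupp.notMem_support_iff.mp fun h => hP (h2 h)]
  have hq : ∀ P : S, Module.Finite k (RQ (Fil P.1 (D₁ P.1)) (Fil P.1 (D₂ P.1))) ∧
      (Module.finrank k (RQ (Fil P.1 (D₁ P.1)) (Fil P.1 (D₂ P.1))) : ℤ) =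
        (D₂ P.1 - D₁ P.1) * P.1.deg := fun P => fil_finrank P.1 (hD P.1)
  have : ∀ P : S, Module.Finite k (RQ (Fil P.1 (D₁ P.1)) (Fil P.1 (D₂ P.1))) := fun P => (hq P).1
  have hadd := rq_of_surjective (A := AD D₁) (B := AD D₂)
    (W := fun P : S => RQ (Fil P.1 (D₁ P.1)) (Fil P.1 (D₂ P.1))) (adMap S D₁ D₂)
    (adMap_surjective S D₁ D₂) (ker_adMap S hS)
  refine ⟨hadd.1, ?_⟩
  refine (congrArg Nat.cast hadd.2).trans ?_
  rw [deg_eq_sum D₁ h1, deg_eq_sum D₂ h2, ← Finset.sum_sub_distrib, Nat.cast_sum,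
    ← Finset.sum_coe_sort S]
  exact Finset.sum_congr rfl fun P _ => (hq P).2.trans (sub_mul _ _ _)

theorem FF.finrank_AD (h : FF k K) {D₁ D₂ : Divisor k K} (hD : D₁ ≤ D₂) :
    Module.Finite k (RQ (AD D₁) (AD D₂)) ∧
      (Module.finrank k (RQ (AD D₁) (AD D₂)) : ℤ) = D₂.deg - D₁.deg := by
  classical
  have := h.finite_residueField
  exact finrank_AD_aux (D₁.support ∪ D₂.support) hD Finset.subset_union_left
    Finset.subset_union_right

end Groth.Agent.FF30
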