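import Groth.Agent.FF30.Basic
import Mathlib.FieldTheory.IntermediateField.Adjoin.Basic
import Mathlib.RingTheory.Algebraic.Integral
import Mathlib.RingTheory.AlgebraicIndependent.AlgebraicClosure
import Mathlib.RingTheory.Adjoin.Polynomial.Bivariate

/-! Fields of transcendence degree one, finitely generated. -/

open FunFld WithZero IntermediateField

namespace Groth.Agent.FF30

/-- Some transcendental element over which the field is finite. -/
def FF (k K : Type*) [Field k] [Field K] [Algebra k K] : Prop :=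
  ∃ x : K, Transcendental k x ∧ FiniteDimensional (IntermediateField.adjoin k ({x} : Set K)) K

variable {k K : Type*} [Field k] [Field K] [Algebra k K]

theorem FF.of_isFunctionField (h : IsFunctionField k K) : FF k K := h.1

theorem transcendental_of_not_mem_range (h : IsFunctionField k K) {x : K}
    (hx : x ∉ Set.range (algebraMap k K)) : Transcendental k x := fun ha => hx (h.2 x ha)

theorem FF.finiteDimensional_adjoin (h : FF k K) {z : K} (hz : Transcendental k z) :
    FiniteDimensional k⟮z⟯ K := by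
  obtain ⟨x, hx, hfin⟩ := h
  have := hfin
  have hz' : IsAlgebraic k⟮x⟯ z := Algebra.IsAlgebraic.isAlgebraic z
  have hxz : IsAlgebraic k⟮z⟯ x :=
    isAlgebraic_adjoin_iff.mpr (.adjoin_singleton hx hz (isAlgebraic_adjoin_iff.mp hz'))
  let Fzx := restrictScalars k k⟮z⟯⟮x⟯
  let Fxz := restrictScalars k k⟮x⟯⟮z⟯
  let : Algebra k⟮z⟯ Fzx := k⟮z⟯⟮x⟯.algebra
  let : Module k⟮z⟯ Fzx := Algebra.toModule
  let : SMul k⟮z⟯ Fzx := Algebra.toSMul
  let : Algebra k⟮x⟯ Fxz := k⟮x⟯⟮z⟯.algebra
  let : Module k⟮x⟯ Fxz := Algebra.toModule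
  let : SMul k⟮x⟯ Fxz := Algebra.toSMul
  have : FiniteDimensional k⟮z⟯ Fzx :=
    adjoin.finiteDimensional (isAlgebraic_iff_isIntegral.mp hxz)
  have : FiniteDimensional Fzx K := by
    unfold Fzx
    rw [adjoin_simple_comm]
    have : IsScalarTower k⟮x⟯ Fxz K := isScalarTower_mid' k⟮x⟯⟮z⟯
    exact .right k⟮x⟯ Fxz K
  have : IsScalarTower k⟮z⟯ Fzx K := isScalarTower_mid' k⟮z⟯⟮x⟯
  exact .trans k⟮z⟯ Fzx K

theorem FF.extension (h : FF k K) (K' : Type*) [Field K'] [Algebra K K'] [Algebra k K']
    [IsScalarTower k K K'] [FiniteDimensional K K'] : FF k K' := by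
  obtain ⟨x, hx, hfin⟩ := h
  have := hfin
  refine ⟨algebraMap K K' x, ?_, ?_⟩
  · intro ha
    exact hx ((isAlgebraic_algebraMap_iff (algebraMap K K').injective).mp ha)
  · have : FiniteDimensional k⟮x⟯ K' := .trans k⟮x⟯ K K'
    obtain ⟨s, hs⟩ := (Module.Finite.fg_top : (⊤ : Submodule k⟮x⟯ K').FG)
    refine ⟨⟨s, ?_⟩⟩
    rw [eq_top_iff]
    rintro y -
    have hy : y ∈ Submodule.span k⟮x⟯ (s : Set K') := by rw [hs]; exact Submodule.mem_top
    induction hy using Submodule.span_induction with
    | mem y hy => exact Submodule.subset_span hy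
    | zero => exact Submodule.zero_mem _
    | add a b _ _ ha hb => exact Submodule.add_mem _ ha hb
    | smul c a _ ha =>
      have hc : algebraMap K K' (c : K) ∈ k⟮algebraMap K K' x⟯ := by
        have := IntermediateField.adjoin_map k ({x} : Set K) (IsScalarTower.toAlgHom k K K')
        simp only [Set.image_singleton, IsScalarTower.coe_toAlgHom'] at this
        rw [← this]
        exact ⟨c, c.2, rfl⟩
      have : c • a = (⟨_, hc⟩ : k⟮algebraMap K K' x⟯) • a := by
        simp [Algebra.smul_def, IsScalarTower.algebraMap_apply k⟮x⟯ K K']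
      rw [this]
      exact Submodule.smul_mem _ _ ha

end Groth.Agent.FF30
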