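import Groth.Agent.FF30.FF

/-! Intermediate fields of transcendence degree one. -/

open IntermediateField

namespace Groth.Agent.FF30

variable {k K : Type*} [Field k] [Field K] [Algebra k K]

theorem FF.intermediateField (h : FF k K) (E : IntermediateField k K) {x : K} (hxE : x ∈ E)
    (hx : Transcendental k x) : FF k E ∧ FiniteDimensional E K := by
  have := h.finiteDimensional_adjoin hx
  have hle : k⟮x⟯ ≤ E := adjoin_simple_le_iff.mpr hxE
  let _ : Algebra k⟮x⟯ E := (IntermediateField.inclusion hle).toRingHom.toAlgebra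
  have : IsScalarTower k⟮x⟯ E K := IsScalarTower.of_algebraMap_eq fun _ => rfl
  refine ⟨?_, Module.Finite.of_restrictScalars_finite k⟮x⟯ E K⟩
  refine ⟨⟨x, hxE⟩, fun ha => hx ?_, ?_⟩
  · exact ha.algebraMap
  · have hfin : FiniteDimensional k⟮x⟯ E := FiniteDimensional.left k⟮x⟯ E K
    obtain ⟨s, hs⟩ := (Module.Finite.fg_top : (⊤ : Submodule k⟮x⟯ E).FG)
    refine ⟨⟨s, ?_⟩⟩
    rw [eq_top_iff]
    rintro y -
    have hy : y ∈ Submodule.span k⟮x⟯ (s : Set E) := by rw [hs]; exact Submodule.mem_top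
    induction hy using Submodule.span_induction with
    | mem y hy => exact Submodule.subset_span hy
    | zero => exact Submodule.zero_mem _
    | add a b _ _ ha hb => exact Submodule.add_mem _ ha hb
    | smul c a _ ha =>
      have hc : (⟨(c : K), hle c.2⟩ : E) ∈ k⟮(⟨x, hxE⟩ : E)⟯ := by
        have hmap : k⟮(⟨x, hxE⟩ : E)⟯.map E.val = k⟮x⟯ := by
          rw [IntermediateField.adjoin_map]; simp
        obtain ⟨d, hd, hdc⟩ : (c : K) ∈ k⟮(⟨x, hxE⟩ : E)⟯.map E.val := by rw [hmap]; exact c.2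
        have : d = ⟨(c : K), hle c.2⟩ := Subtype.ext hdc
        exact this ▸ hd
      have : c • a = (⟨_, hc⟩ : k⟮(⟨x, hxE⟩ : E)⟯) • a := rfl
      rw [this]
      exact Submodule.smul_mem _ _ ha

end Groth.Agent.FF30
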