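import Groth.Agent.FF30.ConstExt
import Groth.Agent.FF30.SubField
import Mathlib.FieldTheory.IsAlgClosed.AlgebraicClosure
import Mathlib.FieldTheory.IntermediateField.Algebraic
import Mathlib.RingTheory.Flat.Basic
import Mathlib.RingTheory.TensorProduct.Free
import Mathlib.RingTheory.TensorProduct.Finite
import Mathlib.RingTheory.IntegralDomain
import Mathlib.RingTheory.AdjoinRoot
import Mathlib.LinearAlgebra.Dual.Lemmas

/-! Geometric function fields. -/

open FunFld IntermediateField
open scoped TensorProduct

namespace Groth.Agent.FF30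

universe u v w

/-- Over a perfect field a field in which it is algebraically closed is geometric. -/
theorem isGeometric_of_closed {k : Type u} {K : Type v} [Field k] [Field K] [Algebra k K]
    [PerfectField k] (hcl : ∀ y : K, IsAlgebraic k y → y ∈ Set.range (algebraMap k K)) :
    IsGeometric k K := by
  intro k' _ _ hfin
  let Ω := AlgebraicClosure K
  let ι : k' →ₐ[k] Ω := IsAlgClosed.lift
  let Kb : IntermediateField K Ω := IntermediateField.adjoin K (Set.range ι)
  let g : k' →+* Kb := (ι : k' →+* Ω).codRestrict Kb fun a =>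
    IntermediateField.subset_adjoin _ _ ⟨a, rfl⟩
  let _ : Algebra k' Kb := g.toAlgebra
  have : IsScalarTower k k' Kb := IsScalarTower.of_algebraMap_eq fun c =>
    Subtype.ext ((ι.commutes c).symm.trans rfl)
  have : Algebra.IsAlgebraic k k' := Algebra.IsAlgebraic.of_finite k k'
  have hgen : Algebra.adjoin K (Set.range (algebraMap k' Kb)) = ⊤ := by
    rw [eq_top_iff]
    intro z htop
    clear htop
    have h1 : (z : Ω) ∈ Algebra.adjoin K (Set.range ι) := by
      rw [← IntermediateField.adjoin_toSubalgebra_of_isAlgebraic fun a _ =>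
        Algebra.IsAlgebraic.isAlgebraic a]
      exact z.2
    suffices key : ∀ w ∈ Algebra.adjoin K (Set.range ι),
        ∃ hw : w ∈ Kb, (⟨w, hw⟩ : Kb) ∈ Algebra.adjoin K (Set.range (algebraMap k' Kb)) by
      obtain ⟨hw, h⟩ := key _ h1
      exact h
    intro w hw
    induction hw using Algebra.adjoin_induction with
    | mem x hx =>
      obtain ⟨a, rfl⟩ := hx
      exact ⟨IntermediateField.subset_adjoin _ _ ⟨a, rfl⟩, Algebra.subset_adjoin ⟨a, rfl⟩⟩
    | algebraMap x => exact ⟨Kb.algebraMap_mem x, Subalgebra.algebraMap_mem _ x⟩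
    | add a b _ _ ha hb =>
      obtain ⟨ha', ha⟩ := ha; obtain ⟨hb', hb⟩ := hb
      exact ⟨add_mem ha' hb', add_mem ha hb⟩
    | mul a b _ _ ha hb =>
      obtain ⟨ha', ha⟩ := ha; obtain ⟨hb', hb⟩ := hb
      exact ⟨mul_mem ha' hb', mul_mem ha hb⟩
  have hC : IsCompositum k K k' Kb := ⟨hcl, hgen⟩
  exact hC.equiv.toRingEquiv.toMulEquiv.isField (Field.toIsField Kb)

/-- An intermediate field of a geometric function field. -/
theorem isGeometric_intermediateField {k : Type u} {K : Type v} [Field k] [Field K] [Algebra k K]
    (hK : IsFunctionField k K) (hg : IsGeometric k K) (K₀ : IntermediateField k K)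
    (h₀ : ∃ x ∈ K₀, Transcendental k x) : IsFunctionField k K₀ ∧ IsGeometric k K₀ := by
  obtain ⟨x, hx, htr⟩ := h₀
  refine ⟨⟨((FF.of_isFunctionField hK).intermediateField K₀ hx htr).1, fun y hy => ?_⟩, fun k' _ _ hfin => ?_⟩
  · obtain ⟨c, hc⟩ := hK.2 (y : K) hy.algebraMap
    exact ⟨c, Subtype.ext hc⟩
  · have hfield := hg k' hfin
    have : IsDomain (k' ⊗[k] K) := hfield.isDomain
    let f : k' ⊗[k] K₀ →ₐ[k] k' ⊗[k] K := Algebra.TensorProduct.map (AlgHom.id k k') K₀.val
    have hinj : Function.Injective f :=
      Module.Flat.lTensor_preserves_injective_linearMap (M := k') K₀.val.toLinearMap Subtype.val_injective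
    have : IsDomain (k' ⊗[k] K₀) := hinj.isDomain f.toRingHom
    let e := Algebra.TensorProduct.comm k K₀ k'
    have : IsDomain (K₀ ⊗[k] k') := e.injective.isDomain e.toRingHom
    have : Algebra.IsIntegral K₀ (K₀ ⊗[k] k') := Algebra.IsIntegral.of_finite K₀ _
    exact e.symm.toRingEquiv.toMulEquiv.isField
      (isField_of_isIntegral_of_isField' (R := K₀) (Field.toIsField K₀))

/-- A finite field extension of the constants gives a field over which the constants are closed. -/
theorem scalar_extension {k k' : Type u} {K K' : Type v} [Field k] [Field k'] [Field K] [Field K']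
    [Algebra k k'] [FiniteDimensional k k'] [Algebra k K] [Algebra K K'] [Algebra k' K'] [Algebra k K']
    [IsScalarTower k k' K'] [IsScalarTower k K K']
    (h : Function.Bijective (Algebra.TensorProduct.productMap
      (IsScalarTower.toAlgHom k k' K') (IsScalarTower.toAlgHom k K K')))
    (hK : IsFunctionField k K) (hg : IsGeometric k K) :
    IsFunctionField k' K' ∧ IsGeometric k' K' := by
  classical
  let pm := Algebra.TensorProduct.productMap (IsScalarTower.toAlgHom k k' K') (IsScalarTower.toAlgHom k K K')
  let e₀ : k' ⊗[k] K ≃ₐ[k] K' := AlgEquiv.ofBijective pm h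
  let e : k' ⊗[k] K ≃ₐ[k'] K' := AlgEquiv.ofRingEquiv (f := e₀.toRingEquiv) fun a => by
    change pm (a ⊗ₜ[k] (1 : K)) = algebraMap k' K' a
    simp [pm]
  have hfinK : FiniteDimensional K K' := by
    let b := Module.Free.chooseBasis k k'
    have := Fintype.ofFinite (Module.Free.ChooseBasisIndex k k')
    refine Module.Finite.of_surjective (Fintype.linearCombination K fun i => algebraMap k' K' (b i)) ?_
    intro z
    obtain ⟨w, rfl⟩ := h.2 z
    induction w using TensorProduct.induction_on with
    | zero => exact ⟨0, by simp⟩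
    | tmul a y =>
      refine ⟨fun i => b.repr a i • y, ?_⟩
      simp only [Fintype.linearCombination_apply, Algebra.TensorProduct.productMap_apply_tmul,
        IsScalarTower.coe_toAlgHom']
      conv_rhs => rw [← b.sum_repr a, map_sum, Finset.sum_mul]
      refine Finset.sum_congr rfl fun i _ => ?_
      rw [Algebra.smul_def (b.repr a i) y, Algebra.smul_def (b.repr a i) (b i), map_mul, Algebra.smul_def,
        map_mul, ← IsScalarTower.algebraMap_apply k K K', ← IsScalarTower.algebraMap_apply k k' K']
      ring
    | add a c ha hc =>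
      obtain ⟨x, hx⟩ := ha; obtain ⟨y, hy⟩ := hc
      exact ⟨x + y, by rw [map_add, hx, hy, map_add]⟩
  refine ⟨⟨?_, fun z hz => ?_⟩, fun k'' _ _ hfin => ?_⟩
  · obtain ⟨t, ht, hfin⟩ := hK.1
    refine ⟨algebraMap K K' t, fun ha => ht ?_, ?_⟩
    · have h1 : IsAlgebraic k (algebraMap K K' t) := ha.restrictScalars k
      exact (isAlgebraic_algebraMap_iff (algebraMap K K').injective).mp h1
    · have : FiniteDimensional k⟮t⟯ K' := Module.Finite.trans K K'
      set E := k'⟮algebraMap K K' t⟯
      have hle : ∀ c ∈ k⟮t⟯, algebraMap K K' c ∈ E := by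
        have h1 : k⟮t⟯.map (IsScalarTower.toAlgHom k K K') ≤ E.restrictScalars k := by
          rw [IntermediateField.adjoin_map, IntermediateField.adjoin_le_iff, Set.image_singleton,
            Set.singleton_subset_iff]
          exact mem_adjoin_simple_self k' _
        exact fun c hc => h1 ⟨c, hc, rfl⟩
      let g : k⟮t⟯ →+* E := ((algebraMap K K').comp (algebraMap k⟮t⟯ K)).codRestrict E fun c => hle _ c.2
      let _ : Algebra k⟮t⟯ E := g.toAlgebra
      let _ : Module k⟮t⟯ E := Algebra.toModule
      let _ : SMul k⟮t⟯ E := Algebra.toSMul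
      have : IsScalarTower k⟮t⟯ E K' := IsScalarTower.of_algebraMap_eq fun _ => rfl
      exact Module.Finite.of_restrictScalars_finite k⟮t⟯ E K'
  · -- the constants: compare dimensions over `K`
    have : Fact (Irreducible (minpoly k' z)) := ⟨minpoly.irreducible hz.isIntegral⟩
    set L := AdjoinRoot (minpoly k' z)
    have : FiniteDimensional k' L := (AdjoinRoot.powerBasis (minpoly.ne_zero hz.isIntegral)).finite
    have : FiniteDimensional k L := Module.Finite.trans k' L
    let j₀ : L →ₐ[k'] K' := AdjoinRoot.liftAlgHom (minpoly k' z) (Algebra.ofId k' K') z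
      (minpoly.aeval k' z)
    let j : L →ₐ[k] K' := j₀.restrictScalars k
    have hf := hg L inferInstance
    let φ := Algebra.TensorProduct.productMap j (IsScalarTower.toAlgHom k K K')
    have hφinj : Function.Injective φ := by
      let _ : Field (L ⊗[k] K) := hf.toField
      exact φ.toRingHom.injective
    let ψ : k' ⊗[k] K →ₐ[k] L ⊗[k] K :=
      Algebra.TensorProduct.map (IsScalarTower.toAlgHom k k' L) (AlgHom.id k K)
    have hcomp : φ.comp ψ = pm := by
      refine Algebra.TensorProduct.ext' fun a b => ?_
      simp [φ, ψ, pm, j]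
    have hψ : Function.Surjective ψ := by
      intro w
      obtain ⟨u, hu⟩ := h.2 (φ w)
      refine ⟨u, hφinj ?_⟩
      rw [← hu]
      exact congrArg (fun F : k' ⊗[k] K →ₐ[k] K' => F u) hcomp
    have hψinj : Function.Injective ψ := fun a b hab => h.1 (by
      have h1 := congrArg φ hab
      rwa [← AlgHom.comp_apply, ← AlgHom.comp_apply, hcomp] at h1)
    have hsur : Function.Surjective (IsScalarTower.toAlgHom k k' L) := by
      intro l
      by_contra hl
      push Not at hl
      obtain ⟨g, hg1, hg2⟩ := Submodule.exists_le_ker_of_notMem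
        (show l ∉ LinearMap.range (IsScalarTower.toAlgHom k k' L).toLinearMap from fun ⟨a, ha⟩ => hl a ha)
      have hzero : ∀ w, TensorProduct.lid k K (g.rTensor K (ψ w)) = 0 := by
        intro w
        induction w using TensorProduct.induction_on with
        | zero => simp
        | tmul a b =>
          have : g (algebraMap k' L a) = 0 := hg2 ⟨a, rfl⟩
          simp [ψ, this]
        | add a c ha hc => simp [map_add, ha, hc]
      obtain ⟨w, hw⟩ := hψ (l ⊗ₜ[k] (1 : K))
      have h2 := hzero w
      rw [hw] at h2
      simp at h2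
      exact hg1 h2
    obtain ⟨a, ha⟩ := hsur (AdjoinRoot.root (minpoly k' z))
    refine ⟨a, ?_⟩
    have h2 := congrArg j₀ ha
    simp only [IsScalarTower.coe_toAlgHom', AlgHom.commutes] at h2
    rw [h2]
    exact AdjoinRoot.lift_root (minpoly.aeval k' z)
  · let _ : Algebra k k'' := ((algebraMap k' k'').comp (algebraMap k k')).toAlgebra
    have : IsScalarTower k k' k'' := IsScalarTower.of_algebraMap_eq fun _ => rfl
    have : FiniteDimensional k k'' := Module.Finite.trans k' k''
    exact ((Algebra.TensorProduct.congr (AlgEquiv.refl : k'' ≃ₐ[k'] k'') e).symm.trans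
      (Algebra.TensorProduct.cancelBaseChange k k' k' k'' K)).toRingEquiv.toMulEquiv.isField (hg k'' inferInstance)

end Groth.Agent.FF30
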