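import Groth.Agent.FF30.Basic
import Mathlib.Algebra.BigOperators.Group.Finset.Basic
import Mathlib.Algebra.Order.BigOperators.Group.Finset
import Mathlib.Data.Finset.Max
import Mathlib.Tactic.Linarith

/-! Weak approximation for finitely many places. -/

open FunFld WithZero
open scoped Multiplicative

namespace Groth.Agent.FF30

variable {k K : Type*} [Field k] [Field K] [Algebra k K]

theorem exists_pair_separating {P Q : Place k K} (h : P ≠ Q) :
    ∃ z : K, z ≠ 0 ∧ P.ord z < 0 ∧ 0 < Q.ord z := by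
  obtain ⟨a, ha, ha'⟩ : ∃ a, P.1 a ≤ 1 ∧ ¬ Q.1 a ≤ 1 := by
    by_contra hcon
    push Not at hcon
    exact h (eq_of_val_le_one_imp hcon)
  obtain ⟨b, hb, hb'⟩ : ∃ b, Q.1 b ≤ 1 ∧ ¬ P.1 b ≤ 1 := by
    by_contra hcon
    push Not at hcon
    exact h (eq_of_val_le_one_imp hcon).symm
  have ha0 : a ≠ 0 := fun hz => ha' (by simp [hz])
  have hb0 : b ≠ 0 := fun hz => hb' (by simp [hz])
  rw [val_le_one_iff] at ha ha' hb hb'
  refine ⟨b / a, div_ne_zero hb0 ha0, ?_, ?_⟩ <;> rw [ord_div _ hb0 ha0] <;> omega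

theorem ord_one_add_of_pos (P : Place k K) {w : K} (h : 0 < P.ord w) :
    1 + w ≠ 0 ∧ P.ord (1 + w) = 0 := by
  have hw : w ≠ 0 := fun h0 => by simp [h0, ord_zero] at h
  have hlt : P.1 w < 1 := (val_lt_one_iff P hw).mpr h
  have h1 : P.1 (1 + w) = 1 := by
    have := P.1.map_add_eq_of_lt_left (x := 1) (y := w) (by simpa using hlt)
    simpa using this
  have hne : 1 + w ≠ 0 := fun h0 => by rw [h0, map_zero] at h1; exact zero_ne_one h1
  exact ⟨hne, (val_eq_one_iff P hne).mp h1⟩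

theorem ord_one_add_of_neg (P : Place k K) {w : K} (h : P.ord w < 0) :
    1 + w ≠ 0 ∧ P.ord (1 + w) = P.ord w := by
  have hw : w ≠ 0 := fun h0 => by simp [h0, ord_zero] at h
  have hlt : 1 < P.1 w := (one_lt_val_iff P).mpr h
  have h1 : P.1 (1 + w) = P.1 w :=
    P.1.map_add_eq_of_lt_right (x := 1) (y := w) (by simpa using hlt)
  have hne : 1 + w ≠ 0 := fun h0 => by
    rw [h0, map_zero] at h1; exact val_ne_zero P hw h1.symm
  exact ⟨hne, by rw [Place.ord, h1]; rfl⟩

theorem exists_separating (P : Place k K) (S : Finset (Place k K)) (hP : P ∉ S) :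
    ∃ z : K, z ≠ 0 ∧ P.ord z < 0 ∧ ∀ R ∈ S, 0 < R.ord z := by
  classical
  induction S using Finset.induction_on with
  | empty => obtain ⟨z, h0, hz⟩ := exists_ord_eq P (-1); exact ⟨z, h0, by omega, by simp⟩
  | @insert Q S hQS ih =>
    rw [Finset.mem_insert, not_or] at hP
    obtain ⟨z, hz0, hzP, hzS⟩ := ih hP.2
    obtain ⟨y, hy0, hyP, hyQ⟩ := exists_pair_separating hP.1
    obtain ⟨m, hm⟩ : ∃ m : ℕ, 0 < m ∧ ∀ R ∈ S, 0 < (m : ℤ) * R.ord z + R.ord y := by
      refine ⟨(∑ R ∈ S, (R.ord y).natAbs) + 1, by omega, fun R hR => ?_⟩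
      have h1 : (R.ord y).natAbs ≤ ∑ R ∈ S, (R.ord y).natAbs :=
        Finset.single_le_sum (f := fun R : Place k K => (R.ord y).natAbs) (fun _ _ => Nat.zero_le _) hR
      have h2 := hzS R hR
      push_cast
      nlinarith [le_abs_self (R.ord y), neg_abs_le (R.ord y),
        (Int.natCast_natAbs (R.ord y)), (Int.ofNat_le.mpr h1)]
    rcases lt_trichotomy (Q.ord z) 0 with hQz | hQz | hQz
    · have hzm : z ^ m ≠ 0 := pow_ne_zero _ hz0
      obtain ⟨hne, hP1⟩ := ord_one_add_of_neg P (w := z ^ m) (by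
        rw [ord_pow]; exact mul_neg_of_pos_of_neg (by omega) hzP)
      have hne' : y * z ^ m ≠ 0 := mul_ne_zero hy0 hzm
      refine ⟨y * z ^ m / (1 + z ^ m), div_ne_zero hne' hne, ?_, fun R hR => ?_⟩
      · rw [ord_div _ hne' hne, ord_mul _ hy0 hzm, hP1]; omega
      · rw [ord_div _ hne' hne, ord_mul _ hy0 hzm]
        rcases Finset.mem_insert.mp hR with rfl | hR
        · obtain ⟨-, h1⟩ := ord_one_add_of_neg R (w := z ^ m) (by
            rw [ord_pow]; exact mul_neg_of_pos_of_neg (by omega) hQz)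
          omega
        · obtain ⟨-, h1⟩ := ord_one_add_of_pos R (w := z ^ m) (by
            rw [ord_pow]; exact mul_pos (by omega) (hzS R hR))
          rw [h1, ord_pow]
          have := hm.2 R hR
          omega
    · have hzm : z ^ m ≠ 0 := pow_ne_zero _ hz0
      refine ⟨y * z ^ m, mul_ne_zero hy0 hzm, ?_, fun R hR => ?_⟩
      · rw [ord_mul _ hy0 hzm, ord_pow]
        have : (m : ℤ) * P.ord z < 0 := mul_neg_of_pos_of_neg (by omega) hzP
        omega
      · rw [ord_mul _ hy0 hzm, ord_pow]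
        rcases Finset.mem_insert.mp hR with rfl | hR
        · rw [hQz]; omega
        · have := hm.2 R hR; omega
    · exact ⟨z, hz0, hzP, fun R hR => by
        rcases Finset.mem_insert.mp hR with rfl | hR
        · exact hQz
        · exact hzS R hR⟩

theorem exists_delta (P : Place k K) (S : Finset (Place k K)) (hP : P ∉ S) (N : ℕ) :
    ∃ u : K, P.1 (u - 1) ≤ exp (-(N : ℤ)) ∧ ∀ R ∈ S, R.1 u ≤ exp (-(N : ℤ)) := by
  obtain ⟨z, hz0, hzP, hzS⟩ := exists_separating P S hP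
  have hzm : z ^ (N + 1) ≠ 0 := pow_ne_zero _ hz0
  have hneg : P.ord (z ^ (N + 1)) < 0 := by
    rw [ord_pow]; exact mul_neg_of_pos_of_neg (by omega) hzP
  obtain ⟨hne, hP1⟩ := ord_one_add_of_neg P hneg
  refine ⟨z ^ (N + 1) / (1 + z ^ (N + 1)), ?_, fun R hR => ?_⟩
  · have : z ^ (N + 1) / (1 + z ^ (N + 1)) - 1 = -(1 + z ^ (N + 1))⁻¹ := by field_simp; ring
    rw [this, Valuation.map_neg, val_le_exp_iff P (inv_ne_zero hne), ord_inv, hP1, ord_pow]
    push_cast
    nlinarith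
  · obtain ⟨-, h1⟩ := ord_one_add_of_pos R (w := z ^ (N + 1)) (by
      rw [ord_pow]; exact mul_pos (by omega) (hzS R hR))
    rw [val_le_exp_iff R (div_ne_zero hzm hne), ord_div _ hzm hne, h1, ord_pow]
    have := hzS R hR
    push_cast
    nlinarith

/-- Weak approximation. -/
theorem exists_approx (S : Finset (Place k K)) (x : Place k K → K) (n : Place k K → ℤ) :
    ∃ y : K, ∀ P ∈ S, P.1 (y - x P) ≤ exp (n P) := by
  classical
  set M := ∑ R ∈ S, ((n R).natAbs + ∑ P ∈ S, (R.ord (x P)).natAbs) with hM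
  have hd : ∀ P : Place k K, ∃ u : K, P.1 (u - 1) ≤ exp (-(M : ℤ)) ∧
      ∀ R ∈ S.erase P, R.1 u ≤ exp (-(M : ℤ)) :=
    fun P => exists_delta P (S.erase P) (S.notMem_erase P) M
  choose u hu hu' using hd
  refine ⟨∑ P ∈ S, u P * x P, fun R hR => ?_⟩
  have key : ∀ P ∈ S, ∀ a : K, R.1 a ≤ exp (-(M : ℤ)) → R.1 (a * x P) ≤ exp (n R) := by
    intro P hP a ha
    rcases eq_or_ne (x P) 0 with h0 | h0
    · simp [h0]
    · rw [map_mul, val_eq R h0]
      refine (mul_le_mul' ha le_rfl).trans ?_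
      rw [← exp_add, exp_le_exp]
      have h1 : (n R).natAbs + ∑ P ∈ S, (R.ord (x P)).natAbs ≤ M :=
        Finset.single_le_sum (f := fun R : Place k K => (n R).natAbs + ∑ P ∈ S, (R.ord (x P)).natAbs)
          (fun _ _ => Nat.zero_le _) hR
      have h2 : (R.ord (x P)).natAbs ≤ ∑ P ∈ S, (R.ord (x P)).natAbs :=
        Finset.single_le_sum (f := fun P : Place k K => (R.ord (x P)).natAbs)
          (fun _ _ => Nat.zero_le _) hP
      omega
  have h3 : ∑ P ∈ S, u P * x P - x R = (u R - 1) * x R + ∑ P ∈ S.erase R, u P * x P := by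
    rw [← Finset.add_sum_erase _ _ hR]; ring
  rw [h3]
  refine (R.1.map_add _ _).trans (max_le (key R hR _ (hu R)) ?_)
  refine R.1.map_sum_le fun P hP => key P (Finset.mem_of_mem_erase hP) _ (hu' P R ?_)
  exact Finset.mem_erase.mpr ⟨fun h => (Finset.ne_of_mem_erase hP) h.symm, hR⟩

end Groth.Agent.FF30
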