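import Groth.Agent.FF30.Rational
import Mathlib.FieldTheory.IsAlgClosed.Basic

/-! Places over an algebraically closed constant field. -/

open FunFld WithZero
open scoped Multiplicative

namespace Groth.Agent.FF30

variable {k K : Type*} [Field k] [IsAlgClosed k] [Field K] [Algebra k K]

omit [IsAlgClosed k] in
theorem residue_smul_eq_mul (P : Place k K) (c : k) (r : IsLocalRing.ResidueField P.O) :
    (IsLocalRing.instModuleResidueFieldOfAlgebra P.O).toDistribMulAction.toDistribSMul.toSMulZeroClass.toSMul.smul c r =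
      algebraMap k (IsLocalRing.ResidueField P.O) c * r := by
  obtain ⟨a, rfl⟩ := IsLocalRing.residue_surjective r
  change IsLocalRing.residue P.O (c • a) = IsLocalRing.residue P.O (algebraMap k P.O c) *
    IsLocalRing.residue P.O a
  rw [← map_mul, Algebra.smul_def]

theorem FF.isIntegral_residue {k K : Type*} [Field k] [Field K] [Algebra k K] (h : FF k K)
    (P : Place k K) (r : IsLocalRing.ResidueField P.O) : IsIntegral k r := by
  classical
  have := h.finite_residueField P
  set n := Module.finrank k (IsLocalRing.ResidueField P.O)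
  have hdep : ¬ LinearIndependent k (fun i : Fin (n + 1) => r ^ (i : ℕ)) := by
    intro hli
    have := hli.fintype_card_le_finrank
    simp only [Fintype.card_fin] at this
    omega
  obtain ⟨g, hg, i, hi⟩ := Fintype.not_linearIndependent_iff.mp hdep
  refine isAlgebraic_iff_isIntegral.mp ⟨∑ j : Fin (n + 1), Polynomial.monomial (j : ℕ) (g j), ?_, ?_⟩
  · intro h0
    refine hi ?_
    have := congrArg (fun p : Polynomial k => p.coeff (i : ℕ)) h0
    simp only [Polynomial.finsetSum_coeff, Polynomial.coeff_monomial, Polynomial.coeff_zero] at this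
    rwa [Finset.sum_eq_single i (fun j _ hj => if_neg fun e => hj (Fin.ext e)) (by simp),
      if_pos rfl] at this
  · rw [map_sum]
    refine Eq.trans (Finset.sum_congr rfl fun j _ => ?_) hg
    rw [Polynomial.aeval_monomial]
    exact (residue_smul_eq_mul P (g j) (r ^ (j : ℕ))).symm

theorem FF.residue_algebraMap_surjective (h : FF k K) (P : Place k K) :
    Function.Surjective (algebraMap k (IsLocalRing.ResidueField P.O)) := by
  have : Algebra.IsIntegral k (IsLocalRing.ResidueField P.O) := ⟨h.isIntegral_residue P⟩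
  exact IsAlgClosed.algebraMap_bijective_of_isIntegral.2

theorem FF.exists_sub_lt (h : FF k K) (P : Place k K) {x : K} (hx : P.1 x ≤ 1) :
    ∃ c : k, P.1 (x - algebraMap k K c) < 1 := by
  obtain ⟨c, hc⟩ := h.residue_algebraMap_surjective P (IsLocalRing.residue P.O ⟨x, hx⟩)
  refine ⟨c, ?_⟩
  have h1 : IsLocalRing.residue P.O (⟨x, hx⟩ - algebraMap k P.O c) = 0 := by
    rw [map_sub, sub_eq_zero]; exact hc.symm
  rw [IsLocalRing.residue_eq_zero_iff] at h1
  exact (Valuation.mem_maximalIdeal_iff (v := P.1)).mp h1

theorem FF.deg_eq_one (h : FF k K) (P : Place k K) : P.deg = 1 := by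
  refine le_antisymm ?_ (h.deg_pos P)
  refine finrank_le_one (1 : IsLocalRing.ResidueField P.O) fun w => ?_
  obtain ⟨c, hc⟩ := h.residue_algebraMap_surjective P w
  refine ⟨c, ?_⟩
  exact (residue_smul_eq_mul P c 1).trans (by rw [mul_one, hc])

theorem FF.deg_eq_sum_coeff (h : FF k K) (D : Divisor k K) : D.deg = D.sum fun _ n => n := by
  rw [Divisor.deg]
  exact Finset.sum_congr rfl fun P _ => by
    change D P * (P.deg : ℤ) = D P
    rw [h.deg_eq_one P, Nat.cast_one, mul_one]

theorem FF.deg_single' (h : FF k K) (P : Place k K) (n : ℤ) :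
    Divisor.deg (Finsupp.single P n) = n := by
  rw [deg_single, h.deg_eq_one P, Nat.cast_one, mul_one]

theorem exists_decrease_lt (P : Place k K) (hF : FF k K) {x y : K} (hy : y ≠ 0)
    (hxy : P.1 x ≤ P.1 y) : ∃ c : k, P.1 (x - c • y) < P.1 y := by
  obtain ⟨c, hc⟩ := hF.exists_sub_lt P (x := x / y) (by
    rw [map_div₀]; exact div_le_one_of_le₀ hxy zero_le)
  refine ⟨c, ?_⟩
  have he : x - c • y = (x / y - algebraMap k K c) * y := by
    rw [Algebra.smul_def, sub_mul, div_mul_cancel₀ _ hy]
  rw [he, map_mul]
  exact mul_lt_of_lt_one_left (zero_lt_iff.mpr (val_ne_zero P hy)) hc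

theorem FF.infinite_places (h : FF k K) : Infinite (Place k K) := by
  obtain ⟨x, hx, -⟩ := id h
  have hz : ∀ c : k, ∃ P : Place k K, P.1 (x - algebraMap k K c) < 1 := fun c => by
    have htr : Transcendental k (x - algebraMap k K c) := fun ha => hx (by
      have := ha.add (isAlgebraic_algebraMap c)
      rwa [sub_add_cancel] at this)
    obtain ⟨P, hP⟩ := h.exists_place_pos htr
    exact ⟨P, (val_lt_one_iff P fun h0 => htr (by rw [h0]; exact isAlgebraic_zero)).mpr hP⟩
  choose f hf using hz
  refine Infinite.of_injective f fun a b hab => ?_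
  by_contra hne
  have h1 := hf a
  have h2 := hf b
  rw [hab] at h1
  have h3 := lt_of_le_of_lt ((f b).1.map_sub _ _) (max_lt h2 h1)
  rw [show x - algebraMap k K b - (x - algebraMap k K a) = algebraMap k K (a - b) by
    rw [map_sub]; ring, val_algebraMap (f b) (sub_ne_zero.mpr hne)] at h3
  exact lt_irrefl _ h3

theorem FF.ell_le_succ (h : FF k K) (D : Divisor k K) (P : Place k K) :
    ell D ≤ ell (D - Finsupp.single P 1) + 1 := by
  have := h.ell_sub_le (sub_le_self D (Finsupp.single_nonneg.mpr zero_le_one :
    (0 : Divisor k K) ≤ Finsupp.single P 1))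
  rw [deg_sub, h.deg_single'] at this
  omega

theorem ell_single_eq_one (h : IsFunctionField k K) (hg : 0 < genus k K) (P : Place k K) :
    ell (Finsupp.single P 1 : Divisor k K) = 1 := by
  have hF : FF k K := h.1
  have h1 : ell (0 : Divisor k K) ≤ ell (Finsupp.single P 1 : Divisor k K) :=
    hF.ell_mono (Finsupp.single_nonneg.mpr zero_le_one)
  rw [ell_zero h] at h1
  by_contra hne
  have hnot : ¬ (L (Finsupp.single P 1 : Divisor k K) ≤ L (0 : Divisor k K)) := by
    intro hle
    have := hF.finite_L (0 : Divisor k K)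
    have h2 : ell (Finsupp.single P 1 : Divisor k K) ≤ ell (0 : Divisor k K) :=
      Submodule.finrank_mono hle
    rw [ell_zero h] at h2
    omega
  obtain ⟨x, hx, hxn⟩ := SetLike.not_le_iff_exists.mp hnot
  have hx0 : x ≠ 0 := fun e => hxn (e ▸ Submodule.zero_mem _)
  have hord := (mem_L_iff_ord hx0).mp hx
  have hPx : P.ord x = -1 := by
    have h1 := hord P
    rw [Finsupp.single_eq_same] at h1
    by_contra hne'
    refine hxn ((mem_L_iff_ord hx0).mpr fun Q => ?_)
    rw [Finsupp.zero_apply]
    by_cases hQ : Q = P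
    · subst hQ; omega
    · have := hord Q; rw [Finsupp.single_eq_of_ne hQ] at this; exact this
  have := genus_zero_and_exists_deg_one_iff' h |>.mpr ((exists_simple_pole_iff' h).mp
    ⟨x, P, hF.deg_eq_one P, hPx, fun Q hQ => by
      have := hord Q; rw [Finsupp.single_eq_of_ne hQ] at this; omega⟩)
  omega

theorem ell_sub_single_lt (h : IsFunctionField k K) (hg : 0 < genus k K) (D : Divisor k K)
    (hD : 2 * (genus k K : ℤ) ≤ D.deg ∨ IsCanonical k K D) (P : Place k K) :
    ell (D - Finsupp.single P 1) < ell D := by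
  have hF : FF k K := h.1
  rcases hD with hD | hD
  · have h1 := ell_eq_of_deg_gt h (D := D) (by omega)
    have h2 := ell_eq_of_deg_gt h (D := D - Finsupp.single P 1) (by rw [deg_sub, hF.deg_single']; omega)
    rw [deg_sub, hF.deg_single'] at h2
    omega
  · have h1 := riemann_roch' h hD (D - Finsupp.single P 1)
    rw [sub_sub_cancel, ell_single_eq_one h hg, deg_sub, hF.deg_single', deg_canonical h hD] at h1
    rw [ell_canonical h hD]
    omega

end Groth.Agent.FF30
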