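import Groth.Agent.FF30.Riemann
import Groth.Prelude.Def_W4bk4goldsch23Ext
import Mathlib.LinearAlgebra.Dimension.Free
import Mathlib.Algebra.Algebra.Tower

/-! Places in finite extensions: restriction, ramification index, `∑ e·deg = n·deg P`, conorm. -/

open FunFld WithZero IntermediateField
open scoped Multiplicative

namespace Groth.Agent.FF30

variable {k K K' : Type*} [Field k] [Field K] [Field K'] [Algebra k K] [Algebra K K'] [Algebra k K']

theorem FF.exists_isOverWith [IsScalarTower k K K'] [FiniteDimensional K K'] (h : FF k K)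
    (Q : Place k K') : ∃ (P : Place k K) (e : ℕ), 0 < e ∧ IsOverWith Q P e := by
  set V := Q.O.comap (algebraMap K K')
  have hV : V ≠ ⊤ := by
    intro htop
    obtain ⟨s, hs0, hs⟩ := exists_ord_eq Q (-1)
    let g : K →+* Q.O := (algebraMap K K').codRestrict Q.O.toSubring fun x =>
      (htop ▸ ValuationSubring.mem_top x : x ∈ V)
    have hint : IsIntegral Q.O s := by
      obtain ⟨p, hp, hps⟩ := Algebra.IsIntegral.isIntegral (R := K) s
      refine ⟨p.map g, hp.map g, ?_⟩
      rw [Polynomial.eval₂_map]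
      exact hps
    obtain ⟨y, hy⟩ := (IsIntegrallyClosed.isIntegral_iff (R := Q.O)).mp hint
    have hle : Q.1 s ≤ 1 := hy ▸ y.2
    rw [val_le_one_iff] at hle
    omega
  obtain ⟨P, hP⟩ := h.exists_place V (fun c => by
    rw [ValuationSubring.mem_comap, ← IsScalarTower.algebraMap_apply]
    exact Q.2.1 c) hV
  have hmem : ∀ x, P.1 x ≤ 1 ↔ Q.1 (algebraMap K K' x) ≤ 1 := fun x => by
    have : x ∈ P.O ↔ x ∈ V := by rw [hP]
    exact this
  obtain ⟨t, ht0, ht⟩ := exists_ord_eq P 1
  set e := Q.ord (algebraMap K K' t) with he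
  have hmap : ∀ {x : K}, x ≠ 0 → algebraMap K K' x ≠ 0 :=
    fun hx => (map_ne_zero (algebraMap K K')).mpr hx
  have hord : ∀ x : K, x ≠ 0 → Q.ord (algebraMap K K' x) = P.ord x * e := by
    intro x hx
    have htn : t ^ P.ord x ≠ 0 := zpow_ne_zero _ ht0
    set u := x / t ^ P.ord x with hu_def
    have hu : P.ord u = 0 := by rw [hu_def, ord_div P hx htn, ord_zpow, ht]; ring
    have h1 := (val_le_one_iff Q).mp ((hmem u).mp ((val_le_one_iff P).mpr hu.ge))
    have h2 := (val_le_one_iff Q).mp ((hmem u⁻¹).mp ((val_le_one_iff P).mpr (by rw [ord_inv, hu]; rfl)))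
    rw [map_inv₀, ord_inv] at h2
    have h3 : Q.ord (algebraMap K K' u) = 0 := by omega
    rw [hu_def, map_div₀, ord_div Q (hmap hx) (hmap htn), map_zpow₀, ord_zpow] at h3
    rw [he]
    linarith
  have hepos : 0 < e := by
    by_contra hle
    have h1 := (not_congr ((hmem t⁻¹).trans (val_le_one_iff Q))).mp (by
      rw [val_le_one_iff, ord_inv, ht]; omega)
    rw [map_inv₀, ord_inv] at h1
    omega
  refine ⟨P, e.toNat, by omega, fun x => ?_⟩
  rcases eq_or_ne x 0 with rfl | hx
  · simp [zero_pow (by omega : e.toNat ≠ 0)]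
  · rw [val_eq Q (hmap hx), hord x hx, val_eq P hx, ← exp_nsmul, nsmul_eq_mul,
      Int.toNat_of_nonneg hepos.le]
    congr 1
    ring

theorem isOverWith_pos {Q : Place k K'} {P : Place k K} {e : ℕ} (h : IsOverWith Q P e) : 0 < e := by
  rcases Nat.eq_zero_or_pos e with rfl | he
  · have := h 0; simp at this
  · exact he

theorem isOverWith_ord {Q : Place k K'} {P : Place k K} {e : ℕ} (h : IsOverWith Q P e) (x : K) :
    Q.ord (algebraMap K K' x) = e * P.ord x := by
  simp only [Place.ord, h x, log_pow, nsmul_eq_mul]; ring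

theorem isOverWith_le_one_iff {Q : Place k K'} {P : Place k K} {e : ℕ} (h : IsOverWith Q P e)
    (x : K) : Q.1 (algebraMap K K' x) ≤ 1 ↔ P.1 x ≤ 1 := by
  have he := isOverWith_pos h
  rw [val_le_one_iff, val_le_one_iff, isOverWith_ord h]
  exact ⟨fun h0 => nonneg_of_mul_nonneg_right h0 (by exact_mod_cast he), fun h0 => by positivity⟩

theorem isOverWith_unique {Q : Place k K'} {P P' : Place k K} {e e' : ℕ} (h : IsOverWith Q P e)
    (h' : IsOverWith Q P' e') : P = P' ∧ e = e' := by
  obtain rfl : P = P' := eq_of_val_le_one_imp fun x hx =>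
    (isOverWith_le_one_iff h' x).mp ((isOverWith_le_one_iff h x).mpr hx)
  obtain ⟨t, -, ht⟩ := exists_ord_eq P 1
  have h1 := isOverWith_ord h t
  rw [isOverWith_ord h' t, ht] at h1
  exact ⟨rfl, by omega⟩

theorem isOver_unique {Q : Place k K'} {P P' : Place k K} (h : IsOver Q P) (h' : IsOver Q P') :
    P = P' := (isOverWith_unique h.choose_spec h'.choose_spec).1

theorem isOverWith_ramIdx {Q : Place k K'} {P : Place k K} (h : IsOver Q P) :
    IsOverWith Q P (ramIdx Q P) := by
  classical
  rw [ramIdx, dif_pos h]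
  exact Nat.find_spec h

theorem ramIdx_eq {Q : Place k K'} {P : Place k K} {e : ℕ} (h : IsOverWith Q P e) :
    ramIdx Q P = e := (isOverWith_unique (isOverWith_ramIdx ⟨e, h⟩) h).2

theorem isOver_ord {Q : Place k K'} {P : Place k K} (h : IsOver Q P) (x : K) :
    Q.ord (algebraMap K K' x) = ramIdx Q P * P.ord x := isOverWith_ord (isOverWith_ramIdx h) x

theorem finrank_adjoin_algebraMap [IsScalarTower k K K'] [FiniteDimensional K K'] (x : K) :
    Module.finrank k⟮algebraMap K K' x⟯ K' = Module.finrank k⟮x⟯ K * Module.finrank K K' := by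
  rw [Module.finrank_mul_finrank k⟮x⟯ K K']
  have hmap : k⟮x⟯.map (IsScalarTower.toAlgHom k K K') = k⟮algebraMap K K' x⟯ := by
    rw [IntermediateField.adjoin_map]; simp
  let i : k⟮x⟯ ≃+* k⟮algebraMap K K' x⟯ :=
    ((k⟮x⟯.equivMap (IsScalarTower.toAlgHom k K K')).trans
      (IntermediateField.equivOfEq hmap)).toRingEquiv
  exact (Algebra.finrank_eq_of_equiv_equiv i (RingEquiv.refl K') (RingHom.ext fun _ => rfl)).symm

theorem FF.exists_only_zero (h : FF k K) (P : Place k K) :
    ∃ x : K, 0 < P.ord x ∧ ∀ R : Place k K, R ≠ P → R.ord x ≤ 0 := by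
  classical
  obtain ⟨γ, hγ⟩ := h.delta_bounded
  obtain ⟨m, hm⟩ : ∃ m : ℕ, γ + ell (0 : Divisor k K) < (m : ℤ) :=
    ⟨(γ + ell (0 : Divisor k K)).natAbs + 1, by omega⟩
  set D : Divisor k K := Finsupp.single P (m : ℤ) with hD
  have hdeg : (m : ℤ) ≤ D.deg := by
    rw [hD, deg_single]
    exact le_mul_of_one_le_right (by omega) (by exact_mod_cast h.deg_pos P)
  obtain ⟨y, hy, hyn⟩ : ∃ y ∈ L D, y ∉ L (0 : Divisor k K) := by
    by_contra hcon
    push Not at hcon
    have := h.finite_L (0 : Divisor k K)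
    have hle : ell D ≤ ell (0 : Divisor k K) := Submodule.finrank_mono hcon
    have := hγ D
    rw [delta] at this
    omega
  have hy0 : y ≠ 0 := fun e => hyn (e ▸ Submodule.zero_mem _)
  have hord := (mem_L_iff_ord hy0).mp hy
  refine ⟨y⁻¹, ?_, fun R hR => ?_⟩
  · rw [ord_inv]
    by_contra hle
    refine hyn ((mem_L_iff_ord hy0).mpr fun R => ?_)
    rw [Finsupp.zero_apply]
    by_cases hR : R = P
    · subst hR; omega
    · have := hord R; rwa [hD, Finsupp.single_eq_of_ne hR] at this
  · have := hord R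
    rw [hD, Finsupp.single_eq_of_ne hR] at this
    rw [ord_inv]; omega

theorem FF.finite_setOf_isOver [IsScalarTower k K K'] [FiniteDimensional K K'] (h : FF k K)
    (P : Place k K) : {Q : Place k K' | IsOver Q P}.Finite := by
  obtain ⟨t, -, ht⟩ := exists_ord_eq P 1
  refine ((h.extension K').zeros_finite (algebraMap K K' t)).subset fun Q hQ => ?_
  have hQ' : IsOver Q P := hQ
  change 0 < Q.ord (algebraMap K K' t)
  rw [isOver_ord hQ', ht, mul_one]
  exact_mod_cast isOverWith_pos (isOverWith_ramIdx hQ')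

theorem FF.sum_ramIdx_mul_deg [IsScalarTower k K K'] [FiniteDimensional K K'] (h : FF k K)
    (P : Place k K) (Qs : Finset (Place k K')) (hQs : ∀ Q, Q ∈ Qs ↔ IsOver Q P) :
    ∑ Q ∈ Qs, (ramIdx Q P * Q.deg) = Module.finrank K K' * P.deg := by
  classical
  have hF' := h.extension K'
  obtain ⟨x, hxP, hxR⟩ := h.exists_only_zero P
  have htr : Transcendental k x := transcendental_of_ord_ne_zero P (ne_of_gt hxP)
  set x' := algebraMap K K' x with hx'
  have htr' : Transcendental k x' := fun ha =>
    htr ((isAlgebraic_algebraMap_iff (algebraMap K K').injective).mp ha)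
  have hz : (div k x ⊔ 0 : Divisor k K) = Finsupp.single P (P.ord x) := by
    refine Finsupp.ext fun R => ?_
    rw [Finsupp.sup_apply, h.div_apply, Finsupp.zero_apply]
    by_cases hR : R = P
    · subst hR; rw [Finsupp.single_eq_same]; omega
    · rw [Finsupp.single_eq_of_ne hR]; have := hxR R hR; omega
  have h1 := h.deg_zeroDiv htr
  rw [hz, deg_single] at h1
  have h2 := hF'.deg_zeroDiv htr'
  rw [finrank_adjoin_algebraMap, deg_eq_sum _ (S := Qs)] at h2
  · have h3 : ∀ Q ∈ Qs, (div k x' ⊔ 0 : Divisor k K') Q * (Q.deg : ℤ) =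
        P.ord x * ((ramIdx Q P * Q.deg : ℕ) : ℤ) := by
      intro Q hQ
      have hQ' := (hQs Q).mp hQ
      have hnn : (0 : ℤ) ≤ (ramIdx Q P : ℤ) * P.ord x := by positivity
      rw [Finsupp.sup_apply, hF'.div_apply, Finsupp.zero_apply, hx', isOver_ord hQ',
        max_eq_left hnn]
      push_cast
      ring
    rw [Finset.sum_congr rfl h3, ← Finset.mul_sum] at h2
    push_cast at h2
    rw [← h1] at h2
    have h4 : ((∑ Q ∈ Qs, ramIdx Q P * Q.deg : ℕ) : ℤ) = Module.finrank K K' * P.deg := by
      push_cast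
      refine mul_left_cancel₀ hxP.ne' ?_
      linear_combination h2
    exact_mod_cast h4
  · intro Q hQ
    rw [Finsupp.mem_support_iff, Finsupp.sup_apply, hF'.div_apply, Finsupp.zero_apply] at hQ
    obtain ⟨R, e, he, hR⟩ := h.exists_isOverWith Q
    rw [hQs]
    have : 0 < Q.ord x' := by omega
    rw [hx', isOverWith_ord hR] at this
    have hRP : R = P := by
      by_contra hne
      have := hxR R hne
      nlinarith
    exact ⟨e, hRP ▸ hR⟩

theorem FF.exists_over [IsScalarTower k K K'] [FiniteDimensional K K'] (h : FF k K)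
    (P : Place k K) : ∃ Q : Place k K', IsOver Q P := by
  by_contra hcon
  push Not at hcon
  have := h.sum_ramIdx_mul_deg (K' := K') P ∅ (fun Q => by simpa using hcon Q)
  have hn : 0 < Module.finrank K K' := Module.finrank_pos
  have := h.deg_pos P
  simp at *
  omega

theorem ramIdx_eq_zero {Q : Place k K'} {P : Place k K} (h : ¬ IsOver Q P) : ramIdx Q P = 0 := by
  rw [ramIdx, dif_neg h]

theorem FF.conorm_apply [IsScalarTower k K K'] [FiniteDimensional K K'] (h : FF k K)
    (D : Divisor k K) {Q : Place k K'} {P : Place k K} {e : ℕ} (hQ : IsOverWith Q P e) :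
    conorm K' D Q = (e : ℤ) * D P := by
  classical
  have key : ∀ (R : Place k K),
      (((h.finite_setOf_isOver (K' := K') R).toFinset.sum
        (fun Q' => (ramIdx Q' R : ℤ) • Finsupp.single Q' (1 : ℤ))) : Divisor k K') Q = ramIdx Q R := by
    intro R
    rw [Finsupp.finsetSum_apply, Finset.sum_eq_single Q]
    · simp
    · intro Q' _ hne; simp [Ne.symm hne]
    · intro hmem
      have : ¬ IsOver Q R := fun hh => hmem ((h.finite_setOf_isOver R).mem_toFinset.mpr hh)
      simp [ramIdx_eq_zero this]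
  rw [conorm, Finsupp.sum_apply, Finsupp.sum, Finset.sum_eq_single P]
  · rw [dif_pos (h.finite_setOf_isOver P), Finsupp.smul_apply, key, smul_eq_mul, ramIdx_eq hQ,
      mul_comm]
  · intro R _ hne
    rw [dif_pos (h.finite_setOf_isOver R), Finsupp.smul_apply, key,
      ramIdx_eq_zero fun hh => hne (isOver_unique hh ⟨e, hQ⟩)]
    simp
  · intro hmem
    rw [Finsupp.notMem_support_iff.mp hmem, zero_smul, Finsupp.zero_apply]

theorem FF.conorm_div [IsScalarTower k K K'] [FiniteDimensional K K'] (h : FF k K) (x : K) :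
    div k (algebraMap K K' x) = conorm K' (div k x) := by
  refine Finsupp.ext fun Q => ?_
  obtain ⟨P, e, -, hQ⟩ := h.exists_isOverWith Q
  rw [h.conorm_apply _ hQ, (h.extension K').div_apply, h.div_apply, isOverWith_ord hQ]

theorem FF.conorm_add [IsScalarTower k K K'] [FiniteDimensional K K'] (h : FF k K)
    (D E : Divisor k K) : conorm K' (D + E) = conorm K' D + conorm K' E := by
  refine Finsupp.ext fun Q => ?_
  obtain ⟨P, e, -, hQ⟩ := h.exists_isOverWith Q
  rw [Finsupp.add_apply, h.conorm_apply _ hQ, h.conorm_apply _ hQ, h.conorm_apply _ hQ,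
    Finsupp.add_apply, mul_add]

theorem FF.deg_conorm [IsScalarTower k K K'] [FiniteDimensional K K'] (h : FF k K)
    (D : Divisor k K) : (conorm K' D).deg = Module.finrank K K' * D.deg := by
  classical
  induction D using Finsupp.induction with
  | zero => simp [conorm, Divisor.deg]
  | single_add P n D _ _ ih =>
    rw [h.conorm_add, deg_add, deg_add, ih, mul_add, deg_single, add_left_inj]
    have hsupp : ((conorm K' (Finsupp.single P n : Divisor k K)) : Divisor k K').support ⊆
        (h.finite_setOf_isOver P).toFinset := by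
      intro Q hQ
      obtain ⟨R, e, -, hR⟩ := h.exists_isOverWith Q
      rw [Finsupp.mem_support_iff, h.conorm_apply _ hR] at hQ
      by_cases hRP : R = P
      · subst hRP; exact (h.finite_setOf_isOver R).mem_toFinset.mpr ⟨e, hR⟩
      · simp [Finsupp.single_eq_of_ne hRP] at hQ
    have hs := h.sum_ramIdx_mul_deg (K' := K') P (h.finite_setOf_isOver P).toFinset
      (fun Q => (h.finite_setOf_isOver P).mem_toFinset)
    have hs' : ((∑ Q ∈ (h.finite_setOf_isOver (K' := K') P).toFinset, ramIdx Q P * Q.deg : ℕ) : ℤ) =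
        (Module.finrank K K' : ℤ) * P.deg := by exact_mod_cast hs
    push_cast at hs'
    rw [deg_eq_sum _ hsupp]
    rw [Finset.sum_congr rfl fun Q hQ => by
      rw [h.conorm_apply _ (isOverWith_ramIdx ((h.finite_setOf_isOver P).mem_toFinset.mp hQ)),
        Finsupp.single_eq_same]]
    rw [← mul_assoc, mul_comm _ n, mul_assoc, ← hs', Finset.mul_sum]
    exact Finset.sum_congr rfl fun Q _ => by ring

end Groth.Agent.FF30
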