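import Groth.Agent.FF30.ConstExt
import Groth.Agent.FF30.AlgClosed
import Groth.Agent.FF30.Ext
import Mathlib.FieldTheory.Galois.Infinite
import Mathlib.FieldTheory.Normal.Basic
import Mathlib.FieldTheory.IsAlgClosed.AlgebraicClosure
import Mathlib.FieldTheory.Finite.Extension
import Mathlib.FieldTheory.Galois.Basic

/-! Places under an algebraic extension of the constants. -/

open FunFld WithZero
open scoped Multiplicative IntermediateField TensorProduct

namespace Groth.Agent.FF30

variable {k K : Type*} [Field k] [Field K] [Algebra k K]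

/-- A residue generator with its equation. -/
theorem FF.exists_residue_generator [PerfectField k] (h : FF k K) (P : Place k K) :
    ∃ (θ : K) (p : Polynomial k), P.1 θ ≤ 1 ∧ Irreducible p ∧ p.Monic ∧ p.natDegree = P.deg ∧
      P.1 (Polynomial.aeval θ p) < 1 ∧
      ∀ x : K, P.1 x ≤ 1 → ∃ g : Polynomial k, P.1 (x - Polynomial.aeval θ g) < 1 := by
  set κ := IsLocalRing.ResidueField P.O
  have hmod : (IsLocalRing.instModuleResidueFieldOfAlgebra P.O : Module k κ) = Algebra.toModule :=
    Module.ext' _ _ fun c r => (residue_smul_eq_mul P c r).trans (Algebra.smul_def c r).symm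
  have hdeg : P.deg = @Module.finrank k κ _ _ Algebra.toModule := by
    rw [← hmod]; rfl
  have hfin : @Module.Finite k κ _ _ Algebra.toModule := hmod ▸ h.finite_residueField P
  obtain ⟨θb, hθb⟩ := Field.exists_primitive_element k κ
  obtain ⟨θ, rfl⟩ := IsLocalRing.residue_surjective θb
  have hint : IsIntegral k (IsLocalRing.residue P.O θ) := IsIntegral.of_finite k _
  have hcoe : ∀ g : Polynomial k, ((Polynomial.aeval θ g : P.O) : K) = Polynomial.aeval (θ : K) g :=
    fun g => (Polynomial.aeval_algebraMap_apply K θ g).symm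
  have hres : ∀ g : Polynomial k, IsLocalRing.residue P.O (Polynomial.aeval θ g) =
      Polynomial.aeval (IsLocalRing.residue P.O θ) g := by
    intro g
    induction g using Polynomial.induction_on' with
    | add p q hp hq => simp only [map_add, hp, hq]
    | monomial n c =>
      simp only [Polynomial.aeval_monomial, map_mul, map_pow]
      rfl
  refine ⟨(θ : K), minpoly k (IsLocalRing.residue P.O θ), θ.2, minpoly.irreducible hint,
    minpoly.monic hint, ?_, ?_, fun x hx => ?_⟩
  · rw [hdeg, ← IntermediateField.adjoin.finrank hint, hθb, IntermediateField.finrank_top']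
  · rw [← hcoe]
    refine (Valuation.mem_maximalIdeal_iff (v := P.1)).mp ?_
    rw [← IsLocalRing.residue_eq_zero_iff, hres, minpoly.aeval]
  · have hmem : IsLocalRing.residue P.O ⟨x, hx⟩ ∈ Algebra.adjoin k {IsLocalRing.residue P.O θ} := by
      rw [← IntermediateField.adjoin_simple_toSubalgebra_of_isAlgebraic hint.isAlgebraic, hθb]
      trivial
    obtain ⟨g, hg⟩ : ∃ g : Polynomial k,
        Polynomial.aeval (IsLocalRing.residue P.O θ) g = IsLocalRing.residue P.O ⟨x, hx⟩ := by
      rw [Algebra.adjoin_singleton_eq_range_aeval] at hmem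
      exact hmem
    refine ⟨g, ?_⟩
    rw [← hcoe]
    have h1 : (⟨x, hx⟩ : P.O) - Polynomial.aeval θ g ∈ IsLocalRing.maximalIdeal P.O := by
      rw [← IsLocalRing.residue_eq_zero_iff, map_sub, hres, hg, sub_self]
    exact (Valuation.mem_maximalIdeal_iff (v := P.1)).mp h1

/-- A place is fixed by an endomorphism. -/
def IsFixed {R : Type*} [FunLike R K K] (τ : R) (Q : Place k K) : Prop :=
  ∀ z : K, Q.1 z < 1 → Q.1 (τ z) < 1

variable {kb Kb : Type*} [Field kb] [Algebra k kb] [Field Kb] [Algebra K Kb] [Algebra kb Kb]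

/-- `Q` lies over `P`. -/
def Below (Q : Place kb Kb) (P : Place k K) : Prop :=
  ∀ x : K, Q.1 (algebraMap K Kb x) ≤ 1 ↔ P.1 x ≤ 1

omit [Algebra k kb] in
theorem Below.lt_iff {Q : Place kb Kb} {P : Place k K} (h : Below Q P) (x : K) :
    Q.1 (algebraMap K Kb x) < 1 ↔ P.1 x < 1 := by
  rcases eq_or_ne x 0 with rfl | hx
  · simp
  have h1 := h x⁻¹
  rw [map_inv₀, map_inv₀, map_inv₀] at h1
  have hx' : algebraMap K Kb x ≠ 0 := by simpa using hx
  rw [inv_le_one₀ (zero_lt_iff.mpr (val_ne_zero Q hx')),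
    inv_le_one₀ (zero_lt_iff.mpr (val_ne_zero P hx))] at h1
  rw [← not_le, ← not_le, h1]

omit [Algebra k kb] in
theorem Below.unique {Q : Place kb Kb} {P P' : Place k K} (h : Below Q P) (h' : Below Q P') :
    P = P' :=
  eq_of_val_le_one_imp fun x hx => (h' x).mp ((h x).mpr hx)

variable [PerfectField k] [Algebra.IsAlgebraic k kb] [Algebra k Kb] [IsScalarTower k K Kb]
  [IsScalarTower k kb Kb] [IsAlgClosed kb]

namespace IsCompositum

omit [PerfectField k] [IsAlgClosed kb] in
theorem exists_below (hC : IsCompositum k K kb Kb) (hK : FF k K) (Q : Place kb Kb) :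
    ∃ P : Place k K, Below Q P := by
  let V := Q.O.comap (algebraMap K Kb)
  have hk : ∀ c : k, algebraMap k K c ∈ V := fun c => by
    change Q.1 (algebraMap K Kb (algebraMap k K c)) ≤ 1
    rw [← IsScalarTower.algebraMap_apply, IsScalarTower.algebraMap_apply k kb Kb]
    exact Q.2.1 _
  have hV : V ≠ ⊤ := by
    intro htop
    have hall : ∀ x : K, Q.1 (algebraMap K Kb x) ≤ 1 := fun x => by
      have : x ∈ V := htop ▸ trivial
      exact this
    have hz : ∀ z : Kb, Q.1 z ≤ 1 := by
      intro z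
      have hz : z ∈ Algebra.adjoin K (Set.range (algebraMap kb Kb)) := hC.gen ▸ Algebra.mem_top
      induction hz using Algebra.adjoin_induction with
      | mem x hx => obtain ⟨a, rfl⟩ := hx; exact Q.2.1 a
      | algebraMap x => exact hall x
      | add a b _ _ ha hb => exact (Q.1.map_add a b).trans (max_le ha hb)
      | mul a b _ _ ha hb => rw [map_mul]; exact mul_le_one' ha hb
    obtain ⟨v, hv⟩ := Q.2.2 (exp 1)
    have := hz v
    rw [hv, ← exp_zero, exp_le_exp] at this
    omega
  obtain ⟨P, hP⟩ := hK.exists_place V hk hV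
  refine ⟨P, fun x => ?_⟩
  have : x ∈ P.O ↔ x ∈ V := by rw [hP]
  exact this.symm

theorem finite_fibre (hC : IsCompositum k K kb Kb) (hK : FF k K) (P : Place k K) :
    {Q : Place kb Kb | Below Q P}.Finite := by
  obtain ⟨t, ht0, ht⟩ := exists_uniformizer P
  refine ((hC.ff hK).zeros_finite (algebraMap K Kb t)).subset fun Q hQ => ?_
  refine (val_lt_one_iff Q (by simpa using ht0)).mp ((hQ.lt_iff t).mpr ?_)
  rw [ht, ← exp_zero, exp_lt_exp]
  omega

omit [PerfectField k] in
theorem exists_over (hC : IsCompositum k K kb Kb) [PerfectField k] (hK : FF k K) (P : Place k K) :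
    ∃ Q : Place kb Kb, Below Q P := by
  obtain ⟨x, hx, hxP⟩ := hK.exists_only_zero P
  have hx0 : x ≠ 0 := fun h => by rw [h, ord_zero] at hx; omega
  obtain ⟨Q, hQ⟩ := (hC.ff hK).exists_place_pos (hC.transcendental (transcendental_of_ord_ne_zero P hx.ne'))
  obtain ⟨P', hP'⟩ := hC.exists_below hK Q
  have h1 : P'.1 x < 1 := (hP'.lt_iff x).mp ((val_lt_one_iff Q (by simpa using hx0)).mpr hQ)
  have : P' = P := by
    by_contra hne
    have := hxP P' hne
    rw [val_lt_one_iff P' hx0] at h1
    omega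
  exact ⟨Q, this ▸ hP'⟩

/-- The conjugate place. -/
noncomputable def conjPlace (hC : IsCompositum k K kb Kb) (Q : Place kb Kb) (s : kb ≃ₐ[k] kb) :
    Place kb Kb :=
  ⟨Q.1.comap (hC.extendConst s : Kb →+* Kb), fun c => by
      rw [Valuation.comap_apply]
      change Q.1 (hC.extendConst s (algebraMap kb Kb c)) ≤ 1
      rw [extendConst_algebraMap]
      exact Q.2.1 _,
    fun v => by
      obtain ⟨x, hx⟩ := Q.2.2 v
      refine ⟨(hC.extendConst s).symm x, ?_⟩
      rw [Valuation.comap_apply]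
      simpa using hx⟩

omit [IsAlgClosed kb] in
theorem conjPlace_apply (hC : IsCompositum k K kb Kb) (Q : Place kb Kb) (s : kb ≃ₐ[k] kb) (z : Kb) :
    (hC.conjPlace Q s).1 z = Q.1 (hC.extendConst s z) := rfl

omit [IsAlgClosed kb] in
theorem below_conjPlace (hC : IsCompositum k K kb Kb) {Q : Place kb Kb} {P : Place k K}
    (h : Below Q P) (s : kb ≃ₐ[k] kb) : Below (hC.conjPlace Q s) P := fun x => by
  rw [conjPlace_apply, extendConst_apply]; exact h x

theorem mem_range_of_fixed {a : kb} (h : ∀ s : kb ≃ₐ[k] kb, s a = a) :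
    a ∈ Set.range (algebraMap k kb) := by
  have : IsAlgClosure k kb := ⟨inferInstance, inferInstance⟩
  have : IsGalois k kb := IsGalois.mk
  exact (InfiniteGalois.mem_range_algebraMap_iff_fixed a).mpr h

/-- Functions regular along a fibre are combinations of functions regular at `P`. -/
theorem exists_rep (hC : IsCompositum k K kb Kb) (hK : FF k K) {P : Place k K} {z : Kb}
    (hz : ∀ Q : Place kb Kb, Below Q P → Q.1 z ≤ 1) :
    ∃ (n : ℕ) (a : Fin n → kb) (x : Fin n → K), (∀ i, P.1 (x i) ≤ 1) ∧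
      z = ∑ i, algebraMap kb Kb (a i) * algebraMap K Kb (x i) := by
  classical
  let b := Module.Free.chooseBasis k kb
  obtain ⟨w, rfl⟩ := hC.tensorMap_bijective.2 z
  obtain ⟨c, rfl⟩ := (TensorProduct.equivFinsuppOfBasisLeft (N := K) b).symm.surjective w
  rw [TensorProduct.equivFinsuppOfBasisLeft_symm_apply, Finsupp.sum, map_sum] at hz ⊢
  simp only [tensorMap_tmul] at hz ⊢
  set T := c.support
  let e := T.equivFin
  refine ⟨T.card, fun i => b (e.symm i).1, fun i => c (e.symm i).1, ?_, ?_⟩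
  swap
  · rw [← Finset.sum_coe_sort T]
    exact Fintype.sum_equiv e _ _ fun i => by simp
  intro i
  obtain ⟨Q₀, hQ₀⟩ := hC.exists_over hK P
  let v : (kb ≃ₐ[k] kb) → T → kb := fun s l => s (b l.1)
  have hspan : Submodule.span kb (Set.range v) = ⊤ := by
    by_contra hne
    obtain ⟨φ, hφ, hφ0⟩ := Submodule.exists_le_ker_of_lt_top _ (lt_top_iff_ne_top.mpr hne)
    set R := {a : T → kb | ∀ s : kb ≃ₐ[k] kb, ∑ l, a l * s (b l.1) = 0}
    have hR : ∃ a ∈ R, a ≠ 0 := by
      refine ⟨fun l => φ (Pi.single l 1), fun s => ?_, fun h0 => hφ ?_⟩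
      · have h1 : φ (v s) = 0 := hφ0 (Submodule.subset_span ⟨s, rfl⟩)
        rw [← h1]
        conv_rhs => rw [show v s = ∑ l, v s l • (Pi.single l (1 : kb) : T → kb) from
          (pi_eq_sum_univ' (v s))]
        simp only [map_sum, map_smul, smul_eq_mul, v, mul_comm]
      · refine LinearMap.pi_ext' fun l => LinearMap.ext_ring ?_
        simpa using congrFun h0 l
    obtain ⟨a, ⟨haR, ha0⟩, hmin⟩ : ∃ a, (a ∈ R ∧ a ≠ 0) ∧ ∀ a', a' ∈ R → a' ≠ 0 →
        (Finset.univ.filter fun l => a l ≠ 0).card ≤ (Finset.univ.filter fun l => a' l ≠ 0).card := by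
      obtain ⟨a₀, ha₀⟩ := hR
      have hne' : ∃ m, ∃ a, (a ∈ R ∧ a ≠ 0) ∧ (Finset.univ.filter fun l => a l ≠ 0).card = m :=
        ⟨_, a₀, ha₀, rfl⟩
      obtain ⟨a, ha, hm⟩ := Nat.find_spec hne'
      exact ⟨a, ha, fun a' h1 h2 => hm ▸ Nat.find_min' hne' ⟨a', ⟨h1, h2⟩, rfl⟩⟩
    obtain ⟨t, ht⟩ := Function.ne_iff.mp ha0
    set a' := fun l => (a t)⁻¹ * a l
    have ha'R : a' ∈ R := fun s => by
      simp only [a', mul_assoc, ← Finset.mul_sum, haR s, mul_zero]
    have hfix : ∀ l, ∀ σ : kb ≃ₐ[k] kb, σ (a' l) = a' l := by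
      intro l σ
      by_contra hne'
      have hd : (fun l => σ (a' l) - a' l) ∈ R := by
        intro s
        simp only [sub_mul, Finset.sum_sub_distrib, ha'R s, sub_zero]
        have h2 := congrArg σ (ha'R (s.trans σ.symm))
        simpa [map_sum] using h2
      have hd0 : (fun l => σ (a' l) - a' l) ≠ 0 := fun h0 => hne' (sub_eq_zero.mp (congrFun h0 l))
      refine absurd (hmin _ hd hd0) (not_le.mpr (Finset.card_lt_card ?_))
      refine Finset.ssubset_iff_of_subset (fun m hm => ?_) |>.mpr ⟨t, by simpa using ht, ?_⟩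
      · simp only [Finset.mem_filter, Finset.mem_univ, true_and] at hm ⊢
        intro h0; apply hm; simp [a', h0]
      · have h1 : a' t = 1 := inv_mul_cancel₀ ht
        simp [h1]
    choose a₀ ha₀ using fun l => mem_range_of_fixed (hfix l)
    have h1 := ha'R AlgEquiv.refl
    simp only [AlgEquiv.coe_refl, id_eq, ← ha₀, ← Algebra.smul_def] at h1
    have h2 := (linearIndependent_iff'.mp b.linearIndependent) T
      (fun m => if hm : m ∈ T then a₀ ⟨m, hm⟩ else 0)
      (by rw [← Finset.sum_coe_sort T, ← h1]; simp) t.1 t.2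
    rw [dif_pos t.2] at h2
    have h3 := ha₀ t
    rw [h2, map_zero] at h3
    simp [a', inv_mul_cancel₀ ht] at h3
  have hl := hspan ▸ (Submodule.mem_top : (Pi.single (e.symm i) 1 : T → kb) ∈ ⊤)
  obtain ⟨μ, hμ⟩ := Finsupp.mem_span_range_iff_exists_finsupp.mp hl
  have hx : algebraMap K Kb (c (e.symm i).1) = ∑ s ∈ μ.support, algebraMap kb Kb (μ s) *
      hC.extendConst s (∑ l ∈ T, algebraMap kb Kb (b l) * algebraMap K Kb (c l)) := by
    simp only [map_sum, map_mul, extendConst_algebraMap, extendConst_apply, Finset.mul_sum]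
    rw [Finset.sum_comm, ← Finset.sum_coe_sort T]
    simp only [← mul_assoc, ← map_mul, ← Finset.sum_mul, ← map_sum]
    have hμ' : ∀ l : T, ∑ s ∈ μ.support, μ s * s (b l.1) = (Pi.single (e.symm i) 1 : T → kb) l := by
      intro l
      rw [← hμ, Finsupp.sum, Finset.sum_apply]
      rfl
    simp only [hμ']
    rw [Finset.sum_eq_single (e.symm i)]
    · rw [Pi.single_eq_same, map_one, one_mul]
    · intro l _ hl'; rw [Pi.single_eq_of_ne hl', map_zero, zero_mul]
    · simp
  refine (hQ₀ _).mp ?_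
  rw [hx]
  refine Q₀.1.map_sum_le fun s _ => ?_
  rw [map_mul]
  exact mul_le_one' (Q₀.2.1 _) (hz _ (hC.below_conjPlace hQ₀ s))

/-- A function equal to one at one place of a fibre and small at the others. -/
theorem exists_fibre_sep (hC : IsCompositum k K kb Kb) (hK : FF k K) {P : Place k K}
    {Q : Place kb Kb} (hQ : Below Q P) (N : ℕ) :
    ∃ s : Kb, Q.1 (s - 1) < 1 ∧
      (∀ Q', Below Q' P → Q'.1 s ≤ 1 ∧ (Q' ≠ Q → Q'.1 s ≤ exp (-(N : ℤ)))) := by
  classical
  obtain ⟨s, hs⟩ := exists_approx (hC.finite_fibre hK P).toFinset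
    (fun R => if R = Q then (1 : Kb) else 0) (fun _ => -(N : ℤ) - 1)
  have hQs : Q.1 (s - 1) < 1 := by
    have h1 := hs Q ((hC.finite_fibre hK P).mem_toFinset.mpr hQ)
    rw [if_pos rfl] at h1
    refine lt_of_le_of_lt h1 ?_
    rw [← exp_zero, exp_lt_exp]; omega
  refine ⟨s, hQs, fun Q' hQ' => ?_⟩
  have h1 := hs Q' ((hC.finite_fibre hK P).mem_toFinset.mpr hQ')
  rcases eq_or_ne Q' Q with rfl | hne
  · refine ⟨?_, fun h => absurd rfl h⟩
    rw [show s = (s - 1) + 1 by ring]
    exact (Q'.1.map_add _ _).trans (max_le hQs.le (by rw [map_one]))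
  · rw [if_neg hne, sub_zero] at h1
    refine ⟨h1.trans ?_, fun _ => h1.trans ?_⟩
    · rw [← exp_zero, exp_le_exp]; omega
    · rw [exp_le_exp]; omega

/-- The value of a combination. -/
theorem val_sum_congr {n : ℕ} {a : Fin n → kb} {x : Fin n → K} {v : Fin n → kb} {Q : Place kb Kb}
    (hv : ∀ i, Q.1 (algebraMap K Kb (x i) - algebraMap kb Kb (v i)) < 1) :
    Q.1 ((∑ i, algebraMap kb Kb (a i) * algebraMap K Kb (x i)) -
      algebraMap kb Kb (∑ i, a i * v i)) < 1 := by
  rw [map_sum, ← Finset.sum_sub_distrib]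
  refine Q.1.map_sum_lt one_ne_zero fun i _ => ?_
  rw [map_mul, ← mul_sub, map_mul]
  exact lt_of_le_of_lt (mul_le_of_le_one_left' (Q.2.1 _)) (hv i)

omit [Algebra k kb] [PerfectField k] [Algebra.IsAlgebraic k kb] [Algebra k Kb] [IsScalarTower k K Kb]
  [IsScalarTower k kb Kb] [IsAlgClosed kb] in
theorem const_unique {Q : Place kb Kb} {z : Kb} {a b : kb}
    (ha : Q.1 (z - algebraMap kb Kb a) < 1) (hb : Q.1 (z - algebraMap kb Kb b) < 1) : a = b := by
  by_contra hne
  have h : Q.1 (algebraMap kb Kb (a - b)) < 1 := by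
    rw [map_sub, show algebraMap kb Kb a - algebraMap kb Kb b =
      (z - algebraMap kb Kb b) - (z - algebraMap kb Kb a) by ring]
    exact lt_of_le_of_lt (Q.1.map_sub _ _) (max_lt hb ha)
  rw [val_algebraMap Q (sub_ne_zero.mpr hne)] at h
  exact lt_irrefl _ h

/-- Values of polynomials at a point. -/
theorem val_poly_congr {Q : Place kb Kb} {θ : K} {c : kb}
    (hc : Q.1 (algebraMap K Kb θ - algebraMap kb Kb c) < 1) (g : Polynomial k) :
    Q.1 (algebraMap K Kb (Polynomial.aeval θ g) - algebraMap kb Kb (Polynomial.aeval c g)) < 1 := by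
  have hθ : Q.1 (algebraMap K Kb θ) ≤ 1 := by
    rw [show algebraMap K Kb θ = (algebraMap K Kb θ - algebraMap kb Kb c) + algebraMap kb Kb c by ring]
    exact (Q.1.map_add _ _).trans (max_le hc.le (Q.2.1 _))
  induction g using Polynomial.induction_on with
  | C r =>
    simp only [Polynomial.aeval_C, ← IsScalarTower.algebraMap_apply, sub_self, map_zero]
    exact zero_lt_one
  | add p q hp hq =>
    rw [map_add, map_add, map_add, map_add, add_sub_add_comm]
    exact lt_of_le_of_lt (Q.1.map_add _ _) (max_lt hp hq)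
  | monomial n r hn =>
    rw [pow_succ, ← mul_assoc]
    generalize Polynomial.C r * Polynomial.X ^ n = q at hn ⊢
    simp only [map_mul, Polynomial.aeval_X]
    set A := algebraMap K Kb (Polynomial.aeval θ q)
    set B := algebraMap kb Kb (Polynomial.aeval c q)
    rw [show A * algebraMap K Kb θ - B * algebraMap kb Kb c =
      (A - B) * algebraMap K Kb θ + B * (algebraMap K Kb θ - algebraMap kb Kb c) by ring]
    refine lt_of_le_of_lt (Q.1.map_add _ _) (max_lt ?_ ?_) <;> rw [map_mul]
    · exact lt_of_le_of_lt (mul_le_of_le_one_right' hθ) hn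
    · exact lt_of_le_of_lt (mul_le_of_le_one_left' (Q.2.1 _)) hc

variable [Finite k]

/-- The number of places over `P` fixed by the `n`-th power of Frobenius. -/
theorem card_fixed_fibre (hC : IsCompositum k K kb Kb) (hK : FF k K) (P : Place k K) (n : ℕ)
    (τ : Kb →ₐ[kb] Kb) (hτ : ∀ x : K, τ (algebraMap K Kb x) = algebraMap K Kb (x ^ Nat.card k ^ n)) :
    Nat.card {Q : Place kb Kb // Below Q P ∧ IsFixed τ Q} = if P.deg ∣ n then P.deg else 0 := by
  classical
  have hFF := hC.ff hK
  obtain ⟨θ, p, hθ, hirr, hmon, hdeg, hpθ, hgen⟩ := hK.exists_residue_generator P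
  -- the value of the generator at a place of the fibre
  choose! c hc using fun (Q : Place kb Kb) (hQ : Below Q P) =>
    hFF.exists_sub_lt Q ((hQ θ).mpr hθ)
  have hroot : ∀ Q, Below Q P → Polynomial.aeval (c Q) p = 0 := fun Q hQ =>
    const_unique (val_poly_congr (hc Q hQ) p) (by simpa using (hQ.lt_iff _).mpr hpθ)
  have hval : ∀ (Q : Place kb Kb), Below Q P → ∀ (x : K) (g : Polynomial k),
      P.1 (x - Polynomial.aeval θ g) < 1 →
        Q.1 (algebraMap K Kb x - algebraMap kb Kb (Polynomial.aeval (c Q) g)) < 1 := by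
    intro Q hQ x g hg
    rw [show algebraMap K Kb x - algebraMap kb Kb (Polynomial.aeval (c Q) g) =
      algebraMap K Kb (x - Polynomial.aeval θ g) + (algebraMap K Kb (Polynomial.aeval θ g) -
        algebraMap kb Kb (Polynomial.aeval (c Q) g)) by rw [map_sub]; ring]
    exact lt_of_le_of_lt (Q.1.map_add _ _) (max_lt ((hQ.lt_iff _).mpr hg) (val_poly_congr (hc Q hQ) g))
  -- distinct places give distinct values
  have hinj : ∀ Q Q', Below Q P → Below Q' P → c Q = c Q' → Q = Q' := by
    intro Q Q' hQ hQ' hcc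
    by_contra hne
    obtain ⟨s, hs1, hs⟩ := hC.exists_fibre_sep hK hQ 1
    obtain ⟨m, a, x, hx, rfl⟩ := hC.exists_rep hK fun R hR => (hs R hR).1
    choose g hg using fun i => hgen (x i) (hx i)
    have h1 := val_sum_congr (a := a) fun i => hval Q hQ _ _ (hg i)
    have h2 := val_sum_congr (a := a) fun i => hval Q' hQ' _ _ (hg i)
    rw [hcc] at h1
    have e1 : ∑ i, a i * Polynomial.aeval (c Q') (g i) = 1 :=
      const_unique h1 (by simpa using hs1)
    have e2 : ∑ i, a i * Polynomial.aeval (c Q') (g i) = 0 := by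
      refine const_unique h2 ?_
      rw [map_zero, sub_zero]
      refine lt_of_le_of_lt ((hs Q' hQ').2 (Ne.symm hne)) ?_
      rw [← exp_zero, exp_lt_exp]; omega
    rw [e1] at e2
    exact one_ne_zero e2
  have hsurj : ∀ r : kb, Polynomial.aeval r p = 0 → ∃ Q, Below Q P ∧ c Q = r := by
    intro r hr
    obtain ⟨Q₀, hQ₀⟩ := hC.exists_over hK P
    have : IsAlgClosure k kb := ⟨inferInstance, inferInstance⟩
    have hmin : minpoly k r = p := (minpoly.eq_of_irreducible_of_monic hirr hr hmon).symm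
    obtain ⟨σ, hσ⟩ := minpoly.exists_algEquiv_of_root' (Algebra.IsAlgebraic.isAlgebraic r)
      (by rw [hmin]; exact hroot Q₀ hQ₀)
    refine ⟨hC.conjPlace Q₀ σ, hC.below_conjPlace hQ₀ σ, ?_⟩
    refine const_unique (hc _ (hC.below_conjPlace hQ₀ σ)) ?_
    rw [conjPlace_apply, map_sub, extendConst_apply, extendConst_algebraMap, hσ]
    exact hc Q₀ hQ₀
  have hfix : ∀ Q, Below Q P → (IsFixed τ Q ↔ c Q ^ Nat.card k ^ n = c Q) := by
    intro Q hQ
    have hτθ : Q.1 (τ (algebraMap K Kb θ - algebraMap kb Kb (c Q)) -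
        algebraMap kb Kb (c Q ^ Nat.card k ^ n - c Q)) < 1 := by
      rw [map_sub τ, τ.commutes, hτ, map_sub (algebraMap kb Kb), sub_sub_sub_cancel_right]
      have h2 := val_poly_congr (hc Q hQ) (Polynomial.X ^ Nat.card k ^ n : Polynomial k)
      simpa using h2
    constructor
    · intro h
      have h1 := h _ (hc Q hQ)
      rw [← sub_eq_zero]
      exact (const_unique (b := 0) hτθ (by rwa [map_zero, sub_zero]))
    · intro hfix z hz
      have hFr : ∀ g : Polynomial k,
          Polynomial.aeval (c Q) g ^ Nat.card k ^ n = Polynomial.aeval (c Q) g := by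
        have : Fintype k := Fintype.ofFinite k
        intro g
        have h1 := Polynomial.aeval_algHom_apply ((FiniteField.frobeniusAlgHom k kb) ^ n) (c Q) g
        rw [AlgHom.coe_pow, FiniteField.coe_frobeniusAlgHom, pow_iterate, Fintype.card_eq_nat_card] at h1
        beta_reduce at h1
        rw [hfix] at h1
        exact h1.symm
      obtain ⟨N, hN⟩ : ∃ N : ℕ, ∀ Q' : Place kb Kb, Below Q' P → Q'.1 z ≤ exp (N : ℤ) := by
        refine ⟨∑ Q' ∈ (hC.finite_fibre hK P).toFinset, (Q'.ord z).natAbs, fun Q' hQ' => ?_⟩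
        rcases eq_or_ne z 0 with rfl | hz0
        · simp
        rw [val_le_exp_iff Q' hz0]
        have : (Q'.ord z).natAbs ≤ ∑ R ∈ (hC.finite_fibre hK P).toFinset, (R.ord z).natAbs :=
          Finset.single_le_sum (f := fun R : Place kb Kb => (R.ord z).natAbs) (fun _ _ => Nat.zero_le _)
            ((hC.finite_fibre hK P).mem_toFinset.mpr hQ')
        omega
      obtain ⟨s, hs1, hs⟩ := hC.exists_fibre_sep hK hQ N
      have hreg : ∀ R : Place kb Kb, Below R P → R.1 (s * z) ≤ 1 := by
        intro R hR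
        rw [map_mul]
        rcases eq_or_ne R Q with rfl | hne
        · exact mul_le_one' (hs R hR).1 hz.le
        · refine (mul_le_mul' ((hs R hR).2 hne) (hN R hR)).trans ?_
          rw [← exp_add, neg_add_cancel, exp_zero]
      obtain ⟨m, a, x, hx, hzx⟩ := hC.exists_rep hK hreg
      obtain ⟨m', a', x', hx', hsx⟩ := hC.exists_rep hK fun R hR => (hs R hR).1
      have key : ∀ {m : ℕ} (a : Fin m → kb) (x : Fin m → K), (∀ i, P.1 (x i) ≤ 1) → ∀ d : kb,
          Q.1 ((∑ i, algebraMap kb Kb (a i) * algebraMap K Kb (x i)) - algebraMap kb Kb d) < 1 →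
          Q.1 (τ (∑ i, algebraMap kb Kb (a i) * algebraMap K Kb (x i)) - algebraMap kb Kb d) < 1 := by
        intro m a x hx d hd
        choose g hg using fun i => hgen (x i) (hx i)
        have h1 := val_sum_congr (a := a) fun i => hval Q hQ _ _ (hg i)
        rw [const_unique hd h1]
        simp only [map_sum, ← Finset.sum_sub_distrib]
        refine Q.1.map_sum_lt one_ne_zero fun i _ => ?_
        rw [map_mul τ, τ.commutes, hτ, map_mul (algebraMap kb Kb), ← mul_sub, map_mul]
        refine lt_of_le_of_lt (mul_le_of_le_one_left' (Q.2.1 _)) ?_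
        have h3 := hval Q hQ (x i ^ Nat.card k ^ n) (g i ^ Nat.card k ^ n) ?_
        · rwa [map_pow (Polynomial.aeval (c Q)), hFr] at h3
        · rw [map_pow]
          obtain ⟨r, hr⟩ := sub_dvd_pow_sub_pow (x i) (Polynomial.aeval θ (g i)) (Nat.card k ^ n)
          have hge : x i ^ Nat.card k ^ n - Polynomial.aeval θ (g i) ^ Nat.card k ^ n =
              (x i - Polynomial.aeval θ (g i)) *
                ∑ j ∈ Finset.range (Nat.card k ^ n), x i ^ j * Polynomial.aeval θ (g i) ^ (Nat.card k ^ n - 1 - j) :=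
            (mul_comm _ _ |>.trans (geom_sum₂_mul _ _ _)).symm
          rw [hge, map_mul]
          refine lt_of_le_of_lt (mul_le_of_le_one_right' (P.1.map_sum_le fun j _ => ?_)) (hg i)
          rw [map_mul, map_pow, map_pow]
          exact mul_le_one' (pow_le_one₀ zero_le (hx i))
            (pow_le_one₀ zero_le (val_aeval_le P hθ _))
      have h1 : Q.1 (τ (s * z)) < 1 := by
        rw [hzx]
        have := key a x hx 0 (by
          rw [map_zero, sub_zero, ← hzx, map_mul]
          exact lt_of_le_of_lt (mul_le_of_le_one_left' (hs Q hQ).1) hz)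
        rwa [map_zero, sub_zero] at this
      have h2 : Q.1 (τ s - 1) < 1 := by
        have := key a' x' hx' 1 (by rw [map_one, ← hsx]; exact hs1)
        rwa [map_one, ← hsx] at this
      have h3 : Q.1 (τ s) = 1 := by
        rw [show τ s = 1 + (τ s - 1) by ring, Q.1.map_add_eq_of_lt_left (by rwa [map_one]), map_one]
      rwa [map_mul, map_mul, h3, one_mul] at h1
  have hequiv : {Q : Place kb Kb // Below Q P ∧ IsFixed τ Q} ≃
      {r : kb // Polynomial.aeval r p = 0 ∧ r ^ Nat.card k ^ n = r} :=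
    Equiv.ofBijective (fun Q => ⟨c Q.1, hroot _ Q.2.1, (hfix _ Q.2.1).mp Q.2.2⟩)
      ⟨fun Q Q' h => Subtype.ext (hinj _ _ Q.2.1 Q'.2.1 (congrArg Subtype.val h)),
        fun r => by
          obtain ⟨Q, hQ, hQr⟩ := hsurj r.1 r.2.1
          exact ⟨⟨Q, hQ, (hfix Q hQ).mpr (by rw [hQr]; exact r.2.2)⟩, Subtype.ext hQr⟩⟩
  rw [Nat.card_congr hequiv]
  have hsplit : ∀ r : kb, Polynomial.aeval r p = 0 →
      (r ^ Nat.card k ^ n = r ↔ P.deg ∣ n) := by
    intro r hr
    rw [← hdeg, hirr.natDegree_dvd_iff_dvd_X_pow_card_pow_sub_X]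
    have hmin : minpoly k r = p := (minpoly.eq_of_irreducible_of_monic hirr hr hmon).symm
    constructor
    · intro h
      rw [← hmin]
      exact minpoly.dvd k r (by simp [h])
    · rintro ⟨q, hq⟩
      have := congrArg (Polynomial.aeval r) hq
      rw [map_mul, hr, zero_mul] at this
      simpa [sub_eq_zero] using this
  split_ifs with hdvd
  · have heq : {r : kb | Polynomial.aeval r p = 0 ∧ r ^ Nat.card k ^ n = r} = p.rootSet kb := by
      ext r
      rw [Set.mem_setOf_eq, Polynomial.mem_rootSet]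
      exact ⟨fun h => ⟨hmon.ne_zero, h.1⟩, fun h => ⟨h.2, (hsplit r h.2).mpr hdvd⟩⟩
    rw [← Set.coe_setOf, Nat.card_coe_set_eq, heq, ← hdeg]
    rw [← Nat.card_coe_set_eq, Nat.card_eq_fintype_card]
    exact Polynomial.card_rootSet_eq_natDegree (PerfectField.separable_of_irreducible hirr)
      (IsAlgClosed.splits _)
  · rw [Nat.card_eq_zero]
    exact Or.inl ⟨fun r => hdvd ((hsplit r.1 r.2.1).mp r.2.2)⟩

end IsCompositum

end Groth.Agent.FF30
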