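import Groth.Prelude.Def_W4bk4goldsch23FF
import Mathlib.RingTheory.Valuation.Integral
import Mathlib.RingTheory.Valuation.ValuationRing
import Mathlib.RingTheory.IntegralClosure.IntegrallyClosed
import Mathlib.Algebra.Order.Group.Int

/-! Basic calculus of places of a field over a ground field. -/

open FunFld WithZero
open scoped Multiplicative

namespace Groth.Agent.FF30

variable {k K : Type*} [Field k] [Field K] [Algebra k K] (P : Place k K)

instance : IsScalarTower k P.O K := IsScalarTower.of_algebraMap_eq fun _ => rfl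

theorem val_ne_zero {x : K} (hx : x ≠ 0) : P.1 x ≠ 0 := (Valuation.ne_zero_iff _).mpr hx

theorem ord_zero : P.ord 0 = 0 := by simp [Place.ord]

theorem val_eq {x : K} (hx : x ≠ 0) : P.1 x = exp (-P.ord x) := by
  simp only [Place.ord, neg_neg]
  exact (exp_log (val_ne_zero P hx)).symm

theorem ord_eq_of_val_eq {x : K} {n : ℤ} (h : P.1 x = exp n) : P.ord x = -n := by
  simp [Place.ord, h]

theorem val_le_exp_iff {x : K} (hx : x ≠ 0) (n : ℤ) : P.1 x ≤ exp n ↔ -n ≤ P.ord x := by
  rw [val_eq P hx, exp_le_exp]; omega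

theorem exp_le_val_iff {x : K} (hx : x ≠ 0) (n : ℤ) : exp n ≤ P.1 x ↔ P.ord x ≤ -n := by
  rw [val_eq P hx, exp_le_exp]; omega

theorem val_le_one_iff {x : K} : P.1 x ≤ 1 ↔ 0 ≤ P.ord x := by
  rcases eq_or_ne x 0 with rfl | hx
  · simp [Place.ord]
  · have h := val_le_exp_iff P hx 0
    rwa [exp_zero, neg_zero] at h

theorem val_lt_one_iff {x : K} (hx : x ≠ 0) : P.1 x < 1 ↔ 0 < P.ord x := by
  rw [val_eq P hx, ← exp_zero, exp_lt_exp]; omega

theorem one_lt_val_iff {x : K} : 1 < P.1 x ↔ P.ord x < 0 := by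
  rw [← not_le, val_le_one_iff, not_le]

theorem val_eq_one_iff {x : K} (hx : x ≠ 0) : P.1 x = 1 ↔ P.ord x = 0 := by
  rw [val_eq P hx, exp_eq_one, neg_eq_zero]

theorem val_lt_one_le {x : K} (h : P.1 x < 1) : P.1 x ≤ exp (-1) := by
  rcases eq_or_ne x 0 with rfl | hx
  · simp
  · rw [val_le_exp_iff P hx]; have := (val_lt_one_iff P hx).mp h; omega

theorem ord_mul {x y : K} (hx : x ≠ 0) (hy : y ≠ 0) : P.ord (x * y) = P.ord x + P.ord y := by
  simp only [Place.ord, map_mul, log_mul (val_ne_zero P hx) (val_ne_zero P hy)]; ring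

@[simp] theorem ord_one : P.ord 1 = 0 := by simp [Place.ord]

theorem ord_inv (x : K) : P.ord x⁻¹ = -P.ord x := by
  simp [Place.ord, map_inv₀, log_inv]

theorem ord_div {x y : K} (hx : x ≠ 0) (hy : y ≠ 0) : P.ord (x / y) = P.ord x - P.ord y := by
  rw [div_eq_mul_inv, ord_mul P hx (inv_ne_zero hy), ord_inv]; ring

theorem ord_pow (x : K) (n : ℕ) : P.ord (x ^ n) = n * P.ord x := by
  simp [Place.ord, log_pow]

theorem ord_zpow (x : K) (n : ℤ) : P.ord (x ^ n) = n * P.ord x := by
  simp [Place.ord, log_zpow]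

theorem ord_neg (x : K) : P.ord (-x) = P.ord x := by simp [Place.ord]

theorem exists_val_eq (n : ℤ) : ∃ t : K, t ≠ 0 ∧ P.1 t = exp n := by
  obtain ⟨t, ht⟩ := P.2.2 (exp n)
  exact ⟨t, fun h => exp_ne_zero (by rw [h, map_zero] at ht; exact ht.symm), ht⟩

theorem exists_ord_eq (n : ℤ) : ∃ t : K, t ≠ 0 ∧ P.ord t = n := by
  obtain ⟨t, h0, ht⟩ := exists_val_eq P (-n)
  exact ⟨t, h0, by simp [ord_eq_of_val_eq P ht]⟩

theorem val_le_one_of_isIntegral {y : K} (hy : IsIntegral k y) : P.1 y ≤ 1 := by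
  have h : IsIntegral P.O y := hy.tower_top
  exact (Valuation.Integers.mem_of_integral (Valuation.valuationSubring.integers P.1) h)

theorem val_eq_one_of_isAlgebraic {y : K} (hy : IsAlgebraic k y) (h0 : y ≠ 0) : P.1 y = 1 := by
  have h1 := val_le_one_of_isIntegral P (isAlgebraic_iff_isIntegral.mp hy)
  have h2 := val_le_one_of_isIntegral P (isAlgebraic_iff_isIntegral.mp hy.inv)
  rw [map_inv₀] at h2
  exact le_antisymm h1 ((inv_le_one₀ (zero_lt_iff.mpr (val_ne_zero P h0))).mp h2)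

theorem val_algebraMap {c : k} (hc : c ≠ 0) : P.1 (algebraMap k K c) = 1 :=
  val_eq_one_of_isAlgebraic P (isAlgebraic_algebraMap c) (by simpa using hc)

theorem ord_algebraMap (c : k) : P.ord (algebraMap k K c) = 0 := by
  rcases eq_or_ne c 0 with rfl | hc
  · simp [Place.ord]
  · simp [Place.ord, val_algebraMap P hc]

theorem val_smul_le (c : k) (x : K) : P.1 (c • x) ≤ P.1 x := by
  rw [Algebra.smul_def, map_mul]; exact (mul_le_mul' (P.2.1 c) le_rfl).trans_eq (one_mul _)

theorem val_smul {c : k} (hc : c ≠ 0) (x : K) : P.1 (c • x) = P.1 x := by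
  rw [Algebra.smul_def, map_mul, val_algebraMap P hc, one_mul]

theorem transcendental_of_ord_ne_zero {x : K} (h : P.ord x ≠ 0) : Transcendental k x := by
  intro ha
  rcases eq_or_ne x 0 with rfl | hx
  · exact h (ord_zero P)
  · exact h ((val_eq_one_iff P hx).mp (val_eq_one_of_isAlgebraic P ha hx))

theorem eq_of_val_le_one_imp {P Q : Place k K} (h : ∀ x, P.1 x ≤ 1 → Q.1 x ≤ 1) : P = Q := by
  obtain ⟨t, ht0, ht⟩ := exists_ord_eq P 1
  have hval : ∀ x : K, x ≠ 0 → Q.ord x = P.ord x * Q.ord t := by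
    intro x hx
    have htn : t ^ P.ord x ≠ 0 := zpow_ne_zero _ ht0
    set u := x / t ^ P.ord x
    have hu0 : u ≠ 0 := div_ne_zero hx htn
    have hu : P.ord u = 0 := by rw [ord_div P hx htn, ord_zpow, ht]; ring
    have h1 := (val_le_one_iff Q).mp (h u ((val_le_one_iff P).mpr hu.ge))
    have h2 := (val_le_one_iff Q).mp (h u⁻¹ ((val_le_one_iff P).mpr (by rw [ord_inv, hu]; rfl)))
    rw [ord_inv] at h2
    have : Q.ord u = 0 := by omega
    rw [ord_div Q hx htn, ord_zpow] at this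
    linarith
  have htQ : 0 ≤ Q.ord t := (val_le_one_iff Q).mp (h t ((val_le_one_iff P).mpr (by omega)))
  obtain ⟨s, hs0, hs⟩ := exists_ord_eq Q 1
  have h1 : Q.ord t = 1 := by
    have := hval s hs0
    rw [hs] at this
    exact Int.eq_one_of_mul_eq_one_left htQ this.symm
  refine Subtype.ext (Valuation.ext fun x => ?_)
  rcases eq_or_ne x 0 with rfl | hx
  · simp
  · rw [val_eq P hx, val_eq Q hx, hval x hx, h1, mul_one]

theorem place_ext_O {P Q : Place k K} (h : P.O = Q.O) : P = Q :=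
  eq_of_val_le_one_imp fun x hx => by
    have : x ∈ P.O := hx
    rw [h] at this
    exact this

theorem exists_uniformizer : ∃ t : K, t ≠ 0 ∧ P.1 t = exp (-1) := exists_val_eq P (-1)

end Groth.Agent.FF30
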