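import Groth.Agent.FF30.Geometric
import Mathlib.RingTheory.Unramified.Field
import Mathlib.RingTheory.PolynomialAlgebra
import Mathlib.RingTheory.Flat.Basic
import Mathlib.RingTheory.Artinian.Module
import Mathlib.FieldTheory.PrimitiveElement
import Mathlib.FieldTheory.PurelyInseparable.Basic
import Mathlib.FieldTheory.SeparableClosure

/-! A separating element and closed constants give a geometric field. -/

open FunFld IntermediateField Polynomial
open scoped TensorProduct

namespace Groth.Agent.FF30

universe u v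

/-- Tensoring with a localisation keeps a domain. -/
theorem isDomain_tensor_of_fractions {k k' R K : Type*} [Field k] [Field k'] [Algebra k k'] [CommRing R]
    [Algebra k R] [Field K] [Algebra k K] (φ : R →ₐ[k] K) (hφ : Function.Injective φ)
    (hfrac : ∀ z : K, ∃ r s, φ s ≠ 0 ∧ z * φ s = φ r) [IsDomain (k' ⊗[k] R)] : IsDomain (k' ⊗[k] K) := by
  let ψ : k' ⊗[k] R →ₐ[k] k' ⊗[k] K := Algebra.TensorProduct.map (AlgHom.id k k') φ
  have hψ : Function.Injective ψ :=
    Module.Flat.lTensor_preserves_injective_linearMap (M := k') φ.toLinearMap hφ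
  have : Nontrivial (k' ⊗[k] K) := hψ.nontrivial
  have hunit : ∀ c : K, c ≠ 0 → IsUnit ((1 : k') ⊗ₜ[k] c) := fun c hc =>
    IsUnit.of_mul_eq_one ((1 : k') ⊗ₜ[k] c⁻¹) (by
      rw [Algebra.TensorProduct.tmul_mul_tmul, mul_one, mul_inv_cancel₀ hc]; rfl)
  have hscale : ∀ w : k' ⊗[k] K, ∃ (s : R) (u : k' ⊗[k] R), φ s ≠ 0 ∧ w * ((1 : k') ⊗ₜ φ s) = ψ u := by
    intro w
    induction w using TensorProduct.induction_on with
    | zero => exact ⟨1, 0, by simp, by simp⟩
    | tmul a c =>
      obtain ⟨r, s, hs, hrs⟩ := hfrac c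
      exact ⟨s, a ⊗ₜ r, hs, by simp [ψ, hrs]⟩
    | add a c ha hc =>
      obtain ⟨s, u, hs, hu⟩ := ha; obtain ⟨s', u', hs', hu'⟩ := hc
      refine ⟨s * s', u * ((1 : k') ⊗ₜ s') + u' * ((1 : k') ⊗ₜ s), by rw [map_mul]; exact mul_ne_zero hs hs', ?_⟩
      rw [map_add, map_mul ψ, map_mul ψ, ← hu, ← hu']
      simp only [ψ, Algebra.TensorProduct.map_tmul, AlgHom.id_apply, map_mul]
      rw [show ((1 : k') ⊗ₜ[k] (φ s * φ s')) = ((1 : k') ⊗ₜ[k] φ s) * ((1 : k') ⊗ₜ[k] φ s') by
        rw [Algebra.TensorProduct.tmul_mul_tmul, one_mul]]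
      ring
  have : NoZeroDivisors (k' ⊗[k] K) := ⟨fun {a b} hab => by
    obtain ⟨s, u, hs, hu⟩ := hscale a
    obtain ⟨s', u', hs', hu'⟩ := hscale b
    have h0 : u * u' = 0 := hψ (by
      rw [map_mul, ← hu, ← hu', map_zero, mul_mul_mul_comm, hab, zero_mul])
    rcases mul_eq_zero.1 h0 with h | h
    · left
      rw [h, map_zero] at hu
      exact (hunit _ hs).mul_left_eq_zero.1 hu
    · right
      rw [h, map_zero] at hu'
      exact (hunit _ hs').mul_left_eq_zero.1 hu'⟩
  exact NoZeroDivisors.to_isDomain _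

/-- A domain finite over the field is a field. -/
theorem isField_tensor_of_isDomain {k k' K : Type*} [Field k] [Field k'] [Algebra k k']
    [FiniteDimensional k k'] [Field K] [Algebra k K] [IsDomain (k' ⊗[k] K)] : IsField (k' ⊗[k] K) := by
  let e := Algebra.TensorProduct.comm k K k'
  have : IsDomain (K ⊗[k] k') := e.injective.isDomain e.toRingHom
  have : Algebra.IsIntegral K (K ⊗[k] k') := Algebra.IsIntegral.of_finite K _
  exact e.symm.toRingEquiv.toMulEquiv.isField
    (isField_of_isIntegral_of_isField' (R := K) (Field.toIsField K))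

theorem irreducible_map_of_closed {k K : Type*} [Field k] [Field K] [Algebra k K]
    (hcl : ∀ y : K, IsAlgebraic k y → y ∈ Set.range (algebraMap k K)) {f : k[X]} (hf : f.Monic)
    (hirr : Irreducible f) : Irreducible (f.map (algebraMap k K)) := by
  have hu : ¬ IsUnit (f.map (algebraMap k K)) := fun hu => hirr.not_isUnit
    ((isUnit_map (algebraMap k K)).1 hu)
  obtain ⟨g, hgm, hgi, hgd⟩ := exists_monic_irreducible_factor _ hu
  have hlift : g ∈ Polynomial.lifts (algebraMap k K) := by
    rw [Polynomial.lifts_iff_coeff_lifts]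
    intro i
    exact hcl _ (Polynomial.isIntegral_coeff_of_dvd _ _ hf hgm hgd i).isAlgebraic
  obtain ⟨g₀, hg₀, -, hg₀m⟩ := Polynomial.lifts_and_degree_eq_and_monic hlift hgm
  have hdvd : g₀ ∣ f := (Polynomial.map_dvd_map' (algebraMap k K)).1 (hg₀ ▸ hgd)
  have hg₀u : ¬ IsUnit g₀ := fun h => hgi.not_isUnit (hg₀ ▸ h.map (Polynomial.mapRingHom _))
  have hass : Associated g₀ f := (hirr.dvd_iff.1 hdvd).resolve_left hg₀u |>.symm
  rw [eq_of_monic_of_associated hf hg₀m hass.symm, hg₀]
  exact hgi

theorem isReduced_tensor_of_separable {k k' L K : Type*} [Field k] [Field k'] [Algebra k k']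
    [FiniteDimensional k k'] [Field L] [Algebra k L] [Field K] [Algebra k K] [Algebra L K]
    [IsScalarTower k L K] [FiniteDimensional L K] [Algebra.IsSeparable L K] [IsDomain (k' ⊗[k] L)] :
    IsReduced (K ⊗[k] k') := by
  have : IsDomain (L ⊗[k] k') :=
    (Algebra.TensorProduct.comm k L k').injective.isDomain (Algebra.TensorProduct.comm k L k').toRingHom
  let Fr := FractionRing (L ⊗[k] k')
  have : Algebra.FormallyUnramified L K := Algebra.FormallyUnramified.of_isSeparable L K
  have : IsReduced (Fr ⊗[L] K) := Algebra.FormallyUnramified.isReduced_of_field Fr _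
  let ε : (L ⊗[k] k') ⊗[L] K →ₐ[L] Fr ⊗[L] K :=
    Algebra.TensorProduct.map (IsScalarTower.toAlgHom L (L ⊗[k] k') Fr) (AlgHom.id L K)
  have hε : Function.Injective ε :=
    Module.Flat.rTensor_preserves_injective_linearMap (M := K)
      (IsScalarTower.toAlgHom L (L ⊗[k] k') Fr).toLinearMap (IsFractionRing.injective _ Fr)
  have : IsReduced ((L ⊗[k] k') ⊗[L] K) := isReduced_of_injective ε hε
  let e : ((L ⊗[k] k') ⊗[L] K) ≃+* (K ⊗[k] k') :=
    (Algebra.TensorProduct.comm L (L ⊗[k] k') K).toRingEquiv.trans
      (Algebra.TensorProduct.cancelBaseChange k L K K k').toRingEquiv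
  exact isReduced_of_injective e.symm e.symm.injective

theorem isField_tensor_of_separable_closed {k K S : Type*} [Field k] [Field K] [Algebra k K]
    [Field S] [Algebra k S] [FiniteDimensional k S] [Algebra.IsSeparable k S]
    (hcl : ∀ y : K, IsAlgebraic k y → y ∈ Set.range (algebraMap k K)) : IsField (K ⊗[k] S) := by
  obtain ⟨α, hα⟩ := Field.exists_primitive_element k S
  have hαi : IsIntegral k α := Algebra.IsIntegral.isIntegral α
  have : Fact (Irreducible ((minpoly k α).map (algebraMap k K))) :=
    ⟨irreducible_map_of_closed hcl (minpoly.monic hαi) (minpoly.irreducible hαi)⟩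
  let θ : K ⊗[k] S := (1 : K) ⊗ₜ α
  have hθ : aeval θ ((minpoly k α).map (algebraMap k K)) = 0 := by
    rw [aeval_map_algebraMap]
    change aeval (Algebra.TensorProduct.includeRight (R := k) (A := K) α) _ = 0
    rw [aeval_algHom_apply, minpoly.aeval, map_zero]
  let ev := AdjoinRoot.liftAlgHom ((minpoly k α).map (algebraMap k K)) (Algebra.ofId K (K ⊗[k] S)) θ (by exact hθ)
  have hsurj : Function.Surjective ev := by
    intro z
    induction z using TensorProduct.induction_on with
    | zero => exact ⟨0, map_zero _⟩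
    | tmul a c =>
      have hc : c ∈ Algebra.adjoin k ({α} : Set S) := by
        rw [← IntermediateField.adjoin_simple_toSubalgebra_of_isAlgebraic hαi.isAlgebraic, hα,
          IntermediateField.top_toSubalgebra]
        exact Algebra.mem_top
      obtain ⟨p, rfl⟩ := Algebra.adjoin_mem_exists_aeval k α hc
      refine ⟨algebraMap K _ a * aeval (AdjoinRoot.root _) p, ?_⟩
      rw [map_mul, AlgHom.commutes]
      change _ * (ev.restrictScalars k) (aeval (AdjoinRoot.root _) p) = _
      rw [← aeval_algHom_apply]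
      have hroot : (ev.restrictScalars k) (AdjoinRoot.root _) =
          Algebra.TensorProduct.includeRight (R := k) (A := K) α :=
        AdjoinRoot.liftAlgHom_root _ _ _ hθ
      rw [hroot, aeval_algHom_apply]
      simp
    | add a c ha hc =>
      obtain ⟨a', ha⟩ := ha; obtain ⟨c', hc⟩ := hc
      exact ⟨a' + c', by rw [map_add, ha, hc]⟩
  have : Nontrivial (K ⊗[k] S) :=
    (Algebra.TensorProduct.includeLeft_injective (R := k) (S := k) (A := K) (B := S)
      (algebraMap k S).injective).nontrivial
  exact (RingEquiv.ofBijective ev.toRingHom ⟨RingHom.injective _, hsurj⟩).symm.toMulEquiv.isField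
    (Field.toIsField (AdjoinRoot ((minpoly k α).map (algebraMap k K))))

/-- A separating element and closed constants give a geometric field. -/
theorem isGeometric_of_separable {k : Type u} {K : Type v} [Field k] [Field K] [Algebra k K]
    (hcl : ∀ y : K, IsAlgebraic k y → y ∈ Set.range (algebraMap k K)) {t : K} (ht : Transcendental k t)
    [FiniteDimensional k⟮t⟯ K] [Algebra.IsSeparable k⟮t⟯ K] : IsGeometric k K := by
  intro k' _ _ hfin
  set L := k⟮t⟯
  -- constants in the rational field
  let φ : k[X] →ₐ[k] L := Polynomial.aeval (AdjoinSimple.gen k t)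
  have hφt : ∀ q : k[X], ((φ q : L) : K) = aeval t q := fun q =>
    (aeval_algHom_apply L.val (AdjoinSimple.gen k t) q).symm
  have hφ : Function.Injective φ := fun a b hab => by
    refine transcendental_iff_injective.1 ht ?_
    change aeval t a = aeval t b
    rw [← hφt, ← hφt, hab]
  have : IsDomain (k' ⊗[k] k[X]) := (polyEquivTensor k k').symm.injective.isDomain
    (polyEquivTensor k k').symm.toRingHom
  have hdomF : IsDomain (k' ⊗[k] L) := by
    refine isDomain_tensor_of_fractions φ hφ fun z => ?_
    obtain ⟨r, s, hz⟩ := (IntermediateField.mem_adjoin_simple_iff k _).1 z.2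
    by_cases hs : aeval t s = 0
    · exact ⟨0, 1, by simp, Subtype.ext (by simp [hz, hs])⟩
    · refine ⟨r, s, fun e => hs (by rw [← hφt, e]; rfl), Subtype.ext ?_⟩
      change (z : K) * ((φ s : L) : K) = ((φ r : L) : K)
      rw [hφt, hφt, hz, div_mul_cancel₀ _ hs]
  have hF : IsField (L ⊗[k] k') :=
    (Algebra.TensorProduct.comm k L k').toRingEquiv.toMulEquiv.isField
      (isField_tensor_of_isDomain (K := L))
  have hred : IsReduced (K ⊗[k] k') := isReduced_tensor_of_separable (L := L)
  -- idempotents come from the separable part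
  obtain ⟨q, hq⟩ := ExpChar.exists k
  set S := separableClosure k k'
  let ι : K ⊗[k] S →ₐ[k] K ⊗[k] k' := Algebra.TensorProduct.map (AlgHom.id k K) S.val
  have hS : IsField (K ⊗[k] S) := isField_tensor_of_separable_closed hcl
  have : Nontrivial (K ⊗[k] k') :=
    (Algebra.TensorProduct.includeLeft_injective (R := k) (S := k) (A := K) (B := k')
      (algebraMap k k').injective).nontrivial
  have hexpA : ExpChar (K ⊗[k] k') q :=
    expChar_of_injective_algebraMap (algebraMap k (K ⊗[k] k')).injective q
  have hexpS : ExpChar S q := expChar_of_injective_algebraMap (algebraMap k S).injective q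
  have hpow : ∀ z : K ⊗[k] k', ∃ n : ℕ, z ^ q ^ n ∈ ι.range := by
    intro z
    induction z using TensorProduct.induction_on with
    | zero => exact ⟨0, 0, by simp⟩
    | tmul a c =>
      obtain ⟨n, s, hs⟩ := IsPurelyInseparable.pow_mem S q c
      refine ⟨n, (a ^ q ^ n) ⊗ₜ s, ?_⟩
      simp only [ι, Algebra.TensorProduct.tmul_pow, AlgHom.toRingHom_eq_coe, RingHom.coe_coe,
        Algebra.TensorProduct.map_tmul, AlgHom.id_apply]
      rw [← hs]
      rfl
    | add a c ha hc =>
      obtain ⟨n, hn⟩ := ha; obtain ⟨m, hm⟩ := hc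
      refine ⟨n + m, ?_⟩
      rw [add_pow_expChar_pow]
      refine add_mem ?_ ?_
      · rw [pow_add, pow_mul]; exact pow_mem hn _
      · rw [add_comm n m, pow_add, pow_mul]; exact pow_mem hm _
  have hidem : ∀ e : K ⊗[k] k', e * e = e → e = 0 ∨ e = 1 := by
    intro e he
    obtain ⟨n, w, hw⟩ := hpow e
    have hen : e ^ q ^ n = e := (IsIdempotentElem.pow_eq he (pow_ne_zero _ (expChar_pos k q).ne'))
    rw [hen] at hw
    change ι w = e at hw
    have hι : Function.Injective ι :=
      Module.Flat.lTensor_preserves_injective_linearMap (M := K) S.val.toLinearMap Subtype.val_injective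
    let _ : Field (K ⊗[k] S) := hS.toField
    have : w * w = w := hι (by rw [map_mul, hw, he])
    rcases eq_or_ne w 0 with h0 | h0
    · exact Or.inl (by rw [← hw, h0, map_zero])
    · exact Or.inr (by rw [← hw, mul_eq_left₀ h0 |>.1 this, map_one])
  -- an Artinian reduced ring without idempotents
  have hfield : IsField (K ⊗[k] k') := by
    refine ⟨⟨0, 1, zero_ne_one⟩, mul_comm, fun {x} hx => ?_⟩
    have : IsArtinianRing (K ⊗[k] k') := IsArtinianRing.of_finite K _
    obtain ⟨n, y, hy⟩ := IsArtinian.exists_pow_succ_smul_dvd x (1 : K ⊗[k] k')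
    simp only [smul_eq_mul, mul_one] at hy
    have hrep : ∀ m : ℕ, x ^ n = x ^ (n + m) * y ^ m := by
      intro m
      induction m with
      | zero => simp
      | succ m ih =>
        calc x ^ n = x ^ (n + m) * y ^ m := ih
          _ = x ^ m * x ^ n * y ^ m := by ring
          _ = x ^ m * (x ^ n.succ * y) * y ^ m := by rw [hy]
          _ = x ^ (n + (m + 1)) * y ^ (m + 1) := by rw [Nat.succ_eq_add_one]; ring
    have he : (x ^ (n + 1) * y ^ (n + 1)) * (x ^ (n + 1) * y ^ (n + 1)) = x ^ (n + 1) * y ^ (n + 1) := by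
      calc (x ^ (n + 1) * y ^ (n + 1)) * (x ^ (n + 1) * y ^ (n + 1))
          = x ^ (n + (n + 1)) * y ^ (n + 1) * (x * y ^ (n + 1)) := by ring
        _ = x ^ n * (x * y ^ (n + 1)) := by rw [← hrep]
        _ = x ^ (n + 1) * y ^ (n + 1) := by ring
    rcases hidem _ he with h0 | h1
    · exfalso
      have hxn : x ^ (n + 1) = 0 := by
        calc x ^ (n + 1) = x * x ^ n := by ring
          _ = x * (x ^ (n + (n + 1)) * y ^ (n + 1)) := by rw [← hrep]
          _ = x ^ (n + 1) * (x ^ (n + 1) * y ^ (n + 1)) := by ring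
          _ = 0 := by rw [h0, mul_zero]
      exact hx ((IsNilpotent.mk _ _ hxn).eq_zero)
    · exact ⟨x ^ n * y ^ (n + 1), by rw [← h1]; ring⟩
  exact (Algebra.TensorProduct.comm k k' K).toRingEquiv.toMulEquiv.isField hfield

theorem isGeometric_separable_extension {k k' : Type u} {K K' : Type v} [Field k] [Field k'] [Field K] [Field K']
    [Algebra k k'] [Algebra k K] [Algebra K K'] [Algebra k' K'] [Algebra k K']
    [IsScalarTower k k' K'] [IsScalarTower k K K'] [FiniteDimensional K K'] [Algebra.IsSeparable K K']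
    (hK' : IsFunctionField k' K') {t : K} (ht : Transcendental k t) [FiniteDimensional k⟮t⟯ K]
    [Algebra.IsSeparable k⟮t⟯ K] : IsGeometric k' K' := by
  set t' := algebraMap K K' t
  let M := k⟮t⟯
  have hfinM : FiniteDimensional M K' := Module.Finite.trans K K'
  have hsepM : Algebra.IsSeparable M K' := Algebra.IsSeparable.trans M K K'
  set L' := k'⟮t'⟯
  have hle : ∀ c ∈ k⟮t⟯, algebraMap K K' c ∈ L' := by
    have hle : k⟮t⟯ ≤ (L'.restrictScalars k).comap (IsScalarTower.toAlgHom k K K') := by
      rw [IntermediateField.adjoin_simple_le_iff]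
      exact IntermediateField.mem_adjoin_simple_self k' t'
    exact fun c hc => hle hc
  let g : M →+* L' := ((algebraMap K K').comp (algebraMap M K)).codRestrict L' fun c => hle _ c.2
  let _ : Algebra M L' := g.toAlgebra
  let _ : Module M L' := Algebra.toModule
  let _ : SMul M L' := Algebra.toSMul
  have : IsScalarTower M L' K' := IsScalarTower.of_algebraMap_eq fun _ => rfl
  have : FiniteDimensional L' K' := Module.Finite.of_restrictScalars_finite M L' K'
  have : Algebra.IsSeparable L' K' := Algebra.isSeparable_tower_top_of_isSeparable M L' K'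
  have ht' : Transcendental k' t' := fun ha => by
    obtain ⟨c, hc⟩ := hK'.2 t' ha
    obtain ⟨x, hx, hfx⟩ := hK'.1
    refine hx ?_
    have hbot : L' ≤ ⊥ := by
      rw [IntermediateField.adjoin_simple_le_iff]
      exact IntermediateField.mem_bot.2 ⟨c, hc⟩
    have : Algebra.IsAlgebraic L' K' := Algebra.IsAlgebraic.of_finite L' K'
    have hL : Algebra.IsAlgebraic k' L' := by
      refine ⟨fun a => ?_⟩
      obtain ⟨b, hb⟩ := IntermediateField.mem_bot.1 (hbot a.2)
      rw [show a = algebraMap k' L' b from Subtype.ext hb.symm]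
      exact isAlgebraic_algebraMap b
    exact (Algebra.IsAlgebraic.trans k' L' K').isAlgebraic x
  exact isGeometric_of_separable hK'.2 ht'

end Groth.Agent.FF30
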