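import Groth.Agent.FF30.Riemann
import Mathlib.LinearAlgebra.Dual.Lemmas

/-! Weil differentials and the theorem of Riemann-Roch. -/

open FunFld WithZero IntermediateField
open scoped Multiplicative

namespace Groth.Agent.FF30

variable {k K : Type*} [Field k] [Field K] [Algebra k K]

theorem AD_sup' (D₁ D₂ : Divisor k K) : AD (D₁ ⊔ D₂) = AD D₁ ⊔ AD D₂ := by
  classical
  refine le_antisymm (fun a ha => ?_) (sup_le (AD_mono le_sup_left) (AD_mono le_sup_right))
  refine Submodule.mem_sup.mpr ⟨fun P => if D₂ P ≤ D₁ P then a P else 0, fun P => ?_,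
    fun P => if D₂ P ≤ D₁ P then 0 else a P, fun P => ?_, funext fun P => ?_⟩
  · dsimp only
    split
    · rename_i hle
      have := ha P
      rwa [Finsupp.sup_apply, max_eq_left hle] at this
    · simp
  · dsimp only
    split
    · simp
    · rename_i hle
      have := ha P
      rwa [Finsupp.sup_apply, max_eq_right (le_of_not_ge hle)] at this
  · simp only [Pi.add_apply]
    split <;> simp

theorem mem_WD_iff {D : Divisor k K} {ω : Module.Dual k (adele k K)} :
    ω ∈ WD D ↔ ∀ a : adele k K,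
      (a : Place k K → K) ∈ AD D ⊔ LinearMap.range (diag k K) → ω a = 0 :=
  Submodule.mem_dualAnnihilator ω

theorem WD_anti {D₁ D₂ : Divisor k K} (h : D₁ ≤ D₂) : WD D₂ ≤ (WD D₁ : Submodule k _) :=
  fun _ hω => mem_WD_iff.mpr fun a ha => mem_WD_iff.mp hω a (sup_le_sup_right (AD_mono h) _ ha)

theorem WD_sup {D₁ D₂ : Divisor k K} {ω : Module.Dual k (adele k K)} (h₁ : ω ∈ WD D₁)
    (h₂ : ω ∈ WD D₂) : ω ∈ WD (D₁ ⊔ D₂) := by
  rw [mem_WD_iff]
  intro a ha
  obtain ⟨b, hb, r, hr, hab⟩ := Submodule.mem_sup.mp ha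
  rw [AD_sup'] at hb
  obtain ⟨b₁, hb₁, b₂, hb₂, rfl⟩ := Submodule.mem_sup.mp hb
  have hb1A : b₁ ∈ adele k K := AD_le_adele _ hb₁
  have hrest : b₂ + r ∈ adele k K := by
    have : (a : Place k K → K) - b₁ = b₂ + r := by rw [← hab]; abel
    rw [← this]
    exact sub_mem a.2 hb1A
  have heq : a = (⟨b₁, hb1A⟩ : adele k K) + ⟨b₂ + r, hrest⟩ :=
    Subtype.ext (by rw [Submodule.coe_add, ← hab]; abel)
  rw [heq, map_add, mem_WD_iff.mp h₁ _ (Submodule.mem_sup_left hb₁),
    mem_WD_iff.mp h₂ _ (Submodule.add_mem_sup hb₂ hr), add_zero]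

theorem finite_WD (h : IsFunctionField k K) (D : Divisor k K) :
    FiniteDimensional k (WD D) ∧ (Module.finrank k (WD D) : ℤ) = (genus k K : ℤ) - delta D := by
  obtain ⟨h1, h2⟩ := adele_quotient_ADK h D
  have e := Submodule.dualQuotEquivDualAnnihilator (R := k) (ADK D)
  refine ⟨Module.Finite.equiv e, ?_⟩
  rw [← h2, WD, ← e.finrank_eq, Subspace.dual_finrank_eq]

theorem WD_eq_bot_of_delta (h : IsFunctionField k K) {D : Divisor k K}
    (hD : delta D = genus k K) : (WD D : Submodule k _) = ⊥ := by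
  obtain ⟨h1, h2⟩ := finite_WD h D
  exact Submodule.finrank_eq_zero.mp (by omega)

theorem FF.eq_of_le_of_deg_le (h : FF k K) {D E : Divisor k K} (hle : D ≤ E)
    (hdeg : E.deg ≤ D.deg) : D = E := by
  classical
  refine Finsupp.ext fun P => ?_
  by_contra hne
  have hlt : D P < E P := lt_of_le_of_ne (hle P) hne
  have h1 : D + Finsupp.single P 1 ≤ E := fun Q => by
    rw [Finsupp.add_apply, Finsupp.single_apply]
    have := hle Q
    split
    · rename_i hQ; subst hQ; omega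
    · omega
  have := deg_mono h1
  rw [deg_add, deg_single] at this
  have := h.deg_pos P
  omega

theorem exists_isDivOf' (h : IsFunctionField k K) {ω : Module.Dual k (adele k K)}
    (hω : IsWeil ω) (h0 : ω ≠ 0) : ∃ C : Divisor k K, IsDivOf ω C := by
  have hF : FF k K := h.1
  obtain ⟨D₀, hD₀⟩ := hω
  obtain ⟨N, hN⟩ := exists_delta_eq_genus_of_deg_ge h
  have hbound : ∀ E, ω ∈ WD E → E.deg < N := by
    intro E hE
    by_contra hge
    rw [WD_eq_bot_of_delta h (hN E (not_lt.mp hge))] at hE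
    exact h0 ((Submodule.mem_bot k).mp hE)
  obtain ⟨d, ⟨C, hC, rfl⟩, hmax⟩ := Int.exists_greatest_of_bdd
    (P := fun d => ∃ E : Divisor k K, ω ∈ WD E ∧ E.deg = d)
    ⟨N, fun d ⟨E, hE, hd⟩ => hd ▸ (hbound E hE).le⟩ ⟨_, D₀, hD₀, rfl⟩
  refine ⟨C, fun E => ⟨fun hE => ?_, fun hE => WD_anti hE hC⟩⟩
  have := hF.eq_of_le_of_deg_le (le_sup_left : C ≤ C ⊔ E) (hmax _ ⟨_, WD_sup hC hE, rfl⟩)
  rw [this]
  exact le_sup_right

theorem FF.smul_mem_adele (h : FF k K) (x : K) (a : Place k K → K) (ha : a ∈ adele k K) :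
    x • a ∈ adele k K := by
  change ∀ᶠ P : Place k K in Filter.cofinite, P.1 ((x • a) P) ≤ 1
  have h1 : ∀ᶠ P : Place k K in Filter.cofinite, P.1 x ≤ 1 :=
    h.range_diag_le_adele ⟨x, rfl⟩
  have h2 : ∀ᶠ P : Place k K in Filter.cofinite, P.1 (a P) ≤ 1 := ha
  refine (h1.and h2).mono fun P hP => ?_
  rw [Pi.smul_apply, smul_eq_mul, map_mul]
  exact mul_le_one' hP.1 hP.2

theorem mulW_apply (x : K) (hx : ∀ a ∈ adele k K, x • a ∈ adele k K)
    (ω : Module.Dual k (adele k K)) (a : adele k K) :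
    mulW x hx ω a = ω ⟨x • (a : Place k K → K), hx a a.2⟩ := rfl

theorem mulW_mem (x : K) (hx : ∀ a ∈ adele k K, x • a ∈ adele k K) {C E : Divisor k K}
    (hE : ∀ (P : Place k K) (z : K), P.1 z ≤ exp (E P) → P.1 (x * z) ≤ exp (C P))
    {ω : Module.Dual k (adele k K)} (hω : ω ∈ WD C) : mulW x hx ω ∈ WD E := by
  rw [mem_WD_iff]
  intro a ha
  rw [mulW_apply]
  refine mem_WD_iff.mp hω _ ?_
  change x • (a : Place k K → K) ∈ _
  obtain ⟨b, hb, r, ⟨f, rfl⟩, hab⟩ := Submodule.mem_sup.mp ha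
  rw [← hab, smul_add]
  exact Submodule.add_mem_sup (fun P => hE P (b P) (hb P)) ⟨x * f, rfl⟩

theorem mulW_mem_WD' {C D : Divisor k K} {x : K} (hxD : x ∈ L D)
    (hx : ∀ a ∈ adele k K, x • a ∈ adele k K) {ω : Module.Dual k (adele k K)} (hω : ω ∈ WD C) :
    mulW x hx ω ∈ WD (C - D) := by
  refine mulW_mem x hx (fun P z hz => ?_) hω
  rw [Finsupp.sub_apply] at hz
  rw [map_mul]
  exact (mul_le_mul' (hxD P) hz).trans_eq (by rw [← exp_add, add_sub_cancel])

theorem mulW_one (hx : ∀ a ∈ adele k K, (1 : K) • a ∈ adele k K) (ω : Module.Dual k (adele k K)) :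
    mulW 1 hx ω = ω :=
  LinearMap.ext fun a => congrArg ω (Subtype.ext (one_smul K _))

theorem mulW_mulW {x y : K} (hx : ∀ a ∈ adele k K, x • a ∈ adele k K)
    (hy : ∀ a ∈ adele k K, y • a ∈ adele k K) (hxy : ∀ a ∈ adele k K, (x * y) • a ∈ adele k K)
    (ω : Module.Dual k (adele k K)) : mulW y hy (mulW x hx ω) = mulW (x * y) hxy ω :=
  LinearMap.ext fun _ => congrArg ω (Subtype.ext (smul_smul x y _))

theorem mulW_congr {x y : K} (h : x = y) (hx : ∀ a ∈ adele k K, x • a ∈ adele k K)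
    (hy : ∀ a ∈ adele k K, y • a ∈ adele k K) (ω : Module.Dual k (adele k K)) :
    mulW x hx ω = mulW y hy ω := by subst h; rfl

theorem mulW_eq_zero (h : FF k K) {x : K} (hx0 : x ≠ 0)
    (hx : ∀ a ∈ adele k K, x • a ∈ adele k K) {ω : Module.Dual k (adele k K)}
    (hω : mulW x hx ω = 0) : ω = 0 := by
  refine LinearMap.ext fun a => ?_
  have := LinearMap.congr_fun hω ⟨x⁻¹ • (a : Place k K → K), h.smul_mem_adele _ _ a.2⟩
  rw [mulW_apply] at this
  refine Eq.trans (congrArg ω (Subtype.ext ?_)) this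
  change (a : Place k K → K) = x • x⁻¹ • (a : Place k K → K)
  rw [smul_smul, mul_inv_cancel₀ hx0, one_smul]

theorem isDivOf_mulW' (h : FF k K) {x : K} (hx0 : x ≠ 0)
    (hx : ∀ a ∈ adele k K, x • a ∈ adele k K) {ω : Module.Dual k (adele k K)} {C : Divisor k K}
    (hω : IsDivOf ω C) : IsDivOf (mulW x hx ω) (C + div k x) := by
  intro E
  constructor
  · intro hE
    have h1 := mulW_mem x⁻¹ (h.smul_mem_adele _) (E := E - div k x) (fun P z hz => ?_) hE
    · rw [mulW_mulW hx _ (h.smul_mem_adele _), mulW_congr (mul_inv_cancel₀ hx0) _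
        (h.smul_mem_adele _), mulW_one, hω] at h1
      exact sub_le_iff_le_add.mp h1
    · rw [Finsupp.sub_apply, h.div_apply] at hz
      rw [map_mul, map_inv₀, val_eq P hx0, ← exp_neg, neg_neg]
      exact (mul_le_mul' le_rfl hz).trans_eq (by rw [← exp_add, add_sub_cancel])
  · intro hE
    refine WD_anti hE (mulW_mem x hx (fun P z hz => ?_) ((hω C).mpr le_rfl))
    rw [Finsupp.add_apply, h.div_apply] at hz
    rw [map_mul, val_eq P hx0]
    exact (mul_le_mul' le_rfl hz).trans_eq (by rw [← exp_add]; congr 1; ring)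

/-- `x ↦ xω`. -/
noncomputable def FF.mulWL (h : FF k K) (D : Divisor k K) (ω : Module.Dual k (adele k K)) :
    L D →ₗ[k] Module.Dual k (adele k K) where
  toFun x := mulW (x : K) (h.smul_mem_adele x) ω
  map_add' x y := LinearMap.ext fun a => by
    rw [LinearMap.add_apply, mulW_apply, mulW_apply, mulW_apply, ← map_add]
    exact congrArg ω (Subtype.ext (add_smul (x : K) (y : K) (a : Place k K → K)))
  map_smul' c x := LinearMap.ext fun a => by
    rw [RingHom.id_apply, LinearMap.smul_apply, mulW_apply, mulW_apply, ← map_smul]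
    exact congrArg ω (Subtype.ext (smul_assoc c (x : K) (a : Place k K → K)))

theorem FF.mulWL_injective (h : FF k K) (D : Divisor k K) {ω : Module.Dual k (adele k K)}
    (h0 : ω ≠ 0) : Function.Injective (h.mulWL D ω) := by
  rw [injective_iff_map_eq_zero]
  intro x hx
  by_contra hne
  exact h0 (mulW_eq_zero h (fun e => hne (Subtype.ext e)) (h.smul_mem_adele _) hx)

theorem exists_mulW_eq' (h : IsFunctionField k K) {ω₁ ω₂ : Module.Dual k (adele k K)}
    (h₁ : IsWeil ω₁) (h0 : ω₁ ≠ 0) (h₂ : IsWeil ω₂) :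
    ∃ (x : K) (hx : ∀ a ∈ adele k K, x • a ∈ adele k K), mulW x hx ω₁ = ω₂ := by
  classical
  have hF : FF k K := h.1
  rcases eq_or_ne ω₂ 0 with rfl | h02
  · refine ⟨0, hF.smul_mem_adele 0, LinearMap.ext fun a => ?_⟩
    rw [mulW_apply, LinearMap.zero_apply]
    exact (congrArg ω₁ (Subtype.ext (zero_smul K _))).trans (map_zero ω₁)
  obtain ⟨D₁, hD₁⟩ := h₁
  obtain ⟨D₂, hD₂⟩ := h₂
  obtain ⟨P⟩ := hF.nonempty_place
  obtain ⟨m, hm⟩ : ∃ m : ℕ, 3 * (genus k K : ℤ) - D₁.deg - D₂.deg + 2 < (m : ℤ) :=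
    ⟨(3 * (genus k K : ℤ) - D₁.deg - D₂.deg + 2).natAbs + 1, by omega⟩
  set B : Divisor k K := Finsupp.single P (m + 1 : ℤ) with hB
  have hBdeg : (m : ℤ) + 1 ≤ B.deg := by
    rw [hB, deg_single]
    exact le_mul_of_one_le_right (by omega) (by exact_mod_cast hF.deg_pos P)
  obtain ⟨hWfin, hWdim⟩ := finite_WD h (-B)
  have hLB : ell (-B) = 0 := by
    rw [ell, hF.L_eq_bot_of_deg_neg (by rw [deg_neg]; omega), finrank_bot]
  rw [delta, deg_neg, hLB] at hWdim
  have hmem : ∀ (D : Divisor k K) (ω : Module.Dual k (adele k K)), ω ∈ WD D →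
      ∀ x : L (D + B), hF.mulWL (D + B) ω x ∈ WD (-B) := fun D ω hω x => by
    have := mulW_mem_WD' x.2 (hF.smul_mem_adele _) hω
    rwa [show D - (D + B) = -B by abel] at this
  have hsub : ∀ (D : Divisor k K) (ω : Module.Dual k (adele k K)), ω ∈ WD D →
      LinearMap.range (hF.mulWL (D + B) ω) ≤ WD (-B) := fun D ω hω => by
    rintro _ ⟨x, rfl⟩
    exact hmem D ω hω x
  set R₁ : Submodule k (Module.Dual k (adele k K)) := LinearMap.range (hF.mulWL (D₁ + B) ω₁)
  set R₂ : Submodule k (Module.Dual k (adele k K)) := LinearMap.range (hF.mulWL (D₂ + B) ω₂)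
  have hne : R₁ ⊓ R₂ ≠ ⊥ := by
    intro hbot
    have := hF.finite_L (D₁ + B)
    have := hF.finite_L (D₂ + B)
    have h3 := Submodule.finrank_sup_add_finrank_inf_eq R₁ R₂
    rw [hbot, finrank_bot, add_zero,
      LinearMap.finrank_range_of_inj (hF.mulWL_injective (D₁ + B) h0),
      LinearMap.finrank_range_of_inj (hF.mulWL_injective (D₂ + B) h02)] at h3
    have h4 := Submodule.finrank_mono (sup_le (hsub D₁ ω₁ hD₁) (hsub D₂ ω₂ hD₂))
    have h7 : Module.finrank k (L (D₁ + B)) + Module.finrank k (L (D₂ + B)) ≤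
        Module.finrank k (WD (-B) : Submodule k (Module.Dual k (adele k K))) := le_trans h3.ge h4
    have h5 := hF.delta_le_genus (D₁ + B)
    have h6 := hF.delta_le_genus (D₂ + B)
    rw [delta, deg_add] at h5 h6
    simp only [ell] at h5 h6
    omega
  obtain ⟨w, hw, hw0⟩ := Submodule.exists_mem_ne_zero_of_ne_bot hne
  obtain ⟨⟨x₁, hx₁⟩, ⟨x₂, hx₂⟩⟩ := Submodule.mem_inf.mp hw
  have hne2 : (x₂ : K) ≠ 0 := by
    intro e
    exact hw0 (by rw [← hx₂, show x₂ = 0 from Subtype.ext e, map_zero])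
  refine ⟨(x₁ : K) * (x₂ : K)⁻¹, hF.smul_mem_adele _, ?_⟩
  have e : mulW (x₁ : K) (hF.smul_mem_adele _) ω₁ = mulW (x₂ : K) (hF.smul_mem_adele _) ω₂ :=
    hx₁.trans hx₂.symm
  rw [← mulW_mulW (hF.smul_mem_adele (x₁ : K)) (hF.smul_mem_adele (x₂ : K)⁻¹), e,
    mulW_mulW _ _ (hF.smul_mem_adele _), mulW_congr (mul_inv_cancel₀ hne2) _ (hF.smul_mem_adele _),
    mulW_one]

theorem mem_L_sub_of_mulW (h : FF k K) {ω : Module.Dual k (adele k K)} {C D : Divisor k K}
    (hω : IsDivOf ω C) {x : K} (hx : ∀ a ∈ adele k K, x • a ∈ adele k K)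
    (hxD : mulW x hx ω ∈ WD D) : x ∈ L (C - D) := by
  rcases eq_or_ne x 0 with rfl | hx0
  · exact Submodule.zero_mem _
  rw [mem_L_iff_ord hx0]
  intro P
  have := ((isDivOf_mulW' h hx0 hx hω) D).mp hxD P
  rw [Finsupp.add_apply, h.div_apply] at this
  rw [Finsupp.sub_apply]
  omega

theorem exists_isCanonical (h : IsFunctionField k K) : ∃ C : Divisor k K, IsCanonical k K C := by
  have hF : FF k K := h.1
  obtain ⟨P⟩ := hF.nonempty_place
  set D : Divisor k K := Finsupp.single P (-2 : ℤ) with hD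
  have hdeg : D.deg ≤ -2 := by
    rw [hD, deg_single]
    have : (1 : ℤ) ≤ (P.deg : ℤ) := by exact_mod_cast hF.deg_pos P
    omega
  obtain ⟨hfin, hdim⟩ := finite_WD h D
  have hL : ell D = 0 := by rw [ell, hF.L_eq_bot_of_deg_neg (by omega), finrank_bot]
  rw [delta, hL] at hdim
  have hne : (WD D : Submodule k _) ≠ ⊥ := fun e => by
    rw [e, finrank_bot] at hdim; omega
  obtain ⟨ω, hω, h0⟩ := Submodule.exists_mem_ne_zero_of_ne_bot hne
  obtain ⟨C, hC⟩ := exists_isDivOf' h ⟨D, hω⟩ h0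
  exact ⟨C, ω, h0, hC⟩

theorem WD_eq_range (h : IsFunctionField k K) {ω : Module.Dual k (adele k K)} {C : Divisor k K}
    (hω : IsDivOf ω C) (h0 : ω ≠ 0) (D : Divisor k K) :
    (WD D : Submodule k _) = LinearMap.range ((FF.of_isFunctionField h).mulWL (C - D) ω) := by
  have hF : FF k K := h.1
  refine le_antisymm (fun ω' hω' => ?_) ?_
  · obtain ⟨x, hx, hxe⟩ := exists_mulW_eq' h ⟨C, (hω C).mpr le_rfl⟩ h0 ⟨D, hω'⟩
    exact ⟨⟨x, mem_L_sub_of_mulW hF hω hx (hxe.symm ▸ hω')⟩, hxe⟩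
  · rintro _ ⟨x, rfl⟩
    have := mulW_mem_WD' x.2 (hF.smul_mem_adele _) ((hω C).mpr le_rfl)
    rwa [sub_sub_cancel] at this

theorem riemann_roch' (h : IsFunctionField k K) {C : Divisor k K} (hC : IsCanonical k K C)
    (D : Divisor k K) : (ell D : ℤ) = D.deg + 1 - genus k K + ell (C - D) := by
  obtain ⟨ω, h0, hω⟩ := hC
  have hF : FF k K := h.1
  have h2 := (finite_WD h D).2
  rw [WD_eq_range h hω h0 D, LinearMap.finrank_range_of_inj (hF.mulWL_injective _ h0), delta] at h2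
  unfold ell at h2 ⊢
  omega

theorem ell_canonical (h : IsFunctionField k K) {C : Divisor k K} (hC : IsCanonical k K C) :
    ell C = genus k K := by
  have := riemann_roch' h hC 0
  rw [ell_zero h, deg_zero, sub_zero] at this
  omega

theorem deg_canonical (h : IsFunctionField k K) {C : Divisor k K} (hC : IsCanonical k K C) :
    C.deg = 2 * (genus k K : ℤ) - 2 := by
  have h1 := riemann_roch' h hC C
  rw [sub_self, ell_zero h, ell_canonical h hC] at h1
  omega

theorem ell_eq_of_deg_gt (h : IsFunctionField k K) {D : Divisor k K}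
    (hD : 2 * (genus k K : ℤ) - 1 ≤ D.deg) : (ell D : ℤ) = D.deg + 1 - genus k K := by
  have hF : FF k K := h.1
  obtain ⟨C, hC⟩ := exists_isCanonical h
  have h1 := riemann_roch' h hC D
  have h2 : ell (C - D) = 0 := by
    rw [ell, hF.L_eq_bot_of_deg_neg (by rw [deg_sub, deg_canonical h hC]; omega), finrank_bot]
  omega

end Groth.Agent.FF30
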