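import Groth.Agent.FF30.QuadraticRat
import Groth.Agent.FF30.AlgClosed
import Mathlib.FieldTheory.Perfect

/-! Artin-Schreier extensions of the rational function field in characteristic two. -/

open FunFld WithZero Polynomial
open scoped Multiplicative

namespace Groth.Agent.FF30

variable {k K : Type*} [Field k] [Field K] [Algebra k K] [Algebra (RatFunc k) K]
  [IsScalarTower k (RatFunc k) K]

theorem charP_two (h2 : ringChar k = 2) : CharP k 2 := h2 ▸ ringChar.charP k

theorem charP_two_ratFunc (h2 : ringChar k = 2) : CharP (RatFunc k) 2 :=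
  have := charP_two h2
  charP_of_injective_algebraMap (algebraMap k (RatFunc k)).injective 2

theorem charP_two_top (h2 : ringChar k = 2) : CharP K 2 :=
  have := charP_two_ratFunc h2
  charP_of_injective_algebraMap (algebraMap (RatFunc k) K).injective 2

omit [Algebra k K] [IsScalarTower k (RatFunc k) K] in
theorem exists_artin_schreier (h2 : ringChar k = 2) (hdeg : Module.finrank (RatFunc k) K = 2)
    [Algebra.IsSeparable (RatFunc k) K] :
    ∃ (y : K) (f : RatFunc k), y ^ 2 + y = algebraMap (RatFunc k) K f ∧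
      IntermediateField.adjoin (RatFunc k) ({y} : Set K) = ⊤ := by
  have := finite_of_finrank_two hdeg
  have hc := charP_two_ratFunc h2
  have hcK : CharP K 2 := charP_of_injective_algebraMap (algebraMap (RatFunc k) K).injective 2
  obtain ⟨z, hz⟩ : ∃ z : K, z ∉ Set.range (algebraMap (RatFunc k) K) := by
    by_contra hcon
    push Not at hcon
    have h1 : (⊥ : Subalgebra (RatFunc k) K) = ⊤ :=
      eq_top_iff.mpr fun z _ => Algebra.mem_bot.mpr (hcon z)
    rw [Subalgebra.bot_eq_top_iff_finrank_eq_one] at h1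
    omega
  have hint : IsIntegral (RatFunc k) z := IsIntegral.of_finite _ z
  have hd2 : (minpoly (RatFunc k) z).natDegree = 2 :=
    le_antisymm (hdeg ▸ minpoly.natDegree_le z) ((minpoly.two_le_natDegree_iff hint).mpr hz)
  set b := (minpoly (RatFunc k) z).coeff 1
  set c := (minpoly (RatFunc k) z).coeff 0
  have hb : b ≠ 0 := by
    intro hb
    refine (Algebra.IsSeparable.isSeparable (RatFunc k) z).aeval_derivative_ne_zero (minpoly.aeval _ z) ?_
    rw [Polynomial.derivative_apply, Polynomial.sum_over_range _ (by simp), hd2, Finset.sum_range_succ,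
      Finset.sum_range_succ, Finset.sum_range_one]
    simp [show (minpoly (RatFunc k) z).coeff 1 = 0 from hb, CharTwo.two_eq_zero]
  have hrel : z ^ 2 + algebraMap (RatFunc k) K b * z + algebraMap (RatFunc k) K c = 0 := by
    have h := minpoly.aeval (RatFunc k) z
    rw [aeval_eq_sum_range, hd2, Finset.sum_range_succ, Finset.sum_range_succ, Finset.sum_range_one] at h
    have hlead : (minpoly (RatFunc k) z).coeff 2 = 1 := hd2 ▸ (minpoly.monic hint).coeff_natDegree
    simp only [Algebra.smul_def, hlead, map_one] at h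
    linear_combination h
  have hb' : algebraMap (RatFunc k) K b ≠ 0 := by simpa using hb
  refine ⟨z / algebraMap (RatFunc k) K b, -(c / b ^ 2), ?_, intermediate_eq_top_quadratic hdeg ?_⟩
  · rw [map_neg, map_div₀, map_pow]
    field_simp
    linear_combination hrel
  · rintro ⟨t, ht⟩
    exact hz ⟨t * b, by rw [map_mul, ht, div_mul_cancel₀ _ hb']⟩

/-- The value of a pole divisor coefficient. -/
noncomputable def asDiv (f : RatFunc k) : Divisor k (RatFunc k) :=
  Finsupp.mapRange (fun n : ℤ => if n < 0 then -((1 - n) / 2) else 0) (by simp) (div k f)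

theorem asDiv_apply (f : RatFunc k) (P : Place k (RatFunc k)) :
    asDiv f P = if P.ord f < 0 then -((1 - P.ord f) / 2) else 0 := by
  rw [asDiv, Finsupp.mapRange_apply, (ratFunc_ff k).div_apply]

/-- The norm condition at one place. -/
theorem as_cond (P : Place k (RatFunc k)) (f : RatFunc k) (hodd : P.ord f < 0 → Odd (P.ord f)) (a : ℤ)
    (u v : RatFunc k) (hv : P.1 v ≤ exp a) (hN : P.1 (u ^ 2 - u * v - v ^ 2 * f) ≤ exp a * exp a) :
    P.1 u ≤ exp a ∧ P.1 v ≤ exp (a + asDiv f P) := by
  rcases eq_or_ne v 0 with rfl | hv0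
  · rw [mul_zero, sub_zero, zero_pow two_ne_zero, zero_mul, sub_zero, sq, map_mul] at hN
    refine ⟨?_, by simp⟩
    rcases eq_or_ne u 0 with rfl | hu0
    · simp
    rw [val_eq P hu0, ← exp_add, ← exp_add, exp_le_exp] at hN
    rw [val_eq P hu0, exp_le_exp]
    omega
  rw [val_eq P hv0, exp_le_exp] at hv ⊢
  rw [← exp_add] at hN
  rw [asDiv_apply]
  rcases eq_or_ne f 0 with rfl | hf0
  · rw [mul_zero, sub_zero] at hN
    refine ⟨?_, by rw [ord_zero]; simp only [lt_self_iff_false, if_false, add_zero]; omega⟩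
    rcases eq_or_ne u 0 with rfl | hu0
    · simp
    rw [val_eq P hu0, exp_le_exp]
    by_contra hlt
    have h : P.1 (u ^ 2 - u * v) = P.1 (u ^ 2) := by
      refine P.1.map_sub_eq_of_lt_left ?_
      rw [val_eq P (mul_ne_zero hu0 hv0), val_eq P (pow_ne_zero 2 hu0), exp_lt_exp, ord_mul P hu0 hv0,
        ord_pow]
      omega
    rw [h, val_eq P (pow_ne_zero 2 hu0), exp_le_exp, ord_pow] at hN
    omega
  have hc0 : v ^ 2 * f ≠ 0 := mul_ne_zero (pow_ne_zero 2 hv0) hf0
  have hc : P.1 (v ^ 2 * f) = exp (-(2 * P.ord v + P.ord f)) := by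
    rw [val_eq P hc0, ord_mul P (pow_ne_zero 2 hv0) hf0, ord_pow]
    norm_num
  rcases eq_or_ne u 0 with rfl | hu0
  · rw [zero_pow two_ne_zero, zero_mul, sub_zero, zero_sub, Valuation.map_neg, hc, exp_le_exp] at hN
    refine ⟨by simp, ?_⟩
    split_ifs with hneg
    · obtain ⟨m, hm⟩ := hodd hneg
      omega
    · omega
  have hA : P.1 (u ^ 2) = exp (-(2 * P.ord u)) := by
    rw [val_eq P (pow_ne_zero 2 hu0), ord_pow]; norm_num
  have hB : P.1 (u * v) = exp (-(P.ord u + P.ord v)) := by
    rw [val_eq P (mul_ne_zero hu0 hv0), ord_mul P hu0 hv0]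
  have hbigA : 2 * P.ord u < P.ord u + P.ord v → 2 * P.ord u < 2 * P.ord v + P.ord f →
      -(2 * P.ord u) ≤ a + a := by
    intro h1 h2
    have h3 : P.1 (u ^ 2 - u * v) = P.1 (u ^ 2) :=
      P.1.map_sub_eq_of_lt_left (by rw [hA, hB, exp_lt_exp]; omega)
    rw [P.1.map_sub_eq_of_lt_left (by rw [h3, hA, hc, exp_lt_exp]; omega), h3, hA, exp_le_exp] at hN
    exact hN
  have hbigC : 2 * P.ord v + P.ord f < 2 * P.ord u → 2 * P.ord v + P.ord f < P.ord u + P.ord v →
      -(2 * P.ord v + P.ord f) ≤ a + a := by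
    intro h1 h2
    have h3 : P.1 (u ^ 2 - u * v) < P.1 (v ^ 2 * f) :=
      lt_of_le_of_lt (P.1.map_sub _ _) (max_lt (by rw [hA, hc, exp_lt_exp]; omega)
        (by rw [hB, hc, exp_lt_exp]; omega))
    rw [P.1.map_sub_eq_of_lt_right h3, hc, exp_le_exp] at hN
    exact hN
  rw [val_eq P hu0, exp_le_exp]
  split_ifs with hneg
  · obtain ⟨m, hm⟩ := hodd hneg
    rcases lt_or_ge (2 * P.ord u) (2 * P.ord v + P.ord f) with h | h
    · have := hbigA (by omega) h
      omega
    · have := hbigC (by omega) (by omega)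
      omega
  · refine ⟨?_, by omega⟩
    by_contra hlt
    have := hbigA (by omega) (by omega)
    omega

theorem mem_L_as (h2 : ringChar k = 2) (hdeg : Module.finrank (RatFunc k) K = 2) {y : K}
    (hy : y ∉ Set.range (algebraMap (RatFunc k) K)) {f : RatFunc k}
    (heq : y ^ 2 + y = algebraMap (RatFunc k) K f)
    (hodd : ∀ P : Place k (RatFunc k), P.ord f < 0 → Odd (P.ord f))
    (A : Divisor k (RatFunc k)) (u v : RatFunc k) :
    algebraMap (RatFunc k) K u + algebraMap (RatFunc k) K v * y ∈ L (conorm K A) ↔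
      u ∈ L A ∧ v ∈ L (A + asDiv f) := by
  have hc := charP_two_ratFunc h2
  rw [(ratFunc_ff k).mem_L_conorm_iff hdeg hy (ε := 1) (f := f) (by simpa using heq) A u v]
  rw [mem_L, mem_L, ← forall_and]
  refine forall_congr' fun P => ?_
  simp only [CharTwo.two_eq_zero, zero_mul, zero_sub, one_mul, Valuation.map_neg, Finsupp.add_apply]
  constructor
  · rintro ⟨hv, hN, -⟩
    exact as_cond P f (hodd P) (A P) u v hv hN
  · rintro ⟨hu, hv⟩
    rcases eq_or_ne v 0 with rfl | hv0
    · refine ⟨by simp, ?_, fun _ => hu⟩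
      rw [mul_zero, sub_zero, zero_pow two_ne_zero, zero_mul, sub_zero, sq, map_mul]
      exact mul_le_mul' hu hu
    have hE : asDiv f P ≤ 0 := by rw [asDiv_apply]; split_ifs <;> omega
    have hv' : P.1 v ≤ exp (A P) := hv.trans (exp_le_exp.mpr (by omega))
    refine ⟨hv', ?_, fun _ => hu⟩
    refine (P.1.map_sub _ _).trans (max_le ((P.1.map_sub _ _).trans (max_le ?_ ?_)) ?_)
    · rw [sq, map_mul]; exact mul_le_mul' hu hu
    · rw [map_mul]; exact mul_le_mul' hu hv'
    · rcases eq_or_ne f 0 with rfl | hf0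
      · simp
      rw [val_eq P (mul_ne_zero (pow_ne_zero 2 hv0) hf0), ord_mul P (pow_ne_zero 2 hv0) hf0, ord_pow,
        ← exp_add, exp_le_exp]
      rw [val_eq P hv0, exp_le_exp, asDiv_apply] at hv
      push_cast
      split_ifs at hv with hneg <;> omega

theorem as_genus (hK : IsFunctionField k K) (h2 : ringChar k = 2)
    (hdeg : Module.finrank (RatFunc k) K = 2) {y : K}
    (hy : y ∉ Set.range (algebraMap (RatFunc k) K)) {f : RatFunc k}
    (heq : y ^ 2 + y = algebraMap (RatFunc k) K f)
    (hodd : ∀ P : Place k (RatFunc k), div k f P < 0 → Odd (div k f P)) :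
    (genus k K : ℤ) = -1 + ∑ P ∈ (div k f).support with div k f P < 0,
      (1 - div k f P) / 2 * (P.deg : ℤ) := by
  classical
  have hodd' : ∀ P : Place k (RatFunc k), P.ord f < 0 → Odd (P.ord f) := fun P h => by
    have := hodd P
    rw [(ratFunc_ff k).div_apply] at this
    exact this h
  rw [genus_of_split hK hdeg hy _ (mem_L_as h2 hdeg hy heq hodd'),
    deg_eq_sum (asDiv f) (S := (div k f).support) Finsupp.support_mapRange, Finset.sum_filter,
    sub_eq_add_neg, ← Finset.sum_neg_distrib]
  congr 1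
  refine Finset.sum_congr rfl fun P _ => ?_
  rw [asDiv_apply, (ratFunc_ff k).div_apply]
  split_ifs <;> ring

theorem as_ramification (h2 : ringChar k = 2) (hdeg : Module.finrank (RatFunc k) K = 2)
    [Algebra.IsSeparable (RatFunc k) K] {y : K} (hy : y ∉ Set.range (algebraMap (RatFunc k) K))
    {f : RatFunc k} (heq : y ^ 2 + y = algebraMap (RatFunc k) K f) (P₀ : Place k (RatFunc k)) :
    ((P₀.ord f < 0 ∧ Odd (P₀.ord f)) → (∃! P : Place k K, IsOver P P₀) ∧
      ∀ P : Place k K, IsOver P P₀ → IsOverWith P P₀ 2 ∧ P.deg = P₀.deg) ∧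
    (0 ≤ P₀.ord f → ∀ P : Place k K, IsOver P P₀ → IsOverWith P P₀ 1) := by
  have hcK := charP_two_top (K := K) h2
  have hcF := charP_two_ratFunc h2
  constructor
  · rintro ⟨hneg, m, hm⟩
    refine ramified_of_even (ratFunc_ff k) hdeg P₀ fun Q e hQ => ?_
    have h1 := isOverWith_ord hQ f
    rw [← heq] at h1
    have hpos := isOverWith_pos hQ
    have hyneg : Q.ord y < 0 := by
      by_contra hge
      have hy1 : Q.1 y ≤ 1 := (val_le_one_iff Q).mpr (not_lt.mp hge)
      have h3 : Q.1 (y ^ 2 + y) ≤ 1 := (Q.1.map_add _ _).trans (max_le (by rw [map_pow]; exact pow_le_one' hy1 2) hy1)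
      rw [val_le_one_iff, h1] at h3
      nlinarith
    have hy0 : y ≠ 0 := fun h0 => by rw [h0, ord_zero] at hyneg; omega
    have hsum : Q.1 (y ^ 2 + y) = Q.1 (y ^ 2) := Q.1.map_add_eq_of_lt_left (by
      rw [val_eq Q hy0, val_eq Q (pow_ne_zero 2 hy0), ord_pow, exp_lt_exp]
      push_cast
      omega)
    have h4 : Q.ord (y ^ 2 + y) = 2 * Q.ord y := by
      rw [show Q.ord (y ^ 2 + y) = Q.ord (y ^ 2) by simp only [Place.ord, hsum], ord_pow]
      norm_num
    rw [h4, hm] at h1
    have h5 : (2 : ℤ) ∣ e := ⟨Q.ord y - e * m, by linarith⟩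
    exact_mod_cast h5
  · intro hf Q hQ
    obtain ⟨e, he⟩ := hQ
    refine unramified_of_monic hdeg hy (S := -1) (N := -f) ?_ P₀ ?_ ?_ he ?_
    · rw [map_neg, map_neg, map_one]
      linear_combination heq
    · rw [Valuation.map_neg, map_one]
    · rw [Valuation.map_neg]; exact (val_le_one_iff P₀).mpr hf
    · rw [map_neg, map_one, CharTwo.two_eq_zero, zero_mul, zero_sub, neg_neg, map_one]

/-- The sum of the pole orders. -/
noncomputable def poleSize (f : RatFunc k) : ℕ :=
  ∑ P ∈ (div k f).support, (-(P.ord f)).toNat * P.deg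

theorem poleSize_eq (f : RatFunc k) (S : Finset (Place k (RatFunc k)))
    (hS : ∀ P, P.ord f < 0 → P ∈ S) : poleSize f = ∑ P ∈ S, (-(P.ord f)).toNat * P.deg := by
  classical
  refine Finset.sum_congr_of_eq_on_inter ?_ ?_ fun _ _ _ => rfl
  · intro P _ hP
    have : ¬ P.ord f < 0 := fun h => hP (hS P h)
    rw [show (-(P.ord f)).toNat = 0 by omega, zero_mul]
  · intro P _ hP
    rw [Finsupp.mem_support_iff, not_not, (ratFunc_ff k).div_apply] at hP
    rw [hP]
    simp

theorem exists_sqrt_residue [PerfectField k] (h2 : ringChar k = 2) (P : Place k (RatFunc k))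
    (r : IsLocalRing.ResidueField P.O) : ∃ s, s ^ 2 = r := by
  have := charP_two h2
  have hfin : @Module.Finite k (IsLocalRing.ResidueField P.O) _ _ Algebra.toModule := by
    have hmod : (IsLocalRing.instModuleResidueFieldOfAlgebra P.O :
        Module k (IsLocalRing.ResidueField P.O)) = Algebra.toModule :=
      Module.ext' _ _ fun c r => (residue_smul_eq_mul P c r).trans (Algebra.smul_def c r).symm
    exact hmod ▸ (ratFunc_ff k).finite_residueField P
  have : Algebra.IsAlgebraic k (IsLocalRing.ResidueField P.O) := Algebra.IsAlgebraic.of_finite k _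
  have : CharP (IsLocalRing.ResidueField P.O) 2 :=
    charP_of_injective_algebraMap (algebraMap k (IsLocalRing.ResidueField P.O)).injective 2
  have : PerfectField (IsLocalRing.ResidueField P.O) :=
    Algebra.IsAlgebraic.perfectField (K := k)
  have : ExpChar (IsLocalRing.ResidueField P.O) 2 := ExpChar.prime Nat.prime_two
  obtain ⟨s, hs⟩ := surjective_frobenius (IsLocalRing.ResidueField P.O) 2 r
  exact ⟨s, hs⟩

/-- Cancelling the leading term of a pole of even order. -/
theorem exists_reduce [PerfectField k] (h2 : ringChar k = 2) (P : Place k (RatFunc k))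
    {f : RatFunc k} {m : ℕ} (hm : 0 < m) (hf : P.ord f = -(2 * (m : ℤ))) :
    ∃ a : RatFunc k, (∀ Q, Q ≠ P → Q.1 a ≤ 1) ∧
      P.1 (f + a ^ 2 + a) < exp (2 * (m : ℤ)) := by
  classical
  have := charP_two_ratFunc h2
  have hF := ratFunc_ff k
  have hd := hF.deg_pos P
  obtain ⟨t, ht0, ht⟩ := exists_uniformizer P
  have hf0 : f ≠ 0 := fun h => by rw [h, ord_zero] at hf; omega
  have hPt : P.ord t = 1 := by rw [Place.ord, ht, log_exp]; norm_num
  set c := f * t ^ (2 * m)
  have hc : P.1 c = 1 := by
    rw [val_eq_one_iff P (mul_ne_zero hf0 (pow_ne_zero _ ht0)), ord_mul P hf0 (pow_ne_zero _ ht0), ord_pow,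
      hPt, hf]
    push_cast
    ring
  set D : Divisor k (RatFunc k) := Finsupp.single P (m : ℤ)
  set D' : Divisor k (RatFunc k) := Finsupp.single P ((m : ℤ) - 1)
  have hFFF := ratFunc_isFunctionField k
  have hg : genus k (RatFunc k) = 0 := ratFunc_genus k
  have hellD : (ell D : ℤ) = m * P.deg + 1 := by
    rw [ell_eq_of_deg_gt hFFF (by rw [hg, deg_single]; push_cast; nlinarith), deg_single, hg]
    push_cast; ring
  have hellD' : (ell D' : ℤ) = ((m : ℤ) - 1) * P.deg + 1 := by
    rw [ell_eq_of_deg_gt hFFF (by rw [hg, deg_single]; push_cast; nlinarith), deg_single, hg]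
    push_cast; ring
  have hmem : ∀ a : L D, P.1 ((a : RatFunc k) * t ^ m) ≤ 1 := fun a => by
    have h1 := a.2 P
    rw [Finsupp.single_eq_same] at h1
    rw [map_mul, map_pow, ht, ← exp_nsmul, nsmul_eq_mul]
    refine (mul_le_mul' h1 le_rfl).trans (le_of_eq ?_)
    rw [← exp_add, mul_neg_one, add_neg_cancel, exp_zero]
  let g : L D →ₗ[k] IsLocalRing.ResidueField P.O :=
    { toFun := fun a => IsLocalRing.residue P.O ⟨(a : RatFunc k) * t ^ m, hmem a⟩
      map_add' := fun a b => by
        rw [← map_add]; exact congrArg _ (Subtype.ext (add_mul _ _ _))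
      map_smul' := fun r a => by
        refine (?_ : _ = IsLocalRing.residue P.O (algebraMap k P.O r * ⟨(a : RatFunc k) * t ^ m, hmem a⟩)).trans
          ((map_mul _ _ _).trans (residue_smul_eq_mul P r _).symm)
        refine congrArg _ (Subtype.ext ?_)
        change (r • (a : RatFunc k)) * t ^ m = algebraMap k (RatFunc k) r * ((a : RatFunc k) * t ^ m)
        rw [Algebra.smul_def, mul_assoc] }
  have hle : D' ≤ D := fun Q => by
    simp only [D, D', Finsupp.single_apply]; split_ifs <;> omega
  have := hF.finite_L D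
  have := hF.finite_L D'
  have := hF.finite_residueField P
  have hker : LinearMap.ker g = Submodule.comap (L D).subtype (L D') := by
    ext a
    rw [LinearMap.mem_ker, Submodule.mem_comap]
    change IsLocalRing.residue P.O _ = 0 ↔ _
    rw [IsLocalRing.residue_eq_zero_iff, Valuation.mem_maximalIdeal_iff (v := P.1)]
    change P.1 ((a : RatFunc k) * t ^ m) < 1 ↔ (a : RatFunc k) ∈ L D'
    rcases eq_or_ne (a : RatFunc k) 0 with h0 | h0
    · simp [h0]
    rw [val_lt_one_iff P (mul_ne_zero h0 (pow_ne_zero _ ht0)), ord_mul P h0 (pow_ne_zero _ ht0), ord_pow,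
      hPt, mem_L_iff_ord h0]
    constructor
    · intro h Q
      have h1 := (mem_L_iff_ord h0).mp a.2 Q
      simp only [D, D', Finsupp.single_apply] at h1 ⊢
      split_ifs at h1 ⊢ with hQ
      · subst hQ; omega
      · exact h1
    · intro h
      have h1 := h P
      simp only [D', Finsupp.single_eq_same] at h1
      omega
  have hsurj : Function.Surjective g := by
    rw [← LinearMap.range_eq_top]
    refine Submodule.eq_top_of_finrank_eq ?_
    have h1 := g.finrank_range_add_finrank_ker
    rw [hker, (Submodule.comapSubtypeEquivOfLe (L_mono hle)).finrank_eq] at h1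
    change _ + ell D' = ell D at h1
    have : (Module.finrank k (LinearMap.range g) : ℤ) = P.deg := by
      have h1' := congrArg (fun n : ℕ => (n : ℤ)) h1
      push_cast at h1'
      linarith
    exact_mod_cast this
  obtain ⟨s, hs⟩ := exists_sqrt_residue h2 P (IsLocalRing.residue P.O ⟨c, hc.le⟩)
  obtain ⟨a, ha⟩ := hsurj s
  refine ⟨a, fun Q hQ => ?_, ?_⟩
  · refine (a.2 Q).trans (le_of_eq ?_)
    simp only [D, Finsupp.single_eq_of_ne hQ, exp_zero]
  · set w : P.O := ⟨(a : RatFunc k) * t ^ m, hmem a⟩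
    have hres : IsLocalRing.residue P.O (⟨c, hc.le⟩ - w ^ 2) = 0 := by
      rw [map_sub, map_pow, sub_eq_zero, ← hs]
      exact congrArg (· ^ 2) ha.symm
    rw [IsLocalRing.residue_eq_zero_iff, Valuation.mem_maximalIdeal_iff (v := P.1)] at hres
    change P.1 (c - ((a : RatFunc k) * t ^ m) ^ 2) < 1 at hres
    have h1 : P.1 (f + (a : RatFunc k) ^ 2) < exp (2 * (m : ℤ)) := by
      have hsplit : c - ((a : RatFunc k) * t ^ m) ^ 2 = (f + (a : RatFunc k) ^ 2) * t ^ (2 * m) := by
        rw [CharTwo.sub_eq_add]; simp only [c]; ring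
      rw [hsplit, map_mul, map_pow, ht, ← exp_nsmul, nsmul_eq_mul] at hres
      have := mul_lt_mul_of_pos_right hres (show (0 : WithZero (Multiplicative ℤ)) < exp (2 * (m : ℤ)) from exp_pos)
      rw [one_mul, mul_assoc, ← exp_add] at this
      push_cast at this
      rwa [show (2 * (m : ℤ)) * -1 + 2 * (m : ℤ) = 0 by ring, exp_zero, mul_one] at this
    refine lt_of_le_of_lt (P.1.map_add _ _) (max_lt h1 ?_)
    refine lt_of_le_of_lt (a.2 P) ?_
    rw [Finsupp.single_eq_same, exp_lt_exp]
    omega

theorem exists_odd_poles [PerfectField k] (h2 : ringChar k = 2)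
    (hdeg : Module.finrank (RatFunc k) K = 2) [Algebra.IsSeparable (RatFunc k) K] :
    ∃ (y : K) (f : RatFunc k), y ^ 2 + y = algebraMap (RatFunc k) K f ∧
      IntermediateField.adjoin (RatFunc k) ({y} : Set K) = ⊤ ∧
      ∀ P : Place k (RatFunc k), P.ord f < 0 → Odd (P.ord f) := by
  classical
  have hcK := charP_two_top (K := K) h2
  obtain ⟨y₀, f₀, h₀, htop₀⟩ := exists_artin_schreier h2 hdeg
  have hy₀ : y₀ ∉ Set.range (algebraMap (RatFunc k) K) := by
    rintro ⟨r, hr⟩
    have hbot : (⊥ : IntermediateField (RatFunc k) K) = ⊤ := by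
      rw [← htop₀, ← hr]
      exact (IntermediateField.adjoin_simple_eq_bot_iff.mpr (IntermediateField.algebraMap_mem _ r)).symm
    have := IntermediateField.bot_eq_top_iff_finrank_eq_one.mp hbot
    omega
  suffices key : ∀ n (y : K) (f : RatFunc k), y ∉ Set.range (algebraMap (RatFunc k) K) →
      y ^ 2 + y = algebraMap (RatFunc k) K f → poleSize f = n →
      ∃ (y : K) (f : RatFunc k), y ^ 2 + y = algebraMap (RatFunc k) K f ∧
        IntermediateField.adjoin (RatFunc k) ({y} : Set K) = ⊤ ∧
        ∀ P : Place k (RatFunc k), P.ord f < 0 → Odd (P.ord f) from key _ y₀ f₀ hy₀ h₀ rfl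
  intro n
  induction n using Nat.strong_induction_on with
  | _ n ih =>
    intro y f hy heq hn
    by_cases hall : ∀ P : Place k (RatFunc k), P.ord f < 0 → Odd (P.ord f)
    · exact ⟨y, f, heq, intermediate_eq_top_quadratic hdeg hy, hall⟩
    push Not at hall
    obtain ⟨P, hneg, heven⟩ := hall
    obtain ⟨j, hj⟩ := Int.not_odd_iff_even.mp heven
    obtain ⟨m, hm⟩ : ∃ m : ℕ, j = -(m : ℤ) := ⟨(-j).toNat, by omega⟩
    obtain ⟨a, ha, haP⟩ := exists_reduce h2 P (m := m) (by omega) (f := f) (by omega)
    set f' := f + a ^ 2 + a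
    have hne : y + algebraMap (RatFunc k) K a ∉ Set.range (algebraMap (RatFunc k) K) := fun ⟨r, hr⟩ =>
      hy ⟨r - a, by rw [map_sub, hr, add_sub_cancel_right]⟩
    refine ih _ ?_ (y + algebraMap (RatFunc k) K a) f' hne ?_ rfl
    · rw [← hn]
      have hother : ∀ Q, Q ≠ P → (-(Q.ord f')).toNat ≤ (-(Q.ord f)).toNat := by
        intro Q hQ
        have hv : Q.1 f' ≤ max (Q.1 f) 1 :=
          (Q.1.map_add _ _).trans (max_le ((Q.1.map_add _ _).trans (max_le (le_max_left _ _)
            (le_max_of_le_right (by rw [map_pow]; exact pow_le_one' (ha Q hQ) 2))))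
            (le_max_of_le_right (ha Q hQ)))
        rcases le_max_iff.mp hv with h | h
        · rcases eq_or_ne f' 0 with h0 | h0
          · rw [h0, ord_zero]; simp
          rcases eq_or_ne f 0 with h0' | h0'
          · rw [h0', map_zero] at h
            exact absurd (le_antisymm h zero_le) (val_ne_zero Q h0)
          rw [val_eq Q h0, val_eq Q h0', exp_le_exp] at h
          omega
        · rw [val_le_one_iff] at h
          omega
      have hP' : (-(P.ord f')).toNat < (-(P.ord f)).toNat := by
        rcases eq_or_ne f' 0 with h0 | h0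
        · rw [h0, ord_zero]; omega
        rw [val_eq P h0, exp_lt_exp] at haP
        omega
      set S := (div k f).support
      have hmemS : ∀ Q, Q.ord f < 0 → Q ∈ S := fun Q h => by
        rw [Finsupp.mem_support_iff, (ratFunc_ff k).div_apply]; omega
      have hS' : ∀ Q, Q.ord f' < 0 → Q ∈ S := fun Q h => by
        rcases eq_or_ne Q P with rfl | hQ
        · exact hmemS Q hneg
        · refine hmemS Q ?_
          have := hother Q hQ
          omega
      rw [poleSize_eq f' S hS', poleSize_eq f S hmemS]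
      refine Finset.sum_lt_sum (fun Q _ => ?_) ⟨P, hmemS P hneg, ?_⟩
      · rcases eq_or_ne Q P with rfl | hQ
        · exact Nat.mul_le_mul_right _ hP'.le
        · exact Nat.mul_le_mul_right _ (hother Q hQ)
      · exact Nat.mul_lt_mul_of_pos_right hP' ((ratFunc_ff k).deg_pos P)
    · simp only [f', map_add, map_pow]
      rw [CharTwo.add_sq]
      linear_combination heq

end Groth.Agent.FF30
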