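import Groth.Agent.FF30.Rational
import Groth.Agent.FF30.RR
import Mathlib.FieldTheory.IntermediateField.Algebraic
import Mathlib.FieldTheory.Relrank
import Mathlib.Algebra.Polynomial.Degree.Lemmas

/-! Function fields of genus one with a rational place. -/

open FunFld WithZero IntermediateField
open scoped Multiplicative IntermediateField

namespace Groth.Agent.FF30

variable {k K : Type*} [Field k] [Field K] [Algebra k K]

/-- Functions with distinct orders are independent. -/
theorem linearIndependent_of_ord_injective {ι : Type*} [Fintype ι] (P : Place k K) (f : ι → K)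
    (hf : ∀ i, f i ≠ 0) (hinj : Function.Injective fun i => P.ord (f i)) :
    LinearIndependent k f := by
  classical
  rw [Fintype.linearIndependent_iff]
  intro c hc
  by_contra hne
  push Not at hne
  set S := Finset.univ.filter fun i => c i ≠ 0
  obtain ⟨i₀, hi₀, hmin⟩ := Finset.exists_min_image S (fun i => P.ord (f i))
    (by obtain ⟨i, hi⟩ := hne; exact ⟨i, by simp [S, hi]⟩)
  have hsum : ∑ i ∈ S, c i • f i = 0 := by
    rw [← hc]
    refine Finset.sum_subset (Finset.subset_univ S) fun i _ hi => ?_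
    simp only [S, Finset.mem_filter, Finset.mem_univ, true_and, not_not] at hi
    rw [hi, zero_smul]
  have hval : P.1 (∑ i ∈ S, c i • f i) = P.1 (c i₀ • f i₀) := by
    refine Valuation.map_sum_eq_of_lt P.1 hi₀ fun i hi => ?_
    simp only [S, Finset.mem_sdiff, Finset.mem_filter, Finset.mem_univ, true_and, Finset.mem_singleton] at hi hi₀
    rw [val_smul P hi.1, val_smul P hi₀, val_eq P (hf i), val_eq P (hf i₀), exp_lt_exp]
    have h1 := hmin i (by simp [S, hi.1])
    have h2 : P.ord (f i) ≠ P.ord (f i₀) := fun h => hi.2 (hinj h)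
    omega
  have hc0 : c i₀ ≠ 0 := (Finset.mem_filter.mp hi₀).2
  rw [hsum, map_zero, val_smul P hc0] at hval
  exact val_ne_zero P (hf i₀) hval.symm

theorem exists_exact_pole (hK : IsFunctionField k K) (hg : genus k K = 1) (P₀ : Place k K)
    (hP : P₀.deg = 1) {n : ℕ} (hn : 2 ≤ n) :
    ∃ x ∈ L (Finsupp.single P₀ (n : ℤ) : Divisor k K), x ≠ 0 ∧ P₀.ord x = -(n : ℤ) ∧
      (poleDiv x : Divisor k K) = Finsupp.single P₀ (n : ℤ) := by
  classical
  have hF : FF k K := hK.1
  have hell : ∀ m : ℕ, 1 ≤ m → (ell (Finsupp.single P₀ (m : ℤ) : Divisor k K) : ℤ) = m := by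
    intro m hm
    rw [ell_eq_of_deg_gt hK (by rw [deg_single, hP, hg]; push_cast; omega), deg_single, hP, hg]
    push_cast
    ring
  obtain ⟨x, hx, hxn⟩ : ∃ x ∈ L (Finsupp.single P₀ (n : ℤ) : Divisor k K),
      x ∉ L (Finsupp.single P₀ ((n - 1 : ℕ) : ℤ) : Divisor k K) := by
    by_contra hcon
    push Not at hcon
    have := hF.finite_L (Finsupp.single P₀ ((n - 1 : ℕ) : ℤ) : Divisor k K)
    have hle : ell (Finsupp.single P₀ (n : ℤ) : Divisor k K) ≤
        ell (Finsupp.single P₀ ((n - 1 : ℕ) : ℤ) : Divisor k K) := Submodule.finrank_mono hcon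
    have h1 := hell n (by omega)
    have h2 := hell (n - 1) (by omega)
    omega
  have hx0 : x ≠ 0 := fun e => hxn (e ▸ Submodule.zero_mem _)
  have hord := (mem_L_iff_ord hx0).mp hx
  have hP0 : P₀.ord x = -(n : ℤ) := by
    have h1 := hord P₀
    rw [Finsupp.single_eq_same] at h1
    by_contra hne
    refine hxn ((mem_L_iff_ord hx0).mpr fun Q => ?_)
    have h2 := hord Q
    rw [Finsupp.single_apply] at h2 ⊢
    split_ifs at h2 ⊢ with he
    · subst he; omega
    · exact h2
  refine ⟨x, hx, hx0, hP0, Finsupp.ext fun Q => ?_⟩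
  rw [hF.poleDiv_apply, Finsupp.single_apply]
  have h2 := hord Q
  rw [Finsupp.single_apply] at h2
  split_ifs at h2 ⊢ with he
  · subst he; omega
  · omega

theorem weierstrass_form (hK : IsFunctionField k K) (hg : genus k K = 1) (P₀ : Place k K)
    (hP : P₀.deg = 1) :
    ∃ x y : K, x ∈ L (Finsupp.single P₀ 2) ∧ y ∈ L (Finsupp.single P₀ 3) ∧
      P₀.ord x = -2 ∧ P₀.ord y = -3 ∧
      IntermediateField.adjoin k ({x, y} : Set K) = ⊤ ∧
      ∃ f g : Polynomial k, f.natDegree ≤ 1 ∧ g.natDegree = 3 ∧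
        y ^ 2 + Polynomial.aeval x f * y + Polynomial.aeval x g = 0 := by
  classical
  have hF : FF k K := hK.1
  obtain ⟨x, hxL, hx0, hx, hxd⟩ := exists_exact_pole hK hg P₀ hP (n := 2) le_rfl
  obtain ⟨y, hyL, hy0, hy, hyd⟩ := exists_exact_pole hK hg P₀ hP (n := 3) (by norm_num)
  have htx : Transcendental k x := transcendental_of_ord_ne_zero P₀ (by omega)
  have hty : Transcendental k y := transcendental_of_ord_ne_zero P₀ (by omega)
  refine ⟨x, y, hxL, hyL, hx, hy, ?_, ?_⟩
  · have h1 := hF.deg_poleDiv htx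
    have h2 := hF.deg_poleDiv hty
    rw [hxd, deg_single, hP] at h1
    rw [hyd, deg_single, hP] at h2
    have e1 := IntermediateField.finrank_dvd_of_le_left
      (show k⟮x⟯ ≤ k⟮x, y⟯ from IntermediateField.adjoin.mono _ _ _ (by simp))
    have e2 := IntermediateField.finrank_dvd_of_le_left
      (show k⟮y⟯ ≤ k⟮x, y⟯ from IntermediateField.adjoin.mono _ _ _ (by simp))
    rw [show Module.finrank k⟮x⟯ K = 2 by omega] at e1
    rw [show Module.finrank k⟮y⟯ K = 3 by omega] at e2
    have hone : Module.finrank k⟮x, y⟯ K = 1 :=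
      Nat.eq_one_of_dvd_coprimes (show Nat.Coprime 2 3 by norm_num) e1 e2
    rw [eq_top_iff]
    intro z _
    obtain ⟨c, hc⟩ := (finrank_eq_one_iff_of_nonzero' (1 : K) one_ne_zero).mp hone z
    rw [← hc]
    change (c : K) * 1 ∈ _
    rw [mul_one]
    exact c.2
  · set v : Fin 7 → K := ![1, x, y, x ^ 2, x * y, x ^ 3, y ^ 2] with hv
    have hmem : ∀ i, v i ∈ L (Finsupp.single P₀ (6 : ℤ) : Divisor k K) := by
      intro i
      have hi0 : v i ≠ 0 := by fin_cases i <;> simp [v, hx0, hy0]
      refine (mem_L_iff_ord hi0).mpr fun Q => ?_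
      have hxQ := (mem_L_iff_ord hx0).mp hxL Q
      have hyQ := (mem_L_iff_ord hy0).mp hyL Q
      rw [Finsupp.single_apply] at hxQ hyQ ⊢
      split_ifs at hxQ hyQ ⊢ <;> fin_cases i <;>
        simp [v, ord_pow, ord_mul Q hx0 hy0] <;> omega
    have hell : ell (Finsupp.single P₀ (6 : ℤ) : Divisor k K) = 6 := by
      have := ell_eq_of_deg_gt hK (D := Finsupp.single P₀ (6 : ℤ)) (by rw [deg_single, hP, hg]; norm_num)
      rw [deg_single, hP, hg] at this
      omega
    have hdep : ¬ LinearIndependent k v := by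
      intro hli
      have := hF.finite_L (Finsupp.single P₀ (6 : ℤ) : Divisor k K)
      have hli' : LinearIndependent k fun i => (⟨v i, hmem i⟩ : L (Finsupp.single P₀ (6 : ℤ) : Divisor k K)) :=
        LinearIndependent.of_comp (L _).subtype hli
      have := hli'.fintype_card_le_finrank
      rw [Fintype.card_fin] at this
      change 7 ≤ ell _ at this
      omega
    obtain ⟨c, hc, i, hi⟩ := Fintype.not_linearIndependent_iff.mp hdep
    have hind6 : LinearIndependent k ![1, x, y, x ^ 2, x * y, x ^ 3] := by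
      refine linearIndependent_of_ord_injective P₀ _ (fun i => by fin_cases i <;> simp [hx0, hy0]) ?_
      intro a b hab
      fin_cases a <;> fin_cases b <;>
        simp [ord_mul P₀ hx0 hy0, ord_pow, hx, hy] at hab ⊢
    have hind6' : LinearIndependent k ![1, x, y, x ^ 2, x * y, y ^ 2] := by
      refine linearIndependent_of_ord_injective P₀ _ (fun i => by fin_cases i <;> simp [hx0, hy0]) ?_
      intro a b hab
      fin_cases a <;> fin_cases b <;>
        simp [ord_mul P₀ hx0 hy0, ord_pow, hx, hy] at hab ⊢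
    simp only [Fin.sum_univ_seven, v, Matrix.cons_val] at hc
    have h6 : c 6 ≠ 0 := by
      intro h6
      have := Fintype.linearIndependent_iff.mp hind6 ![c 0, c 1, c 2, c 3, c 4, c 5] (by
        rw [h6, zero_smul, add_zero] at hc
        simpa [Fin.sum_univ_six] using hc)
      fin_cases i
      exacts [hi (this 0), hi (this 1), hi (this 2), hi (this 3), hi (this 4), hi (this 5), hi h6]
    have h5 : c 5 ≠ 0 := by
      intro h5
      have := Fintype.linearIndependent_iff.mp hind6' ![c 0, c 1, c 2, c 3, c 4, c 6] (by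
        rw [h5, zero_smul, add_zero] at hc
        simpa [Fin.sum_univ_six] using hc)
      exact h6 (this 5)
    refine ⟨Polynomial.C (c 4 / c 6) * Polynomial.X + Polynomial.C (c 2 / c 6),
      Polynomial.C (c 5 / c 6) * Polynomial.X ^ 3 + Polynomial.C (c 3 / c 6) * Polynomial.X ^ 2 +
        Polynomial.C (c 1 / c 6) * Polynomial.X + Polynomial.C (c 0 / c 6),
      Polynomial.natDegree_linear_le, Polynomial.natDegree_cubic (div_ne_zero h5 h6), ?_⟩
    have h6' : algebraMap k K (c 6) ≠ 0 := by simpa using h6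
    refine mul_left_cancel₀ h6' ?_
    simp only [map_add, map_mul, Polynomial.aeval_C, Polynomial.aeval_X, map_pow, map_div₀,
      mul_zero]
    simp only [Algebra.smul_def] at hc
    field_simp
    linear_combination hc

theorem existsUnique_point (hK : IsFunctionField k K) (hg : genus k K = 1) (P₀ : Place k K)
    (hP : P₀.deg = 1) (D : Divisor k K) (hD : D.deg = 0) :
    ∃! P : Place k K, P.deg = 1 ∧
      ∃ x : K, x ≠ 0 ∧ D = Finsupp.single P 1 - Finsupp.single P₀ 1 + div k x := by
  classical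
  have hF : FF k K := hK.1
  set E := D + Finsupp.single P₀ 1
  have hdeg : E.deg = 1 := by rw [deg_add, hD, deg_single, hP]; norm_num
  have hell : ell E = 1 := by
    have := ell_eq_of_deg_gt hK (D := E) (by rw [hdeg, hg]; norm_num)
    rw [hdeg, hg] at this
    omega
  have key : ∀ {P : Place k K} {x : K}, x ≠ 0 →
      D = Finsupp.single P 1 - Finsupp.single P₀ 1 + div k x →
      x⁻¹ ∈ L E ∧ E + div k x⁻¹ = Finsupp.single P 1 := by
    intro P x hx hD'
    have h1 : E + div k x⁻¹ = Finsupp.single P 1 := by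
      simp only [E, hF.div_inv, hD']
      abel
    refine ⟨(mem_L_iff_ord (inv_ne_zero hx)).mpr fun Q => ?_, h1⟩
    have h2 := congrArg (fun F : Divisor k K => F Q) h1
    simp only [Finsupp.add_apply, hF.div_apply, Finsupp.single_apply] at h2
    split_ifs at h2 <;> omega
  obtain ⟨u, huL, hu0⟩ := exists_ne_zero_of_ell_pos (D := E) (by omega)
  obtain ⟨P, hPdeg, hEP⟩ := hF.eq_single_of_deg_one (D := E + div k u) (fun Q => by
      have := (mem_L_iff_ord hu0).mp huL Q
      rw [Finsupp.coe_zero, Pi.zero_apply, Finsupp.add_apply, hF.div_apply]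
      omega)
    (by rw [deg_add, hdeg, hF.deg_div, add_zero])
  refine ⟨P, ⟨hPdeg, u⁻¹, inv_ne_zero hu0, ?_⟩, ?_⟩
  · rw [hF.div_inv, ← hEP]
    simp only [E]
    abel
  · rintro P' ⟨-, x, hx, hD'⟩
    obtain ⟨hxL, hP'⟩ := key hx hD'
    have := hF.finite_L E
    obtain ⟨c, hc⟩ := (finrank_eq_one_iff_of_nonzero' (⟨u, huL⟩ : L E)
      (fun h => hu0 (congrArg Subtype.val h))).mp hell ⟨x⁻¹, hxL⟩
    have hc' : c • u = x⁻¹ := congrArg Subtype.val hc
    have hc0 : c ≠ 0 := by
      rintro rfl
      rw [zero_smul] at hc'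
      exact inv_ne_zero hx hc'.symm
    have hdiv : div k x⁻¹ = div k u := by
      refine Finsupp.ext fun Q => ?_
      rw [hF.div_apply, hF.div_apply, ← hc', Algebra.smul_def, ord_mul Q (by simp [hc0]) hu0,
        ord_algebraMap, zero_add]
    rw [hdiv, hEP] at hP'
    exact (Finsupp.single_left_inj one_ne_zero).mp hP'.symm

end Groth.Agent.FF30
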