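import Groth.Agent.FF30.FF
import Mathlib.RingTheory.Valuation.LocalSubring
import Mathlib.LinearAlgebra.FiniteDimensional.Basic
import Mathlib.GroupTheory.Archimedean

/-! Valuation subrings containing the ground field give places. -/

open FunFld WithZero IntermediateField Polynomial
open scoped Multiplicative

namespace Groth.Agent.FF30

variable {k K : Type*} [Field k] [Field K] [Algebra k K]

variable {Γ : Type*} [LinearOrderedCommGroupWithZero Γ]

theorem val_aeval_le_one (g : Valuation K Γ) (hk : ∀ c : k, g (algebraMap k K c) ≤ 1) {x : K}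
    (hx : g x ≤ 1) (p : k[X]) : g (aeval x p) ≤ 1 := by
  induction p using Polynomial.induction_on with
  | C a => simpa using hk a
  | add p q hp hq => rw [map_add]; exact (g.map_add _ _).trans (max_le hp hq)
  | monomial n a _ =>
    simpa [map_mul, map_pow] using mul_le_one' (hk a) (pow_le_one' hx (n + 1))

theorem val_aeval_eq_pow (g : Valuation K Γ) (hk : ∀ c : k, g (algebraMap k K c) ≤ 1) {x : K}
    (hx : g x < 1) {p : k[X]} (hp : p ≠ 0) : ∃ m : ℕ, g (aeval x p) = g x ^ m := by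
  have hk1 : ∀ c : k, c ≠ 0 → g (algebraMap k K c) = 1 := by
    intro c hc
    refine le_antisymm (hk c) ?_
    have h := hk c⁻¹
    have h0 : g (algebraMap k K c) ≠ 0 := (Valuation.ne_zero_iff g).mpr (by simpa using hc)
    rw [map_inv₀, map_inv₀] at h
    exact (inv_le_one₀ (zero_lt_iff.mpr h0)).mp h
  obtain ⟨n, hn, h⟩ : ∃ n, n = p.natTrailingDegree ∧ (p.divX : k[X]) = p.divX := ⟨_, rfl, rfl⟩
  clear hn h n
  induction p using Polynomial.recOnHorner with
  | M0 => exact absurd rfl hp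
  | MC p a hc ha _ =>
    refine ⟨0, ?_⟩
    obtain ⟨q, rfl⟩ : X ∣ p := X_dvd_iff.mpr hc
    have hlt : g (aeval x (X * q)) < g (algebraMap k K a) := by
      rw [hk1 a ha, map_mul, aeval_X, map_mul]
      exact lt_of_le_of_lt (mul_le_of_le_one_right' (val_aeval_le_one g hk hx.le q)) hx
    rw [map_add, aeval_C, g.map_add_eq_of_lt_right hlt, hk1 a ha, pow_zero]
  | MX p hp' ih =>
    obtain ⟨m, hm⟩ := ih hp'
    exact ⟨m + 1, by rw [map_mul, aeval_X, map_mul, hm, pow_succ]⟩

theorem exists_zpow_of_mem_adjoin (g : Valuation K Γ) (hk : ∀ c : k, g (algebraMap k K c) ≤ 1)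
    {x : K} (hx : g x < 1) (hx0 : x ≠ 0) {z : K} (hz : z ∈ k⟮x⟯) (h0 : z ≠ 0) :
    ∃ m : ℤ, g z = g x ^ m := by
  obtain ⟨r, s, rfl⟩ := (IntermediateField.mem_adjoin_simple_iff k z).mp hz
  have hr : r ≠ 0 := fun h => h0 (by simp [h])
  have hs : s ≠ 0 := fun h => h0 (by simp [h])
  obtain ⟨a, ha⟩ := val_aeval_eq_pow g hk hx hr
  obtain ⟨b, hb⟩ := val_aeval_eq_pow g hk hx hs
  have hgx : g x ≠ 0 := (Valuation.ne_zero_iff g).mpr hx0
  refine ⟨(a : ℤ) - b, ?_⟩
  rw [map_div₀, ha, hb, zpow_sub₀ hgx, zpow_natCast, zpow_natCast]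

theorem exists_pow_eq_zpow (g : Valuation K Γ) (hk : ∀ c : k, g (algebraMap k K c) ≤ 1)
    {x : K} (hx : g x < 1) (hx0 : x ≠ 0) [FiniteDimensional k⟮x⟯ K] {z : K} (h0 : z ≠ 0) :
    ∃ d : ℕ, 0 < d ∧ d ≤ Module.finrank k⟮x⟯ K ∧ ∃ m : ℤ, g z ^ d = g x ^ m := by
  classical
  set n := Module.finrank k⟮x⟯ K
  have hdep : ¬ LinearIndependent k⟮x⟯ (fun i : Fin (n + 1) => z ^ (i : ℕ)) := by
    intro h
    have := h.fintype_card_le_finrank
    rw [Fintype.card_fin] at this
    omega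
  obtain ⟨c, hsum, i₁, hi₁⟩ := Fintype.not_linearIndependent_iff.mp hdep
  set s := Finset.univ.filter fun i => c i ≠ 0
  obtain ⟨i, his, hmax⟩ := s.exists_max_image (fun i => g ((c i : K) * z ^ (i : ℕ)))
    ⟨i₁, by simp [s, hi₁]⟩
  have hci : c i ≠ 0 := (Finset.mem_filter.mp his).2
  have hne : ∀ i, c i ≠ 0 → g ((c i : K) * z ^ (i : ℕ)) ≠ 0 := fun i hi =>
    (Valuation.ne_zero_iff g).mpr (mul_ne_zero (by exact_mod_cast hi) (pow_ne_zero _ h0))
  have hj : ∃ j, j ≠ i ∧ c j ≠ 0 ∧ g ((c j : K) * z ^ (j : ℕ)) = g ((c i : K) * z ^ (i : ℕ)) := by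
    by_contra hcon
    push Not at hcon
    have := g.map_sum_eq_of_lt (s := Finset.univ) (f := fun j => (c j : K) * z ^ (j : ℕ))
      (Finset.mem_univ i) (fun j hj => by
        have hji : j ≠ i := by simpa using hj
        by_cases hcj : c j = 0
        · simpa [hcj] using zero_lt_iff.mpr (hne i hci)
        · exact lt_of_le_of_ne (hmax j (by simp [s, hcj])) (hcon j hji hcj))
    have hsum' : ∑ j, (c j : K) * z ^ (j : ℕ) = 0 := by
      simpa [Algebra.smul_def] using hsum
    rw [hsum', map_zero] at this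
    exact hne i hci this.symm
  obtain ⟨j, hji, hcj, heq⟩ := hj
  obtain ⟨a, ha⟩ := exists_zpow_of_mem_adjoin g hk hx hx0 (c i).2 (by exact_mod_cast hci)
  obtain ⟨b, hb⟩ := exists_zpow_of_mem_adjoin g hk hx hx0 (c j).2 (by exact_mod_cast hcj)
  rw [map_mul, map_mul, map_pow, map_pow, ha, hb] at heq
  have hgz : g z ≠ 0 := (Valuation.ne_zero_iff g).mpr h0
  have hij : (i : ℕ) ≠ j := fun h => hji (Fin.ext h).symm
  have hA : g x ^ a ≠ 0 := ha ▸ (Valuation.ne_zero_iff g).mpr (by exact_mod_cast hci)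
  have hB : g x ^ b ≠ 0 := hb ▸ (Valuation.ne_zero_iff g).mpr (by exact_mod_cast hcj)
  have hX : g x ≠ 0 := (Valuation.ne_zero_iff g).mpr hx0
  rcases lt_or_gt_of_ne hij with hlt | hlt
  · refine ⟨(j : ℕ) - i, by omega, by omega, a - b, ?_⟩
    rw [pow_sub₀ _ hgz hlt.le, zpow_sub₀ hX, eq_div_iff hB, mul_comm _ (g x ^ b),
      ← mul_assoc, heq, mul_inv_cancel_right₀ (pow_ne_zero _ hgz)]
  · refine ⟨(i : ℕ) - j, by omega, by omega, b - a, ?_⟩
    rw [pow_sub₀ _ hgz hlt.le, zpow_sub₀ hX, eq_div_iff hA, mul_comm _ (g x ^ a),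
      ← mul_assoc, ← heq, mul_inv_cancel_right₀ (pow_ne_zero _ hgz)]

/-- A valuation all of whose values have a bounded power among the powers of one value `< 1`
is equivalent to one with values in `ℤᵐ⁰`, surjective. -/
theorem exists_normalized (g : Valuation K Γ) {x : K} (hx0 : x ≠ 0) (hx : g x < 1) {N : ℕ}
    (hN : 0 < N) (h : ∀ z : K, z ≠ 0 → ∃ m : ℤ, g z ^ N = g x ^ m) :
    ∃ v : Valuation K ℤᵐ⁰, Function.Surjective v ∧ ∀ z, v z ≤ 1 ↔ g z ≤ 1 := by
  classical
  have hgx : g x ≠ 0 := (Valuation.ne_zero_iff g).mpr hx0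
  have hgx' : 0 < g x := zero_lt_iff.mpr hgx
  choose! m hm using h
  have huniq : ∀ {a b : ℤ}, g x ^ a = g x ^ b → a = b :=
    fun {a b} hab => (zpow_right_strictAnti₀ hgx' hx).injective hab
  have hle : ∀ {z w : K}, z ≠ 0 → w ≠ 0 → (g z ≤ g w ↔ m w ≤ m z) := by
    intro z w hz hw
    rw [← (pow_left_strictMonoOn₀ hN.ne').le_iff_le (zero_le : 0 ≤ g z) (zero_le : 0 ≤ g w),
      hm z hz, hm w hw, (zpow_right_strictAnti₀ hgx' hx).le_iff_ge]
  have hmul : ∀ {z w : K}, z ≠ 0 → w ≠ 0 → m (z * w) = m z + m w := by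
    intro z w hz hw
    apply huniq
    rw [← hm _ (mul_ne_zero hz hw), map_mul, mul_pow, hm z hz, hm w hw, zpow_add₀ hgx]
  have hm1 : m 1 = 0 := by have := hmul (one_ne_zero (α := K)) one_ne_zero; simp at this; omega
  have hmx : m x = N := huniq (by rw [← hm x hx0, zpow_natCast])
  let H : AddSubgroup ℤ :=
    { carrier := {i | ∃ z : K, z ≠ 0 ∧ m z = i}
      add_mem' := by
        rintro _ _ ⟨a, ha, rfl⟩ ⟨b, hb, rfl⟩
        exact ⟨a * b, mul_ne_zero ha hb, hmul ha hb⟩
      zero_mem' := ⟨1, one_ne_zero, hm1⟩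
      neg_mem' := by
        rintro _ ⟨a, ha, rfl⟩
        refine ⟨a⁻¹, inv_ne_zero ha, ?_⟩
        have := hmul ha (inv_ne_zero ha)
        rw [mul_inv_cancel₀ ha, hm1] at this
        omega }
  obtain ⟨d₀, hd₀⟩ := Int.subgroup_cyclic H
  have hmem : ∀ {i : ℤ}, i ∈ H ↔ d₀ ∣ i := by
    intro i
    rw [hd₀, AddSubgroup.mem_closure_singleton]
    constructor
    · rintro ⟨n, rfl⟩; exact ⟨n, by rw [smul_eq_mul]; ring⟩
    · rintro ⟨n, rfl⟩; exact ⟨n, by rw [smul_eq_mul]; ring⟩
  have hd0 : d₀ ≠ 0 := by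
    rintro rfl
    have := hmem.mp ⟨x, hx0, hmx⟩
    simp at this
    omega
  set d := |d₀|
  have hd : 0 < d := abs_pos.mpr hd0
  let v : Valuation K ℤᵐ⁰ :=
    { toFun := fun z => if z = 0 then 0 else exp (-(m z / d))
      map_zero' := by simp
      map_one' := by simp [hm1]
      map_mul' := fun z w => by
        rcases eq_or_ne z 0 with rfl | hz
        · simp
        rcases eq_or_ne w 0 with rfl | hw
        · simp
        rw [if_neg (mul_ne_zero hz hw), if_neg hz, if_neg hw, ← exp_add, hmul hz hw,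
          Int.add_ediv_of_dvd_left ((abs_dvd _ _).mpr (hmem.mp ⟨z, hz, rfl⟩)), neg_add]
      map_add_le_max' := fun z w => by
        rcases eq_or_ne z 0 with rfl | hz
        · simp
        rcases eq_or_ne w 0 with rfl | hw
        · simp
        rcases eq_or_ne (z + w) 0 with hzw | hzw
        · simp [hzw]
        rw [if_neg hzw, if_neg hz, if_neg hw]
        rcases le_max_iff.mp (g.map_add z w) with h1 | h1
        · exact le_max_of_le_left (exp_le_exp.mpr (neg_le_neg
            (Int.ediv_le_ediv hd ((hle hzw hz).mp h1))))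
        · exact le_max_of_le_right (exp_le_exp.mpr (neg_le_neg
            (Int.ediv_le_ediv hd ((hle hzw hw).mp h1)))) }
  refine ⟨v, fun e => ?_, fun z => ?_⟩
  · induction e using WithZero.expRecOn with
    | zero => exact ⟨0, by simp [v]⟩
    | exp a =>
      obtain ⟨z, hz, hmz⟩ := hmem.mpr (show d₀ ∣ (-a) * d from
        dvd_mul_of_dvd_right ((dvd_abs _ _).mpr dvd_rfl) _)
      refine ⟨z, ?_⟩
      change (if z = 0 then 0 else exp (-(m z / d))) = exp a
      rw [if_neg hz, hmz, Int.mul_ediv_cancel _ hd.ne', neg_neg]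
  · rcases eq_or_ne z 0 with rfl | hz
    · simp
    change (if z = 0 then 0 else exp (-(m z / d))) ≤ 1 ↔ _
    rw [if_neg hz, ← exp_zero, exp_le_exp, neg_nonpos, ← map_one g, hle hz one_ne_zero, hm1]
    obtain ⟨q, hq⟩ := (abs_dvd _ _).mpr (hmem.mp ⟨z, hz, rfl⟩)
    rw [hq, Int.mul_ediv_cancel_left _ hd.ne']
    constructor <;> intro h <;> nlinarith

theorem FF.exists_place (h : FF k K) (V : ValuationSubring K)
    (hk : ∀ c : k, algebraMap k K c ∈ V) (hV : V ≠ ⊤) : ∃ P : Place k K, P.O = V := by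
  obtain ⟨z, hz⟩ : ∃ z : K, z ∉ V := by
    by_contra hcon
    push Not at hcon
    exact hV (eq_top_iff.mpr fun a _ => hcon a)
  have hz0 : z ≠ 0 := fun h => hz (h ▸ V.zero_mem)
  set g := V.valuation
  have hgk : ∀ c : k, g (algebraMap k K c) ≤ 1 := fun c => (V.valuation_le_one_iff _).mpr (hk c)
  set x := z⁻¹
  have hx : g x < 1 := V.mem_nonunits_iff.mp (V.inv_mem_nonunits_iff.mpr (Or.inr hz))
  have htr : Transcendental k x := by
    intro ha
    have hi : IsIntegral k z := isAlgebraic_iff_isIntegral.mp (by simpa [x] using ha.inv)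
    have : IsIntegral V z := by
      obtain ⟨p, hp, hpz⟩ := hi
      refine ⟨p.map ((algebraMap k K).codRestrict V.toSubring hk), hp.map _, ?_⟩
      rw [eval₂_map]
      exact hpz
    obtain ⟨y, hy⟩ := (IsIntegrallyClosed.isIntegral_iff (R := V)).mp this
    exact hz (hy ▸ y.2)
  have := h.finiteDimensional_adjoin htr
  set n := Module.finrank k⟮x⟯ K
  obtain ⟨v, hvs, hv⟩ := exists_normalized g (inv_ne_zero hz0) hx n.factorial_pos (fun w hw => by
    obtain ⟨d, hd, hdn, m, hm⟩ := exists_pow_eq_zpow g hgk hx (inv_ne_zero hz0) (z := w) hw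
    obtain ⟨q, hq⟩ := Nat.dvd_factorial hd hdn
    refine ⟨m * q, ?_⟩
    rw [hq, pow_mul, hm, zpow_mul, zpow_natCast])
  refine ⟨⟨v, fun c => (hv _).mpr (hgk c), hvs⟩, ?_⟩
  ext w
  exact (hv w).trans (V.valuation_le_one_iff w)

theorem FF.exists_place_pos (h : FF k K) {x : K} (hx : Transcendental k x) :
    ∃ P : Place k K, 0 < P.ord x := by
  let A := Algebra.adjoin k ({x} : Set K)
  have hxA : x ∈ A := Algebra.subset_adjoin rfl
  let I : Ideal A.toSubring := Ideal.span {⟨x, hxA⟩}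
  have hI : I ≠ ⊤ := by
    intro htop
    obtain ⟨⟨a, ha⟩, hax⟩ := Ideal.mem_span_singleton'.mp
      (htop.symm ▸ Submodule.mem_top : (1 : A.toSubring) ∈ I)
    have hax' : a * x = 1 := congrArg Subtype.val hax
    replace ha : a ∈ (Polynomial.aeval (R := k) x).range := by
      rw [← Algebra.adjoin_singleton_eq_range_aeval]; exact ha
    obtain ⟨p, rfl⟩ := ha
    apply hx
    refine ⟨p * X - 1, ?_, by simp [show (Polynomial.aeval x) p * x = 1 from hax']⟩
    intro h0
    simpa using congrArg (fun q : k[X] => q.coeff 0) h0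
  obtain ⟨B, hAB, hIB⟩ := Ideal.image_subset_nonunits_valuationSubring I hI
  have hxB : x ∈ B.nonunits := hIB ⟨_, Ideal.subset_span rfl, rfl⟩
  have hx0 : x ≠ 0 := fun h => hx (h ▸ isAlgebraic_zero)
  have hB : B ≠ ⊤ := by
    rintro rfl
    rcases (ValuationSubring.mem_nonunits_iff_or _).mp hxB with h | h
    · exact hx0 h
    · exact h (ValuationSubring.mem_top _)
  obtain ⟨P, rfl⟩ := h.exists_place B (fun c => hAB (A.algebraMap_mem c)) hB
  refine ⟨P, ?_⟩
  rcases (ValuationSubring.mem_nonunits_iff_or _).mp hxB with h | h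
  · exact absurd h hx0
  · have := (not_congr (val_le_one_iff P)).mp h
    rw [ord_inv] at this
    omega

theorem FF.exists_place_neg (h : FF k K) {x : K} (hx : Transcendental k x) :
    ∃ P : Place k K, P.ord x < 0 := by
  obtain ⟨P, hP⟩ := h.exists_place_pos (x := x⁻¹) (fun ha => hx (by simpa using ha.inv))
  exact ⟨P, by rw [ord_inv] at hP; omega⟩

end Groth.Agent.FF30
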