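import Groth.Agent.FF30.RelDim
import Groth.Agent.FF30.Approx
import Groth.Agent.FF30.Exist
import Mathlib.RingTheory.Localization.FractionRing
import Mathlib.LinearAlgebra.Dimension.Constructions

/-! The filtration of a place, residue fields, and the fundamental inequality. -/

open FunFld WithZero IntermediateField Polynomial
open scoped Multiplicative

namespace Groth.Agent.FF30

variable {k K : Type*} [Field k] [Field K] [Algebra k K]

/-- Elements of value `≤ exp n` at `P`. -/
def Fil (P : Place k K) (n : ℤ) : Submodule k K where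
  carrier := {z | P.1 z ≤ exp n}
  add_mem' {a b} ha hb := (P.1.map_add _ _).trans (max_le ha hb)
  zero_mem' := by simp
  smul_mem' c a ha := (val_smul_le P c a).trans ha

theorem mem_Fil {P : Place k K} {n : ℤ} {z : K} : z ∈ Fil P n ↔ P.1 z ≤ exp n := Iff.rfl

theorem Fil_mono (P : Place k K) {a b : ℤ} (h : a ≤ b) : Fil P a ≤ Fil P b :=
  fun _ hz => le_trans hz (exp_le_exp.mpr h)

theorem mul_inv_mem (P : Place k K) (n : ℤ) {t : K} (ht : P.1 t = exp n) (z : Fil P n) :
    (z : K) * t⁻¹ ∈ P.O := by
  change P.1 ((z : K) * t⁻¹) ≤ 1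
  rw [map_mul, map_inv₀, ht, ← exp_neg]
  exact (mul_le_mul' z.2 le_rfl).trans_eq (by rw [← exp_add, add_neg_cancel, exp_zero])

/-- Residue of `z / t`, where `P t = exp n`. -/
noncomputable def resMap (P : Place k K) (n : ℤ) {t : K} (ht : P.1 t = exp n) :
    Fil P n →ₗ[k] IsLocalRing.ResidueField P.O where
  toFun z := IsLocalRing.residue P.O ⟨(z : K) * t⁻¹, mul_inv_mem P n ht z⟩
  map_add' x y := by
    rw [← map_add]
    congr 1
    exact Subtype.ext (by simp [add_mul])
  map_smul' c x := by
    refine Eq.trans ?_ (Algebra.smul_def c _).symm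
    change _ = IsLocalRing.residue P.O (algebraMap k P.O c) * _
    refine Eq.trans ?_ (map_mul (IsLocalRing.residue P.O) _ _)
    congr 1
    apply Subtype.ext
    change ((c • x : Fil P n) : K) * t⁻¹ = algebraMap k K c * ((x : K) * t⁻¹)
    rw [Submodule.coe_smul, Algebra.smul_def, mul_assoc]

theorem resMap_eq_zero_iff (P : Place k K) (n : ℤ) {t : K} (ht : P.1 t = exp n) (z : Fil P n) :
    resMap P n ht z = 0 ↔ P.1 (z : K) ≤ exp (n - 1) := by
  change IsLocalRing.residue P.O _ = 0 ↔ _
  rw [IsLocalRing.residue_eq_zero_iff, Valuation.mem_maximalIdeal_iff]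
  change P.1 ((z : K) * t⁻¹) < 1 ↔ _
  have hne : exp n ≠ 0 := exp_ne_zero
  rw [map_mul, map_inv₀, ht]
  rcases eq_or_ne (z : K) 0 with h | h
  · simp [h]
  · rw [val_eq P h, ← exp_neg, ← exp_add, ← exp_zero, exp_lt_exp, exp_le_exp]
    omega

theorem resMap_surjective (P : Place k K) (n : ℤ) {t : K} (ht : P.1 t = exp n) :
    Function.Surjective (resMap P n ht) := by
  intro r
  obtain ⟨⟨a, ha⟩, rfl⟩ := IsLocalRing.residue_surjective r
  have ht0 : t ≠ 0 := fun h => exp_ne_zero (by rw [← ht, h, map_zero])
  refine ⟨⟨a * t, ?_⟩, ?_⟩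
  · rw [mem_Fil, map_mul, ht]
    exact (mul_le_mul' ha le_rfl).trans_eq (one_mul _)
  · change IsLocalRing.residue P.O _ = _
    congr 1
    exact Subtype.ext (by simp [mul_assoc, mul_inv_cancel₀ ht0])

theorem filStep_exists_equiv (P : Place k K) (n : ℤ) :
    Nonempty (RQ (Fil P (n - 1)) (Fil P n) ≃ₗ[k] IsLocalRing.ResidueField P.O) := by
  obtain ⟨t, -, ht⟩ := exists_val_eq P n
  refine ⟨(Submodule.quotEquivOfEq _ _ ?_).trans
    ((resMap P n ht).quotKerEquivOfSurjective (resMap_surjective P n ht))⟩
  ext z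
  rw [LinearMap.mem_ker, resMap_eq_zero_iff]
  rfl

theorem fil_finrank (P : Place k K) [FiniteDimensional k (IsLocalRing.ResidueField P.O)]
    {a b : ℤ} (h : a ≤ b) :
    Module.Finite k (RQ (Fil P a) (Fil P b)) ∧
      (Module.finrank k (RQ (Fil P a) (Fil P b)) : ℤ) = (b - a) * P.deg := by
  induction b, h using Int.leInduction with
  | base => exact ⟨rq_finite_self, by rw [rq_finrank_self]; simp⟩
  | succ b hab ih =>
    obtain ⟨e⟩ := filStep_exists_equiv P (b + 1)
    rw [show b + 1 - 1 = b by ring] at e
    have := ih.1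
    have : Module.Finite k (RQ (Fil P b) (Fil P (b + 1))) := Module.Finite.equiv e.symm
    refine ⟨rq_finite_trans (Fil_mono P hab) (Fil_mono P (by omega)), ?_⟩
    rw [rq_finrank_trans (Fil_mono P hab) (Fil_mono P (by omega)), e.finrank_eq]
    push_cast
    rw [ih.2]
    change _ + (P.deg : ℤ) = _
    ring

theorem val_aeval_le (P : Place k K) {x : K} (hx : P.1 x ≤ 1) (p : k[X]) :
    P.1 (aeval x p) ≤ 1 :=
  val_aeval_le_one P.1 P.2.1 hx p

theorem linearIndependent_of_mod {x : K} (hx : Transcendental k x) (S : Finset (Place k K))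
    (hS : ∀ P ∈ S, 0 < P.ord x) {ι : Type*} [Fintype ι] (z : ι → K)
    (hz : ∀ P ∈ S, ∀ i, P.1 (z i) ≤ 1)
    (h : ∀ c : ι → k, (∀ P ∈ S, P.1 (∑ i, c i • z i) ≤ exp (-P.ord x)) → c = 0) :
    LinearIndependent k⟮x⟯ z := by
  classical
  have hx0 : x ≠ 0 := fun h0 => hx (h0 ▸ isAlgebraic_zero)
  have hxS : ∀ P ∈ S, P.1 x ≤ 1 := fun P hP => (val_le_one_iff P).mpr (hS P hP).le
  have key : ∀ (N : ℕ) (p : ι → k[X]), (∀ i, (p i).natDegree ≤ N) →
      ∑ i, aeval x (p i) * z i = 0 → p = 0 := by
    intro N
    induction N using Nat.strong_induction_on with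
    | _ N ih =>
      intro p hN hsum
      have hsplit : ∀ i, aeval x (p i) * z i =
          (p i).coeff 0 • z i + x * (aeval x (p i).divX * z i) := by
        intro i
        conv_lhs => rw [← Polynomial.X_mul_divX_add (p i)]
        rw [map_add, map_mul, aeval_X, aeval_C, Algebra.smul_def]
        ring
      rw [Finset.sum_congr rfl fun i _ => hsplit i, Finset.sum_add_distrib, ← Finset.mul_sum] at hsum
      have hc : (fun i => (p i).coeff 0) = 0 := by
        refine h _ fun P hP => ?_
        rw [eq_neg_of_add_eq_zero_left hsum, Valuation.map_neg, map_mul, val_eq P hx0]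
        refine mul_le_of_le_one_right' (P.1.map_sum_le fun i _ => ?_)
        rw [map_mul]
        exact mul_le_one' (val_aeval_le P (hxS P hP) _) (hz P hP i)
      have hc' : ∀ i, (p i).coeff 0 = 0 := fun i => congrFun hc i
      have hq : (fun i => (p i).divX) = 0 := by
        rcases Nat.eq_zero_or_pos N with hN0 | hN0
        · funext i
          show (p i).divX = 0
          rw [Polynomial.eq_C_of_natDegree_le_zero (le_of_le_of_eq (hN i) hN0)]
          simp
        · refine ih (N - 1) (by omega) _ (fun i => ?_) ?_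
          · rw [natDegree_divX_eq_natDegree_tsub_one]; have := hN i; omega
          · simp only [hc', zero_smul, Finset.sum_const_zero, zero_add, mul_eq_zero, hx0,
              false_or] at hsum
            exact hsum
      funext i
      have hi : (p i).divX = 0 := congrFun hq i
      rw [← Polynomial.X_mul_divX_add (p i), hi, hc' i]
      simp
  rw [Fintype.linearIndependent_iff]
  intro g hg
  have hg' : ∀ i, ∃ r s : k[X], aeval x s ≠ 0 ∧ (g i : K) = aeval x r / aeval x s := by
    intro i
    obtain ⟨r, s, hrs⟩ := (IntermediateField.mem_adjoin_simple_iff k _).mp (g i).2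
    by_cases hs : aeval x s = 0
    · exact ⟨0, 1, by simp, by simp [hrs, hs]⟩
    · exact ⟨r, s, hs, hrs⟩
  choose r s hs hrs using hg'
  have hp : (fun i => r i * ∏ j ∈ Finset.univ.erase i, s j) = 0 := by
    refine key (Finset.univ.sup fun i => (r i * ∏ j ∈ Finset.univ.erase i, s j).natDegree) _
      (fun i => Finset.le_sup (f := fun i => (r i * ∏ j ∈ Finset.univ.erase i, s j).natDegree)
        (Finset.mem_univ i)) ?_
    have : ∀ i, aeval x (r i * ∏ j ∈ Finset.univ.erase i, s j) * z i =
        (∏ j, aeval x (s j)) * ((g i : K) * z i) := by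
      intro i
      rw [hrs i, map_mul, map_prod, ← Finset.mul_prod_erase _ _ (Finset.mem_univ i)]
      field_simp [hs i]
    rw [Finset.sum_congr rfl fun i _ => this i, ← Finset.mul_sum]
    have hg2 : ∑ i, (g i : K) * z i = 0 := by simpa [Algebra.smul_def] using hg
    rw [hg2, mul_zero]
  intro i
  have hi := congrFun hp i
  rcases mul_eq_zero.mp hi with hr | hpr
  · apply Subtype.ext
    rw [hrs i, hr]
    simp
  · obtain ⟨j, -, hj⟩ := Finset.prod_eq_zero_iff.mp hpr
    exact absurd (by rw [hj, map_zero]) (hs j)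

theorem FF.finite_residueField (h : FF k K) (P : Place k K) :
    FiniteDimensional k (IsLocalRing.ResidueField P.O) := by
  obtain ⟨t, ht0, ht⟩ := exists_ord_eq P 1
  have htr : Transcendental k t := transcendental_of_ord_ne_zero P (by omega)
  have := h.finiteDimensional_adjoin htr
  classical
  rw [FiniteDimensional, ← Module.rank_lt_aleph0_iff]
  refine lt_of_le_of_lt (rank_le (n := Module.finrank k⟮t⟯ K) fun s hs => ?_)
    Cardinal.natCast_lt_aleph0
  choose w hw using fun r : s => IsLocalRing.residue_surjective (r : IsLocalRing.ResidueField P.O)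
  have hli : LinearIndependent k⟮t⟯ (fun r : s => ((w r : P.O) : K)) := by
    refine linearIndependent_of_mod htr {P} (by simp [ht]) _
      (fun Q hQ r => by obtain rfl := Finset.mem_singleton.mp hQ; exact (w r).2) fun c hc => ?_
    have h0 : IsLocalRing.residue P.O (∑ r, c r • w r) = 0 := by
      rw [IsLocalRing.residue_eq_zero_iff, Valuation.mem_maximalIdeal_iff]
      have hh := hc P (Finset.mem_singleton_self P)
      rw [ht] at hh
      refine lt_of_le_of_lt (le_trans (le_of_eq ?_) hh) (by rw [← exp_zero, exp_lt_exp]; omega)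
      congr 1
      rw [AddSubmonoidClass.coe_finsetSum]
      refine Finset.sum_congr rfl fun r _ => ?_
      rw [Algebra.smul_def, Algebra.smul_def]
      rfl
    rw [map_sum] at h0
    have h1 : ∑ r, c r • (r : IsLocalRing.ResidueField P.O) = 0 := by
      rw [← h0]
      refine Finset.sum_congr rfl fun r _ => ?_
      refine (Algebra.smul_def (c r) _).trans ?_
      rw [Algebra.smul_def, map_mul, hw r]
      rfl
    exact funext fun r => Fintype.linearIndependent_iff.mp hs c h1 r
  simpa using hli.fintype_card_le_finrank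

end Groth.Agent.FF30
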