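import Groth.Agent.FF30.RR
import Groth.Agent.FF30.Fil
import Groth.Agent.FF30.Basic
import Groth.Prelude.Def_W4bk4goldsch45
import Mathlib.FieldTheory.Finiteness
import Mathlib.FieldTheory.Finite.Basic
import Mathlib.Algebra.BigOperators.Finprod
import Mathlib.Order.Interval.Finset.Nat

/-! Counting divisors over a finite constant field. -/

open FunFld WithZero
open scoped Multiplicative

namespace Groth.Agent.FF30

variable {k K : Type*} [Field k] [Field K] [Algebra k K]

theorem degHom_eq (D : Divisor k K) : degHom k K D = D.deg := by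
  simp only [degHom, Finsupp.liftAddHom_apply, Divisor.deg]
  rfl

theorem mem_prinDivs_iff (h : FF k K) {D : Divisor k K} :
    D ∈ prinDivs k K ↔ ∃ x : K, x ≠ 0 ∧ D = div k x := by
  constructor
  · intro hD
    induction hD using AddSubgroup.closure_induction with
    | mem D hD =>
      obtain ⟨x, rfl⟩ := hD
      rcases eq_or_ne x 0 with rfl | hx
      · exact ⟨1, one_ne_zero, Finsupp.ext fun P => by rw [h.div_apply, h.div_apply, ord_zero, ord_one]⟩
      · exact ⟨x, hx, rfl⟩
    | zero =>
      exact ⟨1, one_ne_zero, Finsupp.ext fun P => by rw [h.div_apply, ord_one]; rfl⟩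
    | add D E _ _ hD hE =>
      obtain ⟨x, hx, rfl⟩ := hD
      obtain ⟨y, hy, rfl⟩ := hE
      exact ⟨x * y, mul_ne_zero hx hy, (h.div_mul hx hy).symm⟩
    | neg D _ hD =>
      obtain ⟨x, hx, rfl⟩ := hD
      exact ⟨x⁻¹, inv_ne_zero hx, (h.div_inv x).symm⟩
  · rintro ⟨x, -, rfl⟩
    exact AddSubgroup.subset_closure ⟨x, rfl⟩

theorem div_mem_prinDivs (x : K) : div k x ∈ prinDivs k K :=
  AddSubgroup.subset_closure ⟨x, rfl⟩

/-- The group of degree-zero classes. -/
abbrev Cl (k K : Type*) [Field k] [Field K] [Algebra k K] :=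
  (degHom k K).ker ⧸ (prinDivs k K).addSubgroupOf (degHom k K).ker

theorem deg_clOut (c : Cl k K) : ((c.out : (degHom k K).ker) : Divisor k K).deg = 0 := by
  rw [← degHom_eq]
  exact AddMonoidHom.mem_ker.mp c.out.2

theorem deg_eq_zero_of_mem_prinDivs (h : FF k K) {D : Divisor k K} (hD : D ∈ prinDivs k K) :
    D.deg = 0 := by
  obtain ⟨x, -, rfl⟩ := (mem_prinDivs_iff h).mp hD
  exact h.deg_div x

/-- Effective divisors linearly equivalent to `D`. -/
def EffClass (D : Divisor k K) : Type _ :=
  {E : Divisor k K // 0 ≤ E ∧ E - D ∈ prinDivs k K}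

/-- The sum of `q ^ ℓ` over the divisor classes of the degree of `D`. -/
noncomputable def classA (D : Divisor k K) : ℕ :=
  ∑ᶠ c : Cl k K, Nat.card k ^ ell (D + ((c.out : (degHom k K).ker) : Divisor k K))

theorem ell_congr (h : FF k K) {D E : Divisor k K} (hDE : D - E ∈ prinDivs k K) :
    ell D = ell E := by
  obtain ⟨x, hx, hxD⟩ := (mem_prinDivs_iff h).mp hDE
  rw [show D = E + div k x by rw [← hxD, add_sub_cancel], h.ell_add_div E hx]

section finite

variable [Finite k]

theorem FF.finite_deg_le (h : FF k K) (n : ℕ) : {P : Place k K | P.deg ≤ n}.Finite := by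
  classical
  obtain ⟨x, hx, -⟩ := id h
  set q := Nat.card k
  have hq : 1 < q := Finite.one_lt_card
  refine ((h.finite_support_ord x).union (Set.finite_iUnion fun d : Fin (n + 1) =>
    h.zeros_finite (x ^ q ^ (d : ℕ) - x))).subset fun P hP => ?_
  by_cases hPx : P.ord x = 0
  swap
  · exact Or.inl hPx
  refine Or.inr (Set.mem_iUnion.mpr ⟨⟨P.deg, Nat.lt_succ_of_le hP⟩, ?_⟩)
  have hne : x ^ q ^ P.deg - x ≠ 0 := by
    intro h0
    refine hx ⟨Polynomial.X ^ q ^ P.deg - Polynomial.X, fun hp => ?_, by simp [h0]⟩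
    have h1 := congrArg (fun p : Polynomial k => p.coeff 1) hp
    have h2 : 1 ≠ q ^ P.deg := (Nat.one_lt_pow (h.deg_pos P).ne' hq).ne
    simp [Polynomial.coeff_X_pow, h2] at h1
  refine (val_lt_one_iff P hne).mp ?_
  have hx1 : P.1 x ≤ 1 := (val_le_one_iff P).mpr hPx.ge
  have := h.finite_residueField P
  have hcard : Nat.card (IsLocalRing.ResidueField P.O) = q ^ P.deg :=
    Module.natCard_eq_pow_finrank (K := k)
  have : Finite (IsLocalRing.ResidueField P.O) := Module.finite_of_finite k
  have := Fintype.ofFinite (IsLocalRing.ResidueField P.O)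
  have h1 : (IsLocalRing.residue P.O ⟨x, hx1⟩) ^ q ^ P.deg = IsLocalRing.residue P.O ⟨x, hx1⟩ := by
    rw [← hcard, Nat.card_eq_fintype_card]
    exact FiniteField.pow_card _
  rw [← map_pow, ← sub_eq_zero, ← map_sub, IsLocalRing.residue_eq_zero_iff] at h1
  exact (Valuation.mem_maximalIdeal_iff (v := P.1)).mp h1

theorem FF.finite_eff (h : FF k K) (n : ℕ) : {E : Divisor k K | 0 ≤ E ∧ E.deg = n}.Finite := by
  classical
  set S := (h.finite_deg_le n).toFinset
  have key : ∀ E : Divisor k K, 0 ≤ E → E.deg = n → ∀ P, E P * (P.deg : ℤ) ≤ n := by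
    intro E hE hdeg P
    rw [← hdeg]
    by_cases hP : P ∈ E.support
    · exact Finset.single_le_sum (f := fun R => E R * (R.deg : ℤ))
        (fun R _ => mul_nonneg (hE R) (Int.natCast_nonneg _)) hP
    · rw [Finsupp.notMem_support_iff.mp hP, zero_mul, hdeg]
      exact Int.natCast_nonneg n
  have hsupp : ∀ E : Divisor k K, 0 ≤ E → E.deg = n → ∀ P, P ∉ S → E P = 0 := by
    intro E hE hdeg P hP
    have h1 := key E hE hdeg P
    have h2 : (n : ℤ) < P.deg := by
      simp only [S, Set.Finite.mem_toFinset, Set.mem_setOf_eq, not_le] at hP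
      exact_mod_cast hP
    have h3 : 0 ≤ E P := hE P
    nlinarith
  have : Finite {E : Divisor k K | 0 ≤ E ∧ E.deg = n} := by
    refine Finite.of_injective (fun E (P : S) => (⟨(E.1 P.1).toNat, ?_⟩ : Fin (n + 1)))
      fun E E' hEE => Subtype.ext (Finsupp.ext fun P => ?_)
    · have h1 := key E.1 E.2.1 E.2.2 P.1
      have h2 : (1 : ℤ) ≤ (P.1.deg : ℤ) := by exact_mod_cast h.deg_pos P.1
      have h3 : 0 ≤ E.1 P.1 := E.2.1 P.1
      have : E.1 P.1 ≤ n := by nlinarith
      omega
    · by_cases hP : P ∈ S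
      · have h1 := congrArg (fun f => ((f ⟨P, hP⟩ : Fin (n + 1)) : ℕ)) hEE
        have h2 : 0 ≤ E.1 P := E.2.1 P
        have h3 : 0 ≤ E'.1 P := E'.2.1 P
        simp only at h1
        omega
      · rw [hsupp E.1 E.2.1 E.2.2 P hP, hsupp E'.1 E'.2.1 E'.2.2 P hP]
  exact Set.toFinite _

theorem FF.card_L (h : FF k K) (D : Divisor k K) : Nat.card (L D) = Nat.card k ^ ell D := by
  have := h.finite_L D
  exact Module.natCard_eq_pow_finrank

theorem finite_effClass (h : FF k K) (D : Divisor k K) : Finite (EffClass D) := by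
  rcases lt_or_ge D.deg 0 with hD | hD
  · have : IsEmpty (EffClass D) := ⟨fun E => by
      have h1 := deg_eq_zero_of_mem_prinDivs h E.2.2
      have h2 := deg_mono E.2.1
      rw [deg_sub] at h1
      simp [Divisor.deg] at h2 h1 hD
      omega⟩
    infer_instance
  · obtain ⟨n, hn⟩ := Int.eq_ofNat_of_zero_le hD
    have := (h.finite_eff n).to_subtype
    refine Finite.of_injective (β := {E : Divisor k K | 0 ≤ E ∧ E.deg = n})
      (fun E => ⟨E.1, E.2.1, ?_⟩) fun E E' he => Subtype.ext (congrArg (fun z => z.1) he :)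
    have h1 := deg_eq_zero_of_mem_prinDivs h E.2.2
    rw [deg_sub] at h1
    omega

/-- The projective space of `L D`. -/
theorem card_effClass (hK : IsFunctionField k K) (D : Divisor k K) :
    (Nat.card k - 1) * Nat.card (EffClass D) + 1 = Nat.card k ^ ell D := by
  classical
  have h : FF k K := hK.1
  have := h.finite_L D
  have : Finite (L D) := Module.finite_of_finite k
  have := finite_effClass h D
  have hex : ∀ E : EffClass D, ∃ x : K, x ≠ 0 ∧ E.1 - D = div k x :=
    fun E => (mem_prinDivs_iff h).mp E.2.2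
  choose fE hfE0 hfE using hex
  have hmemL : ∀ E : EffClass D, fE E ∈ L D := fun E => by
    rw [mem_L_iff_ord (hfE0 E)]
    intro P
    have h1 := congrArg (fun Z : Divisor k K => Z P) (hfE E)
    simp only [Finsupp.sub_apply, h.div_apply] at h1
    have h2 : 0 ≤ E.1 P := E.2.1 P
    omega
  let Φ : EffClass D × kˣ → {f : L D // f ≠ 0} := fun x =>
    ⟨⟨(x.2 : k) • fE x.1, (L D).smul_mem _ (hmemL x.1)⟩, fun h0 => by
      have := congrArg Subtype.val h0
      simp [hfE0 x.1] at this⟩
  have hΦ : Function.Bijective Φ := by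
    constructor
    · rintro ⟨E, c⟩ ⟨E', c'⟩ he
      have h1 : (c : k) • fE E = (c' : k) • fE E' := congrArg (fun z => ((z.1 : L D) : K)) he
      have hd : div k (fE E) = div k (fE E') := by
        have key : ∀ (c : kˣ) (x : K), div k ((c : k) • x) = div k x := fun c x => by
          ext P
          rw [h.div_apply, h.div_apply]
          rcases eq_or_ne x 0 with rfl | hx
          · simp
          rw [Algebra.smul_def, ord_mul P (by simp) hx, ord_algebraMap, zero_add]
        rw [← key c, h1, key c']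
      have hEE : E = E' := Subtype.ext (by rw [← sub_left_inj (a := D), hfE, hfE, hd])
      subst hEE
      refine Prod.ext rfl (Units.ext ?_)
      exact smul_left_injective k (hfE0 E) h1
    · rintro ⟨⟨f, hf⟩, hf0⟩
      have hf0' : f ≠ 0 := fun h0 => hf0 (Subtype.ext h0)
      let E : EffClass D := ⟨D + div k f, fun P => by
        have h1 := (mem_L_iff_ord hf0').mp hf P
        rw [Finsupp.coe_zero, Pi.zero_apply, Finsupp.add_apply, h.div_apply]
        omega, by rw [add_sub_cancel_left]; exact div_mem_prinDivs f⟩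
      have hd : div k (fE E) = div k f := by rw [← hfE E]; exact add_sub_cancel_left D _
      have halg : IsAlgebraic k (f / fE E) := by
        by_contra htr
        obtain ⟨P, hP⟩ := h.exists_place_pos htr
        rw [ord_div P hf0' (hfE0 E)] at hP
        have h1 := congrArg (fun Z : Divisor k K => Z P) hd
        simp only [h.div_apply] at h1
        omega
      obtain ⟨c, hc⟩ := hK.2 _ halg
      have hc0 : c ≠ 0 := by
        rintro rfl
        rw [map_zero] at hc
        exact div_ne_zero hf0' (hfE0 E) hc.symm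
      refine ⟨(E, Units.mk0 c hc0), Subtype.ext (Subtype.ext ?_)⟩
      change c • fE E = f
      rw [Algebra.smul_def, hc, div_mul_cancel₀ _ (hfE0 E)]
  have h1 := Nat.card_congr (Equiv.ofBijective Φ hΦ)
  rw [Nat.card_prod, Nat.card_units] at h1
  have := Fintype.ofFinite (L D)
  have h2 : Nat.card {f : L D // f ≠ 0} + 1 = Nat.card (L D) := by
    rw [Nat.card_eq_fintype_card, Nat.card_eq_fintype_card, Fintype.card_subtype_compl,
      Fintype.card_subtype_eq]
    have : 0 < Fintype.card (L D) := Fintype.card_pos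
    omega
  rw [← h.card_L, ← h2, ← h1, Nat.mul_comm]

theorem exists_deg_ge (h : FF k K) (N : ℕ) : ∃ (n : ℕ) (D : Divisor k K), N ≤ n ∧ D.deg = n := by
  obtain ⟨P⟩ := h.nonempty_place
  refine ⟨N * P.deg, N • Finsupp.single P 1, Nat.le_mul_of_pos_right N (h.deg_pos P), ?_⟩
  rw [deg_nsmul]
  simp [Divisor.deg]

theorem finite_Cl (hK : IsFunctionField k K) : Finite (Cl k K) := by
  classical
  have h : FF k K := hK.1
  obtain ⟨n, D, hn, hD⟩ := exists_deg_ge h (genus k K)
  have := (h.finite_eff n).to_subtype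
  refine Finite.of_surjective
    (fun E : {E : Divisor k K | 0 ≤ E ∧ E.deg = n} => (QuotientAddGroup.mk
      (⟨E.1 - D, AddMonoidHom.mem_ker.mpr (by rw [degHom_eq, deg_sub, E.2.2, hD, sub_self])⟩ :
        (degHom k K).ker) : Cl k K)) ?_
  intro c
  obtain ⟨x, hx⟩ := exists_ne_zero_of_ell_pos
    (D := D + ((c.out : (degHom k K).ker) : Divisor k K)) (by
      have h1 := h.delta_le_genus (D + ((c.out : (degHom k K).ker) : Divisor k K))
      rw [delta, deg_add, hD, deg_clOut] at h1
      omega)
  obtain ⟨hxL, hx0⟩ := hx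
  refine ⟨⟨D + ((c.out : (degHom k K).ker) : Divisor k K) + div k x, fun P => ?_, ?_⟩, ?_⟩
  · have h1 := (mem_L_iff_ord hx0).mp hxL P
    rw [Finsupp.coe_zero, Pi.zero_apply, Finsupp.add_apply, h.div_apply]
    omega
  · rw [deg_add, deg_add, hD, deg_clOut, h.deg_div, add_zero, add_zero]
  · refine (QuotientAddGroup.eq.mpr ?_).trans c.out_eq
    rw [AddSubgroup.mem_addSubgroupOf]
    simp only [AddSubgroup.coe_add, AddSubgroup.coe_neg]
    rw [show -(D + ((c.out : (degHom k K).ker) : Divisor k K) + div k x - D) +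
      ((c.out : (degHom k K).ker) : Divisor k K) = -div k x by abel]
    exact neg_mem (div_mem_prinDivs x)

theorem classNum_pos (hK : IsFunctionField k K) : 0 < classNum k K := by
  have := finite_Cl hK
  exact Nat.card_pos

theorem classNum_eq_sum [Fintype (Cl k K)] : classNum k K = ∑ _c : Cl k K, 1 := by
  rw [← Finset.card_eq_sum_ones, Finset.card_univ, ← Nat.card_eq_fintype_card]
  rfl

/-- The number of effective divisors in terms of the classes. -/
theorem effDivCount_formula (hK : IsFunctionField k K) {n : ℕ} {D : Divisor k K} (hD : D.deg = n) :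
    (Nat.card k - 1) * effDivCount k K n + classNum k K = classA D := by
  classical
  have h : FF k K := hK.1
  have := finite_Cl hK
  have := Fintype.ofFinite (Cl k K)
  have := fun E : Divisor k K => finite_effClass h E
  let e : {E : Divisor k K // 0 ≤ E ∧ E.deg = n} ≃
      Σ c : Cl k K, EffClass (D + ((c.out : (degHom k K).ker) : Divisor k K)) :=
    { toFun := fun E => ⟨QuotientAddGroup.mk
        (⟨E.1 - D, AddMonoidHom.mem_ker.mpr (by rw [degHom_eq, deg_sub, E.2.2, hD, sub_self])⟩ :
          (degHom k K).ker), E.1, E.2.1, by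
        set y : (degHom k K).ker :=
          ⟨E.1 - D, AddMonoidHom.mem_ker.mpr (by rw [degHom_eq, deg_sub, E.2.2, hD, sub_self])⟩
        have h1 : -(QuotientAddGroup.mk y : Cl k K).out + y ∈
            (prinDivs k K).addSubgroupOf (degHom k K).ker :=
          QuotientAddGroup.eq.mp (QuotientAddGroup.mk y : Cl k K).out_eq
        rw [AddSubgroup.mem_addSubgroupOf] at h1
        simp only [AddSubgroup.coe_add, AddSubgroup.coe_neg] at h1
        convert h1 using 1
        simp only [y]
        abel⟩
      invFun := fun x => ⟨x.2.1, x.2.2.1, by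
        have h1 := deg_eq_zero_of_mem_prinDivs h x.2.2.2
        rw [deg_sub, deg_add, hD, deg_clOut] at h1
        omega⟩
      left_inv := fun E => rfl
      right_inv := fun ⟨c, E, hE, hEp⟩ => by
        refine Sigma.subtype_ext ?_ rfl
        refine (QuotientAddGroup.eq.mpr ?_).trans c.out_eq
        rw [AddSubgroup.mem_addSubgroupOf]
        simp only [AddSubgroup.coe_add, AddSubgroup.coe_neg]
        rw [show -(E - D) + ((c.out : (degHom k K).ker) : Divisor k K) =
          -(E - (D + ((c.out : (degHom k K).ker) : Divisor k K))) by abel]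
        exact neg_mem hEp }
  rw [effDivCount, Nat.card_congr e, Nat.card_sigma, classA, finsum_eq_sum_of_fintype, Finset.mul_sum]
  rw [classNum_eq_sum, ← Finset.sum_add_distrib]
  exact Finset.sum_congr rfl fun c _ => card_effClass hK _

theorem classA_of_neg (hK : IsFunctionField k K) {D : Divisor k K} (hD : D.deg < 0) :
    classA D = classNum k K := by
  have h : FF k K := hK.1
  have := finite_Cl hK
  have := Fintype.ofFinite (Cl k K)
  rw [classA, finsum_eq_sum_of_fintype]
  rw [classNum_eq_sum]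
  refine Finset.sum_congr rfl fun c _ => ?_
  rw [ell, h.L_eq_bot_of_deg_neg (by rw [deg_add, deg_clOut]; omega), finrank_bot, pow_zero]

theorem classA_of_large (hK : IsFunctionField k K) {n : ℕ} {D : Divisor k K} (hD : D.deg = n)
    (hn : 2 * genus k K ≤ n + 1) :
    classA D = classNum k K * Nat.card k ^ (n + 1 - genus k K) := by
  have := finite_Cl hK
  have := Fintype.ofFinite (Cl k K)
  rw [classA, finsum_eq_sum_of_fintype]
  rw [classNum_eq_sum, Finset.sum_mul]
  refine Finset.sum_congr rfl fun c _ => ?_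
  rw [one_mul]
  congr 1
  have h1 := ell_eq_of_deg_gt hK (D := D + ((c.out : (degHom k K).ker) : Divisor k K))
    (by rw [deg_add, deg_clOut, hD]; omega)
  rw [deg_add, deg_clOut, hD] at h1
  omega

/-- Independence of the representative. -/
theorem classA_congr (hK : IsFunctionField k K) {D D' : Divisor k K} (hdd : D.deg = D'.deg) :
    classA D = classA D' := by
  classical
  have h : FF k K := hK.1
  have := finite_Cl hK
  have := Fintype.ofFinite (Cl k K)
  rw [classA, classA, finsum_eq_sum_of_fintype, finsum_eq_sum_of_fintype]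
  set y : (degHom k K).ker :=
    ⟨D - D', AddMonoidHom.mem_ker.mpr (by rw [degHom_eq, deg_sub, hdd, sub_self])⟩
  refine Fintype.sum_equiv (Equiv.addLeft (QuotientAddGroup.mk y : Cl k K)) _ _ fun c => ?_
  congr 1
  refine ell_congr h ?_
  set c' := Equiv.addLeft (QuotientAddGroup.mk y : Cl k K) c
  have h1 : -(y + c.out) + c'.out ∈ (prinDivs k K).addSubgroupOf (degHom k K).ker := by
    refine QuotientAddGroup.eq.mp ?_
    rw [QuotientAddGroup.mk_add, QuotientAddGroup.out_eq', QuotientAddGroup.out_eq']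
    rfl
  rw [AddSubgroup.mem_addSubgroupOf] at h1
  simp only [AddSubgroup.coe_add, AddSubgroup.coe_neg, y] at h1
  convert neg_mem h1 using 1
  abel

/-- Riemann-Roch symmetry. -/
theorem classA_reflect (hK : IsFunctionField k K) {C : Divisor k K} (hC : IsCanonical k K C)
    (D : Divisor k K) :
    (classA D : ℚ) = (Nat.card k : ℚ) ^ (D.deg + 1 - genus k K) * classA (C - D) := by
  classical
  have h : FF k K := hK.1
  have := finite_Cl hK
  have := Fintype.ofFinite (Cl k K)
  rw [classA, classA, finsum_eq_sum_of_fintype, finsum_eq_sum_of_fintype]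
  push_cast
  rw [Finset.mul_sum]
  refine Fintype.sum_equiv (Equiv.neg (Cl k K)) _ _ fun c => ?_
  have hq : (Nat.card k : ℚ) ≠ 0 := by exact_mod_cast (Nat.card_pos : 0 < Nat.card k).ne'
  have h1 := riemann_roch' hK hC (D + ((c.out : (degHom k K).ker) : Divisor k K))
  rw [deg_add, deg_clOut, add_zero] at h1
  have h2 : ell (C - D + (((Equiv.neg (Cl k K) c).out : (degHom k K).ker) : Divisor k K)) =
      ell (C - (D + ((c.out : (degHom k K).ker) : Divisor k K))) := by
    refine ell_congr h ?_
    have h3 : -(-c.out) + (Equiv.neg (Cl k K) c).out ∈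
        (prinDivs k K).addSubgroupOf (degHom k K).ker := by
      refine QuotientAddGroup.eq.mp ?_
      rw [QuotientAddGroup.mk_neg, QuotientAddGroup.out_eq', QuotientAddGroup.out_eq']
      rfl
    rw [AddSubgroup.mem_addSubgroupOf] at h3
    simp only [AddSubgroup.coe_add, AddSubgroup.coe_neg] at h3
    convert h3 using 1
    abel
  rw [h2, ← zpow_natCast, ← zpow_natCast, ← zpow_add₀ hq]
  congr 1

end finite

/-- The number of points over the degree `j` extension, by places. -/
noncomputable def frobSum (k K : Type*) [Field k] [Field K] [Algebra k K] (j : ℕ) : ℕ :=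
  ∑ᶠ P ∈ {P : Place k K | P.deg ∣ j}, P.deg

variable [Finite k]

theorem FF.finite_dvd (h : FF k K) {j : ℕ} (hj : j ≠ 0) : {P : Place k K | P.deg ∣ j}.Finite :=
  (h.finite_deg_le j).subset fun _ hP => Nat.le_of_dvd (Nat.pos_of_ne_zero hj) hP

/-- The Euler product, as a recursion. -/
theorem euler_rec (h : FF k K) (n : ℕ) :
    n * effDivCount k K n =
      ∑ j ∈ Finset.Icc 1 n, frobSum k K j * effDivCount k K (n - j) := by
  classical
  set S := (h.finite_deg_le n).toFinset
  have hF : ∀ m, (effDivCount k K m) = (h.finite_eff m).toFinset.card := fun m =>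
    Nat.card_eq_card_finite_toFinset (h.finite_eff m)
  have hfr : ∀ j ∈ Finset.Icc 1 n, frobSum k K j = ∑ P ∈ S, if P.deg ∣ j then P.deg else 0 := by
    intro j hj
    rw [Finset.mem_Icc] at hj
    rw [frobSum, finsum_mem_eq_finite_toFinset_sum _ (h.finite_dvd (j := j) (by omega)),
      ← Finset.sum_filter]
    refine Finset.sum_congr (Finset.ext fun P => ?_) fun _ _ => rfl
    simp only [Set.Finite.mem_toFinset, Set.mem_setOf_eq, Finset.mem_filter, S]
    exact ⟨fun hP => ⟨(Nat.le_of_dvd (by omega) hP).trans hj.2, hP⟩, fun hP => hP.2⟩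
  rw [Finset.sum_congr rfl fun j hj => by rw [hfr j hj]]
  simp only [Finset.sum_mul, ite_mul, zero_mul]
  rw [Finset.sum_comm]
  set F := (h.finite_eff n).toFinset
  have hmem : ∀ {m : ℕ} {E : Divisor k K}, E ∈ (h.finite_eff m).toFinset ↔ 0 ≤ E ∧ E.deg = m :=
    fun {m E} => (h.finite_eff m).mem_toFinset
  have hcoef : ∀ E ∈ F, ∀ P, (E P).toNat * P.deg ≤ n ∧ (P ∉ S → E P = 0) := by
    intro E hE P
    obtain ⟨hE0, hEdeg⟩ := hmem.mp hE
    have h1 : E P * (P.deg : ℤ) ≤ n := by
      rw [← hEdeg]
      by_cases hP : P ∈ E.support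
      · exact Finset.single_le_sum (f := fun R => E R * (R.deg : ℤ))
          (fun R _ => mul_nonneg (hE0 R) (Int.natCast_nonneg _)) hP
      · rw [Finsupp.notMem_support_iff.mp hP, zero_mul, hEdeg]; exact Int.natCast_nonneg n
    have h2 : 0 ≤ E P := hE0 P
    refine ⟨?_, fun hP => ?_⟩
    · have : (((E P).toNat * P.deg : ℕ) : ℤ) ≤ n := by push_cast; rw [Int.toNat_of_nonneg h2]; exact h1
      exact_mod_cast this
    · have h3 : (n : ℤ) < P.deg := by
        simp only [S, Set.Finite.mem_toFinset, Set.mem_setOf_eq, not_le] at hP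
        exact_mod_cast hP
      nlinarith
  have hdeg : ∀ E ∈ F, n = ∑ P ∈ S, P.deg * (E P).toNat := by
    intro E hE
    obtain ⟨hE0, hEdeg⟩ := hmem.mp hE
    have hsub : E.support ⊆ S := fun P hP => by
      by_contra hPS
      exact Finsupp.mem_support_iff.mp hP ((hcoef E hE P).2 hPS)
    have h1 := deg_eq_sum E hsub
    rw [hEdeg] at h1
    have h2 : ((∑ P ∈ S, P.deg * (E P).toNat : ℕ) : ℤ) = n := by
      push_cast
      rw [h1]
      exact Finset.sum_congr rfl fun P _ => by rw [Int.toNat_of_nonneg (hE0 P)]; ring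
    exact_mod_cast h2.symm
  calc n * effDivCount k K n = ∑ E ∈ F, n := by rw [hF, Finset.sum_const, smul_eq_mul, mul_comm]
    _ = ∑ E ∈ F, ∑ P ∈ S, P.deg * (E P).toNat := Finset.sum_congr rfl hdeg
    _ = ∑ P ∈ S, ∑ E ∈ F, P.deg * (E P).toNat := Finset.sum_comm
    _ = _ := Finset.sum_congr rfl fun P _ => ?_
  have hd := h.deg_pos P
  have hind : ∀ E ∈ F, (E P).toNat = ∑ i ∈ Finset.Icc 1 (n / P.deg), if (i : ℤ) ≤ E P then 1 else 0 := by
    intro E hE
    have h1 : (E P).toNat ≤ n / P.deg := (Nat.le_div_iff_mul_le hd).mpr (hcoef E hE P).1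
    have h2 : 0 ≤ E P := (hmem.mp hE).1 P
    rw [← Finset.sum_filter, ← Finset.card_eq_sum_ones]
    have : (Finset.Icc 1 (n / P.deg)).filter (fun i : ℕ => (i : ℤ) ≤ E P) = Finset.Icc 1 (E P).toNat := by
      ext i; simp only [Finset.mem_filter, Finset.mem_Icc]; omega
    rw [this, Nat.card_Icc]
    omega
  rw [Finset.sum_congr rfl fun E hE => by rw [hind E hE, Finset.mul_sum], Finset.sum_comm]
  rw [← Finset.sum_filter]
  refine Finset.sum_nbij' (fun i => i * P.deg) (fun j => j / P.deg) ?_ ?_ ?_ ?_ ?_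
  · intro i hi
    rw [Finset.mem_Icc] at hi
    rw [Finset.mem_filter, Finset.mem_Icc]
    refine ⟨⟨Nat.one_le_iff_ne_zero.mpr (Nat.mul_ne_zero (by omega) hd.ne'),
      (Nat.le_div_iff_mul_le hd).mp hi.2⟩, Nat.dvd_mul_left _ _⟩
  · intro j hj
    rw [Finset.mem_filter, Finset.mem_Icc] at hj
    rw [Finset.mem_Icc]
    exact ⟨(Nat.one_le_div_iff hd).mpr (Nat.le_of_dvd (by omega) hj.2), Nat.div_le_div_right hj.1.2⟩
  · intro i _; exact Nat.mul_div_cancel _ hd
  · intro j hj; exact Nat.div_mul_cancel (Finset.mem_filter.mp hj).2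
  · intro i hi
    rw [Finset.mem_Icc] at hi
    have hle : i * P.deg ≤ n := (Nat.le_div_iff_mul_le hd).mp hi.2
    simp only [mul_ite, mul_one, mul_zero]
    rw [← Finset.sum_filter, Finset.sum_const, smul_eq_mul, mul_comm, hF]
    congr 1
    refine Finset.card_nbij' (fun E => E - Finsupp.single P (i : ℤ))
      (fun E => E + Finsupp.single P (i : ℤ)) ?_ ?_ ?_ ?_
    · intro E hE
      rw [Finset.mem_coe, Finset.mem_filter] at hE
      obtain ⟨hE0, hEdeg⟩ := hmem.mp hE.1
      rw [Finset.mem_coe, hmem]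
      refine ⟨fun R => ?_, ?_⟩
      · rw [Finsupp.coe_zero, Pi.zero_apply, Finsupp.sub_apply]
        rcases eq_or_ne R P with rfl | hR
        · rw [Finsupp.single_eq_same]; omega
        · rw [Finsupp.single_eq_of_ne hR, sub_zero]; exact hE0 R
      · rw [deg_sub, hEdeg, Nat.cast_sub hle]
        simp [Divisor.deg]
    · intro E hE
      obtain ⟨hE0, hEdeg⟩ := hmem.mp hE
      rw [Finset.mem_coe, Finset.mem_filter, hmem]
      refine ⟨⟨add_nonneg hE0 (Finsupp.single_nonneg.mpr (Int.natCast_nonneg i)), ?_⟩, ?_⟩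
      · rw [deg_add, hEdeg, Nat.cast_sub hle]
        simp [Divisor.deg]
      · rw [Finsupp.add_apply, Finsupp.single_eq_same]
        have : 0 ≤ E P := hE0 P
        omega
    · intro E _; exact sub_add_cancel E _
    · intro E _; exact add_sub_cancel_right E _

end Groth.Agent.FF30
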