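import Groth.Agent.FF30.IntClosure
import Mathlib.RingTheory.Valuation.RamificationGroup
import Mathlib.FieldTheory.Galois.Basic
import Mathlib.GroupTheory.GroupAction.Quotient
import Mathlib.RingTheory.Norm.Transitivity

/-! Places in a finite Galois extension. -/

open FunFld WithZero
open scoped Multiplicative Pointwise

namespace Groth.Agent.FF30

variable {k K K' : Type*} [Field k] [Field K] [Field K'] [Algebra k K] [Algebra K K'] [Algebra k K']
variable [IsScalarTower k K K']
set_option linter.unusedSectionVars false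

/-- The place `Q ∘ σ`. -/
def placeComap (Q : Place k K') (σ : K' ≃ₐ[K] K') : Place k K' :=
  ⟨Q.1.comap (σ : K' →+* K'), fun c => by
      rw [Valuation.comap_apply, IsScalarTower.algebraMap_apply k K K']
      change Q.1 (σ (algebraMap K K' (algebraMap k K c))) ≤ 1
      rw [σ.commutes, ← IsScalarTower.algebraMap_apply]
      exact Q.2.1 c,
    fun v => by
      obtain ⟨x, hx⟩ := Q.2.2 v
      exact ⟨σ.symm x, by rw [Valuation.comap_apply]; simpa using hx⟩⟩

theorem placeComap_apply (Q : Place k K') (σ : K' ≃ₐ[K] K') (x : K') :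
    (placeComap Q σ).1 x = Q.1 (σ x) := rfl

theorem placeComap_ord (Q : Place k K') (σ : K' ≃ₐ[K] K') (x : K') :
    (placeComap Q σ).ord x = Q.ord (σ x) := rfl

theorem placeComap_one (Q : Place k K') : placeComap Q (1 : K' ≃ₐ[K] K') = Q :=
  Subtype.ext (Valuation.ext fun _ => rfl)

theorem placeComap_mul (Q : Place k K') (σ τ : K' ≃ₐ[K] K') :
    placeComap Q (σ * τ) = placeComap (placeComap Q σ) τ :=
  Subtype.ext (Valuation.ext fun _ => rfl)

theorem isOverWith_placeComap {Q : Place k K'} {P : Place k K} {e : ℕ} (h : IsOverWith Q P e)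
    (σ : K' ≃ₐ[K] K') : IsOverWith (placeComap Q σ) P e := fun x => by
  rw [placeComap_apply, σ.commutes]; exact h x

theorem placeComap_O (Q : Place k K') (σ : K' ≃ₐ[K] K') :
    (placeComap Q σ).O = σ⁻¹ • Q.O := by
  ext x
  rw [ValuationSubring.mem_pointwise_smul_iff_inv_smul_mem, inv_inv]
  rfl

theorem placeComap_eq_self_iff (Q : Place k K') (σ : K' ≃ₐ[K] K') :
    placeComap Q σ = Q ↔ σ ∈ Q.O.decompositionSubgroup K := by
  constructor
  · intro h
    have h1 := placeComap_O Q σ
    rw [h, eq_inv_smul_iff] at h1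
    exact MulAction.mem_stabilizer_iff.mpr h1
  · intro h
    refine place_ext_O ?_
    rw [placeComap_O, inv_smul_eq_iff]
    exact (MulAction.mem_stabilizer_iff.mp h).symm

theorem deg_placeComap (Q : Place k K') (σ : K' ≃ₐ[K] K') : (placeComap Q σ).deg = Q.deg := by
  let e : (placeComap Q σ).O →+* Q.O :=
    { toFun := fun x => ⟨σ (x : K'), x.2⟩
      map_one' := Subtype.ext (map_one σ)
      map_mul' := fun x y => Subtype.ext (map_mul σ (x : K') (y : K'))
      map_zero' := Subtype.ext (map_zero σ)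
      map_add' := fun x y => Subtype.ext (map_add σ (x : K') (y : K')) }
  have he : Function.Bijective e := by
    refine ⟨fun x y h => Subtype.ext (σ.injective (congrArg Subtype.val h)), fun y => ?_⟩
    refine ⟨⟨σ.symm y, ?_⟩, Subtype.ext (σ.apply_symm_apply y)⟩
    change Q.1 (σ (σ.symm y)) ≤ 1
    rw [σ.apply_symm_apply]; exact y.2
  let E := IsLocalRing.ResidueField.mapEquiv (RingEquiv.ofBijective e he)
  have hc : ∀ c : k, E (algebraMap k _ c) = algebraMap k (IsLocalRing.ResidueField Q.O) c := by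
    intro c
    change IsLocalRing.residue Q.O (e (algebraMap k (placeComap Q σ).O c)) = IsLocalRing.residue Q.O _
    congr 1
    apply Subtype.ext
    change σ (algebraMap k K' c) = algebraMap k K' c
    rw [IsScalarTower.algebraMap_apply k K K', σ.commutes]
  exact (AlgEquiv.ofRingEquiv (f := E) hc).toLinearEquiv.finrank_eq

theorem FF.exists_placeComap_eq (h : FF k K) [FiniteDimensional K K'] [IsGalois K K']
    {P : Place k K} {Q Q' : Place k K'} (hQ : IsOver Q P) (hQ' : IsOver Q' P) :
    ∃ σ : K' ≃ₐ[K] K', placeComap Q σ = Q' := by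
  classical
  by_contra hcon
  push Not at hcon
  set T := (h.finite_setOf_isOver (K' := K') P).toFinset with hT
  obtain ⟨x, hx⟩ := exists_approx (insert Q' T) (fun R => if R = Q' then 0 else 1) (fun _ => -1)
  have hx' : Q'.1 x < 1 := by
    have := hx Q' (Finset.mem_insert_self _ _)
    simp only [if_pos] at this
    rw [sub_zero] at this
    exact lt_of_le_of_lt this (by rw [← exp_zero, exp_lt_exp]; norm_num)
  have hx1 : ∀ R, IsOver R P → R ≠ Q' → R.1 x = 1 := by
    intro R hR hne
    have := hx R (Finset.mem_insert_of_mem ((h.finite_setOf_isOver P).mem_toFinset.mpr hR))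
    simp only [if_neg hne] at this
    have hlt : R.1 (x - 1) < 1 := lt_of_le_of_lt this (by rw [← exp_zero, exp_lt_exp]; norm_num)
    have h2 : x = 1 + (x - 1) := by ring
    rw [h2, R.1.map_add_eq_of_lt_left (by simpa using hlt), map_one]
  have hle : ∀ R, IsOver R P → R.1 x ≤ 1 := fun R hR => by
    by_cases hne : R = Q'
    · subst hne; exact hx'.le
    · exact (hx1 R hR hne).le
  obtain ⟨e, he⟩ := hQ
  obtain ⟨e', he'⟩ := hQ'
  set N := Algebra.norm K x
  have hN : algebraMap K K' N = ∏ σ : Gal(K'/K), σ x := Algebra.norm_eq_prod_automorphisms K x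
  have hQN : Q.1 (algebraMap K K' N) = 1 := by
    rw [hN, map_prod]
    refine Finset.prod_eq_one fun σ _ => ?_
    exact hx1 (placeComap Q σ) ⟨e, isOverWith_placeComap he σ⟩ (hcon σ)
  have hQ'N : Q'.1 (algebraMap K K' N) < 1 := by
    rw [hN, map_prod, ← Finset.mul_prod_erase _ _ (Finset.mem_univ (1 : Gal(K'/K)))]
    exact mul_lt_one_of_lt_of_le hx' (Finset.prod_le_one'
      fun σ _ => hle (placeComap Q' σ) ⟨e', isOverWith_placeComap he' σ⟩)
  rw [he] at hQN
  rw [he'] at hQ'N
  rw [pow_eq_one_iff_of_nonneg zero_le (isOverWith_pos he).ne'] at hQN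
  rw [hQN, one_pow] at hQ'N
  exact lt_irrefl _ hQ'N

theorem FF.card_over_mul_card_decomposition (h : FF k K) [FiniteDimensional K K'] [IsGalois K K']
    {P : Place k K} {Q : Place k K'} {e : ℕ} (he : IsOverWith Q P e) :
    Nat.card {Q' : Place k K' // IsOver Q' P} * Nat.card (Q.O.decompositionSubgroup K) =
      Module.finrank K K' := by
  rw [← IsGalois.card_aut_eq_finrank K K']
  let O := MulAction.orbit (K' ≃ₐ[K] K') Q.O
  have hcard : Nat.card {Q' : Place k K' // IsOver Q' P} = Nat.card O := by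
    refine Nat.card_eq_of_bijective
      (fun Q' => (⟨Q'.1.O, by
        obtain ⟨σ, hσ⟩ := h.exists_placeComap_eq ⟨e, he⟩ Q'.2
        exact ⟨σ⁻¹, by rw [← hσ, placeComap_O]⟩⟩ : O)) ⟨fun a b hab => ?_, ?_⟩
    · exact Subtype.ext (place_ext_O (congrArg Subtype.val hab))
    · rintro ⟨V, σ, rfl⟩
      exact ⟨⟨placeComap Q σ⁻¹, e, isOverWith_placeComap he _⟩, Subtype.ext (by
        simp only [placeComap_O, inv_inv])⟩
  rw [hcard]
  have := Nat.card_congr (MulAction.orbitProdStabilizerEquivGroup (K' ≃ₐ[K] K') Q.O)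
  rw [Nat.card_prod] at this
  exact this

theorem FF.galois_uniform (h : FF k K) [FiniteDimensional K K'] [IsGalois K K']
    {P : Place k K} {Q Q' : Place k K'} {e : ℕ} (he : IsOverWith Q P e) (hQ' : IsOver Q' P) :
    IsOverWith Q' P e ∧ Q'.deg = Q.deg := by
  obtain ⟨σ, rfl⟩ := h.exists_placeComap_eq ⟨e, he⟩ hQ'
  exact ⟨isOverWith_placeComap he σ, deg_placeComap Q σ⟩

theorem FF.card_decomposition_mul_deg' (h : FF k K) [FiniteDimensional K K'] [IsGalois K K']
    {P : Place k K} {Q : Place k K'} {e : ℕ} (he : IsOverWith Q P e) :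
    Nat.card (Q.O.decompositionSubgroup K) * P.deg = e * Q.deg := by
  classical
  have hc := h.card_over_mul_card_decomposition he
  set T := (h.finite_setOf_isOver (K' := K') P).toFinset
  have hs := h.sum_ramIdx_mul_deg P T fun R => (h.finite_setOf_isOver P).mem_toFinset
  rw [Finset.sum_congr rfl (g := fun _ => e * Q.deg) fun R hR => by
    have := h.galois_uniform he ((h.finite_setOf_isOver P).mem_toFinset.mp hR)
    rw [ramIdx_eq this.1, this.2]] at hs
  rw [Finset.sum_const, smul_eq_mul] at hs
  have hT : T.card = Nat.card {Q' : Place k K' // IsOver Q' P} := by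
    rw [← Nat.card_eq_finsetCard T]
    exact Nat.card_congr (Equiv.subtypeEquivRight fun R => (h.finite_setOf_isOver P).mem_toFinset)
  rw [← hc, ← hT] at hs
  have hpos : 0 < T.card := Finset.card_pos.mpr ⟨Q, (h.finite_setOf_isOver P).mem_toFinset.mpr ⟨e, he⟩⟩
  exact (Nat.eq_of_mul_eq_mul_left hpos (hs.trans (mul_assoc _ _ _))).symm

end Groth.Agent.FF30
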