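import Groth.Agent.FF30.Geometric
import Groth.Agent.Exp31.Local
import Groth.Agent.CAlg6.SepKaehler
import Mathlib.FieldTheory.KummerPolynomial
import Mathlib.RingTheory.Kaehler.Basic
import Mathlib.FieldTheory.PurelyInseparable.Basic

/-! Differentials and `p`-th powers in geometric function fields. -/

open FunFld IntermediateField

namespace Groth.Agent.FF30

universe u v

variable {k : Type u} {K : Type v} [Field k] [Field K] [Algebra k K]

/-- The derivation with respect to a separating element. -/
noncomputable def hasseDer {t : K} {H : K →ₐ[k] PowerSeries K} (hH : LocRes.IsHasseFamily t H) :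
    Derivation k K K :=
  Derivation.mk'
    { toFun := fun z => LocRes.hasseD H 1 z
      map_add' := fun a b => by simp [LocRes.hasseD_apply, map_add]
      map_smul' := fun c z => by
        simp [LocRes.hasseD_apply, Algebra.smul_def, map_mul, PowerSeries.algebraMap_apply] }
    fun a b => by
      simp only [LinearMap.coe_mk, AddHom.coe_mk, smul_eq_mul]
      exact Exp31.hasseD_one_mul hH a b

theorem hasseDer_apply {t : K} {H : K →ₐ[k] PowerSeries K} (hH : LocRes.IsHasseFamily t H) (z : K) :
    hasseDer hH z = LocRes.hasseD H 1 z := rfl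

/-- The kernel of a derivation as an intermediate field. -/
def derKer (δ : Derivation k K K) : IntermediateField k K where
  carrier := {z | δ z = 0}
  mul_mem' {a b} ha hb := by
    simp only [Set.mem_setOf_eq] at ha hb ⊢
    rw [δ.leibniz, ha, hb, smul_zero, smul_zero, add_zero]
  one_mem' := δ.map_one_eq_zero
  add_mem' {a b} ha hb := by
    simp only [Set.mem_setOf_eq] at ha hb ⊢
    rw [map_add, ha, hb, add_zero]
  zero_mem' := map_zero δ
  algebraMap_mem' := δ.map_algebraMap
  inv_mem' a ha := by
    simp only [Set.mem_setOf_eq] at ha ⊢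
    rw [δ.leibniz_inv, ha, smul_zero]

theorem finrank_kaehler (hK : IsFunctionField k K) (hg : IsGeometric k K) :
    Module.finrank K (KaehlerDifferential k K) = 1 := by
  obtain ⟨t, H, hsep, hH⟩ := Exp31.exists_hasse hK hg
  refine finrank_eq_one (KaehlerDifferential.D k K t) (fun h => ?_) fun ω => ?_
  · have h1 := congrArg (hasseDer hH).liftKaehlerDifferential h
    rw [Derivation.liftKaehlerDifferential_comp_D, map_zero, hasseDer_apply, Exp31.hasseD_one_self hH] at h1
    exact one_ne_zero h1
  · have hω : ω ∈ Submodule.span K (Set.range (KaehlerDifferential.D k K)) := by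
      rw [KaehlerDifferential.span_range_derivation]; exact Submodule.mem_top
    induction hω using Submodule.span_induction with
    | mem w hw =>
      obtain ⟨z, rfl⟩ := hw
      exact ⟨LocRes.hasseD H 1 z, (Exp31.kaehlerD_eq hH z).symm⟩
    | zero => exact ⟨0, zero_smul _ _⟩
    | add a b _ _ ha hb =>
      obtain ⟨c, rfl⟩ := ha; obtain ⟨d, rfl⟩ := hb
      exact ⟨c + d, add_smul _ _ _⟩
    | smul r a _ ha =>
      obtain ⟨c, rfl⟩ := ha
      exact ⟨r * c, mul_smul _ _ _⟩

theorem exists_kaehlerD_ne_zero (hK : IsFunctionField k K) (hg : IsGeometric k K) :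
    ∃ t : K, Algebra.IsSeparable k⟮t⟯ K ∧ KaehlerDifferential.D k K t ≠ 0 := by
  obtain ⟨t, H, hsep, hH⟩ := Exp31.exists_hasse hK hg
  refine ⟨t, hsep, fun h => ?_⟩
  have h1 := congrArg (hasseDer hH).liftKaehlerDifferential h
  rw [Derivation.liftKaehlerDifferential_comp_D, map_zero, hasseDer_apply, Exp31.hasseD_one_self hH] at h1
  exact one_ne_zero h1

theorem isSeparable_of_kaehlerD_ne_zero (hK : IsFunctionField k K) (hg : IsGeometric k K) {x : K}
    (hne : KaehlerDifferential.D k K x ≠ 0) : Algebra.IsSeparable k⟮x⟯ K := by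
  obtain ⟨t₀, ht₀, hfin⟩ := hK.1
  have : Algebra.EssFiniteType k k⟮t₀⟯ :=
    IntermediateField.essFiniteType_iff.2 (IntermediateField.fg_adjoin_finset {t₀} |> fun h => by simpa using h)
  have : Algebra.EssFiniteType k K := Algebra.EssFiniteType.comp k k⟮t₀⟯ K
  have hspan : Submodule.span K (Set.range fun _ : Unit => KaehlerDifferential.D k K x) = ⊤ := by
    rw [Set.range_const]
    exact (finrank_eq_one_iff_of_nonzero _ hne).mp (finrank_kaehler hK hg)
  have h3 := CAlg6.isSeparable_of_span_eq_top (x := fun _ : Unit => x) hspan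
  rw [Set.range_const] at h3
  exact h3

variable (k K) in
/-- `k K^p`. -/
noncomputable def powField (p : ℕ) : IntermediateField k K :=
  IntermediateField.adjoin k (Set.range fun y : K => y ^ p)

theorem powField_le_derKer (p : ℕ) [CharP K p] (δ : Derivation k K K) :
    powField k K p ≤ derKer δ := by
  refine IntermediateField.adjoin_le_iff.mpr ?_
  rintro _ ⟨y, rfl⟩
  change δ (y ^ p) = 0
  rw [Derivation.leibniz_pow]
  simp [← Nat.cast_smul_eq_nsmul K]

/-- A derivation zero on the `p`-th powers' field separates. -/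
theorem powField_data (p : ℕ) [hp : Fact p.Prime] [CharP K p] (hK : IsFunctionField k K)
    (hg : IsGeometric k K) :
    ∃ (t : K) (H : K →ₐ[k] PowerSeries K) (_ : Algebra.IsSeparable k⟮t⟯ K)
      (hH : LocRes.IsHasseFamily t H),
      Module.finrank (powField k K p) K = p ∧ derKer (hasseDer hH) = powField k K p := by
  obtain ⟨t, H, hsep, hH⟩ := Exp31.exists_hasse hK hg
  set M := powField k K p
  have hD := powField_le_derKer p (hasseDer hH)
  have htD : t ∉ derKer (hasseDer hH) := fun h => by
    change hasseDer hH t = 0 at h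
    rw [hasseDer_apply, Exp31.hasseD_one_self hH] at h
    exact one_ne_zero h
  have htM : t ∉ M := fun h => htD (hD h)
  have hpM : t ^ p ∈ M := IntermediateField.subset_adjoin k _ ⟨t, rfl⟩
  have hexp : ExpChar K p := ExpChar.prime hp.out
  have hexpM : ExpChar M p := by
    have : CharP M p := (algebraMap M K).charP (algebraMap M K).injective p
    exact ExpChar.prime hp.out
  have hpi : IsPurelyInseparable M K := by
    rw [isPurelyInseparable_iff_pow_mem M p]
    exact fun z => ⟨1, ⟨⟨z ^ p, IntermediateField.subset_adjoin k _ ⟨z, rfl⟩⟩, by rw [pow_one]; rfl⟩⟩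
  have hirr : Irreducible (Polynomial.X ^ p - Polynomial.C (⟨t ^ p, hpM⟩ : M)) := by
    refine X_pow_sub_C_irreducible_of_prime hp.out fun b hb => htM ?_
    have hb' : (b : K) ^ p = t ^ p := congrArg Subtype.val hb
    rw [← frobenius_def, ← frobenius_def] at hb'
    exact frobenius_inj K p hb' ▸ b.2
  have hint : IsIntegral M t :=
    ⟨Polynomial.X ^ p - Polynomial.C (⟨t ^ p, hpM⟩ : M), Polynomial.monic_X_pow_sub_C _ hp.out.ne_zero, by simp⟩
  have htop : M⟮t⟯ = ⊤ := by
    have hle : k⟮t⟯ ≤ M⟮t⟯.restrictScalars k :=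
      IntermediateField.adjoin_simple_le_iff.mpr (IntermediateField.mem_adjoin_simple_self M t)
    have : IsPurelyInseparable M⟮t⟯ K := IsPurelyInseparable.tower_top M M⟮t⟯ K
    let _ : Algebra k⟮t⟯ M⟮t⟯ := (IntermediateField.inclusion hle).toRingHom.toAlgebra
    have : IsScalarTower k⟮t⟯ M⟮t⟯ K := IsScalarTower.of_algebraMap_eq fun _ => rfl
    have : Algebra.IsSeparable M⟮t⟯ K := Algebra.isSeparable_tower_top_of_isSeparable k⟮t⟯ M⟮t⟯ K
    rw [eq_top_iff]
    intro z _
    obtain ⟨c, hc⟩ := IsPurelyInseparable.inseparable M⟮t⟯ z (Algebra.IsSeparable.isSeparable M⟮t⟯ z)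
    rw [← hc]; exact c.2
  have hfr : Module.finrank M K = p := by
    have hmin : minpoly M t = Polynomial.X ^ p - Polynomial.C (⟨t ^ p, hpM⟩ : M) :=
      (minpoly.eq_of_irreducible_of_monic hirr (by simp) (Polynomial.monic_X_pow_sub_C _ hp.out.ne_zero)).symm
    rw [← IntermediateField.finrank_top', ← htop, IntermediateField.adjoin.finrank hint, hmin,
      Polynomial.natDegree_X_pow_sub_C]
  refine ⟨t, H, hsep, hH, hfr, ?_⟩
  have hdvd := IntermediateField.finrank_dvd_of_le_left hD
  rw [hfr, Nat.dvd_prime hp.out] at hdvd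
  rcases hdvd with h1 | h1
  · exfalso
    obtain ⟨c, hc⟩ := (finrank_eq_one_iff_of_nonzero' (1 : K) one_ne_zero).mp h1 t
    refine htD ?_
    have h2 : (c : K) = t := by
      change (c : K) * 1 = t at hc
      rwa [mul_one] at hc
    change hasseDer hH t = 0
    exact (congrArg (hasseDer hH) h2).symm.trans c.2
  · have : FiniteDimensional M K := Module.finite_of_finrank_pos (by rw [hfr]; exact hp.out.pos)
    exact (IntermediateField.eq_of_le_of_finrank_eq' hD (by rw [h1, hfr])).symm

theorem mem_powField_iff (p : ℕ) [hp : Fact p.Prime] [CharP K p] (hK : IsFunctionField k K)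
    (hg : IsGeometric k K) (x : K) :
    (x ∈ powField k K p ↔ KaehlerDifferential.D k K x = 0) ∧
    (x ∈ powField k K p ↔ ¬ Algebra.IsSeparable k⟮x⟯ K) := by
  obtain ⟨t, H, hsep, hH, hfr, hker⟩ := powField_data p hK hg
  have h1 : x ∈ powField k K p ↔ KaehlerDifferential.D k K x = 0 := by
    rw [← hker]
    change hasseDer hH x = 0 ↔ _
    constructor
    · intro h
      rw [Exp31.kaehlerD_eq hH x, ← hasseDer_apply hH, h, zero_smul]
    · intro h
      have h2 := congrArg (hasseDer hH).liftKaehlerDifferential h
      rwa [Derivation.liftKaehlerDifferential_comp_D, map_zero] at h2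
  refine ⟨h1, ⟨fun hx hs => ?_, fun hs => ?_⟩⟩
  · have hx' : hasseDer hH x = 0 := by
      rw [← hker] at hx
      exact hx
    have := Exp31.derivation_eq_zero (k := k) (t := x) (RingHom.id K)
      (hasseDer hH).toLinearMap.toAddMonoidHom (fun a b => (hasseDer hH).leibniz a b)
      (fun c => (hasseDer hH).map_algebraMap c) hx' t
    change hasseDer hH t = 0 at this
    rw [hasseDer_apply, Exp31.hasseD_one_self hH] at this
    exact one_ne_zero this
  · rw [h1]
    by_contra hne
    exact hs (isSeparable_of_kaehlerD_ne_zero hK hg hne)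

theorem purelyInseparable_iff (p : ℕ) [hp : Fact p.Prime] [CharP K p] (hK : IsFunctionField k K)
    (hg : IsGeometric k K) (K₀ : IntermediateField k K) :
    (IsPurelyInseparable K₀ K ∧ Module.finrank K₀ K = p) ↔ K₀ = powField k K p := by
  obtain ⟨t, H, hsep, hH, hfr, hker⟩ := powField_data p hK hg
  have hexp : ExpChar K p := ExpChar.prime hp.out
  constructor
  · rintro ⟨hpi, hd⟩
    have : FiniteDimensional K₀ K := Module.finite_of_finrank_pos (by rw [hd]; exact hp.out.pos)
    have : CharP K₀ p := (algebraMap K₀ K).charP (algebraMap K₀ K).injective p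
    have : ExpChar K₀ p := ExpChar.prime hp.out
    have hle : powField k K p ≤ K₀ := by
      refine IntermediateField.adjoin_le_iff.mpr ?_
      rintro _ ⟨z, rfl⟩
      obtain ⟨n, a, hz⟩ := IsPurelyInseparable.minpoly_eq_X_pow_sub_C K₀ p z
      have hdeg : p ^ n ≤ p := by
        have h1 : (minpoly K₀ z).natDegree ≤ Module.finrank K₀ K := minpoly.natDegree_le z
        rwa [hz, Polynomial.natDegree_X_pow_sub_C, hd] at h1
      have hn : n ≤ 1 := by
        by_contra hn
        have := Nat.pow_le_pow_right hp.out.pos (show 2 ≤ n by omega)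
        nlinarith [hp.out.two_le]
      have h2 : z ^ p ^ n = (a : K) := by
        have := minpoly.aeval K₀ z
        rw [hz] at this
        simpa [sub_eq_zero] using this
      rcases Nat.le_one_iff_eq_zero_or_eq_one.mp hn with rfl | rfl
      · rw [pow_zero, pow_one] at h2
        exact pow_mem (h2 ▸ a.2) p
      · rw [pow_one] at h2
        change z ^ p ∈ K₀
        rw [h2]
        exact a.2
    have : FiniteDimensional (powField k K p) K := Module.finite_of_finrank_pos (by rw [hfr]; exact hp.out.pos)
    exact (IntermediateField.eq_of_le_of_finrank_eq' hle (by rw [hfr, hd])).symm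
  · rintro rfl
    refine ⟨?_, hfr⟩
    have : CharP (powField k K p) p := (algebraMap (powField k K p) K).charP (algebraMap (powField k K p) K).injective p
    have : ExpChar (powField k K p) p := ExpChar.prime hp.out
    rw [isPurelyInseparable_iff_pow_mem (powField k K p) p]
    exact fun z => ⟨1, ⟨⟨z ^ p, IntermediateField.subset_adjoin k _ ⟨z, rfl⟩⟩, by rw [pow_one]; rfl⟩⟩

end Groth.Agent.FF30
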