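import Groth.Agent.FF30.Ext
import Mathlib.Algebra.Polynomial.Lifts
import Mathlib.Algebra.BigOperators.Field
import Mathlib.LinearAlgebra.FiniteDimensional.Lemmas

/-! Integral closure of the valuation ring of a place in a finite extension. -/

open FunFld WithZero
open scoped Multiplicative

namespace Groth.Agent.FF30

variable {k K K' : Type*} [Field k] [Field K] [Field K'] [Algebra k K] [Algebra K K'] [Algebra k K']
theorem sum_finrank_le_of_surjective {ι V : Type*} [Fintype ι] {W : ι → Type*} [AddCommGroup V]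
    [Module k V] [Module.Finite k V] [∀ i, AddCommGroup (W i)] [∀ i, Module k (W i)]
    [∀ i, Module.Finite k (W i)] (f : V →ₗ[k] ((i : ι) → W i)) (hf : Function.Surjective f) :
    ∑ i, Module.finrank k (W i) ≤ Module.finrank k V := by
  rw [← Module.finrank_pi_fintype k]
  exact LinearMap.finrank_le_finrank_of_surjective hf

variable [IsScalarTower k K K'] [FiniteDimensional K K']
set_option linter.unusedSectionVars false

theorem algebraMap_O (P : Place k K) [Algebra P.O K'] [IsScalarTower P.O K K'] (a : P.O) :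
    algebraMap P.O K' a = algebraMap K K' (a : K) :=
  IsScalarTower.algebraMap_apply P.O K K' a

theorem FF.isIntegral_iff (h : FF k K) (P : Place k K) [Algebra P.O K'] [IsScalarTower P.O K K']
    (z : K') : IsIntegral P.O z ↔ ∀ Q : Place k K', IsOver Q P → Q.1 z ≤ 1 := by
  constructor
  · intro hz Q hQ
    let g : P.O →+* Q.O := (algebraMap P.O K').codRestrict Q.O.toSubring fun a => by
      change Q.1 (algebraMap P.O K' a) ≤ 1
      rw [algebraMap_O, isOverWith_le_one_iff (isOverWith_ramIdx hQ)]
      exact a.2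
    have hint : IsIntegral Q.O z := by
      obtain ⟨p, hp, hpz⟩ := hz
      refine ⟨p.map g, hp.map g, ?_⟩
      rw [Polynomial.eval₂_map]
      exact hpz
    obtain ⟨y, hy⟩ := (IsIntegrallyClosed.isIntegral_iff (R := Q.O)).mp hint
    exact hy ▸ y.2
  · intro hz
    set S : Subring K' := (algebraMap P.O K').range with hS
    have key : z ∈ (⨅ V : {V : ValuationSubring K' // (S : Set K') ⊆ V.toSubring}, V.1.toSubring) := by
      rw [Subring.mem_iInf]
      rintro ⟨V, hV⟩
      by_cases htop : V = ⊤
      · subst htop; exact ValuationSubring.mem_top z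
      obtain ⟨Q, rfl⟩ := (h.extension K').exists_place V (fun c => hV ⟨algebraMap k P.O c, by
        rw [algebraMap_O]; exact (IsScalarTower.algebraMap_apply k K K' c).symm⟩) htop
      obtain ⟨P', e, -, hQ⟩ := h.exists_isOverWith Q
      have : P = P' := eq_of_val_le_one_imp fun x hx =>
        (isOverWith_le_one_iff hQ x).mp (hV ⟨⟨x, hx⟩, algebraMap_O P _⟩)
      exact hz Q ⟨e, this ▸ hQ⟩
    rw [iInf_valuationSubring_superset, Subalgebra.mem_toSubring] at key
    have key' : IsIntegral (Subring.closure (S : Set K')) z := key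
    obtain ⟨p, hp, hpz⟩ := key'
    have hlift : p.map (Subring.closure (S : Set K')).subtype ∈ Polynomial.lifts (algebraMap P.O K') := by
      rw [Polynomial.lifts_iff_coeff_lifts]
      intro n
      rw [Polynomial.coeff_map]
      exact (Subring.closure_eq S).le (p.coeff n).2
    obtain ⟨q, hq, -, hqm⟩ := Polynomial.lifts_and_degree_eq_and_monic hlift (hp.map _)
    refine ⟨q, hqm, ?_⟩
    rw [← Polynomial.eval_map, hq, Polynomial.eval_map]
    exact hpz

theorem span_O_eq (P : Place k K) [Algebra P.O K'] [IsScalarTower P.O K K'] (c : K) (hc : P.1 c ≤ 1)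
    (z : K') : algebraMap K K' c * z = (⟨c, hc⟩ : P.O) • z := by
  rw [Algebra.smul_def, algebraMap_O]

/-- There is a `K`-basis of `K'` which spans the integral closure of `O_P` over `O_P`. -/
theorem FF.exists_integral_basis (h : FF k K) (P : Place k K) [Algebra P.O K']
    [IsScalarTower P.O K K'] :
    ∃ s : Finset K', s.card = Module.finrank K K' ∧
      LinearIndependent K ((↑) : s → K') ∧
      Subalgebra.toSubmodule (integralClosure P.O K') = Submodule.span P.O (s : Set K') := by
  classical
  have := h.finite_residueField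
  set n := Module.finrank K K'
  set T := (h.finite_setOf_isOver (K' := K') P).toFinset with hT
  have memT : ∀ Q, Q ∈ T ↔ IsOver Q P := fun Q => (h.finite_setOf_isOver P).mem_toFinset
  let InZ : K' → Prop := fun z => ∀ Q ∈ T, Q.1 z ≤ 1
  let Small : K' → Prop := fun z => ∀ Q ∈ T, Q.1 z ≤ exp (-(ramIdx Q P : ℤ))
  have small_add : ∀ {a b}, Small a → Small b → Small (a + b) := fun ha hb Q hQ =>
    (Q.1.map_add _ _).trans (max_le (ha Q hQ) (hb Q hQ))
  have small_scal : ∀ {c : K} {w : K'}, P.1 c < 1 → InZ w → Small (algebraMap K K' c * w) := by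
    intro c w hc hw Q hQ
    rw [map_mul, (isOverWith_ramIdx ((memT Q).mp hQ)) c]
    refine (mul_le_mul' (pow_le_pow_left' (val_lt_one_le P hc) _) (hw Q hQ)).trans ?_
    rw [mul_one, ← exp_nsmul, exp_le_exp, nsmul_eq_mul]
    omega
  let Ind : Finset K' → Prop := fun s => (∀ z ∈ s, InZ z) ∧
    ∀ c : K' → K, (∀ z ∈ s, P.1 (c z) ≤ 1) → Small (∑ z ∈ s, algebraMap K K' (c z) * z) →
      ∀ z ∈ s, P.1 (c z) < 1
  have hscale : ∀ (s : Finset K') (c : K' → K), (∃ z ∈ s, 1 < P.1 (c z) ∨ c z ≠ 0) →
      ∃ z₀ ∈ s, c z₀ ≠ 0 ∧ ∀ z ∈ s, P.1 (c z) ≤ P.1 (c z₀) := by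
    rintro s c ⟨z, hz, hzc⟩
    obtain ⟨z₀, hz₀, hmax⟩ := s.exists_max_image (fun z => P.1 (c z)) ⟨z, hz⟩
    refine ⟨z₀, hz₀, fun h0 => ?_, hmax⟩
    have := hmax z hz
    rw [h0, map_zero, le_zero_iff] at this
    rcases hzc with hzc | hzc
    · rw [this] at hzc; exact not_lt_zero hzc
    · exact hzc ((Valuation.zero_iff _).mp this)
  have hindK : ∀ s, Ind s → LinearIndependent K ((↑) : s → K') := by
    intro s hs
    rw [Fintype.linearIndependent_iff]
    intro g hg i
    by_contra hne
    set c : K' → K := fun z => if hz : z ∈ s then g ⟨z, hz⟩ else 0 with hc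
    obtain ⟨z₀, hz₀, hc0, hmax⟩ := hscale s c ⟨i, i.2, Or.inr (by simpa [hc] using hne)⟩
    have hle : ∀ z ∈ s, P.1 (c z / c z₀) ≤ 1 := fun z hz => by
      rw [map_div₀]; exact div_le_one_of_le₀ (hmax z hz) zero_le
    have hsum : ∑ z ∈ s, algebraMap K K' (c z / c z₀) * z = 0 := by
      have h0 : ∑ z ∈ s, algebraMap K K' (c z) * z = 0 := by
        rw [← hg, ← Finset.sum_coe_sort s]
        refine Finset.sum_congr rfl fun z _ => ?_
        simp [hc, Algebra.smul_def]
      simp only [map_div₀, div_mul_eq_mul_div, ← Finset.sum_div, h0, zero_div]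
    have := hs.2 _ hle (hsum ▸ fun Q _ => by simp) z₀ hz₀
    rw [div_self hc0, map_one] at this
    exact lt_irrefl _ this
  have hbound : ∀ s, Ind s → s.card ≤ n := fun s hs => by
    simpa using (hindK s hs).fintype_card_le_finrank
  obtain ⟨r, hr, hrmax⟩ : ∃ r, (∃ s, Ind s ∧ s.card = r) ∧ ∀ s, Ind s → s.card ≤ r := by
    refine ⟨Nat.findGreatest (fun r => ∃ s, Ind s ∧ s.card = r) n, ?_, fun s hs => ?_⟩
    · exact Nat.findGreatest_spec (P := fun r => ∃ s, Ind s ∧ s.card = r) (Nat.zero_le n)
        ⟨∅, ⟨by simp, fun c _ _ z hz => by simp at hz⟩, rfl⟩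
    · exact Nat.le_findGreatest (hbound s hs) ⟨s, hs, rfl⟩
  obtain ⟨s, hs, rfl⟩ := hr
  have hcover : ∀ w, InZ w → ∃ c : K' → K, (∀ z ∈ s, P.1 (c z) ≤ 1) ∧
      Small (w - ∑ z ∈ s, algebraMap K K' (c z) * z) := by
    intro w hw
    by_cases hws : w ∈ s
    · refine ⟨fun z => if z = w then 1 else 0, fun z _ => by dsimp only; split <;> simp, ?_⟩
      rw [Finset.sum_eq_single w (fun z _ hz => by simp [hz]) (by simp [hws])]
      intro Q _; simp
    by_contra hcon
    push Not at hcon
    refine absurd (hrmax (insert w s) ⟨fun z hz => ?_, fun c hc hsm z hz => ?_⟩)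
      (by rw [Finset.card_insert_of_notMem hws]; omega)
    · rcases Finset.mem_insert.mp hz with rfl | hz
      · exact hw
      · exact hs.1 z hz
    · rw [Finset.sum_insert hws] at hsm
      have hcw : P.1 (c w) < 1 := by
        by_contra hge
        have h1 : P.1 (c w) = 1 := le_antisymm (hc w (Finset.mem_insert_self _ _)) (not_lt.mp hge)
        have hc0 : c w ≠ 0 := fun e => by simp [e] at h1
        refine hcon (fun z => -(c z / c w)) (fun z hz => ?_) (fun Q hQ => ?_)
        · rw [Valuation.map_neg, map_div₀, h1, div_one]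
          exact hc z (Finset.mem_insert_of_mem hz)
        · have hA : algebraMap K K' (c w) ≠ 0 := by simpa using hc0
          have : w - ∑ z ∈ s, algebraMap K K' (-(c z / c w)) * z =
              (algebraMap K K' (c w) * w + ∑ z ∈ s, algebraMap K K' (c z) * z) /
                algebraMap K K' (c w) := by
            rw [add_div, mul_div_cancel_left₀ _ hA, Finset.sum_div]
            simp only [map_neg, neg_mul, Finset.sum_neg_distrib, sub_neg_eq_add, map_div₀,
              div_mul_eq_mul_div]
          rw [this, map_div₀, (isOverWith_ramIdx ((memT Q).mp hQ)) (c w), h1, one_pow, div_one]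
          exact hsm Q hQ
      rcases Finset.mem_insert.mp hz with rfl | hz
      · exact hcw
      · refine hs.2 c (fun z hz => hc z (Finset.mem_insert_of_mem hz)) ?_ z hz
        have := small_add hsm (small_scal (c := -c w) (by rwa [Valuation.map_neg]) hw)
        simpa [map_neg, neg_mul, add_assoc, add_comm] using this
  -- count dimensions over `k`
  have hcard : s.card = n := by
    refine le_antisymm (hbound s hs) ?_
    obtain ⟨f, hf⟩ : ∃ f, f = P.deg := ⟨_, rfl⟩
    let bas : Module.Basis (Fin P.deg) k (IsLocalRing.ResidueField P.O) :=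
      Module.finBasis k (IsLocalRing.ResidueField P.O)
    choose res hres using fun a => IsLocalRing.residue_surjective (bas a)
    let a : Place k K' → ℤ := fun Q => -(ramIdx Q P : ℤ)
    have := (h.extension K').finite_residueField
    have hq' := fun Q : T => fil_finrank (P := (Q.1 : Place k K')) (a := a Q.1) (b := 0)
      (by simp [a])
    have := fun Q : T => (hq' Q).1
    set V : Submodule k K' := ⨅ Q ∈ T, Fil Q ((fun _ => (0 : ℤ)) Q)
    have hmemV : ∀ z, InZ z → z ∈ V := fun z hz => by
      simp only [V, Submodule.mem_iInf]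
      exact fun Q hQ => (hz Q hQ).trans_eq exp_zero.symm
    let L := locMap T a (fun _ => 0) V (fun _ hQ => iInf₂_le _ hQ)
    let gen : {z // z ∈ s} × Fin P.deg → V := fun p =>
      ⟨algebraMap K K' (res p.2 : K) * p.1.1, hmemV _ fun Q hQ => by
        rw [map_mul, (isOverWith_ramIdx ((memT Q).mp hQ)) _]
        exact mul_le_one' (pow_le_one' (res p.2).2 _) (hs.1 _ p.1.2 Q hQ)⟩
    have hsurj : Function.Surjective (L ∘ₗ Fintype.linearCombination k gen) := by
      intro y
      obtain ⟨⟨w, hw⟩, rfl⟩ := locMap_surjective T a (fun _ => 0) (fun Q _ => by simp [a]) y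
      have hwZ : InZ w := fun Q hQ => by
        simp only [Submodule.mem_iInf] at hw
        exact (hw Q hQ).trans_eq exp_zero
      obtain ⟨c, hc, hsmall⟩ := hcover w hwZ
      let c' : {z // z ∈ s} → Fin P.deg → k := fun z j =>
        bas.repr (IsLocalRing.residue P.O ⟨c z.1, hc z.1 z.2⟩) j
      refine ⟨fun p => c' p.1 p.2, funext fun Q => ?_⟩
      refine (Submodule.Quotient.eq _).mpr ?_
      change Q.1.1 (((Fintype.linearCombination k gen) (fun p => c' p.1 p.2) : V) - w : K') ≤
        exp (a Q.1)
      rw [Fintype.linearCombination_apply, AddSubmonoidClass.coe_finsetSum, Fintype.sum_prod_type]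
      have hrest : ∀ z : {z // z ∈ s}, P.1 ((∑ j, c' z j • (res j : K)) - c z.1) < 1 := by
        intro z
        have hmem : P.1 (((∑ j, c' z j • res j) - ⟨c z.1, hc z.1 z.2⟩ : P.O) : K) < 1 := by
          refine (Valuation.mem_maximalIdeal_iff (v := P.1)).mp ?_
          rw [← IsLocalRing.residue_eq_zero_iff, map_sub, sub_eq_zero, map_sum]
          refine Eq.trans (Finset.sum_congr rfl fun j _ => ?_)
            (bas.sum_repr (IsLocalRing.residue P.O ⟨c z.1, hc z.1 z.2⟩))
          refine Eq.trans ?_ (Algebra.smul_def (c' z j) (bas j)).symm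
          rw [Algebra.smul_def, map_mul, hres j]
          rfl
        have heq : (((∑ j, c' z j • res j) - ⟨c z.1, hc z.1 z.2⟩ : P.O) : K) =
            (∑ j, c' z j • (res j : K)) - c z.1 := by
          rw [AddSubgroupClass.coe_sub, AddSubmonoidClass.coe_finsetSum]
          congr 1
          refine Finset.sum_congr rfl fun j _ => ?_
          rw [Algebra.smul_def, Algebra.smul_def]
          rfl
        rwa [heq] at hmem
      have : (∑ z : {z // z ∈ s}, ∑ j, ((c' z j • gen (z, j) : V) : K')) - w =
          (∑ z : {z // z ∈ s},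
            algebraMap K K' ((∑ j, c' z j • (res j : K)) - c z.1) * z.1) -
          (w - ∑ z ∈ s, algebraMap K K' (c z) * z) := by
        have e1 : ∀ z : {z // z ∈ s}, ∑ j, ((c' z j • gen (z, j) : V) : K') =
            algebraMap K K' (∑ j, c' z j • (res j : K)) * z.1 := by
          intro z
          rw [map_sum, Finset.sum_mul]
          refine Finset.sum_congr rfl fun j _ => ?_
          rw [Submodule.coe_smul, Algebra.smul_def, Algebra.smul_def, map_mul,
            ← IsScalarTower.algebraMap_apply, mul_assoc]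
        simp only [e1, map_sub, sub_mul, Finset.sum_sub_distrib,
          ← Finset.sum_coe_sort s (fun z => algebraMap K K' (c z) * z)]
        ring
      rw [this]
      refine (Q.1.1.map_sub _ _).trans (max_le (Q.1.1.map_sum_le fun z _ => ?_) (hsmall Q.1 Q.2))
      exact small_scal (hrest z) (hs.1 z.1 z.2) Q.1 Q.2
    have hle := sum_finrank_le_of_surjective
      (W := fun Q : T => RQ (Fil Q.1 (a Q.1)) (Fil Q.1 0)) (L ∘ₗ Fintype.linearCombination k gen) hsurj
    rw [Module.finrank_fintype_fun_eq_card] at hle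
    simp only [Fintype.card_prod, Fintype.card_coe, Fintype.card_fin] at hle
    have hdim : ((∑ Q : T, Module.finrank k (RQ (Fil Q.1 (a Q.1)) (Fil Q.1 0)) : ℕ) : ℤ) =
        (n : ℤ) * P.deg := by
      have hsum : ((∑ Q ∈ T, ramIdx Q P * Q.deg : ℕ) : ℤ) = (n : ℤ) * P.deg := by
        exact_mod_cast h.sum_ramIdx_mul_deg P T memT
      rw [← hsum, Nat.cast_sum, Nat.cast_sum, ← Finset.sum_coe_sort T]
      refine Finset.sum_congr rfl fun Q _ => ?_
      rw [(hq' Q).2]
      simp [a]
    have h2 : ((n : ℤ) * P.deg) ≤ (s.card : ℤ) * P.deg := by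
      rw [← hdim]; exact_mod_cast hle
    exact_mod_cast le_of_mul_le_mul_right h2 (by exact_mod_cast h.deg_pos P)
  refine ⟨s, hcard, hindK s hs, le_antisymm (fun w hw => ?_) (Submodule.span_le.mpr fun z hz => ?_)⟩
  · have hwZ : InZ w := fun Q hQ => (h.isIntegral_iff P w).mp hw Q ((memT Q).mp hQ)
    have hspan : Submodule.span K (Set.range ((↑) : s → K')) = ⊤ :=
      (hindK s hs).span_eq_top_of_card_eq_finrank' (by simpa using hcard)
    have hwspan : w ∈ Submodule.span K (Set.range ((↑) : s → K')) := by
      rw [hspan]; exact Submodule.mem_top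
    obtain ⟨g, hg⟩ := (Submodule.mem_span_range_iff_exists_fun K).mp hwspan
    set c : K' → K := fun z => if hz : z ∈ s then g ⟨z, hz⟩ else 0 with hc
    have hsum : ∑ z ∈ s, algebraMap K K' (c z) * z = w := by
      rw [← hg, ← Finset.sum_coe_sort s]
      refine Finset.sum_congr rfl fun z _ => ?_
      simp [hc, Algebra.smul_def]
    have hint : ∀ z ∈ s, P.1 (c z) ≤ 1 := by
      by_contra hcon
      push Not at hcon
      obtain ⟨z, hz, hzc⟩ := hcon
      obtain ⟨z₀, hz₀, hc0, hmax⟩ := hscale s c ⟨z, hz, Or.inl hzc⟩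
      have hle : ∀ z ∈ s, P.1 (c z / c z₀) ≤ 1 := fun z hz => by
        rw [map_div₀]; exact div_le_one_of_le₀ (hmax z hz) zero_le
      have hsm : Small (∑ z ∈ s, algebraMap K K' (c z / c z₀) * z) := by
        have : ∑ z ∈ s, algebraMap K K' (c z / c z₀) * z = algebraMap K K' (c z₀)⁻¹ * w := by
          rw [← hsum, Finset.mul_sum]
          refine Finset.sum_congr rfl fun z _ => ?_
          rw [div_eq_inv_mul, map_mul, mul_assoc]
        rw [this]
        refine small_scal ?_ hwZ
        rw [map_inv₀]
        exact inv_lt_one_of_one_lt₀ (lt_of_lt_of_le hzc (hmax z hz))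
      have := hs.2 _ hle hsm z₀ hz₀
      rw [div_self hc0, map_one] at this
      exact lt_irrefl _ this
    rw [← hsum]
    refine Submodule.sum_mem _ fun z hz => ?_
    rw [span_O_eq P (c z) (hint z hz)]
    exact Submodule.smul_mem _ _ (Submodule.subset_span hz)
  · exact (h.isIntegral_iff P z).mpr fun Q hQ => hs.1 z hz Q ((memT Q).mpr hQ)

theorem FF.finite_integralClosure (h : FF k K) (P : Place k K) [Algebra P.O K']
    [IsScalarTower P.O K K'] : Module.Finite P.O (integralClosure P.O K') := by
  obtain ⟨s, -, -, hs⟩ := h.exists_integral_basis P (K' := K')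
  exact Module.Finite.iff_fg.mpr ⟨s, hs.symm⟩

end Groth.Agent.FF30
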