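import Groth.Agent.FF30.Bombieri
import Groth.Agent.FF30.Count
import Mathlib.FieldTheory.AlgebraicClosure
import Mathlib.FieldTheory.IsAlgClosed.AlgebraicClosure
import Mathlib.FieldTheory.Perfect
import Mathlib.Analysis.SpecialFunctions.Pow.Real

/-! The upper bound for the number of rational points over extensions of a finite field. -/

open FunFld WithZero
open scoped Multiplicative IntermediateField

namespace Groth.Agent.FF30

section bar

variable (k K : Type*) [Field k] [Field K] [Algebra k K]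

/-- An algebraic closure of the constants inside the algebraic closure of `K`. -/
noncomputable abbrev kbar : IntermediateField k (AlgebraicClosure K) := algebraicClosure k (AlgebraicClosure K)

/-- The compositum. -/
noncomputable abbrev Kbar : IntermediateField K (AlgebraicClosure K) :=
  IntermediateField.adjoin K (kbar k K : Set (AlgebraicClosure K))

noncomputable instance barAlgebra : Algebra (kbar k K) (Kbar k K) :=
  RingHom.toAlgebra
    { toFun := fun a => ⟨(a : AlgebraicClosure K), IntermediateField.subset_adjoin _ _ a.2⟩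
      map_one' := rfl
      map_mul' := fun _ _ => rfl
      map_zero' := rfl
      map_add' := fun _ _ => rfl }

noncomputable instance barTower : IsScalarTower k (kbar k K) (Kbar k K) :=
  IsScalarTower.of_algebraMap_eq fun c => Subtype.ext
    ((IsScalarTower.algebraMap_apply k (kbar k K) (AlgebraicClosure K) c).trans rfl)

instance kbar_isAlgClosed : IsAlgClosed (kbar k K) :=
  (algebraicClosure.isAlgClosure k (AlgebraicClosure K)).isAlgClosed

variable {k K}

theorem isCompositum_bar (hK : IsFunctionField k K) :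
    IsCompositum k K (kbar k K) (Kbar k K) where
  closed := hK.2
  gen := by
    rw [eq_top_iff]
    intro z _
    have h1 : (z : AlgebraicClosure K) ∈
        Algebra.adjoin K (kbar k K : Set (AlgebraicClosure K)) := by
      rw [← IntermediateField.adjoin_toSubalgebra_of_isAlgebraic fun a _ =>
        Algebra.IsAlgebraic.isAlgebraic a]
      exact z.2
    suffices key : ∀ w ∈ Algebra.adjoin K (kbar k K : Set (AlgebraicClosure K)),
        ∃ hw : w ∈ Kbar k K, (⟨w, hw⟩ : Kbar k K) ∈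
          Algebra.adjoin K (Set.range (algebraMap (kbar k K) (Kbar k K))) by
      obtain ⟨hw, h⟩ := key _ h1
      exact h
    intro w hw
    induction hw using Algebra.adjoin_induction with
    | mem x hx =>
      exact ⟨IntermediateField.subset_adjoin _ _ hx, Algebra.subset_adjoin ⟨⟨x, hx⟩, rfl⟩⟩
    | algebraMap x =>
      exact ⟨(Kbar k K).algebraMap_mem x, Subalgebra.algebraMap_mem _ x⟩
    | add a b _ _ ha hb =>
      obtain ⟨ha', ha⟩ := ha; obtain ⟨hb', hb⟩ := hb
      exact ⟨add_mem ha' hb', add_mem ha hb⟩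
    | mul a b _ _ ha hb =>
      obtain ⟨ha', ha⟩ := ha; obtain ⟨hb', hb⟩ := hb
      exact ⟨mul_mem ha' hb', mul_mem ha hb⟩

end bar

variable {k K kb Kb : Type*} [Field k] [Finite k] [Field K] [Algebra k K] [Field kb]
  [Algebra k kb] [Algebra.IsAlgebraic k kb] [IsAlgClosed kb] [Field Kb] [Algebra K Kb]
  [Algebra kb Kb] [Algebra k Kb] [IsScalarTower k K Kb] [IsScalarTower k kb Kb]

/-- Data for the endomorphism `x ↦ x ^ qⁿ`. -/
theorem IsCompositum.exists_frob (hC : IsCompositum k K kb Kb) (n : ℕ) :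
    ∃ (τ : Kb →ₐ[kb] Kb) (ρ : Kb ≃+* Kb),
      (∀ x : K, τ (algebraMap K Kb x) = algebraMap K Kb (x ^ Nat.card k ^ n)) ∧
      (∀ x : K, ρ (algebraMap K Kb x) = algebraMap K Kb x) ∧
      ∀ z, τ z = ρ z ^ Nat.card k ^ n := by
  have : Fintype k := Fintype.ofFinite k
  have hbij : Function.Bijective ((FiniteField.frobeniusAlgHom k kb) ^ n) := by
    refine Algebra.IsAlgebraic.algHom_bijective _
  let s : kb ≃ₐ[k] kb := (AlgEquiv.ofBijective _ hbij).symm
  have hs : ∀ a : kb, s a ^ Nat.card k ^ n = a := by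
    intro a
    have h1 := (AlgEquiv.ofBijective _ hbij).apply_symm_apply a
    change ((FiniteField.frobeniusAlgHom k kb) ^ n) (s a) = a at h1
    rw [AlgHom.coe_pow, FiniteField.coe_frobeniusAlgHom, pow_iterate, Fintype.card_eq_nat_card] at h1
    exact h1
  refine ⟨hC.extendEnd ((FiniteField.frobeniusAlgHom k K) ^ n), hC.extendConst s, fun x => ?_,
    fun x => hC.extendConst_apply s x, fun z => ?_⟩
  · rw [hC.extendEnd_apply, AlgHom.coe_pow, FiniteField.coe_frobeniusAlgHom, pow_iterate,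
      Fintype.card_eq_nat_card]
  · obtain ⟨p, hp⟩ := CharP.exists k
    have : Fact p.Prime := ⟨CharP.char_is_prime k p⟩
    obtain ⟨f, hpr, hcard⟩ := FiniteField.card k p
    have : CharP Kb p := charP_of_injective_algebraMap' k p
    have : ExpChar Kb p := ExpChar.prime Fact.out
    have hz : z ∈ Algebra.adjoin K (Set.range (algebraMap kb Kb)) := hC.gen ▸ Algebra.mem_top
    induction hz using Algebra.adjoin_induction with
    | mem x hx =>
      obtain ⟨a, rfl⟩ := hx
      rw [AlgHom.commutes, hC.extendConst_algebraMap, ← map_pow, hs]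
    | algebraMap x =>
      rw [hC.extendEnd_apply, hC.extendConst_apply, AlgHom.coe_pow, FiniteField.coe_frobeniusAlgHom,
        pow_iterate, Fintype.card_eq_nat_card, map_pow]
    | add a b _ _ ha hb =>
      rw [map_add, map_add (hC.extendConst s), ha, hb]
      rw [← Fintype.card_eq_nat_card, hcard, ← pow_mul, add_pow_expChar_pow]
    | mul a b _ _ ha hb =>
      rw [map_mul, map_mul (hC.extendConst s), mul_pow, ha, hb]

/-- Finite subsets of the fixed places are bounded by `qⁿ + C qⁿᐟ²`. -/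
theorem exists_fixed_bound (hL : IsFunctionField kb Kb) :
    ∃ (C : ℝ) (N : ℕ), ∀ n, N ≤ n → ∀ (τ : Kb →ₐ[kb] Kb) (ρ : Kb ≃+* Kb),
      (∀ z, τ z = ρ z ^ Nat.card k ^ n) → ∀ S : Finset (Place kb Kb), (∀ P ∈ S, IsFixed τ P) →
        (S.card : ℝ) ≤ (Nat.card k : ℝ) ^ n + C * Real.sqrt (Nat.card k : ℝ) ^ n := by
  obtain ⟨p, hp⟩ := CharP.exists k
  have : Fact p.Prime := ⟨CharP.char_is_prime k p⟩
  have := Fintype.ofFinite k
  obtain ⟨f, hpr, hcard⟩ := FiniteField.card k p
  rw [Fintype.card_eq_nat_card] at hcard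
  have : CharP Kb p := charP_of_injective_algebraMap' k p
  set g := genus kb Kb
  refine ⟨(p : ℝ) * (2 * g + 3), 2 * (g ^ 2 + 5 * g + 4) + 1, fun n hn τ ρ hρ S hS => ?_⟩
  set e₁ := (f : ℕ) * n / 2
  set e₂ := (f : ℕ) * n - e₁
  have he : e₁ + e₂ = (f : ℕ) * n := by omega
  have hq : Nat.card k ^ n = p ^ (e₁ + e₂) := by rw [he, hcard, ← pow_mul]
  have hf : 0 < (f : ℕ) := f.pos
  have hbig : g ^ 2 + 5 * g + 3 < 3 * p ^ e₁ := by
    have h1 : n ≤ (f : ℕ) * n := Nat.le_mul_of_pos_left n hf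
    have h2 : e₁ < p ^ e₁ := Nat.lt_pow_self hpr.one_lt
    omega
  have h := card_le_of_fixed hL (p := p) τ e₁ e₂ (by omega) ρ (fun z => by rw [hρ z, hq]) hbig S hS
  have h' : (S.card : ℝ) ≤ ((p ^ (e₁ + e₂) + p ^ e₂ * (2 * g + 3) : ℕ) : ℝ) := by exact_mod_cast h
  refine h'.trans ?_
  push_cast
  have hqR : (Nat.card k : ℝ) ^ n = (p : ℝ) ^ (e₁ + e₂) := by exact_mod_cast congrArg (Nat.cast : ℕ → ℝ) hq
  rw [← hqR]
  refine add_le_add le_rfl ?_
  have hp1 : (1 : ℝ) ≤ p := by exact_mod_cast hpr.one_le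
  have he₂ : ((p : ℝ) ^ e₂) ≤ p * Real.sqrt (Nat.card k : ℝ) ^ n := by
    have h2 : ((p : ℝ) ^ e₂) ^ 2 ≤ (p * Real.sqrt (Nat.card k : ℝ) ^ n) ^ 2 := by
      rw [mul_pow, pow_right_comm _ n 2, Real.sq_sqrt (Nat.cast_nonneg _), hqR, ← pow_mul,
        ← pow_add]
      exact pow_le_pow_right₀ hp1 (by omega)
    exact le_of_sq_le_sq h2 (by positivity)
  calc (p : ℝ) ^ e₂ * (2 * (g : ℝ) + 3) ≤ p * Real.sqrt (Nat.card k : ℝ) ^ n * (2 * (g : ℝ) + 3) :=
        mul_le_mul_of_nonneg_right he₂ (by positivity)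
    _ = (p : ℝ) * (2 * (g : ℝ) + 3) * Real.sqrt (Nat.card k : ℝ) ^ n := by ring

theorem IsCompositum.isFunctionField (hC : IsCompositum k K kb Kb) (hK : FF k K) :
    IsFunctionField kb Kb :=
  ⟨hC.ff hK, fun y hy => minpoly.mem_range_of_degree_eq_one kb y
    (IsAlgClosed.degree_eq_one_of_irreducible _ (minpoly.irreducible hy.isIntegral))⟩

/-- The fixed places as a finite set, with their number. -/
theorem IsCompositum.exists_fixedSet (hC : IsCompositum k K kb Kb) (hK : FF k K) {n : ℕ}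
    (hn : n ≠ 0) (τ : Kb →ₐ[kb] Kb)
    (hτ : ∀ x : K, τ (algebraMap K Kb x) = algebraMap K Kb (x ^ Nat.card k ^ n)) :
    ∃ S : Finset (Place kb Kb), S.card = frobSum k K n ∧ ∀ Q, Q ∈ S ↔ IsFixed τ Q := by
  classical
  set T := (hK.finite_dvd hn).toFinset
  set fib := fun P : Place k K => (hC.finite_fibre hK P).toFinset.filter fun Q => IsFixed τ Q
  refine ⟨T.biUnion fib, ?_, fun Q => ⟨fun hQ => ?_, fun hQ => ?_⟩⟩
  · rw [Finset.card_biUnion, frobSum, finsum_mem_eq_finite_toFinset_sum _ (hK.finite_dvd hn)]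
    · refine Finset.sum_congr rfl fun P hP => ?_
      have h := hC.card_fixed_fibre hK P n τ hτ
      have hd : P.deg ∣ n := (hK.finite_dvd hn).mem_toFinset.mp hP
      rw [if_pos hd] at h
      rw [← h, Nat.card_congr (Equiv.subtypeEquivRight (q := fun Q => Q ∈ fib P) fun Q => by simp [fib]),
        Nat.card_eq_finsetCard]
    · intro P _ P' _ hne
      rw [Function.onFun, Finset.disjoint_left]
      intro Q h1 h2
      simp only [fib, Finset.mem_filter, Set.Finite.mem_toFinset, Set.mem_setOf_eq] at h1 h2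
      exact hne (h1.1.unique h2.1)
  · obtain ⟨P, -, hQP⟩ := Finset.mem_biUnion.mp hQ
    exact (Finset.mem_filter.mp hQP).2
  · obtain ⟨P, hP⟩ := hC.exists_below hK Q
    refine Finset.mem_biUnion.mpr ⟨P, (hK.finite_dvd hn).mem_toFinset.mpr ?_,
      Finset.mem_filter.mpr ⟨(hC.finite_fibre hK P).mem_toFinset.mpr hP, hQ⟩⟩
    by_contra hdvd
    have h := hC.card_fixed_fibre hK P n τ hτ
    rw [if_neg (show ¬ P.deg ∣ n from hdvd)] at h
    have : Finite {R : Place kb Kb // Below R P ∧ IsFixed τ R} :=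
      ((hC.finite_fibre hK P).subset fun R (hR : Below R P ∧ IsFixed τ R) => hR.1).to_subtype
    have : Nonempty {R : Place kb Kb // Below R P ∧ IsFixed τ R} := ⟨⟨Q, hP, hQ⟩⟩
    exact Nat.card_pos.ne' h

omit [Algebra.IsAlgebraic k kb] [IsAlgClosed kb] in
/-- The upper bound. -/
theorem frobSum_le (hK : IsFunctionField k K) :
    ∃ (C : ℝ) (N : ℕ), ∀ n, N ≤ n →
      (frobSum k K n : ℝ) ≤ (Nat.card k : ℝ) ^ n + C * Real.sqrt (Nat.card k : ℝ) ^ n := by
  have hC := isCompositum_bar hK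
  have hL := hC.isFunctionField (kb := kbar k K) (Kb := Kbar k K) hK.1
  obtain ⟨C, N, h⟩ := exists_fixed_bound (k := k) hL
  refine ⟨C, N + 1, fun n hn => ?_⟩
  obtain ⟨τ, ρ, hτ, -, hρ⟩ := hC.exists_frob n
  obtain ⟨S, hS, hmem⟩ := hC.exists_fixedSet hK.1 (n := n) (by omega) τ hτ
  rw [← hS]
  exact h n (by omega) τ ρ hρ S fun P hP => (hmem P).mp hP

end Groth.Agent.FF30
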