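import Groth.Agent.FF30.Twist
import Groth.Agent.FF30.Frob
import Groth.Agent.FF30.Rational
import Groth.Agent.FF30.SubField
import Mathlib.FieldTheory.SeparablyGenerated
import Mathlib.FieldTheory.Galois.Basic
import Mathlib.RingTheory.AlgebraicIndependent.TranscendenceBasis

/-! The lower bound for the number of rational points over extensions of a finite field. -/

open FunFld WithZero IntermediateField
open scoped Multiplicative IntermediateField

namespace Groth.Agent.FF30

theorem exists_separating_gen {k : Type*} {K : Type*} [Field k] [PerfectField k] [Field K]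
    [Algebra k K] (hK : FF k K) :
    ∃ t : K, Transcendental k t ∧ FiniteDimensional k⟮t⟯ K ∧ Algebra.IsSeparable k⟮t⟯ K := by
  obtain ⟨x, hx, hfin⟩ := id hK
  have : Algebra.EssFiniteType k k⟮x⟯ :=
    IntermediateField.essFiniteType_iff.2 (IntermediateField.fg_adjoin_finset {x} |> fun h => by simpa using h)
  have : Algebra.EssFiniteType k K := Algebra.EssFiniteType.comp k k⟮x⟯ K
  have hbx : IsTranscendenceBasis k (fun _ : Unit => x) := by
    have hind : AlgebraicIndependent k (fun _ : Unit => x) :=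
      (algebraicIndependent_unique_type_iff).2 hx
    refine hind.isTranscendenceBasis_iff_isAlgebraic.2 ?_
    rw [Set.range_const]
    have : Algebra.IsAlgebraic k⟮x⟯ K := Algebra.IsAlgebraic.of_finite _ K
    exact IntermediateField.isAlgebraic_adjoin_iff_top.1 this
  obtain ⟨s, hs, hsep⟩ := exists_isTranscendenceBasis_and_isSeparable_of_perfectField k K
  have hcard : s.card = 1 := by simpa using hs.lift_cardinalMk_eq hbx
  obtain ⟨t, rfl⟩ := Finset.card_eq_one.1 hcard
  rw [Finset.coe_singleton] at hsep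
  have ht : Transcendental k t := hs.1.transcendental ⟨t, Finset.mem_singleton_self t⟩
  exact ⟨t, ht, hK.finiteDimensional_adjoin ht, hsep⟩

/-- On a rational function field there is one place with `x` equal to `c`. -/
theorem FF.existsUnique_zero {kb E : Type*} [Field kb] [Field E] [Algebra kb E]
    (hE : FF kb E) {y : E} (hy : Transcendental kb y) (hgen : kb⟮y⟯ = ⊤) :
    ∃! p : Place kb E, p.1 y < 1 := by
  classical
  have hdeg := hE.deg_zeroDiv hy
  rw [finrank_eq_one_iff_adjoin_top.mpr hgen, Nat.cast_one] at hdeg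
  obtain ⟨P, -, hP⟩ := hE.eq_single_of_deg_one le_sup_right hdeg
  have hy0 : y ≠ 0 := fun h => hy (h ▸ isAlgebraic_zero)
  have key : ∀ Q : Place kb E, Q.1 y < 1 ↔ Q = P := by
    intro Q
    have h1 := congrArg (fun D : Divisor kb E => D Q) hP
    simp only [Finsupp.sup_apply, hE.div_apply, Finsupp.zero_apply, Finsupp.single_apply] at h1
    rw [val_lt_one_iff Q hy0]
    constructor
    · intro h
      by_contra hne
      rw [if_neg (Ne.symm hne)] at h1
      omega
    · rintro rfl
      rw [if_pos rfl] at h1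
      omega
  exact ⟨P, (key P).mpr rfl, fun Q hQ => (key Q).mp hQ⟩

variable {k K : Type*} [Field k] [Finite k] [Field K] [Algebra k K]

/-- An automorphism of the algebraic closure fixing `K` and inverting Frobenius on the constants. -/
theorem exists_twisted_auto (hK : IsFunctionField k K) (n : ℕ) :
    ∃ Φ : AlgebraicClosure K ≃+* AlgebraicClosure K,
      (∀ y : K, Φ (algebraMap K _ y) = algebraMap K _ y) ∧
      ∀ a ∈ kbar k K, Φ a ∈ kbar k K ∧ Φ.symm a ∈ kbar k K ∧ Φ a ^ Nat.card k ^ n = a := by
  have := Fintype.ofFinite k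
  have hC := isCompositum_bar hK
  have hbij : Function.Bijective ((FiniteField.frobeniusAlgHom k (kbar k K)) ^ n) :=
    Algebra.IsAlgebraic.algHom_bijective _
  set s : kbar k K ≃ₐ[k] kbar k K := (AlgEquiv.ofBijective _ hbij).symm with hsdef
  have hs : ∀ a : kbar k K, s a ^ Nat.card k ^ n = a := by
    intro a
    have h1 := (AlgEquiv.ofBijective _ hbij).apply_symm_apply a
    change ((FiniteField.frobeniusAlgHom k (kbar k K)) ^ n) (s a) = a at h1
    rw [AlgHom.coe_pow, FiniteField.coe_frobeniusAlgHom, pow_iterate, Fintype.card_eq_nat_card] at h1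
    exact h1
  have : Algebra.IsAlgebraic (Kbar k K) (AlgebraicClosure K) := Algebra.IsAlgebraic.tower_top (K := K) _
  have : IsAlgClosure (Kbar k K) (AlgebraicClosure K) := ⟨inferInstance, inferInstance⟩
  set e := hC.extendConst s
  set Φ := IsAlgClosure.equivOfEquiv (AlgebraicClosure K) (AlgebraicClosure K) e
  have hΦ : ∀ z : Kbar k K, Φ z = e z := fun z =>
    IsAlgClosure.equivOfEquiv_algebraMap (AlgebraicClosure K) (AlgebraicClosure K) e z
  refine ⟨Φ, fun y => ?_, fun a ha => ?_⟩
  · have h1 := hΦ (algebraMap K (Kbar k K) y)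
    rw [hC.extendConst_apply] at h1
    exact h1
  · have key : ∀ b : kbar k K, Φ b = s b := fun b => by
      have h1 := hΦ (algebraMap (kbar k K) (Kbar k K) b)
      rw [hC.extendConst_algebraMap] at h1
      exact h1
    refine ⟨by rw [key ⟨a, ha⟩]; exact (s ⟨a, ha⟩).2, ?_, ?_⟩
    · rw [show Φ.symm a = (s.symm ⟨a, ha⟩ : AlgebraicClosure K) from Φ.injective (by
        rw [key, RingEquiv.apply_symm_apply, AlgEquiv.apply_symm_apply])]
      exact (s.symm ⟨a, ha⟩).2
    · rw [key ⟨a, ha⟩]
      exact congrArg Subtype.val (hs ⟨a, ha⟩)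

set_option maxHeartbeats 1600000 in
set_option synthInstance.maxHeartbeats 100000 in
/-- The lower bound. -/
theorem frobSum_ge (hK : IsFunctionField k K) :
    ∃ (C : ℝ) (N : ℕ), ∀ n, N ≤ n →
      (Nat.card k : ℝ) ^ n - C * Real.sqrt (Nat.card k : ℝ) ^ n ≤ (frobSum k K n : ℝ) := by
  classical
  obtain ⟨x, hx, hfin, hsep⟩ := exists_separating_gen hK.1
  obtain ⟨y, hy⟩ := Field.exists_primitive_element k⟮x⟯ K
  set f := minpoly k⟮x⟯ y with hf
  set Ω := AlgebraicClosure K
  set kb := kbar k K
  set x' : Ω := algebraMap K Ω x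
  set E : IntermediateField kb Ω := kb⟮x'⟯
  have hxE : x' ∈ E := mem_adjoin_simple_self kb x'
  have hle : ∀ c ∈ k⟮x⟯, algebraMap K Ω c ∈ E := by
    have h1 : k⟮x⟯.map (IsScalarTower.toAlgHom k K Ω) ≤ E.restrictScalars k := by
      rw [IntermediateField.adjoin_map, IntermediateField.adjoin_le_iff, Set.image_singleton,
        Set.singleton_subset_iff]
      exact hxE
    exact fun c hc => h1 ⟨c, hc, rfl⟩
  let ι : k⟮x⟯ →+* E :=
    ((algebraMap K Ω).comp (algebraMap k⟮x⟯ K)).codRestrict E fun c => hle _ c.2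
  set fE := f.map ι with hfE
  have hmap : fE.map (algebraMap E Ω) = f.map ((algebraMap K Ω).comp (algebraMap k⟮x⟯ K)) := by
    rw [hfE, Polynomial.map_map]
    rfl
  have hint : IsIntegral k⟮x⟯ y := IsIntegral.of_finite _ y
  have hfsep : fE.Separable :=
    Polynomial.Separable.map (f := ι) (Algebra.IsSeparable.isSeparable k⟮x⟯ y)
  set L : IntermediateField E Ω := IntermediateField.adjoin E (fE.rootSet Ω)
  have hsplit : fE.IsSplittingField E L :=
    IntermediateField.adjoin_rootSet_isSplittingField (IsAlgClosed.splits _)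
  have : FiniteDimensional E L := Polynomial.IsSplittingField.finiteDimensional L fE
  have : IsGalois E L := IsGalois.of_separable_splitting_field hfsep
  have hgtop : kb⟮(⟨x', hxE⟩ : E)⟯ = ⊤ := by
    refine eq_top_iff.mpr fun z _ => ?_
    have h1 : (z : Ω) ∈ kb⟮(⟨x', hxE⟩ : E)⟯.map E.val := by
      rw [IntermediateField.adjoin_map, Set.image_singleton]
      exact z.2
    obtain ⟨w, hw, e⟩ := h1
    exact (Subtype.ext e : w = z) ▸ hw
  have hEFF : FF kb E := by
    refine ⟨⟨x', hxE⟩, fun ha => ?_, ?_⟩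
    · have h1 : IsAlgebraic kb x' := ha.algebraMap
      exact hx ((isAlgebraic_algebraMap_iff (algebraMap K Ω).injective).mp (h1.restrictScalars k))
    · rw [hgtop]
      exact Module.Finite.of_surjective (Algebra.linearMap _ E) fun z => ⟨⟨z, trivial⟩, rfl⟩
  have hLFF : FF kb L := hEFF.extension L
  have hL : IsFunctionField kb L := ⟨hLFF, fun z hz => minpoly.mem_range_of_degree_eq_one kb z
    (IsAlgClosed.degree_eq_one_of_irreducible _ (minpoly.irreducible hz.isIntegral))⟩
  -- `K` lies in `L`
  have hKL : ∀ c : K, algebraMap K Ω c ∈ L := by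
    have hyL : algebraMap K Ω y ∈ L := by
      refine IntermediateField.subset_adjoin _ _ (Polynomial.mem_rootSet.mpr ⟨?_, ?_⟩)
      · exact (Polynomial.Monic.map ι (minpoly.monic hint)).ne_zero
      · rw [Polynomial.aeval_def, Polynomial.eval₂_eq_eval_map, hmap, ← Polynomial.eval₂_eq_eval_map,
          ← Polynomial.hom_eval₂, ← Polynomial.aeval_def, minpoly.aeval, map_zero]
    intro c
    have hc : c ∈ k⟮x⟯⟮y⟯ := hy ▸ IntermediateField.mem_top
    induction hc using IntermediateField.adjoin_induction with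
    | mem z hz => rw [Set.mem_singleton_iff.mp hz]; exact hyL
    | algebraMap z => exact L.algebraMap_mem ⟨_, hle _ z.2⟩
    | add a b _ _ ha hb => rw [map_add]; exact add_mem ha hb
    | inv a _ ha => rw [map_inv₀]; exact inv_mem ha
    | mul a b _ _ ha hb => rw [map_mul]; exact mul_mem ha hb
  have hkbL : ∀ a ∈ kb, a ∈ L := fun a ha => L.algebraMap_mem ⟨a, E.algebraMap_mem ⟨a, ha⟩⟩
  let toL : Kbar k K →+* L := (algebraMap (Kbar k K) Ω).codRestrict L fun z => by
    let L' : IntermediateField K Ω := { L.toSubfield with algebraMap_mem' := hKL }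
    have hle' : Kbar k K ≤ L' := IntermediateField.adjoin_le_iff.mpr hkbL
    exact hle' z.2
  let toM : E →+* Kbar k K := (algebraMap E Ω).codRestrict (Kbar k K) fun z => by
    have hkbM : ∀ a : kb, algebraMap kb Ω a ∈ Kbar k K := fun a =>
      IntermediateField.subset_adjoin K (kb : Set Ω) a.2
    let M' : IntermediateField kb Ω := { (Kbar k K).toSubfield with algebraMap_mem' := hkbM }
    have hle' : E ≤ M' :=
      IntermediateField.adjoin_simple_le_iff.mpr ((Kbar k K).algebraMap_mem x)
    exact hle' z.2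
  let : Algebra (Kbar k K) L := toL.toAlgebra
  let : Algebra E (Kbar k K) := toM.toAlgebra
  let : Module (Kbar k K) L := Algebra.toModule
  let : SMul (Kbar k K) L := Algebra.toSMul
  let : Algebra k L := ((algebraMap kb L).comp (algebraMap k kb)).toAlgebra
  have : IsScalarTower k kb L := IsScalarTower.of_algebraMap_eq fun _ => rfl
  have : IsScalarTower kb (Kbar k K) L := IsScalarTower.of_algebraMap_eq fun _ => rfl
  have : IsScalarTower E (Kbar k K) L := IsScalarTower.of_algebraMap_eq fun _ => rfl
  have : FiniteDimensional (Kbar k K) L := Module.Finite.of_restrictScalars_finite E _ _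
  have : IsGalois (Kbar k K) L := IsGalois.tower_top_of_isGalois E (Kbar k K) L
  obtain ⟨C, N, hB⟩ := exists_fixed_bound (k := k) (kb := kb) (Kb := L) hL
  set G := L ≃ₐ[E] L
  set H := L ≃ₐ[Kbar k K] L
  refine ⟨|C| * Fintype.card G, N + 1, fun n hn => ?_⟩
  set Q := Nat.card k ^ n with hQdef
  obtain ⟨Φ, hΦK, hΦk⟩ := exists_twisted_auto hK n
  -- `Φ` stabilises `L`
  have hstab : ∀ e : Ω ≃+* Ω, (∀ c : K, e (algebraMap K Ω c) = algebraMap K Ω c) →
      (∀ a ∈ kb, e a ∈ kb) → ∀ z ∈ L, e z ∈ L := by
    intro e heK hek z hz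
    have heE : ∀ w ∈ E, e w ∈ E := by
      intro w hw
      induction hw using IntermediateField.adjoin_induction with
      | mem w hw => rw [Set.mem_singleton_iff.mp hw, heK]; exact hxE
      | algebraMap a => exact E.algebraMap_mem ⟨_, hek _ a.2⟩
      | add a b _ _ ha hb => rw [map_add]; exact add_mem ha hb
      | inv a _ ha => rw [map_inv₀]; exact inv_mem ha
      | mul a b _ _ ha hb => rw [map_mul]; exact mul_mem ha hb
    induction hz using IntermediateField.adjoin_induction with
    | mem w hw =>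
      refine IntermediateField.subset_adjoin _ _ (Polynomial.mem_rootSet.mpr
        ⟨(Polynomial.mem_rootSet.mp hw).1, ?_⟩)
      have h1 := (Polynomial.mem_rootSet.mp hw).2
      rw [Polynomial.aeval_def, Polynomial.eval₂_eq_eval_map, hmap,
        ← Polynomial.eval₂_eq_eval_map] at h1 ⊢
      have h2 := congrArg e h1
      rw [← RingEquiv.coe_toRingHom, Polynomial.hom_eval₂, map_zero] at h2
      rw [show ((e : Ω →+* Ω)).comp ((algebraMap K Ω).comp (algebraMap k⟮x⟯ K)) =
        (algebraMap K Ω).comp (algebraMap k⟮x⟯ K) from RingHom.ext fun c => heK _] at h2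
      exact h2
    | algebraMap a => exact L.algebraMap_mem ⟨_, heE _ a.2⟩
    | add a b _ _ ha hb => rw [map_add]; exact add_mem ha hb
    | inv a _ ha => rw [map_inv₀]; exact inv_mem ha
    | mul a b _ _ ha hb => rw [map_mul]; exact mul_mem ha hb
  have hΦK' : ∀ c : K, Φ.symm (algebraMap K Ω c) = algebraMap K Ω c :=
    fun c => Φ.symm_apply_eq.mpr (hΦK c).symm
  let ρ : L ≃+* L :=
    { toFun := fun z => ⟨Φ z, hstab Φ hΦK (fun a ha => (hΦk a ha).1) _ z.2⟩
      invFun := fun z => ⟨Φ.symm z, hstab Φ.symm hΦK' (fun a ha => (hΦk a ha).2.1) _ z.2⟩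
      left_inv := fun z => Subtype.ext (Φ.symm_apply_apply z)
      right_inv := fun z => Subtype.ext (Φ.apply_symm_apply z)
      map_mul' := fun a b => Subtype.ext (map_mul Φ (a : Ω) b)
      map_add' := fun a b => Subtype.ext (map_add Φ (a : Ω) b) }
  obtain ⟨p, hp⟩ := CharP.exists k
  have : Fact p.Prime := ⟨CharP.char_is_prime k p⟩
  have := Fintype.ofFinite k
  obtain ⟨d, hpr, hcard⟩ := FiniteField.card k p
  have : CharP L p := by
    have : CharP kb p := charP_of_injective_algebraMap' k p
    exact charP_of_injective_algebraMap (algebraMap kb L).injective p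
  have : ExpChar L p := ExpChar.prime Fact.out
  have hQp : Q = p ^ ((d : ℕ) * n) := by
    rw [hQdef, ← Fintype.card_eq_nat_card, hcard, ← pow_mul]
  let τ : L →ₐ[kb] L :=
    { toFun := fun z => ρ z ^ Q
      map_one' := by rw [map_one, one_pow]
      map_mul' := fun a b => by rw [map_mul, mul_pow]
      map_zero' := by rw [map_zero, zero_pow (pow_pos Nat.card_pos n).ne']
      map_add' := fun a b => by rw [map_add, hQp, add_pow_expChar_pow]
      commutes' := fun a => Subtype.ext (hΦk a.1 a.2).2.2 }
  have hτ : ∀ z, τ z = ρ z ^ Q := fun z => rfl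
  have hτx : ∀ c : K, (τ ⟨algebraMap K Ω c, hKL c⟩ : Ω) = algebraMap K Ω (c ^ Q) := fun c => by
    rw [map_pow]
    exact congrArg (· ^ Q) (hΦK c)
  -- finite sets of fixed places
  have hfix : ∀ σ : G, ∃ F : Finset (Place kb L), (∀ R, R ∈ F ↔ IsFixed (twist τ σ) R) ∧
      (F.card : ℝ) ≤ (Nat.card k : ℝ) ^ n + C * Real.sqrt (Nat.card k : ℝ) ^ n := by
    intro σ
    have hb := hB n (by omega) (twist τ σ) (ρ.trans σ.toRingEquiv) fun z => by
      rw [twist_apply, hτ, map_pow]
      rfl
    have hfinite : {R : Place kb L | IsFixed (twist τ σ) R}.Finite := by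
      by_contra hinf
      obtain ⟨S, hS, hScard⟩ := Set.Infinite.exists_subset_card_eq hinf
        (⌈(Nat.card k : ℝ) ^ n + C * Real.sqrt (Nat.card k : ℝ) ^ n⌉₊ + 1)
      have h1 := hb S fun P hP => hS hP
      rw [hScard] at h1
      push_cast at h1
      linarith [Nat.le_ceil ((Nat.card k : ℝ) ^ n + C * Real.sqrt (Nat.card k : ℝ) ^ n)]
    exact ⟨hfinite.toFinset, fun R => hfinite.mem_toFinset, hb _ fun P hP => hfinite.mem_toFinset.mp hP⟩
  choose F hF hFle using hfix
  -- fixed places of the rational subfield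
  let g : E := IntermediateField.AdjoinSimple.gen kb x'
  have hgen : ∀ c : kb, kb⟮g - algebraMap kb E c⟯ = ⊤ := by
    intro c
    refine eq_top_iff.mpr (hgtop.symm.trans_le
      (IntermediateField.adjoin_simple_le_iff.mpr ?_))
    have h1 := add_mem (IntermediateField.mem_adjoin_simple_self kb (g - algebraMap kb E c))
      (IntermediateField.algebraMap_mem kb⟮g - algebraMap kb E c⟯ c)
    rwa [sub_add_cancel] at h1
  have hgT : ∀ c : kb, Transcendental kb (g - algebraMap kb E c) := fun c ha => by
    have h1 := (ha.add (isAlgebraic_algebraMap c))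
    rw [sub_add_cancel] at h1
    have h2 : IsAlgebraic kb x' := h1.algebraMap
    exact hx ((isAlgebraic_algebraMap_iff (algebraMap K Ω).injective).mp (h2.restrictScalars k))
  have hstabE : ∀ w ∈ E, (Φ w) ^ Q ∈ E := by
    intro w hw
    refine pow_mem ?_ Q
    induction hw using IntermediateField.adjoin_induction with
    | mem w hw => rw [Set.mem_singleton_iff.mp hw, hΦK]; exact hxE
    | algebraMap a => exact E.algebraMap_mem ⟨_, (hΦk _ a.2).1⟩
    | add a b _ _ ha hb => rw [map_add]; exact add_mem ha hb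
    | inv a _ ha => rw [map_inv₀]; exact inv_mem ha
    | mul a b _ _ ha hb => rw [map_mul]; exact mul_mem ha hb
  have : ExpChar Ω p := by
    have : CharP Ω p := charP_of_injective_algebraMap' k p
    exact ExpChar.prime Fact.out
  let τE : E →ₐ[kb] E :=
    { toFun := fun z => ⟨Φ z ^ Q, hstabE _ z.2⟩
      map_one' := Subtype.ext (by simp)
      map_mul' := fun a b => Subtype.ext (by simp [mul_pow])
      map_zero' := Subtype.ext (by simp [Q])
      map_add' := fun a b => Subtype.ext (by
        change Φ ((a : Ω) + b) ^ Q = Φ a ^ Q + Φ b ^ Q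
        rw [map_add, hQp, add_pow_expChar_pow])
      commutes' := fun a => Subtype.ext (hΦk a.1 a.2).2.2 }
  have hcommE : ∀ z : E, τ (algebraMap E L z) = algebraMap E L (τE z) := fun z => Subtype.ext rfl
  have hexu : ∀ c : kb, ∃! P : Place kb E, P.1 (g - algebraMap kb E c) < 1 :=
    fun c => hEFF.existsUnique_zero (hgT c) (hgen c)
  choose pl hpl hpluniq using hexu
  set T := ((Polynomial.X ^ Q - Polynomial.X : Polynomial kb).roots.toFinset)
  have hTmem : ∀ c ∈ T, c ^ Q = c := by
    intro c hc
    simp only [T, Multiset.mem_toFinset, Polynomial.mem_roots', Polynomial.IsRoot.def,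
      Polynomial.eval_sub, Polynomial.eval_pow, Polynomial.eval_X] at hc
    exact sub_eq_zero.mp hc.2
  have hQ2 : 1 < Q := Nat.one_lt_pow (by omega) Finite.one_lt_card
  have hTcard : T.card = Q := by
    have hdeg : (Polynomial.X ^ Q - Polynomial.X : Polynomial kb).natDegree = Q :=
      FiniteField.X_pow_card_sub_X_natDegree_eq kb hQ2
    rw [Multiset.toFinset_card_of_nodup, ← (IsAlgClosed.splits _).natDegree_eq_card_roots, hdeg]
    refine Polynomial.nodup_roots ?_
    have : CharP kb p := charP_of_injective_algebraMap' k p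
    refine galois_poly_separable p Q (hQp ▸ dvd_pow_self p ?_)
    exact Nat.mul_ne_zero d.pos.ne' (by omega)
  set S := T.image pl
  have hScard : S.card = Q := by
    rw [Finset.card_image_of_injective, hTcard]
    intro c c' h
    exact IsCompositum.const_unique (hpl c) (h ▸ hpl c')
  have hSfix : ∀ P ∈ S, IsFixed τE P := by
    intro P hP
    obtain ⟨c, hc, rfl⟩ := Finset.mem_image.mp hP
    have hg : τE (g - algebraMap kb E c) = (g - algebraMap kb E c) ^ Q := by
      rw [map_sub, τE.commutes]
      have : ExpChar E p := by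
        have : CharP kb p := charP_of_injective_algebraMap' k p
        have : CharP E p := charP_of_injective_algebraMap (algebraMap kb E).injective p
        exact ExpChar.prime Fact.out
      rw [hQp, sub_pow_expChar_pow, ← hQp, ← map_pow, hTmem c hc]
      refine congrArg₂ _ (Subtype.ext ?_) rfl
      exact congrArg (· ^ Q) (hΦK x)
    have h0 : g - algebraMap kb E c ≠ 0 := fun h0 => hgT c (h0 ▸ isAlgebraic_zero)
    have hlt : (pl c).1 (τE (g - algebraMap kb E c)) < 1 := by
      rw [hg, map_pow]
      exact pow_lt_one₀ zero_le (hpl c) (by omega)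
    obtain ⟨R', hR'⟩ := hEFF.exists_comap_place τE (pl c) h0 hlt
    exact (isFixed_iff_eq hEFF hR').mpr
      (hpluniq c R' ((comap_lt_one_iff hR' _).mpr hlt)).symm
  have hlow := sum_card_fixed_ge τ τE hEFF hcommE S hSfix F hF
  -- fixed places over `K`
  have hC := isCompositum_bar hK
  let τM : Kbar k K →ₐ[kb] Kbar k K := hC.extendEnd ((FiniteField.frobeniusAlgHom k K) ^ n)
  have hτM : ∀ c : K, τM (algebraMap K (Kbar k K) c) = algebraMap K (Kbar k K) (c ^ Q) := fun c => by
    rw [hC.extendEnd_apply, AlgHom.coe_pow, FiniteField.coe_frobeniusAlgHom, pow_iterate,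
      Fintype.card_eq_nat_card]
  have hcommM : ∀ z : Kbar k K, τ (algebraMap (Kbar k K) L z) = algebraMap (Kbar k K) L (τM z) := by
    refine AlgHom.congr_fun (hC.algHom_ext
      (f := τ.comp (IsScalarTower.toAlgHom kb (Kbar k K) L))
      (g := (IsScalarTower.toAlgHom kb (Kbar k K) L).comp τM) fun c => ?_)
    rw [AlgHom.comp_apply, AlgHom.comp_apply, hτM]
    exact Subtype.ext (hτx c)
  obtain ⟨S₂, hS₂, hS₂mem⟩ := hC.exists_fixedSet hK.1 (n := n) (by omega) τM hτM
  have hup := sum_card_fixed_le τ τM (hC.ff hK.1) hcommM S₂ hS₂mem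
    (fun σ : H => F (σ.restrictScalars E)) (fun σ R => hF _ R)
  rw [hScard] at hlow
  rw [hS₂] at hup
  set q : ℝ := (Nat.card k : ℝ)
  set B := q ^ n + C * Real.sqrt q ^ n
  set J := (Finset.univ : Finset H).image fun σ => σ.restrictScalars E
  have hinj : Function.Injective fun σ : H => (σ.restrictScalars E : G) :=
    AlgEquiv.restrictScalars_injective E
  have hJ : ∑ σ ∈ J, (F σ).card = ∑ σ : H, (F (σ.restrictScalars E)).card :=
    Finset.sum_image fun a _ b _ h => hinj h
  have hJc : J.card = Fintype.card H := by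
    rw [Finset.card_image_of_injective _ hinj, Finset.card_univ]
  have hlowR : q ^ n * Fintype.card G ≤ ∑ σ, ((F σ).card : ℝ) := by
    have : ((Q * Fintype.card G : ℕ) : ℝ) ≤ ((∑ σ, (F σ).card : ℕ) : ℝ) := Nat.cast_le.mpr hlow
    push_cast [Q] at this
    exact this
  have hupR : ∑ σ ∈ J, ((F σ).card : ℝ) ≤ (frobSum k K n : ℝ) * Fintype.card H := by
    rw [← Nat.cast_sum, hJ]
    exact_mod_cast hup
  have hrest : ∑ σ ∈ Finset.univ \ J, ((F σ).card : ℝ) ≤
      ((Fintype.card G : ℝ) - Fintype.card H) * B := by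
    refine (Finset.sum_le_sum fun σ _ => hFle σ).trans (le_of_eq ?_)
    rw [Finset.sum_const, nsmul_eq_mul, Finset.card_sdiff_of_subset (Finset.subset_univ J),
      Finset.card_univ, hJc, Nat.cast_sub (hJc ▸ Finset.card_le_univ J)]
  have htot : ∑ σ, ((F σ).card : ℝ) = ∑ σ ∈ Finset.univ \ J, ((F σ).card : ℝ) + ∑ σ ∈ J, ((F σ).card : ℝ) :=
    (Finset.sum_sdiff (Finset.subset_univ J)).symm
  have hH1 : (1 : ℝ) ≤ Fintype.card H := by exact_mod_cast Fintype.card_pos
  have hHG : (Fintype.card H : ℝ) ≤ Fintype.card G := by exact_mod_cast hJc ▸ Finset.card_le_univ J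
  have hmain : q ^ n * Fintype.card H - ((Fintype.card G : ℝ) - Fintype.card H) * (C * Real.sqrt q ^ n)
      ≤ (frobSum k K n : ℝ) * Fintype.card H := by
    simp only [B] at hrest
    linarith
  have hsq : 0 ≤ Real.sqrt q ^ n := pow_nonneg (Real.sqrt_nonneg _) n
  have hCC : ((Fintype.card G : ℝ) - Fintype.card H) * (C * Real.sqrt q ^ n) ≤
      |C| * Fintype.card G * Real.sqrt q ^ n * Fintype.card H := by
    calc ((Fintype.card G : ℝ) - Fintype.card H) * (C * Real.sqrt q ^ n)
        ≤ ((Fintype.card G : ℝ) - Fintype.card H) * (|C| * Real.sqrt q ^ n) :=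
          mul_le_mul_of_nonneg_left (mul_le_mul_of_nonneg_right (le_abs_self C) hsq) (by linarith)
      _ ≤ (Fintype.card G : ℝ) * (|C| * Real.sqrt q ^ n) :=
          mul_le_mul_of_nonneg_right (by linarith) (mul_nonneg (abs_nonneg C) hsq)
      _ = |C| * Fintype.card G * Real.sqrt q ^ n := by ring
      _ ≤ |C| * Fintype.card G * Real.sqrt q ^ n * Fintype.card H :=
          le_mul_of_one_le_right (by positivity) hH1
  refine le_of_mul_le_mul_right ?_ (show (0 : ℝ) < Fintype.card H by linarith)
  linarith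

end Groth.Agent.FF30
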