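import Groth.Agent.FF30.ZetaOne
import Groth.Agent.FF30.Lower
import Mathlib.Data.Set.Card.Arithmetic

/-! The Riemann hypothesis for function fields over finite fields. -/

open FunFld

namespace Groth.Agent.FF30

variable {k K : Type*} [Field k] [Finite k] [Field K] [Algebra k K]

/-- The reciprocal roots have absolute value `√q`. -/
theorem exists_roots_rh (hK : IsFunctionField k K) :
    ∃ α : Fin (2 * genus k K) → ℂ,
      PowerSeries.map (Int.castRingHom ℂ) (numerZ k K) =
        ((∏ i, (1 - Polynomial.C (α i) * Polynomial.X) : Polynomial ℂ) : PowerSeries ℂ) ∧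
      (∀ i, ‖α i‖ = Real.sqrt (Nat.card k)) ∧
      ∀ j, j ≠ 0 → (frobSum k K j : ℂ) = 1 + (Nat.card k : ℂ) ^ j - ∑ i, α i ^ j := by
  obtain ⟨α, -, hser, hpair, hF⟩ := exists_roots hK
  obtain ⟨C, N, hlow⟩ := frobSum_ge hK
  refine ⟨α, hser, ?_, hF⟩
  set q : ℝ := (Nat.card k : ℝ)
  have hq : 1 ≤ q := Nat.one_le_cast.mpr Nat.card_pos
  have hs1 : 1 ≤ Real.sqrt q := Real.one_le_sqrt.mpr hq
  have hle : ∀ i, ‖α i‖ ≤ Real.sqrt q := by
    refine norm_le_of_powsum_re_le α (C := 1 + C) (Real.sqrt_nonneg q) (N + 1) fun n hn => ?_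
    have h1 := congrArg Complex.re (hF n (by omega))
    rw [show ((Nat.card k : ℂ)) ^ n = ((q ^ n : ℝ) : ℂ) by simp [q]] at h1
    simp only [Complex.natCast_re, Complex.sub_re, Complex.add_re, Complex.one_re,
      Complex.ofReal_re] at h1
    have h2 := hlow n (by omega)
    have h3 : 1 ≤ Real.sqrt q ^ n := one_le_pow₀ hs1
    linarith
  intro i
  refine le_antisymm (hle i) ?_
  by_contra hlt
  rw [not_le] at hlt
  have h1 : ‖α i * α i.rev‖ < Real.sqrt q * Real.sqrt q := by
    rw [norm_mul]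
    exact mul_lt_mul_of_lt_of_le_of_nonneg_of_pos hlt (hle _) (norm_nonneg _) (by linarith)
  rw [hpair i, Complex.norm_natCast, Real.mul_self_sqrt (Nat.cast_nonneg _)] at h1
  exact lt_irrefl _ h1

theorem frobSum_one : frobSum k K 1 = Nat.card {P : Place k K // P.deg = 1} := by
  have h0 : {P : Place k K | P.deg ∣ 1} = {P : Place k K | P.deg = 1} := by ext P; simp
  have h1 : ∀ P ∈ {P : Place k K | P.deg = 1}, P.deg = (fun _ : Place k K => 1) P :=
    fun P hP => hP
  rw [frobSum, h0, finsum_mem_congr rfl h1, finsum_one]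
  rfl

theorem hasse_weil (hK : IsFunctionField k K) :
    |(Nat.card {P : Place k K // P.deg = 1} : ℝ) - (Nat.card k : ℝ) - 1| ≤
      2 * (genus k K : ℝ) * Real.sqrt (Nat.card k : ℝ) := by
  obtain ⟨α, -, hnorm, hF⟩ := exists_roots_rh hK
  have h1 := hF 1 one_ne_zero
  simp only [pow_one] at h1
  rw [frobSum_one] at h1
  have h2 : (((Nat.card {P : Place k K // P.deg = 1} : ℝ) - (Nat.card k : ℝ) - 1 : ℝ) : ℂ) =
      -∑ i, α i := by
    push_cast
    rw [h1]
    ring
  rw [← Real.norm_eq_abs, ← Complex.norm_real, h2, norm_neg]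
  refine (norm_sum_le _ _).trans (le_of_eq ?_)
  rw [Finset.sum_congr rfl fun i _ => hnorm i, Finset.sum_const, Finset.card_univ, Fintype.card_fin,
    nsmul_eq_mul]
  push_cast
  ring

theorem root_norm (hK : IsFunctionField k K) (p : Polynomial ℤ)
    (hp : (p : PowerSeries ℤ) = numerZ k K) (z : ℂ)
    (hz : (p.map (Int.castRingHom ℂ)).IsRoot z) : ‖z‖ ^ 2 * (Nat.card k : ℝ) = 1 := by
  obtain ⟨α, hser, hnorm, -⟩ := exists_roots_rh hK
  have hP : p.map (Int.castRingHom ℂ) = ∏ i, (1 - Polynomial.C (α i) * Polynomial.X) := by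
    refine Polynomial.coe_inj.mp ?_
    rw [Polynomial.polynomial_map_coe, hp, hser]
  rw [Polynomial.IsRoot.def, hP, Polynomial.eval_prod, Finset.prod_eq_zero_iff] at hz
  obtain ⟨i, -, hi⟩ := hz
  simp only [Polynomial.eval_sub, Polynomial.eval_one, Polynomial.eval_mul, Polynomial.eval_C,
    Polynomial.eval_X] at hi
  have h1 := congrArg norm (sub_eq_zero.mp hi).symm
  rw [norm_mul, norm_one, hnorm i] at h1
  rw [← Real.mul_self_sqrt (Nat.cast_nonneg (α := ℝ) (Nat.card k))]
  linear_combination (Real.sqrt (Nat.card k : ℝ) * ‖z‖ + 1) * h1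

end Groth.Agent.FF30
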