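import Groth.Agent.FF30.Zeta
import Groth.Agent.FF30.RR

/-! The zeta function with a divisor of degree one. -/

open FunFld

namespace Groth.Agent.FF30

variable {k K : Type*} [Field k] [Finite k] [Field K] [Algebra k K]

theorem zA_reflect (hK : IsFunctionField k K) {D₁ : Divisor k K} (hD₁ : D₁.deg = (1 : ℕ)) (m : ℤ) :
    zA D₁ m = (Nat.card k : ℚ) ^ (m + 1 - genus k K) * zA D₁ (2 * (genus k K : ℤ) - 2 - m) := by
  obtain ⟨C, hC⟩ := exists_isCanonical hK
  rw [zA, zA, classA_reflect hK hC, deg_zsmul', hD₁]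
  congr 2
  · simp
  · refine classA_congr hK ?_
    rw [deg_sub, deg_zsmul', deg_zsmul', hD₁, deg_canonical hK hC]
    push_cast
    ring

theorem zL_reflect (hK : IsFunctionField k K) {D₁ : Divisor k K} (hD₁ : D₁.deg = (1 : ℕ)) (m : ℤ) :
    zL D₁ 1 (2 * (genus k K : ℤ) - m) =
      (Nat.card k : ℚ) ^ ((genus k K : ℤ) - m) * zL D₁ 1 m := by
  have hq : (Nat.card k : ℚ) ≠ 0 := (zero_lt_one.trans one_lt_card_cast).ne'
  rw [zL, zL, zA_reflect hK hD₁ (2 * (genus k K : ℤ) - m),
    zA_reflect hK hD₁ (2 * (genus k K : ℤ) - m - 1), zA_reflect hK hD₁ (2 * (genus k K : ℤ) - m - 2),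
    show 2 * (genus k K : ℤ) - 2 - (2 * (genus k K : ℤ) - m) = m - 2 by ring,
    show 2 * (genus k K : ℤ) - 2 - (2 * (genus k K : ℤ) - m - 1) = m - 1 by ring,
    show 2 * (genus k K : ℤ) - 2 - (2 * (genus k K : ℤ) - m - 2) = m by ring,
    show 2 * (genus k K : ℤ) - m + 1 - genus k K = (genus k K : ℤ) - m + 1 by ring,
    show 2 * (genus k K : ℤ) - m - 1 + 1 - genus k K = (genus k K : ℤ) - m by ring,
    show 2 * (genus k K : ℤ) - m - 2 + 1 - genus k K = (genus k K : ℤ) - m - 1 by ring,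
    zpow_add_one₀ hq, zpow_sub_one₀ hq, pow_one]
  field_simp
  ring

theorem coeff_numerZ_reflect (hK : IsFunctionField k K) (i : ℕ) (hi : i ≤ 2 * genus k K) :
    (((PowerSeries.coeff (2 * genus k K - i) (numerZ k K) : ℤ)) : ℚ) =
      (Nat.card k : ℚ) ^ ((genus k K : ℤ) - i) *
        (((PowerSeries.coeff i (numerZ k K) : ℤ)) : ℚ) := by
  obtain ⟨D₁, hD₁⟩ := exists_deg_one hK
  have hD₁' : D₁.deg = (1 : ℕ) := by simpa using hD₁
  rw [← zSer_one, coeff_zSer hK hD₁' one_pos, coeff_zSer hK hD₁' one_pos, Nat.cast_sub hi]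
  push_cast
  exact zL_reflect hK hD₁' i

theorem coeff_numerZ_zero (hK : IsFunctionField k K) : PowerSeries.coeff 0 (numerZ k K) = 1 := by
  rw [PowerSeries.coeff_zero_eq_constantCoeff_apply]
  simp [numerZ, zetaZ, effDivCount_zero hK.1]

theorem coeff_numerZ_top (hK : IsFunctionField k K) :
    PowerSeries.coeff (2 * genus k K) (numerZ k K) ≠ 0 := by
  intro h
  have h1 := coeff_numerZ_reflect hK 0 (Nat.zero_le _)
  rw [Nat.sub_zero, h, coeff_numerZ_zero hK] at h1
  simp only [Int.cast_zero, Int.cast_one, mul_one] at h1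
  exact zpow_ne_zero _ (zero_lt_one.trans one_lt_card_cast).ne' h1.symm

theorem coeff_numerZ_large (hK : IsFunctionField k K) {n : ℕ} (hn : 2 * genus k K < n) :
    PowerSeries.coeff n (numerZ k K) = 0 := by
  obtain ⟨D₁, hD₁⟩ := exists_deg_one hK
  have hD₁' : D₁.deg = (1 : ℕ) := by simpa using hD₁
  have h := zL_reflect hK hD₁' (2 * (genus k K : ℤ) - n)
  have hneg : ∀ m : ℤ, m < 0 → zA D₁ m = classNum k K := fun m hm => zA_neg hK hD₁' one_pos hm
  rw [sub_sub_cancel] at h
  rw [← Int.cast_eq_zero (α := ℚ), ← zSer_one, coeff_zSer hK hD₁' one_pos, h, mul_eq_zero]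
  right
  rw [zL, hneg _ (by omega), hneg _ (by omega), hneg _ (by omega)]
  ring

/-- The numerator as a polynomial. -/
theorem exists_numer (hK : IsFunctionField k K) :
    ∃ p : Polynomial ℤ, (p : PowerSeries ℤ) = numerZ k K ∧ p.natDegree = 2 * genus k K ∧
      p.coeff 0 = 1 := by
  refine ⟨PowerSeries.trunc (2 * genus k K + 1) (numerZ k K), ?_, ?_, ?_⟩
  · ext m
    rw [Polynomial.coeff_coe, PowerSeries.coeff_trunc]
    split_ifs with hm
    · rfl
    · exact (coeff_numerZ_large hK (by omega)).symm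
  · refine le_antisymm (Nat.lt_succ_iff.mp (PowerSeries.natDegree_trunc_lt _ _))
      (Polynomial.le_natDegree_of_ne_zero ?_)
    rw [PowerSeries.coeff_trunc, if_pos (Nat.lt_succ_self _)]
    exact coeff_numerZ_top hK
  · rw [PowerSeries.coeff_trunc, if_pos (Nat.succ_pos _)]
    exact coeff_numerZ_zero hK

theorem eval_numer_one (hK : IsFunctionField k K) (p : Polynomial ℤ)
    (hp : (p : PowerSeries ℤ) = numerZ k K) : p.eval 1 = (classNum k K : ℤ) := by
  obtain ⟨D₁, hD₁⟩ := exists_deg_one hK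
  have hD₁' : D₁.deg = (1 : ℕ) := by simpa using hD₁
  have hdeg : p.natDegree < 2 * genus k K + 3 := by
    refine Nat.lt_of_le_of_lt (Polynomial.natDegree_le_iff_coeff_eq_zero.mpr fun n hn => ?_)
      (show 2 * genus k K < _ by omega)
    rw [← Polynomial.coeff_coe, hp]
    exact coeff_numerZ_large hK hn
  have h1 := sum_zL hK hD₁' one_pos
  rw [pow_one, mul_div_assoc, div_self (sub_pos.mpr one_lt_card_cast).ne', mul_one] at h1
  rw [Polynomial.eval_eq_sum_range' hdeg]
  simp only [one_pow, mul_one]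
  refine Int.cast_injective (α := ℚ) ?_
  push_cast
  rw [← h1]
  refine Finset.sum_congr rfl fun m _ => ?_
  rw [← Polynomial.coeff_coe, hp, ← zSer_one, coeff_zSer hK hD₁' one_pos]

open Polynomial in
/-- The reciprocal roots. -/
theorem exists_roots (hK : IsFunctionField k K) :
    ∃ α : Fin (2 * genus k K) → ℂ, (∀ i, IsIntegral ℤ (α i)) ∧
      PowerSeries.map (Int.castRingHom ℂ) (numerZ k K) =
        ((∏ i, (1 - C (α i) * X) : ℂ[X]) : PowerSeries ℂ) ∧
      (∀ i, α i * α (Fin.rev i) = (Nat.card k : ℂ)) ∧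
      ∀ j, j ≠ 0 → (frobSum k K j : ℂ) = 1 + (Nat.card k : ℂ) ^ j - ∑ i, α i ^ j := by
  classical
  set g := genus k K
  set q : ℂ := (Nat.card k : ℂ)
  have hq : q ≠ 0 := Nat.cast_ne_zero.mpr Nat.card_pos.ne'
  obtain ⟨p, hp, hdeg, hp0⟩ := exists_numer hK
  set P := p.map (Int.castRingHom ℂ)
  have hPd : P.natDegree = 2 * g := by
    rw [natDegree_map_eq_of_injective Int.cast_injective, hdeg]
  obtain ⟨β₀, hβ₀0, hβ₀⟩ := exists_prod_one_sub P (by simp [P, hp0])
  obtain ⟨β, hβ0, hβ⟩ : ∃ β : Fin (2 * g) → ℂ, (∀ i, β i ≠ 0) ∧ P = ∏ i, (1 - C (β i) * X) :=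
    ⟨fun i => β₀ (i.cast hPd.symm), fun i => hβ₀0 _,
      hβ₀.trans (Fin.prod_congr' (fun i => 1 - C (β₀ i) * X) hPd.symm).symm⟩
  have hsym : ∀ i ∈ Finset.range (2 * g + 1),
      (P.coeff (2 * g - i)) * q ^ i = q ^ g * P.coeff i := by
    intro i hi
    rw [Finset.mem_range] at hi
    have h1 : (((p.coeff (2 * g - i) : ℤ) : ℚ) : ℂ) =
        (((Nat.card k : ℚ) ^ ((g : ℤ) - i) * ((p.coeff i : ℤ) : ℚ) : ℚ) : ℂ) := by
      rw [← Polynomial.coeff_coe, ← Polynomial.coeff_coe, hp, coeff_numerZ_reflect hK i (by omega)]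
    push_cast at h1
    simp only [P, coeff_map, eq_intCast]
    rw [h1, zpow_sub₀ hq, zpow_natCast, zpow_natCast]
    field_simp
  have hkey : (∏ i, (X - C (β i))) = C (q ^ g) * P.comp (C q⁻¹ * X) := by
    refine Polynomial.eq_of_infinite_eval_eq _ _ (Set.Infinite.mono ?_ (Set.Ioi_infinite (0 : ℝ) |>.image
      (Complex.ofReal_injective.injOn)))
    rintro _ ⟨r, hr, rfl⟩
    have hx : (r : ℂ) ≠ 0 := Complex.ofReal_ne_zero.mpr (ne_of_gt hr)
    simp only [Set.mem_setOf_eq, eval_prod, eval_sub, eval_X, eval_C, eval_mul, eval_comp]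
    have h1 : ∏ i, ((r : ℂ) - β i) = (r : ℂ) ^ (2 * g) * P.eval (r : ℂ)⁻¹ := by
      rw [hβ, eval_prod, show (r : ℂ) ^ (2 * g) = ∏ _i : Fin (2 * g), (r : ℂ) by
        rw [Finset.prod_const, Finset.card_univ, Fintype.card_fin], ← Finset.prod_mul_distrib]
      refine Finset.prod_congr rfl fun i _ => ?_
      simp only [eval_sub, eval_one, eval_mul, eval_C, eval_X]
      field_simp
    rw [h1, eval_eq_sum_range' (n := 2 * g + 1) (by omega), eval_eq_sum_range' (n := 2 * g + 1) (by omega),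
      Finset.mul_sum, Finset.mul_sum]
    rw [← Finset.sum_range_reflect]
    refine Finset.sum_congr rfl fun i hi => ?_
    have h2 := hsym i hi
    rw [Finset.mem_range] at hi
    rw [show 2 * g + 1 - 1 - i = 2 * g - i by omega]
    have h3 : (r : ℂ) ^ (2 * g) * ((r : ℂ)⁻¹) ^ (2 * g - i) = (r : ℂ) ^ i := by
      rw [inv_pow, ← div_eq_mul_inv, eq_comm, eq_div_iff (pow_ne_zero _ hx), ← pow_add,
        Nat.add_sub_cancel' (by omega)]
    rw [mul_left_comm, h3, mul_pow, inv_pow]
    field_simp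
    linear_combination h2
  set S := (Finset.univ : Finset (Fin (2 * g))).val.map β
  set T := S.map fun x => q / x
  have hS0 : ∀ x ∈ S, x ≠ 0 := fun x hx => by
    obtain ⟨i, -, rfl⟩ := Multiset.mem_map.mp hx
    exact hβ0 i
  have hscal : (∏ i, (X - C (β i))) = C (q ^ g * ∏ i, -(β i / q)) * ∏ i, (X - C (q / β i)) := by
    rw [hkey, hβ, Polynomial.prod_comp, C_mul, map_prod, mul_assoc (C (q ^ g)),
      ← Finset.prod_mul_distrib]
    refine congrArg _ (Finset.prod_congr rfl fun i _ => ?_)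
    simp only [sub_comp, one_comp, mul_comp, C_comp, X_comp]
    rw [mul_sub, ← C_mul, show -(β i / q) * (q / β i) = -1 by field_simp [hβ0 i],
      show -(β i / q) = -(β i * q⁻¹) by rw [div_eq_mul_inv]]
    simp only [map_neg, map_mul, map_one]
    ring
  have hlead : q ^ g * ∏ i, -(β i / q) = 1 := by
    have h1 := congrArg leadingCoeff hscal
    rw [leadingCoeff_C_mul_of_isUnit, (monic_prod_of_monic _ _ fun i _ => monic_X_sub_C (β i)).leadingCoeff,
      (monic_prod_of_monic _ _ fun i _ => monic_X_sub_C (q / β i)).leadingCoeff, mul_one] at h1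
    · exact h1.symm
    · exact (mul_ne_zero (pow_ne_zero _ hq) (Finset.prod_ne_zero_iff.mpr fun i _ =>
        neg_ne_zero.mpr (div_ne_zero (hβ0 i) hq))).isUnit
  rw [hlead, C_1, one_mul] at hscal
  have hinv : T = S := by
    have h1 := congrArg roots hscal
    have e1 : ∀ f : Fin (2 * g) → ℂ, (∏ i, (X - C (f i))) =
        ((Finset.univ.val.map f).map fun a => X - C a).prod := fun f => by
      rw [Multiset.map_map]; rfl
    rw [e1, e1, roots_multiset_prod_X_sub_C, roots_multiset_prod_X_sub_C] at h1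
    simp only [T, S, Multiset.map_map]
    exact h1.symm
  have hprod : S.prod = q ^ g := by
    rw [Finset.prod_neg, Finset.prod_div_distrib, Finset.prod_const, Finset.card_univ, Fintype.card_fin,
      Even.neg_one_pow (even_two_mul g), one_mul, pow_mul', sq] at hlead
    change ∏ i, β i = q ^ g
    field_simp at hlead
    exact hlead
  obtain ⟨α, hα, hpair⟩ := exists_paired g q S hq (by simp [S]) hS0 hinv hprod
  have hmap : ∀ {M : Type} [CommMonoid M] (f : ℂ → M), ∏ i, f (α i) = ∏ i, f (β i) := fun f => by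
    rw [Finset.prod_eq_multiset_prod, Finset.prod_eq_multiset_prod,
      show (fun i => f (α i)) = f ∘ α from rfl, ← Multiset.map_map, hα, Multiset.map_map]
    rfl
  have hsum : ∀ f : ℂ → ℂ, ∑ i, f (α i) = ∑ i, f (β i) := fun f => by
    rw [Finset.sum_eq_multiset_sum, Finset.sum_eq_multiset_sum,
      show (fun i => f (α i)) = f ∘ α from rfl, ← Multiset.map_map, hα, Multiset.map_map]
    rfl
  have hser : PowerSeries.map (Int.castRingHom ℂ) (numerZ k K) =
      ((∏ i, (1 - C (β i) * X) : ℂ[X]) : PowerSeries ℂ) := by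
    rw [← hβ, ← hp, Polynomial.polynomial_map_coe]
  refine ⟨α, fun i => ?_, ?_, hpair, fun j hj => ?_⟩
  · have hmem : α i ∈ S := hα ▸ Multiset.mem_map_of_mem α (Finset.mem_univ_val i)
    obtain ⟨i', -, hi'⟩ := Multiset.mem_map.mp hmem
    rw [← hi']
    set R : Polynomial ℤ := ∑ l ∈ Finset.range (2 * g + 1), C (p.coeff l) * X ^ (2 * g - l)
    refine ⟨R, ?_, ?_⟩
    · refine monic_of_natDegree_le_of_coeff_eq_one (2 * g) ?_ ?_
      · refine natDegree_sum_le_of_forall_le _ _ fun l _ =>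
          (natDegree_C_mul_X_pow_le _ _).trans (Nat.sub_le _ _)
      · rw [finset_sum_coeff, Finset.sum_eq_single 0]
        · simp [hp0]
        · intro l hl h0
          rw [Finset.mem_range] at hl
          rw [coeff_C_mul_X_pow, if_neg (by omega)]
        · simp
    · have h1 : P.eval (β i')⁻¹ = 0 := by
        rw [hβ, eval_prod]
        refine Finset.prod_eq_zero (Finset.mem_univ i') ?_
        simp [mul_inv_cancel₀ (hβ0 i')]
      rw [eval_eq_sum_range' (n := 2 * g + 1) (by omega)] at h1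
      simp only [R, eval₂_finsetSum, eval₂_mul, eval₂_C, eval₂_X_pow]
      calc ∑ l ∈ Finset.range (2 * g + 1), algebraMap ℤ ℂ (p.coeff l) * β i' ^ (2 * g - l)
          = β i' ^ (2 * g) * ∑ l ∈ Finset.range (2 * g + 1), P.coeff l * (β i')⁻¹ ^ l := by
            rw [Finset.mul_sum]
            refine Finset.sum_congr rfl fun l hl => ?_
            rw [Finset.mem_range] at hl
            rw [pow_sub₀ _ (hβ0 i') (by omega), inv_pow, show P.coeff l = algebraMap ℤ ℂ (p.coeff l) by simp [P]]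
            ring
        _ = 0 := by rw [h1, mul_zero]
  · rw [hser, hmap (fun x => (1 : ℂ[X]) - C x * X)]
  · obtain ⟨D₁, hD₁⟩ := exists_deg_one hK
    have h1 := frobSum_eq_of_roots hK.1 one_pos (fun D => by simp) β (by
      rw [zSer_one, hser, ← Polynomial.coeToPowerSeries.ringHom_apply, map_prod]
      simp) j hj
    simp only [one_mul, pow_one, Nat.cast_one] at h1
    rw [h1, hsum (fun x => x ^ j)]

end Groth.Agent.FF30
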