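import Groth.Agent.FF30.Degree
import Mathlib.Algebra.Algebra.Operations
import Mathlib.Order.Filter.Cofinite

/-! Riemann's theorem, the genus, and the repartition quotients. -/

open FunFld WithZero IntermediateField
open scoped Multiplicative

namespace Groth.Agent.FF30

variable {k K : Type*} [Field k] [Field K] [Algebra k K]

/-- `deg D + 1 - ℓ(D)`. -/
noncomputable def delta (D : Divisor k K) : ℤ := D.deg + 1 - ell D

theorem mem_one_iff {x : K} : x ∈ (1 : Submodule k K) ↔ x ∈ Set.range (algebraMap k K) := by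
  rw [Submodule.one_eq_range]
  rfl

theorem L_zero' (h : IsFunctionField k K) : L (0 : Divisor k K) = 1 := by
  have hF : FF k K := h.1
  ext x
  rw [mem_one_iff]
  constructor
  · intro hx
    by_contra hne
    obtain ⟨P, hP⟩ := hF.exists_place_neg (transcendental_of_not_mem_range h hne)
    have hle : P.1 x ≤ 1 := (hx P).trans_eq (by simp)
    rw [val_le_one_iff] at hle
    omega
  · rintro ⟨c, rfl⟩ P
    exact (P.2.1 c).trans_eq (by simp)

theorem ell_zero (h : IsFunctionField k K) : ell (0 : Divisor k K) = 1 := by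
  rw [ell, L_zero' h, Submodule.one_eq_range,
    LinearMap.finrank_range_of_inj (algebraMap k K).injective, Module.finrank_self]

theorem delta_zero (h : IsFunctionField k K) : delta (0 : Divisor k K) = 0 := by
  simp [delta, ell_zero h]

theorem FF.delta_mono (h : FF k K) {D₁ D₂ : Divisor k K} (hD : D₁ ≤ D₂) : delta D₁ ≤ delta D₂ := by
  have := h.ell_sub_le hD
  unfold delta; omega

theorem FF.delta_add_div (h : FF k K) (D : Divisor k K) {x : K} (hx : x ≠ 0) :
    delta (D + div k x) = delta D := by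
  rw [delta, delta, h.ell_add_div D hx, deg_add, h.deg_div, add_zero]

theorem exists_ne_zero_of_ell_pos {D : Divisor k K} (hD : 0 < ell D) : ∃ x ∈ L D, x ≠ 0 := by
  by_contra hcon
  push Not at hcon
  have : L D = ⊥ := eq_bot_iff.mpr fun x hx => by simpa using hcon x hx
  rw [ell, this, finrank_bot] at hD
  exact lt_irrefl 0 hD

theorem FF.exists_equiv_ge_of_ell_sub_pos (h : FF k K) {D D₀ : Divisor k K}
    (hpos : 0 < ell (D - D₀)) : ∃ x : K, x ≠ 0 ∧ D₀ ≤ D + div k x := by
  obtain ⟨x, hx, hx0⟩ := exists_ne_zero_of_ell_pos hpos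
  refine ⟨x, hx0, fun P => ?_⟩
  have := (mem_L_iff_ord hx0).mp hx P
  rw [Finsupp.sub_apply] at this
  rw [Finsupp.add_apply, h.div_apply]
  omega

theorem FF.delta_bounded (h : FF k K) : ∃ γ : ℤ, ∀ D : Divisor k K, delta D ≤ γ := by
  obtain ⟨x, hx, hfin⟩ := id h
  set B : Divisor k K := poleDiv x
  set n := Module.finrank k⟮x⟯ K
  have hn : 0 < n := Module.finrank_pos
  obtain ⟨C, hC, hL⟩ := h.exists_L_bound hx
  have hB : B.deg = n := h.deg_poleDiv hx
  have hell : ∀ t : ℕ, (n : ℤ) * (t + 1) - C.deg ≤ ell (t • B) := by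
    intro t
    have h1 := h.ell_sub_le (D₁ := t • B) (D₂ := t • B + C) (le_add_of_nonneg_right hC)
    have h2 : ((n * (t + 1) : ℕ) : ℤ) ≤ (ell (t • B + C) : ℤ) := Int.ofNat_le.mpr (hL t)
    rw [deg_add] at h1
    push_cast at h2
    linarith
  refine ⟨C.deg + 1, fun D => ?_⟩
  set D' := D ⊔ 0 with hD'
  obtain ⟨t, ht⟩ : ∃ t : ℕ, C.deg + D'.deg < (t : ℤ) := ⟨(C.deg + D'.deg).natAbs + 1, by omega⟩
  have hpos : 0 < ell (t • B - D') := by
    have h1 := h.ell_sub_le (D₁ := t • B - D') (D₂ := t • B) (sub_le_self _ le_sup_right)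
    rw [deg_sub] at h1
    have h2 := hell t
    have h3 : (t : ℤ) ≤ (n : ℤ) * (t + 1) := by nlinarith
    omega
  obtain ⟨z, hz0, hz⟩ := h.exists_equiv_ge_of_ell_sub_pos hpos
  calc delta D ≤ delta D' := h.delta_mono le_sup_left
    _ ≤ delta (t • B + div k z) := h.delta_mono hz
    _ = delta (t • B) := h.delta_add_div _ hz0
    _ ≤ C.deg + 1 := by
      have h2 := hell t
      rw [delta, deg_nsmul, hB]
      nlinarith

theorem FF.bddAbove_genus (h : FF k K) :
    BddAbove (Set.range fun D : Divisor k K => (D.deg + 1 - (ell D : ℤ)).toNat) := by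
  obtain ⟨γ, hγ⟩ := h.delta_bounded
  exact ⟨γ.toNat, by rintro _ ⟨D, rfl⟩; exact Int.toNat_le_toNat (hγ D)⟩

theorem FF.delta_le_genus (h : FF k K) (D : Divisor k K) : delta D ≤ genus k K := by
  have := le_csSup h.bddAbove_genus ⟨D, rfl⟩
  have h2 : (D.deg + 1 - (ell D : ℤ)).toNat ≤ genus k K := this
  unfold delta
  omega

theorem exists_delta_eq_genus (h : IsFunctionField k K) :
    ∃ D : Divisor k K, 0 ≤ D ∧ delta D = genus k K := by
  have hF : FF k K := h.1
  obtain ⟨D, hD⟩ := Nat.sSup_mem (Set.range_nonempty _) hF.bddAbove_genus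
  refine ⟨D ⊔ 0, le_sup_right, le_antisymm (hF.delta_le_genus _) ?_⟩
  have h1 := hF.delta_mono (le_sup_left : D ≤ D ⊔ 0)
  have h2 := hF.delta_mono (le_sup_right : (0 : Divisor k K) ≤ D ⊔ 0)
  rw [delta_zero h] at h2
  have h3 : (genus k K : ℤ) = ((D.deg + 1 - (ell D : ℤ)).toNat : ℤ) := congrArg Nat.cast hD.symm
  unfold delta at h1
  rw [h3, Int.toNat_eq_max]
  exact max_le h1 h2

theorem exists_delta_eq_genus_of_deg_ge (h : IsFunctionField k K) :
    ∃ N : ℤ, ∀ D : Divisor k K, N ≤ D.deg → delta D = genus k K := by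
  have hF : FF k K := h.1
  obtain ⟨D₀, -, hD₀⟩ := exists_delta_eq_genus h
  refine ⟨D₀.deg + genus k K, fun D hD => le_antisymm (hF.delta_le_genus D) ?_⟩
  have hpos : 0 < ell (D - D₀) := by
    have := hF.delta_le_genus (D - D₀)
    rw [delta, deg_sub] at this
    omega
  obtain ⟨z, hz0, hz⟩ := hF.exists_equiv_ge_of_ell_sub_pos hpos
  rw [← hD₀, ← hF.delta_add_div D hz0]
  exact hF.delta_mono hz

theorem AD_le_adele (D : Divisor k K) : AD D ≤ adele k K := by
  intro a ha
  change ∀ᶠ P : Place k K in Filter.cofinite, P.1 (a P) ≤ 1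
  rw [Filter.eventually_cofinite]
  refine D.support.finite_toSet.subset fun P hP => ?_
  rw [Finset.mem_coe, Finsupp.mem_support_iff]
  intro h0
  exact hP ((ha P).trans_eq (by rw [h0, exp_zero]))

theorem FF.range_diag_le_adele (h : FF k K) : LinearMap.range (diag k K) ≤ adele k K := by
  rintro _ ⟨x, rfl⟩
  change ∀ᶠ P : Place k K in Filter.cofinite, P.1 x ≤ 1
  rw [Filter.eventually_cofinite]
  refine (h.finite_support_ord x).subset fun P hP => ?_
  have h1 : ¬ (0 ≤ P.ord x) := fun h0 => hP ((val_le_one_iff P).mpr h0)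
  simp only [Function.mem_support]
  omega

theorem adele_mem_AD {a : Place k K → K} (ha : a ∈ adele k K) (D : Divisor k K) :
    ∃ E : Divisor k K, D ≤ E ∧ a ∈ AD E := by
  classical
  have hfin : {P : Place k K | ¬ P.1 (a P) ≤ 1}.Finite := Filter.eventually_cofinite.mp ha
  refine ⟨D ⊔ Finsupp.onFinset hfin.toFinset
    (fun P => if P.1 (a P) ≤ 1 then 0 else -P.ord (a P))
    (fun P hP => ?_), le_sup_left, fun P => ?_⟩
  · simp only [ne_eq, ite_eq_left_iff, not_forall] at hP
    simpa using hP.1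
  · rw [Finsupp.sup_apply, Finsupp.onFinset_apply]
    by_cases hP : P.1 (a P) ≤ 1
    · rw [if_pos hP]
      exact hP.trans ((exp_zero (M := ℤ)).symm.le.trans (exp_le_exp.mpr le_sup_right))
    · rw [if_neg hP]
      have ha0 : a P ≠ 0 := fun h0 => hP (by simp [h0])
      rw [val_le_exp_iff P ha0]
      have : -P.ord (a P) ≤ max (D P) (-P.ord (a P)) := le_max_right _ _
      change -(max (D P) (-P.ord (a P))) ≤ P.ord (a P)
      omega

/-- `A(D₂)/A(D₁) → (A(D₂)+K)/(A(D₁)+K)`. -/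
noncomputable def adToSup {D₁ D₂ : Divisor k K} :
    RQ (AD D₁) (AD D₂) →ₗ[k]
      RQ (AD D₁ ⊔ LinearMap.range (diag k K)) (AD D₂ ⊔ LinearMap.range (diag k K)) :=
  Submodule.mapQ _ _ (Submodule.inclusion le_sup_left) (fun x hx => (le_sup_left : AD D₁ ≤ _) hx)

theorem adToSup_surjective {D₁ D₂ : Divisor k K} :
    Function.Surjective (adToSup (D₁ := D₁) (D₂ := D₂)) := by
  intro y
  obtain ⟨⟨y, hy⟩, rfl⟩ := Submodule.Quotient.mk_surjective _ y
  obtain ⟨a, ha, r, hr, rfl⟩ := Submodule.mem_sup.mp hy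
  refine ⟨Submodule.Quotient.mk ⟨a, ha⟩, ?_⟩
  refine (Submodule.Quotient.eq _).mpr ?_
  change a - (a + r) ∈ AD D₁ ⊔ LinearMap.range (diag k K)
  exact Submodule.mem_sup_right (by simpa using hr)

theorem ker_adToSup {D₁ D₂ : Divisor k K} (hD : D₁ ≤ D₂) :
    LinearMap.ker (adToSup (D₁ := D₁) (D₂ := D₂)) = LinearMap.range (lToAD D₁ D₂) := by
  ext y
  obtain ⟨⟨y, hy⟩, rfl⟩ := Submodule.Quotient.mk_surjective _ y
  constructor
  · intro hk
    have hk' : y ∈ AD D₁ ⊔ LinearMap.range (diag k K) :=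
      (Submodule.Quotient.mk_eq_zero (Submodule.comap (AD D₂ ⊔ LinearMap.range (diag k K)).subtype
        (AD D₁ ⊔ LinearMap.range (diag k K)))
        (x := (⟨y, Submodule.mem_sup_left hy⟩ : ↥(AD D₂ ⊔ LinearMap.range (diag k K))))).mp
          (LinearMap.mem_ker.mp hk)
    obtain ⟨a, ha, r, ⟨f, rfl⟩, rfl⟩ := Submodule.mem_sup.mp hk'
    have hf : diag k K f ∈ AD D₂ := by simpa using (AD D₂).sub_mem hy (AD_mono hD ha)
    refine ⟨Submodule.Quotient.mk ⟨f, hf⟩, ?_⟩
    refine (Submodule.Quotient.eq _).mpr ?_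
    change diag k K f - (a + diag k K f) ∈ AD D₁
    simpa using (AD D₁).neg_mem ha
  · rintro ⟨f, hf⟩
    obtain ⟨⟨f, hfL⟩, rfl⟩ := Submodule.Quotient.mk_surjective _ f
    have hsub : diag k K f - y ∈ AD D₁ :=
      (Submodule.Quotient.eq (Submodule.comap (AD D₂).subtype (AD D₁))
        (x := ⟨diag k K f, hfL⟩) (y := ⟨y, hy⟩)).mp hf
    refine (Submodule.Quotient.mk_eq_zero _).mpr ?_
    have : y = -(diag k K f - y) + diag k K f := by abel
    change y ∈ AD D₁ ⊔ LinearMap.range (diag k K)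
    rw [this]
    exact Submodule.add_mem _ (Submodule.mem_sup_left ((AD D₁).neg_mem hsub))
      (Submodule.mem_sup_right ⟨f, rfl⟩)

theorem FF.rq_sup (h : FF k K) {D₁ D₂ : Divisor k K} (hD : D₁ ≤ D₂) :
    Module.Finite k (RQ (AD D₁ ⊔ LinearMap.range (diag k K)) (AD D₂ ⊔ LinearMap.range (diag k K))) ∧
      (Module.finrank k
        (RQ (AD D₁ ⊔ LinearMap.range (diag k K)) (AD D₂ ⊔ LinearMap.range (diag k K))) : ℤ) =
        delta D₂ - delta D₁ := by
  obtain ⟨hfin, hdim⟩ := h.finrank_AD hD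
  have := Module.Finite.of_surjective _ (adToSup_surjective (D₁ := D₁) (D₂ := D₂))
  refine ⟨this, ?_⟩
  have h1 := (adToSup (D₁ := D₁) (D₂ := D₂)).finrank_range_add_finrank_ker
  rw [LinearMap.range_eq_top.mpr adToSup_surjective, finrank_top, ker_adToSup hD,
    LinearMap.finrank_range_of_inj (lToAD_injective D₁ D₂)] at h1
  have := h.finite_L D₂
  have h2 := finrank_of_rq (L_mono hD)
  unfold delta ell
  omega

theorem adele_eq_sup (h : IsFunctionField k K) {D : Divisor k K} (hD : delta D = genus k K) :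
    adele k K = AD D ⊔ LinearMap.range (diag k K) := by
  have hF : FF k K := h.1
  refine le_antisymm (fun a ha => ?_) (sup_le (AD_le_adele D) hF.range_diag_le_adele)
  obtain ⟨E, hDE, haE⟩ := adele_mem_AD ha D
  obtain ⟨hfin, hdim⟩ := hF.rq_sup hDE
  have hle : delta E ≤ genus k K := hF.delta_le_genus E
  have hzero : Module.finrank k
      (RQ (AD D ⊔ LinearMap.range (diag k K)) (AD E ⊔ LinearMap.range (diag k K))) = 0 := by omega
  have hsub := Module.finrank_zero_iff.mp hzero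
  have hmem : a ∈ AD E ⊔ LinearMap.range (diag k K) := Submodule.mem_sup_left haE
  exact (Submodule.Quotient.mk_eq_zero (Submodule.comap (AD E ⊔ LinearMap.range (diag k K)).subtype
    (AD D ⊔ LinearMap.range (diag k K))) (x := ⟨a, hmem⟩)).mp (Subsingleton.elim _ _)

theorem adele_quotient_ADK (h : IsFunctionField k K) (D : Divisor k K) :
    Module.Finite k (↥(adele k K) ⧸ ADK D) ∧
      (Module.finrank k (↥(adele k K) ⧸ ADK D) : ℤ) = (genus k K : ℤ) - delta D := by
  have hF : FF k K := h.1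
  obtain ⟨D₀, -, hD₀⟩ := exists_delta_eq_genus h
  have hE : delta (D ⊔ D₀) = genus k K :=
    le_antisymm (hF.delta_le_genus _) (hD₀ ▸ hF.delta_mono le_sup_right)
  have key : ∀ W : Submodule k (Place k K → K), W = AD (D ⊔ D₀) ⊔ LinearMap.range (diag k K) →
      Module.Finite k (RQ (AD D ⊔ LinearMap.range (diag k K)) W) ∧
        (Module.finrank k (RQ (AD D ⊔ LinearMap.range (diag k K)) W) : ℤ) =
          (genus k K : ℤ) - delta D := by
    rintro _ rfl
    obtain ⟨h1, h2⟩ := hF.rq_sup (le_sup_left : D ≤ D ⊔ D₀)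
    exact ⟨h1, by rw [h2, hE]⟩
  exact key _ (adele_eq_sup h hE)

end Groth.Agent.FF30
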