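import Groth.Agent.FF30.Inertia

/-! Inertia groups along intermediate fields. -/

open FunFld WithZero IntermediateField
open scoped Multiplicative Pointwise

namespace Groth.Agent.FF30

variable {k K K' : Type*} [Field k] [Field K] [Field K'] [Algebra k K] [Algebra K K'] [Algebra k K']
variable [IsScalarTower k K K']
set_option linter.unusedSectionVars false

/-- The inertia group inside the Galois group. -/
noncomputable def inertiaIn (Q : Place k K') : Subgroup (K' ≃ₐ[K] K') :=
  (Q.O.inertiaSubgroup K).map (Q.O.decompositionSubgroup K).subtype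

theorem mem_inertiaIn (Q : Place k K') (σ : K' ≃ₐ[K] K') :
    σ ∈ inertiaIn Q ↔ ∀ x : K', Q.1 x ≤ 1 → Q.1 (σ x - x) < 1 :=
  mem_inertia_map_iff Q σ

theorem card_inertiaIn (Q : Place k K') :
    Nat.card (inertiaIn (K := K) Q) = Nat.card (Q.O.inertiaSubgroup K) := by
  rw [inertiaIn]
  exact (Nat.card_congr ((Q.O.inertiaSubgroup K).equivMapOfInjective _
    (Q.O.decompositionSubgroup K).subtype_injective).toEquiv).symm

/-- `e(Q | Q ∩ E)` is the order of the inertia group fixing `E`. -/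
theorem FF.card_inertiaIn_inf_fixing (h : FF k K) [FiniteDimensional K K'] [IsGalois K K']
    (E : IntermediateField K K') {Q : Place k K'}
    [Algebra.IsSeparable k (IsLocalRing.ResidueField Q.O)] :
    ∃ (Q₁ : Place k E) (e : ℕ), IsOverWith Q Q₁ e ∧
      e = Nat.card (inertiaIn (K := K) Q ⊓ E.fixingSubgroup : Subgroup (K' ≃ₐ[K] K')) := by
  have hE : FF k E := h.extension E
  have : IsScalarTower k E K' := IsScalarTower.of_algebraMap_eq fun c => rfl
  obtain ⟨Q₁, e, -, he⟩ := hE.exists_isOverWith Q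
  refine ⟨Q₁, e, he, ?_⟩
  have h1 := hE.card_inertia he
  rw [← card_inertiaIn] at h1
  rw [← h1]
  refine Nat.card_eq_of_bijective (fun σ => (⟨σ.1.restrictScalars K,
    (mem_inertiaIn Q _).mpr fun x hx => ((mem_inertiaIn (K := E) Q σ.1).mp σ.2) x hx,
    fun x => σ.1.commutes x⟩ : (inertiaIn (K := K) Q ⊓ E.fixingSubgroup : Subgroup _))) ⟨?_, ?_⟩
  · intro a b hab
    apply Subtype.ext
    exact AlgEquiv.ext fun x => AlgEquiv.congr_fun (congrArg Subtype.val hab) x
  · rintro ⟨σ, hσI, hσE⟩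
    let τ : K' ≃ₐ[E] K' := { σ.toRingEquiv with commutes' := fun x => hσE x }
    exact ⟨⟨τ, (mem_inertiaIn Q τ).mpr fun x hx => (mem_inertiaIn Q σ).mp hσI x hx⟩,
      Subtype.ext (AlgEquiv.ext fun x => rfl)⟩

theorem range_comap_eq_iff {F : Type*} [Field F] [Algebra k F] [Algebra F K'] {Q : Place k K'}
    {P : Place k F} {e : ℕ} (he : IsOverWith Q P e) (v : ℤᵐ⁰) :
    v ∈ Set.range (Q.1.comap (algebraMap F K')) ↔ ∃ w : ℤᵐ⁰, w ^ e = v := by
  constructor
  · rintro ⟨x, rfl⟩
    exact ⟨P.1 x, (he x).symm⟩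
  · rintro ⟨w, rfl⟩
    obtain ⟨x, rfl⟩ := P.2.2 w
    exact ⟨x, he x⟩

theorem FF.unramified_iff_le_inertiaField' (h : FF k K) [FiniteDimensional K K'] [IsGalois K K']
    (Q : Place k K') [Algebra.IsSeparable k (IsLocalRing.ResidueField Q.O)]
    (E : IntermediateField K K') :
    Set.range (Q.1.comap (algebraMap E K')) = Set.range (Q.1.comap (algebraMap K K')) ↔
      E ≤ fixedField (inertiaIn (K := K) Q) := by
  obtain ⟨P, e, -, he⟩ := h.exists_isOverWith Q
  obtain ⟨Q₁, e₁, he₁, hc⟩ := h.card_inertiaIn_inf_fixing E (Q := Q)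
  have hI : Nat.card (inertiaIn (K := K) Q) = e := by rw [card_inertiaIn]; exact h.card_inertia he
  rw [IntermediateField.le_iff_le]
  constructor
  · intro hr
    have h1 : e₁ = e := by
      obtain ⟨w, hw⟩ := (range_comap_eq_iff he (exp (-(e₁ : ℤ)))).mp (by
        rw [← hr]; exact (range_comap_eq_iff he₁ _).mpr ⟨exp (-1), by rw [← exp_nsmul]; simp⟩)
      obtain ⟨w', hw'⟩ := (range_comap_eq_iff he₁ (exp (-(e : ℤ)))).mp (by
        rw [hr]; exact (range_comap_eq_iff he _).mpr ⟨exp (-1), by rw [← exp_nsmul]; simp⟩)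
      have hlog := congrArg log hw
      have hlog' := congrArg log hw'
      rw [log_pow, log_exp, nsmul_eq_mul] at hlog hlog'
      have d1 : (e : ℤ) ∣ (e₁ : ℤ) := Int.dvd_neg.mp ⟨log w, hlog.symm⟩
      have d2 : (e₁ : ℤ) ∣ (e : ℤ) := Int.dvd_neg.mp ⟨log w', hlog'.symm⟩
      exact Nat.dvd_antisymm (Int.natCast_dvd_natCast.mp d2) (Int.natCast_dvd_natCast.mp d1)
    have : (inertiaIn (K := K) Q ⊓ E.fixingSubgroup) = inertiaIn (K := K) Q :=
      Subgroup.eq_of_le_of_card_ge inf_le_left (by rw [hI, ← h1, hc])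
    exact inf_eq_left.mp this
  · intro hle
    rw [inf_eq_left.mpr hle, hI] at hc
    ext v
    rw [range_comap_eq_iff he₁, range_comap_eq_iff he, hc]

theorem FF.exists_isOverWith_inertiaField (h : FF k K) [FiniteDimensional K K'] [IsGalois K K']
    (Q : Place k K') [Algebra.IsSeparable k (IsLocalRing.ResidueField Q.O)] :
    ∃ Q₁ : Place k (fixedField (inertiaIn (K := K) Q)),
      IsOverWith Q Q₁ (Module.finrank (fixedField (inertiaIn (K := K) Q)) K') := by
  obtain ⟨Q₁, e₁, he₁, hc⟩ := h.card_inertiaIn_inf_fixing (fixedField (inertiaIn (K := K) Q)) (Q := Q)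
  refine ⟨Q₁, ?_⟩
  rw [IntermediateField.fixingSubgroup_fixedField, inf_idem] at hc
  rw [finrank_fixedField_eq_card, ← hc]
  exact he₁

end Groth.Agent.FF30
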