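import Groth.Agent.FF30.Inertia
import Mathlib.RingTheory.IntegralDomain
import Mathlib.RingTheory.Polynomial.Basic
import Mathlib.Algebra.Polynomial.Identities
import Mathlib.Algebra.CharP.Basic

/-! Higher ramification groups. -/

open FunFld WithZero Polynomial
open scoped Multiplicative

namespace Groth.Agent.FF30

variable {k K K' : Type*} [Field k] [Field K] [Field K'] [Algebra k K] [Algebra K K'] [Algebra k K']
variable [IsScalarTower k K K']
set_option linter.unusedSectionVars false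

/-- `σ x ≡ x mod Q^j` on the valuation ring. -/
def Congr (Q : Place k K') (j : ℕ) (σ : K' ≃ₐ[K] K') : Prop :=
  ∀ x : K', Q.1 x ≤ 1 → Q.1 (σ x - x) ≤ exp (-(j : ℤ))

theorem exp_neg_lt_one {j : ℕ} (hj : 1 ≤ j) : exp (-(j : ℤ)) < 1 := by
  rw [← exp_zero, exp_lt_exp]; omega

theorem congr_mono {Q : Place k K'} {i j : ℕ} (hij : i ≤ j) {σ : K' ≃ₐ[K] K'} (h : Congr Q j σ) :
    Congr Q i σ := fun x hx => (h x hx).trans (exp_le_exp.mpr (by omega))

theorem congr_val_eq {Q : Place k K'} {σ : K' ≃ₐ[K] K'} (h : Congr Q 1 σ) (x : K') :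
    Q.1 (σ x) = Q.1 x := by
  have hD : placeComap Q σ = Q := (placeComap_eq_self_iff Q σ).mpr
    (mem_decomposition_of_congr Q fun x hx => lt_of_le_of_lt (h x hx) (exp_neg_lt_one le_rfl))
  conv_rhs => rw [← hD]
  rfl

theorem val_aeval_sub_le {Q : Place k K'} (p : k[X]) {a b : K'} (ha : Q.1 a ≤ 1) (hb : Q.1 b ≤ 1) :
    Q.1 (aeval a p - aeval b p) ≤ Q.1 (a - b) := by
  induction p using Polynomial.induction_on with
  | C c => simp
  | add p q hp hq =>
    rw [map_add, map_add, add_sub_add_comm]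
    exact (Q.1.map_add _ _).trans (max_le hp hq)
  | monomial n c _ =>
    rw [map_mul, map_mul, aeval_C, aeval_C, map_pow, map_pow, aeval_X, aeval_X, ← mul_sub, map_mul]
    refine (mul_le_of_le_one_left' (Q.2.1 c)).trans ?_
    obtain ⟨w, hw, hw1⟩ : ∃ w, a ^ (n + 1) - b ^ (n + 1) = (a - b) * w ∧ Q.1 w ≤ 1 := by
      refine ⟨∑ i ∈ Finset.range (n + 1), a ^ i * b ^ (n - i), ?_, Q.1.map_sum_le fun i _ => ?_⟩
      · rw [mul_comm, ← geom_sum₂_mul a b (n + 1)]
        simp
      · rw [map_mul, map_pow, map_pow]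
        exact mul_le_one' (pow_le_one' ha i) (pow_le_one' hb _)
    rw [hw, map_mul]
    exact mul_le_of_le_one_right' hw1

/-- Newton iteration: a lift of a residue, annihilated modulo `Q^j` by its minimal polynomial. -/
theorem exists_approx_root {Q : Place k K'} (p : k[X]) (a₀ : K') (ha₀ : Q.1 a₀ ≤ 1)
    (hp : Q.1 (aeval a₀ p) < 1) (hd : Q.1 (aeval a₀ (derivative p)) = 1) (j : ℕ) :
    ∃ a : K', Q.1 a ≤ 1 ∧ Q.1 (a - a₀) < 1 ∧ Q.1 (aeval a p) ≤ exp (-(j : ℤ)) := by
  induction j with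
  | zero => exact ⟨a₀, ha₀, by simp, by rw [Nat.cast_zero, neg_zero, exp_zero]; exact hp.le⟩
  | succ j ih =>
    rcases Nat.eq_zero_or_pos j with rfl | hj
    · exact ⟨a₀, ha₀, by simp, val_lt_one_le Q hp⟩
    obtain ⟨a, ha, haa, hav⟩ := ih
    have hda : Q.1 (aeval a (derivative p)) = 1 := by
      refine Eq.trans ?_ hd
      have hlt : Q.1 (aeval a (derivative p) - aeval a₀ (derivative p)) <
          Q.1 (aeval a₀ (derivative p)) := by
        rw [hd]; exact lt_of_le_of_lt (val_aeval_sub_le _ ha ha₀) haa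
      have := Q.1.map_add_eq_of_lt_left hlt
      rwa [add_sub_cancel] at this
    set δ := -(aeval a p / aeval a (derivative p)) with hδ
    have hδv : Q.1 δ ≤ exp (-(j : ℤ)) := by
      rw [hδ, Valuation.map_neg, map_div₀, hda, div_one]; exact hav
    have hδlt : Q.1 δ < 1 := lt_of_le_of_lt hδv (exp_neg_lt_one hj)
    refine ⟨a + δ, (Q.1.map_add _ _).trans (max_le ha hδlt.le), ?_, ?_⟩
    · rw [add_sub_right_comm]
      exact lt_of_le_of_lt (Q.1.map_add _ _) (max_lt haa hδlt)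
    · obtain ⟨c, hc⟩ : ∃ c : K', aeval (a + δ) p = aeval a p + aeval a (derivative p) * δ + c * δ ^ 2 ∧
          Q.1 c ≤ 1 := by
        let q : (Q.O)[X] := p.map (algebraMap k Q.O)
        obtain ⟨c, hc⟩ := binomExpansion q (⟨a, ha⟩ : Q.O) (⟨δ, hδlt.le⟩ : Q.O)
        refine ⟨(c : K'), ?_, c.2⟩
        have h1 := congrArg (algebraMap Q.O K') hc
        simp only [q, eval_map_algebraMap, derivative_map, map_add, map_mul, map_pow,
          ← aeval_algebraMap_apply] at h1
        exact h1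
      have h2 : aeval a (derivative p) * δ = -aeval a p := by
        rw [hδ, mul_neg, mul_div_cancel₀]
        intro h0; rw [h0, map_zero] at hda; exact zero_ne_one hda
      rw [hc.1, h2, add_neg_cancel, zero_add, map_mul, map_pow]
      refine (mul_le_of_le_one_left' hc.2).trans ((pow_le_pow_left' hδv 2).trans ?_)
      rw [← exp_nsmul, exp_le_exp, nsmul_eq_mul]
      push_cast
      omega

theorem congr_approx_root {Q : Place k K'} (p : k[X]) {σ : K' ≃ₐ[K] K'} (h1 : Congr Q 1 σ)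
    {a : K'} (ha : Q.1 a ≤ 1) (hd : Q.1 (aeval a (derivative p)) = 1) {j : ℕ}
    (hp : Q.1 (aeval a p) ≤ exp (-(j : ℤ))) : Q.1 (σ a - a) ≤ exp (-(j : ℤ)) := by
  have hσp : Q.1 (aeval (σ a) p) ≤ exp (-(j : ℤ)) := by
    have he : aeval (σ a) p = σ (aeval a p) :=
      Polynomial.aeval_algHom_apply ((σ : K' →ₐ[K] K').restrictScalars k) a p
    rw [he, congr_val_eq h1]
    exact hp
  have hb : Q.1 (σ a) ≤ 1 := by rw [congr_val_eq h1]; exact ha
  have hsmall : Q.1 (σ a - a) < 1 := lt_of_le_of_lt (h1 a ha) (exp_neg_lt_one le_rfl)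
  set δ := σ a - a with hδ
  obtain ⟨c, hc, hc1⟩ : ∃ c : K', aeval (a + δ) p = aeval a p + aeval a (derivative p) * δ + c * δ ^ 2 ∧
      Q.1 c ≤ 1 := by
    let q : (Q.O)[X] := p.map (algebraMap k Q.O)
    obtain ⟨c, hc⟩ := binomExpansion q (⟨a, ha⟩ : Q.O) (⟨δ, hsmall.le⟩ : Q.O)
    refine ⟨(c : K'), ?_, c.2⟩
    have h1 := congrArg (algebraMap Q.O K') hc
    simp only [q, eval_map_algebraMap, derivative_map, map_add, map_mul, map_pow,
      ← aeval_algebraMap_apply] at h1
    exact h1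
  rw [show a + δ = σ a by rw [hδ]; ring] at hc
  have hu : Q.1 (aeval a (derivative p) + c * δ) = 1 := by
    rw [Q.1.map_add_eq_of_lt_left, hd]
    rw [hd, map_mul]
    exact lt_of_le_of_lt (mul_le_of_le_one_left' hc1) hsmall
  have he : aeval (σ a) p - aeval a p = δ * (aeval a (derivative p) + c * δ) := by rw [hc]; ring
  have h2 : Q.1 δ = Q.1 (aeval (σ a) p - aeval a p) := by rw [he, map_mul, hu, mul_one]
  rw [h2]
  exact (Q.1.map_sub _ _).trans (max_le hσp hp)

theorem congr_of_uniformizer {Q : Place k K'}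
    [FiniteDimensional k (IsLocalRing.ResidueField Q.O)]
    [Algebra.IsSeparable k (IsLocalRing.ResidueField Q.O)] {σ : K' ≃ₐ[K] K'} (h1 : Congr Q 1 σ)
    {t : K'} (ht : Q.1 t = exp (-1)) {j : ℕ} (hst : Q.1 (σ t - t) ≤ exp (-(j : ℤ))) :
    Congr Q j σ := by
  have main : ∀ i : ℕ, i ≤ j → Congr Q i σ := by
    intro i
    induction i with
    | zero =>
      intro _ x hx
      rw [Nat.cast_zero, neg_zero, exp_zero]
      exact (Q.1.map_sub _ _).trans (max_le (by rw [congr_val_eq h1]; exact hx) hx)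
    | succ i ih =>
      intro hij x hx
      specialize ih (by omega)
      set r := IsLocalRing.residue Q.O ⟨x, hx⟩
      set p := minpoly k r
      have hres : ∀ q : k[X], aeval r q = IsLocalRing.residue Q.O (aeval (⟨x, hx⟩ : Q.O) q) := by
        intro q
        induction q using Polynomial.induction_on' with
        | add q₁ q₂ h₁ h₂ => rw [map_add, map_add, map_add, h₁, h₂]
        | monomial m c => rw [aeval_monomial, aeval_monomial, map_mul, map_pow]; rfl
      have hcoe : ∀ q : k[X], ((aeval (⟨x, hx⟩ : Q.O) q : Q.O) : K') = aeval x q := fun q =>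
        (aeval_algebraMap_apply K' (⟨x, hx⟩ : Q.O) q).symm
      have hp : Q.1 (aeval x p) < 1 := by
        rw [← hcoe]
        refine (Valuation.mem_maximalIdeal_iff (v := Q.1)).mp ?_
        rw [← IsLocalRing.residue_eq_zero_iff, ← hres]
        exact minpoly.aeval k r
      have hd : Q.1 (aeval x (derivative p)) = 1 := by
        refine le_antisymm (val_aeval_le_one Q.1 Q.2.1 hx _) (not_lt.mp fun hlt => ?_)
        refine (Algebra.IsSeparable.isSeparable k r).aeval_derivative_ne_zero (minpoly.aeval k r) ?_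
        rw [hres, IsLocalRing.residue_eq_zero_iff]
        refine (Valuation.mem_maximalIdeal_iff (v := Q.1)).mpr ?_
        rw [hcoe]; exact hlt
      obtain ⟨a, ha, hax, hap⟩ := exists_approx_root p x hx hp hd (i + 1)
      have hda : Q.1 (aeval a (derivative p)) = 1 := by
        have hlt : Q.1 (aeval a (derivative p) - aeval x (derivative p)) <
            Q.1 (aeval x (derivative p)) := by
          rw [hd]; exact lt_of_le_of_lt (val_aeval_sub_le _ ha hx) hax
        have := Q.1.map_add_eq_of_lt_left hlt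
        rw [add_sub_cancel] at this
        rw [this, hd]
      have hσa := congr_approx_root p h1 ha hda hap
      set y := (x - a) / t with hy
      have ht0 : t ≠ 0 := fun h0 => exp_ne_zero (by rw [← ht, h0, map_zero])
      have hy1 : Q.1 y ≤ 1 := by
        rw [hy, map_div₀, ht, Valuation.map_sub_swap]
        exact div_le_one_of_le₀ (val_lt_one_le Q hax) zero_le
      have hxy : x = a + t * y := by rw [hy, mul_div_cancel₀ _ ht0]; ring
      have he : σ x - x = (σ a - a) + ((σ t - t) * σ y + t * (σ y - y)) := by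
        rw [hxy, map_add, map_mul]; ring
      rw [he]
      refine (Q.1.map_add _ _).trans (max_le hσa ((Q.1.map_add _ _).trans (max_le ?_ ?_)))
      · rw [map_mul, congr_val_eq h1]
        exact (mul_le_of_le_one_right' hy1).trans (hst.trans (exp_le_exp.mpr (by omega)))
      · rw [map_mul, ht]
        refine (mul_le_mul' le_rfl (ih y hy1)).trans ?_
        rw [← exp_add, exp_le_exp]; omega
  exact main j le_rfl

/-- The automorphisms with `σ x ≡ x mod Q`. -/
def congrOne (Q : Place k K') : Subgroup (K' ≃ₐ[K] K') where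
  carrier := {σ | Congr Q 1 σ}
  one_mem' := fun x _ => by simp
  mul_mem' := fun {σ τ} hσ hτ x hx => by
    have : (σ * τ) x - x = (σ (τ x) - τ x) + (τ x - x) := by rw [AlgEquiv.mul_apply]; ring
    rw [this]
    exact (Q.1.map_add _ _).trans (max_le (hσ _ (by rw [congr_val_eq hτ]; exact hx)) (hτ x hx))
  inv_mem' := fun {σ} hσ x hx => by
    have h0 : Q.1 (σ⁻¹ x) = Q.1 x := by
      have := congr_val_eq hσ (σ⁻¹ x)
      rw [show σ (σ⁻¹ x) = x from σ.apply_symm_apply x] at this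
      exact this.symm
    have h := hσ (σ⁻¹ x) (by rw [h0]; exact hx)
    rw [show σ (σ⁻¹ x) = x from σ.apply_symm_apply x, Valuation.map_sub_swap] at h
    exact h

theorem congrOne_unit {Q : Place k K'} {t : K'} (ht : t ≠ 0) (σ : congrOne (K := K) Q) :
    Q.1 (σ.1 t / t) = 1 := by
  rw [map_div₀, congr_val_eq σ.2, div_self (val_ne_zero Q ht)]

/-- `σ ↦ σ t / t` modulo `Q`. -/
noncomputable def ramChar (Q : Place k K') {t : K'} (ht : t ≠ 0) :
    congrOne (K := K) Q →* IsLocalRing.ResidueField Q.O where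
  toFun σ := IsLocalRing.residue Q.O ⟨σ.1 t / t, (congrOne_unit ht σ).le⟩
  map_one' := by
    rw [← map_one (IsLocalRing.residue Q.O)]
    congr 1
    exact Subtype.ext (by simp [div_self ht])
  map_mul' σ τ := by
    rw [← map_mul, residue_eq_iff]
    change Q.1 ((σ.1 * τ.1) t / t - σ.1 t / t * (τ.1 t / t)) < 1
    have hσt : σ.1 t ≠ 0 := by simpa using ht
    have : (σ.1 * τ.1) t / t - σ.1 t / t * (τ.1 t / t) =
        σ.1 t / t * (σ.1 (τ.1 t / t) - τ.1 t / t) := by
      rw [AlgEquiv.mul_apply, map_div₀]; field_simp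
    rw [this, map_mul, congrOne_unit ht σ, one_mul]
    exact lt_of_le_of_lt (σ.2 _ (congrOne_unit ht τ).le) (exp_neg_lt_one le_rfl)

theorem exists_gen_mod {G R : Type*} [Group G] [Finite G] [CommRing R] [IsDomain R] (φ : G →* R) :
    ∃ g₀ : G, ∀ g : G, ∃ n : ℕ, φ ((g₀ ^ n)⁻¹ * g) = 1 := by
  let ψ : G →* Rˣ := φ.toHomUnits
  have : Finite ψ.range := Finite.of_surjective ψ.rangeRestrict ψ.rangeRestrict_surjective
  have : IsCyclic ψ.range := isCyclic_of_injective_ringHom ((Units.coeHom R).comp ψ.range.subtype)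
    (fun a b h => Subtype.ext (Units.ext h))
  obtain ⟨⟨_, g₀, rfl⟩, hg⟩ := IsCyclic.exists_generator (α := ψ.range)
  refine ⟨g₀, fun g => ?_⟩
  obtain ⟨n, hn⟩ := (isOfFinOrder_of_finite _).mem_powers_iff_mem_zpowers.mpr (hg ⟨ψ g, g, rfl⟩)
  refine ⟨n, ?_⟩
  have hn' : ψ g₀ ^ n = ψ g := congrArg Subtype.val hn
  have h1 : ψ ((g₀ ^ n)⁻¹ * g) = 1 := by rw [map_mul, map_inv, map_pow, hn', inv_mul_cancel]
  exact congrArg Units.val h1

theorem ramChar_eq_one_iff {Q : Place k K'}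
    [FiniteDimensional k (IsLocalRing.ResidueField Q.O)]
    [Algebra.IsSeparable k (IsLocalRing.ResidueField Q.O)] {t : K'} (ht0 : t ≠ 0)
    (ht : Q.1 t = exp (-1)) (σ : congrOne (K := K) Q) :
    ramChar Q ht0 σ = 1 ↔ Congr Q 2 σ.1 := by
  have h1 : ramChar Q ht0 σ = 1 ↔ Q.1 (σ.1 t / t - 1) < 1 := by
    rw [← map_one (IsLocalRing.residue Q.O)]
    exact residue_eq_iff Q _ _
  have h2 : σ.1 t / t - 1 = (σ.1 t - t) / t := by field_simp
  rw [h1, h2, map_div₀, ht]
  constructor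
  · intro h
    refine congr_of_uniformizer σ.2 ht ?_
    rw [div_lt_one₀ exp_pos] at h
    rcases eq_or_ne (σ.1 t - t) 0 with h0 | h0
    · rw [h0]; simp
    · rw [val_eq Q h0, exp_lt_exp] at h
      rw [val_le_exp_iff Q h0]; omega
  · intro h
    rw [div_lt_one₀ exp_pos]
    exact lt_of_le_of_lt (h t (by rw [ht, ← exp_zero, exp_le_exp]; norm_num))
      (exp_lt_exp.mpr (by norm_num))

theorem exists_ramification_quotient_cyclic {Q : Place k K'} [FiniteDimensional K K']
    [FiniteDimensional k (IsLocalRing.ResidueField Q.O)]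
    [Algebra.IsSeparable k (IsLocalRing.ResidueField Q.O)] :
    ∃ σ₀ : K' ≃ₐ[K] K', Congr Q 1 σ₀ ∧
      ∀ σ : K' ≃ₐ[K] K', Congr Q 1 σ → ∃ n : ℕ, Congr Q 2 ((σ₀ ^ n)⁻¹ * σ) := by
  obtain ⟨t, ht0, ht⟩ := exists_uniformizer Q
  obtain ⟨σ₀, hσ₀⟩ := exists_gen_mod (ramChar (K := K) Q ht0)
  refine ⟨σ₀.1, σ₀.2, fun σ hσ => ?_⟩
  obtain ⟨n, hn⟩ := hσ₀ ⟨σ, hσ⟩
  exact ⟨n, (ramChar_eq_one_iff ht0 ht _).mp hn⟩

theorem congr_add {Q : Place k K'} {i : ℕ} (hi : 2 ≤ i) {t : K'} (ht : Q.1 t = exp (-1))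
    {σ τ : K' ≃ₐ[K] K'} (hσ : Congr Q i σ) (hτ : Congr Q i τ) :
    Q.1 (((σ * τ) t - t) - ((σ t - t) + (τ t - t))) ≤ exp (-((i + 1 : ℕ) : ℤ)) := by
  have ht1 : Q.1 t ≤ 1 := by rw [ht, ← exp_zero, exp_le_exp]; norm_num
  have ht0 : t ≠ 0 := fun h0 => exp_ne_zero (by rw [← ht, h0, map_zero])
  set w := (τ t - t) / t with hw
  have hw1 : Q.1 w ≤ 1 := by
    rw [hw, map_div₀, ht]
    exact div_le_one_of_le₀ ((hτ t ht1).trans (exp_le_exp.mpr (by omega))) zero_le
  have hwt : τ t - t = t * w := by rw [hw, mul_div_cancel₀ _ ht0]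
  have hwv : Q.1 (σ w) ≤ exp (-((i : ℤ) - 1)) := by
    rw [congr_val_eq (congr_mono (by omega) hσ), hw, map_div₀, ht]
    rw [div_eq_mul_inv]
    refine (mul_le_mul' (hτ t ht1) le_rfl).trans ?_
    rw [← exp_neg, ← exp_add, exp_le_exp]; omega
  have he : ((σ * τ) t - t) - ((σ t - t) + (τ t - t)) = σ w * (σ t - t) + t * (σ w - w) := by
    have h1 : (σ * τ) t = σ (τ t - t) + σ t := by rw [AlgEquiv.mul_apply, map_sub]; ring
    rw [h1, hwt, map_mul]; ring
  rw [he]
  refine (Q.1.map_add _ _).trans (max_le ?_ ?_)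
  · rw [map_mul]
    refine (mul_le_mul' hwv (hσ t ht1)).trans ?_
    rw [← exp_add, exp_le_exp]; push_cast; omega
  · rw [map_mul, ht]
    refine (mul_le_mul' le_rfl (hσ w hw1)).trans ?_
    rw [← exp_add, exp_le_exp]; push_cast; omega

end Groth.Agent.FF30

namespace Groth.Agent.FF30

variable {k K K' : Type*} [Field k] [Field K] [Field K'] [Algebra k K] [Algebra K K'] [Algebra k K']
variable [IsScalarTower k K K'] {Q : Place k K'}
set_option linter.unusedSectionVars false

theorem congr_congrOne {i : ℕ} (hi : 1 ≤ i) {σ : K' ≃ₐ[K] K'} (h : Congr Q i σ) :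
    σ ∈ congrOne (K := K) Q := congr_mono hi h

theorem congr_mul {i : ℕ} (hi : 1 ≤ i) {σ τ : K' ≃ₐ[K] K'} (hσ : Congr Q i σ) (hτ : Congr Q i τ) :
    Congr Q i (σ * τ) := by
  intro x hx
  have : (σ * τ) x - x = (σ (τ x) - τ x) + (τ x - x) := by rw [AlgEquiv.mul_apply]; ring
  rw [this]
  exact (Q.1.map_add _ _).trans (max_le
    (hσ _ (by rw [congr_val_eq (congr_mono hi hτ)]; exact hx)) (hτ x hx))

theorem congr_inv {i : ℕ} (hi : 1 ≤ i) {σ : K' ≃ₐ[K] K'} (hσ : Congr Q i σ) : Congr Q i σ⁻¹ := by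
  intro x hx
  have h0 : Q.1 (σ⁻¹ x) = Q.1 x := congr_val_eq ((congrOne Q).inv_mem (congr_congrOne hi hσ)) x
  have h := hσ (σ⁻¹ x) (by rw [h0]; exact hx)
  rwa [show σ (σ⁻¹ x) = x from σ.apply_symm_apply x, Valuation.map_sub_swap] at h

theorem congr_pow_sub {i : ℕ} (hi : 2 ≤ i) {t : K'} (ht : Q.1 t = exp (-1)) {σ : K' ≃ₐ[K] K'}
    (hσ : Congr Q i σ) (n : ℕ) :
    Congr Q i (σ ^ n) ∧
      Q.1 (((σ ^ n) t - t) - (n : K') * (σ t - t)) ≤ exp (-((i + 1 : ℕ) : ℤ)) := by
  induction n with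
  | zero => exact ⟨fun x _ => by simp, by simp⟩
  | succ n ih =>
    refine ⟨by rw [pow_succ]; exact congr_mul (by omega) ih.1 hσ, ?_⟩
    have h := congr_add hi ht ih.1 hσ
    rw [pow_succ]
    have he : ((σ ^ n * σ) t - t) - ((n + 1 : ℕ) : K') * (σ t - t) =
        (((σ ^ n * σ) t - t) - (((σ ^ n) t - t) + (σ t - t))) +
          (((σ ^ n) t - t) - (n : K') * (σ t - t)) := by push_cast; ring
    rw [he]
    exact (Q.1.map_add _ _).trans (max_le h ih.2)

theorem congr_quotient [FiniteDimensional K K']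
    [FiniteDimensional k (IsLocalRing.ResidueField Q.O)]
    [Algebra.IsSeparable k (IsLocalRing.ResidueField Q.O)]
    {i : ℕ} (hi : 2 ≤ i) {σ τ : K' ≃ₐ[K] K'} (hσ : Congr Q i σ) (hτ : Congr Q i τ) :
    Congr Q (i + 1) (σ * τ * σ⁻¹ * τ⁻¹) ∧ (ringChar K = 0 → Congr Q (i + 1) σ) ∧
      ∀ p : ℕ, p.Prime → ringChar K = p → Congr Q (i + 1) (σ ^ p) := by
  obtain ⟨t, ht0, ht⟩ := exists_uniformizer Q
  have ht1 : Q.1 t ≤ 1 := by rw [ht, ← exp_zero, exp_le_exp]; norm_num
  refine ⟨?_, ?_, ?_⟩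
  · have h1 : 1 ≤ i := by omega
    have ha := congr_mul h1 hσ hτ
    have hb := congr_mul h1 ha (congr_inv h1 hσ)
    have hc := congr_mul h1 hb (congr_inv h1 hτ)
    refine congr_of_uniformizer (congr_mono h1 hc) ht ?_
    set ε := exp (-((i + 1 : ℕ) : ℤ))
    have hid : ∀ {ρ : K' ≃ₐ[K] K'}, Congr Q i ρ → Q.1 ((ρ t - t) + (ρ⁻¹ t - t)) ≤ ε := by
      intro ρ hρ
      have h := congr_add hi ht hρ (congr_inv h1 hρ)
      rw [mul_inv_cancel, AlgEquiv.one_apply, sub_self, zero_sub, Valuation.map_neg] at h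
      exact h
    have he : (σ * τ * σ⁻¹ * τ⁻¹) t - t =
        (((σ * τ * σ⁻¹ * τ⁻¹) t - t) - (((σ * τ * σ⁻¹) t - t) + (τ⁻¹ t - t))) +
        ((((σ * τ * σ⁻¹) t - t) - (((σ * τ) t - t) + (σ⁻¹ t - t))) +
        ((((σ * τ) t - t) - ((σ t - t) + (τ t - t))) +
        (((σ t - t) + (σ⁻¹ t - t)) + ((τ t - t) + (τ⁻¹ t - t))))) := by ring
    rw [he]
    exact (Q.1.map_add _ _).trans (max_le (congr_add hi ht hb (congr_inv h1 hτ))
      ((Q.1.map_add _ _).trans (max_le (congr_add hi ht ha (congr_inv h1 hσ))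
        ((Q.1.map_add _ _).trans (max_le (congr_add hi ht hσ hτ)
          ((Q.1.map_add _ _).trans (max_le (hid hσ) (hid hτ))))))))
  · intro h0
    refine congr_of_uniformizer (congr_mono (by omega) hσ) ht ?_
    have hm : 0 < orderOf σ := orderOf_pos σ
    have h := (congr_pow_sub hi ht hσ (orderOf σ)).2
    rw [pow_orderOf_eq_one, AlgEquiv.one_apply, sub_self, zero_sub, Valuation.map_neg, map_mul] at h
    have hK : CharP K 0 := h0 ▸ ringChar.charP K
    have := CharP.charP_to_charZero K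
    have hQ : Q.1 ((orderOf σ : ℕ) : K') = 1 := by
      have hne : ((orderOf σ : ℕ) : k) ≠ 0 := fun h' => by
        have := congrArg (algebraMap k K) h'
        rw [map_natCast, map_zero, Nat.cast_eq_zero] at this
        omega
      have := val_algebraMap Q hne
      rwa [map_natCast] at this
    rwa [hQ, one_mul] at h
  · intro p hp hcp
    refine congr_of_uniformizer (congr_mono (by omega) (congr_pow_sub hi ht hσ p).1) ht ?_
    have h := (congr_pow_sub hi ht hσ p).2
    have : (p : K') = 0 := by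
      have hc : (p : K) = 0 := hcp ▸ ringChar.Nat.cast_ringChar
      have := congrArg (algebraMap K K') hc
      simpa using this
    rwa [this, zero_mul, sub_zero] at h

end Groth.Agent.FF30
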