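import Groth.Agent.FF30.IntClosure
import Mathlib.RingTheory.DedekindDomain.Different
import Mathlib.FieldTheory.PrimitiveElement

/-! A derivative criterion for being unramified. -/

open FunFld WithZero Polynomial
open scoped Multiplicative Pointwise

namespace Groth.Agent.FF30

variable {k K K' : Type*} [Field k] [Field K] [Field K'] [Algebra k K] [Algebra K K'] [Algebra k K']
variable [IsScalarTower k K K'] [FiniteDimensional K K']
set_option linter.unusedSectionVars false

theorem isFractionRing_O (P : Place k K) : IsFractionRing P.O K := inferInstance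

theorem deriv_mul_mem_adjoin [Algebra.IsSeparable K K'] (P : Place k K) [Algebra P.O K']
    [IsScalarTower P.O K K'] {y : K'} (hy : Algebra.adjoin K ({y} : Set K') = ⊤)
    (hyi : IsIntegral P.O y) {z : K'} (hz : IsIntegral P.O z) :
    aeval y (derivative (minpoly K y)) * z ∈ Algebra.adjoin P.O ({y} : Set K') := by
  have hd := traceForm_dualSubmodule_adjoin P.O K hy hyi
  have hmem : z ∈ (Algebra.traceForm K K').dualSubmodule
      (Subalgebra.toSubmodule (Algebra.adjoin P.O ({y} : Set K'))) := by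
    intro b hb
    have hb' : IsIntegral P.O b :=
      adjoin_le_integralClosure hyi hb
    rw [Submodule.mem_one]
    exact IsIntegrallyClosed.isIntegral_iff.mp (Algebra.isIntegral_trace (hz.mul hb'))
  rw [hd] at hmem
  obtain ⟨b, hb, hbz⟩ := (Submodule.mem_smul_pointwise_iff_exists _ _ _).mp hmem
  have hne : aeval y (derivative (minpoly K y)) ≠ 0 :=
    (Algebra.IsSeparable.isSeparable K y).aeval_derivative_ne_zero (minpoly.aeval K y)
  rw [← hbz, smul_eq_mul, mul_inv_cancel_left₀ hne]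
  exact hb

theorem val_aeval_lt_one_of_coeff {Q : Place k K'} {P : Place k K} [Algebra P.O K']
    [IsScalarTower P.O K K'] {e : ℕ} (hQ : IsOverWith Q P e) {y : K'} (hy : Q.1 y ≤ 1)
    {r : (P.O)[X]} (hr : ∀ i, P.1 ((r.coeff i : P.O) : K) < 1) :
    Q.1 (aeval y r) ≤ exp (-(e : ℤ)) := by
  rw [aeval_eq_sum_range]
  refine Q.1.map_sum_le fun i _ => ?_
  rw [Algebra.smul_def, map_mul, algebraMap_O, hQ, map_pow]
  refine (mul_le_mul' (pow_le_pow_left' (val_lt_one_le P (hr i)) _) (pow_le_one' hy i)).trans ?_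
  rw [mul_one, ← exp_nsmul, exp_le_exp, nsmul_eq_mul]
  omega

theorem val_aeval_le_one_O {Q : Place k K'} {P : Place k K} [Algebra P.O K']
    [IsScalarTower P.O K K'] {e : ℕ} (hQ : IsOverWith Q P e) {y : K'} (hy : Q.1 y ≤ 1)
    (r : (P.O)[X]) : Q.1 (aeval y r) ≤ 1 := by
  rw [aeval_eq_sum_range]
  refine Q.1.map_sum_le fun i _ => ?_
  rw [Algebra.smul_def, map_mul, algebraMap_O, hQ, map_pow]
  exact mul_le_one' (pow_le_one' (r.coeff i).2 _) (pow_le_one' hy i)

theorem exists_coeff_lt_one_of_natDegree_lt {Q : Place k K'} {P : Place k K} [Algebra P.O K']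
    [IsScalarTower P.O K K'] {e : ℕ} (hQ : IsOverWith Q P e) {y : K'} (hy : Q.1 y ≤ 1) {d : ℕ}
    (hd : ∀ g : (P.O)[X], g.Monic → Q.1 (aeval y g) < 1 → d ≤ g.natDegree)
    {r : (P.O)[X]} (hr : r.natDegree < d ∨ r = 0) (hrv : Q.1 (aeval y r) < 1) :
    ∀ i, P.1 ((r.coeff i : P.O) : K) < 1 := by
  classical
  rcases hr with hr | rfl
  swap
  · simp
  by_contra hcon
  push Not at hcon
  obtain ⟨i₀, hi₀⟩ := hcon
  have hne₀ : r.coeff i₀ ≠ 0 := fun h0 => by
    rw [h0] at hi₀; simp at hi₀
  set S := r.support.filter fun i => 1 ≤ P.1 ((r.coeff i : P.O) : K)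
  have hS : S.Nonempty := ⟨i₀, Finset.mem_filter.mpr ⟨mem_support_iff.mpr hne₀, hi₀⟩⟩
  set i := S.max' hS
  have hiS := Finset.mem_filter.mp (S.max'_mem hS)
  have hval : P.1 ((r.coeff i : P.O) : K) = 1 := le_antisymm (r.coeff i).2 hiS.2
  have hu : P.1 ((r.coeff i : P.O) : K)⁻¹ ≤ 1 := by rw [map_inv₀, hval, inv_one]
  set u : P.O := ⟨_, hu⟩
  have hmul : u * r.coeff i = 1 := Subtype.ext (by
    change ((r.coeff i : P.O) : K)⁻¹ * ((r.coeff i : P.O) : K) = 1
    exact inv_mul_cancel₀ fun h0 => by rw [h0, map_zero] at hval; exact zero_ne_one hval)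
  set g : (P.O)[X] := ∑ j ∈ Finset.range (i + 1), C (u * r.coeff j) * X ^ j
  have hgc : ∀ j, g.coeff j = if j ≤ i then u * r.coeff j else 0 := by
    intro j
    simp only [g, finsetSum_coeff, coeff_C_mul_X_pow, Finset.sum_ite_eq, Finset.mem_range,
      Nat.lt_succ_iff]
  have hgdeg : g.natDegree ≤ i := natDegree_le_iff_coeff_eq_zero.mpr fun j hj => by
    rw [hgc, if_neg (by omega)]
  have hgm : g.Monic := monic_of_natDegree_le_of_coeff_eq_one i hgdeg (by rw [hgc, if_pos le_rfl, hmul])
  have hgv : Q.1 (aeval y g) < 1 := by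
    have he : aeval y g = aeval y (C u * r) - aeval y (C u * r - g) := by rw [map_sub]; ring
    rw [he]
    refine lt_of_le_of_lt (Q.1.map_sub _ _) (max_lt ?_ ?_)
    · rw [map_mul, map_mul]
      exact lt_of_le_of_lt (mul_le_of_le_one_left' (val_aeval_le_one_O hQ hy _)) hrv
    · refine lt_of_le_of_lt (val_aeval_lt_one_of_coeff hQ hy fun j => ?_)
        (by rw [← exp_zero, exp_lt_exp]; have := isOverWith_pos hQ; omega)
      rw [coeff_sub, coeff_C_mul, hgc]
      split
      · rw [sub_self]; simp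
      · rename_i hj
        rw [sub_zero]
        change P.1 ((u : K) * ((r.coeff j : P.O) : K)) < 1
        rw [map_mul]
        refine lt_of_le_of_lt (mul_le_of_le_one_left' u.2) ?_
        by_contra hge
        have hjne : r.coeff j ≠ 0 := fun h0 => by rw [h0] at hge; simp at hge
        have := S.le_max' j (Finset.mem_filter.mpr ⟨mem_support_iff.mpr hjne, not_lt.mp hge⟩)
        omega
  have hir : i ≤ r.natDegree := le_natDegree_of_mem_supp i hiS.1
  have := hd g hgm hgv
  omega

theorem FF.ramIdx_eq_one_of_deriv (h : FF k K) [Algebra.IsSeparable K K'] (P : Place k K)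
    [Algebra P.O K'] [IsScalarTower P.O K K'] {y : K'}
    (hy : Algebra.adjoin K ({y} : Set K') = ⊤) {f : (P.O)[X]} (hf : f.Monic)
    (hmap : f.map (algebraMap P.O K) = minpoly K y) {Q : Place k K'} {e : ℕ}
    (hQ : IsOverWith Q P e) (hd : Q.1 (aeval y (derivative (minpoly K y))) = 1) : e = 1 := by
  classical
  have hfy : aeval y f = 0 := by
    rw [← aeval_map_algebraMap K, hmap, minpoly.aeval]
  have hfd : aeval y (derivative f) = aeval y (derivative (minpoly K y)) := by
    rw [← hmap, derivative_map, aeval_map_algebraMap]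
  have hyi : IsIntegral P.O y := ⟨f, hf, hfy⟩
  have hy1 : ∀ Q' : Place k K', IsOver Q' P → Q'.1 y ≤ 1 := (h.isIntegral_iff P y).mp hyi
  have hyQ := hy1 Q ⟨e, hQ⟩
  have he0 := isOverWith_pos hQ
  by_contra hne
  have he : 2 ≤ e := by omega
  set T := (h.finite_setOf_isOver (K' := K') P).toFinset
  obtain ⟨a, ha0, ha⟩ := exists_val_eq Q (-1)
  obtain ⟨z, hz⟩ := exists_approx (insert Q T) (fun Q' => if Q' = Q then a else 0)
    (fun Q' => if Q' = Q then -2 else 0)
  have hzQ : Q.1 z = exp (-1) := by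
    have h1 := hz Q (Finset.mem_insert_self _ _)
    simp only [if_pos] at h1
    have : z = a + (z - a) := by ring
    rw [this, Q.1.map_add_eq_of_lt_left, ha]
    rw [ha]
    exact lt_of_le_of_lt h1 (exp_lt_exp.mpr (by norm_num))
  have hzint : IsIntegral P.O z := by
    refine (h.isIntegral_iff P z).mpr fun Q' hQ' => ?_
    by_cases hQQ : Q' = Q
    · rw [hQQ, hzQ, ← exp_zero, exp_le_exp]; norm_num
    · have := hz Q' (Finset.mem_insert_of_mem ((h.finite_setOf_isOver P).mem_toFinset.mpr hQ'))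
      simpa [hQQ] using this
  have hw := deriv_mul_mem_adjoin P hy hyi hzint
  rw [Algebra.adjoin_singleton_eq_range_aeval] at hw
  obtain ⟨g, hg⟩ := hw
  have hgQ : Q.1 (aeval y g) = exp (-1) := by
    rw [show aeval y g = _ from hg, map_mul, hd, one_mul, hzQ]
  have hlt : exp (-1 : ℤ) < 1 := by rw [← exp_zero, exp_lt_exp]; norm_num
  have hfQ : Q.1 (aeval y f) < 1 := by rw [hfy, map_zero]; exact zero_lt_one
  have hex : ∃ d, ∃ G : (P.O)[X], G.Monic ∧ Q.1 (aeval y G) < 1 ∧ G.natDegree = d :=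
    ⟨_, f, hf, hfQ, rfl⟩
  obtain ⟨G, hG, hGQ, hGd⟩ := Nat.find_spec hex
  have hmin : ∀ g : (P.O)[X], g.Monic → Q.1 (aeval y g) < 1 → G.natDegree ≤ g.natDegree :=
    fun g h1 h2 => hGd ▸ Nat.find_min' hex ⟨g, h1, h2, rfl⟩
  have hG1 : 0 < G.natDegree := by
    by_contra h0
    rw [hG.natDegree_eq_zero.mp (by omega), map_one, map_one] at hGQ
    exact lt_irrefl _ hGQ
  have hrem : ∀ g : (P.O)[X], Q.1 (aeval y g) < 1 →
      Q.1 (aeval y (g %ₘ G)) ≤ exp (-(e : ℤ)) ∧
        ∀ i, P.1 ((((g %ₘ G).coeff i) : P.O) : K) < 1 := by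
    intro g hgv
    have hr : Q.1 (aeval y (g %ₘ G)) < 1 := by
      have : aeval y (g %ₘ G) = aeval y g - aeval y G * aeval y (g /ₘ G) := by
        rw [← map_mul, ← map_sub]
        congr 1
        conv_rhs => enter [1]; rw [← modByMonic_add_div g G]
        ring
      rw [this]
      refine lt_of_le_of_lt (Q.1.map_sub _ _) (max_lt hgv ?_)
      rw [map_mul]
      exact lt_of_le_of_lt (mul_le_of_le_one_right' (val_aeval_le_one_O hQ hyQ _)) hGQ
    have hc := exists_coeff_lt_one_of_natDegree_lt hQ hyQ hmin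
      (Or.inl (natDegree_modByMonic_lt g hG (fun h1 => by rw [h1, natDegree_one] at hG1; omega))) hr
    exact ⟨val_aeval_lt_one_of_coeff hQ hyQ hc, hc⟩
  have he2 : exp (-(e : ℤ)) ≤ exp (-2 : ℤ) := exp_le_exp.mpr (by omega)
  have hGexp : Q.1 (aeval y G) = exp (-1) := by
    refine le_antisymm (val_lt_one_le Q hGQ) ?_
    have h1 := (hrem g (hgQ ▸ hlt)).1.trans he2
    by_contra hlt'
    have h2 : Q.1 (aeval y g) ≤ exp (-2 : ℤ) := by
      rw [← modByMonic_add_div g G, map_add, map_mul]
      refine (Q.1.map_add _ _).trans (max_le h1 ?_)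
      rw [map_mul]
      refine (mul_le_of_le_one_right' (val_aeval_le_one_O hQ hyQ _)).trans ?_
      rcases eq_or_ne (aeval y G) 0 with h0 | h0
      · simp [h0]
      · rw [exp_le_val_iff Q h0] at hlt'
        rw [val_le_exp_iff Q h0]
        omega
    rw [hgQ, exp_le_exp] at h2
    omega
  obtain ⟨hf1, hf2⟩ := hrem f hfQ
  have hH : Q.1 (aeval y (f /ₘ G)) < 1 := by
    have h1 : aeval y G * aeval y (f /ₘ G) = -aeval y (f %ₘ G) := by
      have := congrArg (aeval y) (modByMonic_add_div f G)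
      rw [map_add, map_mul, hfy] at this
      linear_combination this
    have h2 := congrArg Q.1 h1
    rw [Valuation.map_neg, map_mul, hGexp] at h2
    by_contra hge
    have hle : exp (-1 : ℤ) * 1 ≤ exp (-2 : ℤ) :=
      (mul_le_mul' le_rfl (not_lt.mp hge)).trans (h2.le.trans (hf1.trans he2))
    rw [mul_one, exp_le_exp] at hle
    omega
  have hder : Q.1 (aeval y (derivative f)) < 1 := by
    rw [← modByMonic_add_div f G, derivative_add, derivative_mul, map_add (aeval y), map_add (aeval y), map_mul (aeval y), map_mul (aeval y)]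
    refine lt_of_le_of_lt (Q.1.map_add _ _) (max_lt ?_ (lt_of_le_of_lt (Q.1.map_add _ _) (max_lt ?_ ?_)))
    · refine lt_of_le_of_lt (val_aeval_lt_one_of_coeff hQ hyQ fun i => ?_)
        (lt_of_le_of_lt (exp_le_exp.mpr (by omega : -(e : ℤ) ≤ -1)) hlt)
      rw [coeff_derivative]
      change P.1 (((((f %ₘ G).coeff (i + 1)) : P.O) : K) * (((i : P.O) + 1 : P.O) : K)) < 1
      rw [map_mul]
      exact lt_of_le_of_lt (mul_le_of_le_one_right' ((i : P.O) + 1).2) (hf2 _)
    · rw [map_mul]
      exact lt_of_le_of_lt (mul_le_of_le_one_left' (val_aeval_le_one_O hQ hyQ _)) hH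
    · rw [map_mul]
      exact lt_of_le_of_lt (mul_le_of_le_one_right' (val_aeval_le_one_O hQ hyQ _)) hGQ
  rw [hfd, hd] at hder
  exact lt_irrefl _ hder

theorem FF.finite_ramified (h : FF k K) [Algebra.IsSeparable K K'] :
    {Q : Place k K' | ¬ ∃ P : Place k K, IsOverWith Q P 1}.Finite := by
  classical
  have hF' := h.extension K'
  obtain ⟨y, hy⟩ := Field.exists_primitive_element K K'
  have hyi : IsIntegral K y := Algebra.IsIntegral.isIntegral y
  have hytop : Algebra.adjoin K ({y} : Set K') = ⊤ := by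
    rw [← IntermediateField.adjoin_simple_toSubalgebra_of_isAlgebraic hyi.isAlgebraic, hy,
      IntermediateField.top_toSubalgebra]
  set p := minpoly K y
  have hcoef : (⋃ i ∈ Finset.range (p.natDegree + 1), {P : Place k K | 1 < P.1 (p.coeff i)}).Finite := by
    refine Set.Finite.biUnion (Finset.finite_toSet _) fun i _ => ?_
    refine (h.finite_support_ord (p.coeff i)).subset fun P hP => ?_
    have := (one_lt_val_iff P).mp hP
    simp only [Function.mem_support]
    omega
  refine ((hcoef.biUnion fun P _ => h.finite_setOf_isOver (K' := K') P).union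
    (hF'.finite_support_ord (aeval y (derivative p)))).subset fun Q hQ => ?_
  by_contra hcon
  simp only [Set.mem_union, Function.mem_support, not_or, ne_eq, not_not] at hcon
  obtain ⟨P, e, -, hPe⟩ := h.exists_isOverWith Q
  have hint : ∀ i, p.coeff i ∈ P.O := by
    intro i
    by_cases hi : i ∈ Finset.range (p.natDegree + 1)
    · by_contra hgt
      refine hcon.1 (Set.mem_biUnion (Set.mem_biUnion hi ?_) (⟨e, hPe⟩ : IsOver Q P))
      exact not_le.mp (fun hle : P.1 (p.coeff i) ≤ 1 => hgt hle)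
    · rw [coeff_eq_zero_of_natDegree_lt (by simpa using hi)]
      exact zero_mem _
  let : Algebra P.O K' := Algebra.compHom K' (algebraMap P.O K)
  have : IsScalarTower P.O K K' := IsScalarTower.of_algebraMap_eq fun _ => rfl
  have hlift : p ∈ lifts (algebraMap P.O K) :=
    (lifts_iff_coeff_lifts p).mpr fun i => ⟨⟨_, hint i⟩, rfl⟩
  obtain ⟨f, hf, -, hfm⟩ := lifts_and_degree_eq_and_monic hlift (minpoly.monic hyi)
  have hd0 : aeval y (derivative p) ≠ 0 :=
    (Algebra.IsSeparable.isSeparable K y).aeval_derivative_ne_zero (minpoly.aeval K y)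
  have := h.ramIdx_eq_one_of_deriv P hytop hfm hf hPe ((val_eq_one_iff Q hd0).mpr hcon.2)
  exact hQ ⟨P, this ▸ hPe⟩

end Groth.Agent.FF30
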