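import Groth.Agent.FF30.Gaps
import Groth.Agent.FF30.Ramif
import Mathlib.FieldTheory.Galois.Basic
import Mathlib.FieldTheory.Fixed
import Groth.Agent.FF30.SubField

/-! An automorphism with many fixed places is trivial. -/

open FunFld WithZero IntermediateField
open scoped Multiplicative

namespace Groth.Agent.FF30

variable {k K : Type*} [Field k] [IsAlgClosed k] [Field K] [Algebra k K]

theorem exists_fixed_with_sole_pole (h : IsFunctionField k K) (σ : K ≃ₐ[k] K) {F : Finset (Place k K)}
    (hF : 2 * genus k K + 2 < F.card) (hfix : ∀ P ∈ F, ∀ x : K, P.1 x < 1 → P.1 (σ x) < 1)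
    (P : Place k K) :
    ∃ x : K, σ x = x ∧ P.ord x < 0 ∧ ∀ Q : Place k K, Q ≠ P → 0 ≤ Q.ord x := by
  classical
  have hFF : FF k K := h.1
  obtain ⟨m, hm1, hmg, hm⟩ := exists_not_isGap h P
  obtain ⟨x, hxP, hxQ⟩ := (not_isGap_iff hFF P hm1).mp hm
  refine ⟨x, ?_, by omega, hxQ⟩
  by_contra hne
  set y := σ x - x
  have hy0 : y ≠ 0 := sub_ne_zero.mpr hne
  let v' : Place k K := ⟨P.1.comap ((σ.symm : K ≃ₐ[k] K) : K →+* K), fun c => by
      rw [Valuation.comap_apply]
      change P.1 (σ.symm (algebraMap k K c)) ≤ 1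
      rw [σ.symm.commutes]; exact P.2.1 c,
    fun v => by
      obtain ⟨z, hz⟩ := P.2.2 v
      exact ⟨σ z, by rw [Valuation.comap_apply]; simpa using hz⟩⟩
  set D : Divisor k K := Finsupp.single P (m : ℤ) + Finsupp.single v' (m : ℤ) with hD
  have hσ : ∀ Q : Place k K, -(D Q) ≤ Q.ord y := by
    intro Q
    rw [← val_le_exp_iff Q hy0]
    refine (Q.1.map_sub _ _).trans (max_le ?_ ?_)
    · by_cases hQ : Q = v'
      · subst hQ
        refine le_trans (le_of_eq (congrArg P.1 (σ.symm_apply_apply x))) ?_
        have hx0 : x ≠ 0 := fun e => by subst e; rw [ord_zero] at hxP; omega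
        rw [val_eq P hx0, exp_le_exp, hxP, neg_neg, hD, Finsupp.add_apply, Finsupp.single_eq_same,
          Finsupp.single_apply]
        split <;> omega
      · refine le_trans ?_ ((exp_zero (M := ℤ)).symm.le.trans (exp_le_exp.mpr ?_))
        · let Q' : Place k K := ⟨Q.1.comap ((σ : K ≃ₐ[k] K) : K →+* K), fun c => by
              rw [Valuation.comap_apply]
              change Q.1 (σ (algebraMap k K c)) ≤ 1
              rw [σ.commutes]; exact Q.2.1 c,
            fun v => by
              obtain ⟨z, hz⟩ := Q.2.2 v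
              exact ⟨σ.symm z, by rw [Valuation.comap_apply]; simpa using hz⟩⟩
          have hne' : Q' ≠ P := fun e => hQ (Subtype.ext (Valuation.ext fun z => by
            change Q.1 z = P.1 (σ.symm z)
            rw [← e]
            change Q.1 z = Q.1 (σ (σ.symm z))
            rw [σ.apply_symm_apply]))
          exact (val_le_one_iff Q').mpr (hxQ Q' hne')
        · rw [hD, Finsupp.add_apply, Finsupp.single_apply, Finsupp.single_apply]
          split <;> split <;> omega
    · by_cases hQ : Q = P
      · subst hQ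
        have hx0 : x ≠ 0 := fun e => by subst e; rw [ord_zero] at hxP; omega
        rw [val_eq Q hx0, exp_le_exp, hxP, neg_neg, hD, Finsupp.add_apply, Finsupp.single_eq_same,
          Finsupp.single_apply]
        split <;> omega
      · refine ((val_le_one_iff Q).mpr (hxQ Q hQ)).trans ((exp_zero (M := ℤ)).symm.le.trans (exp_le_exp.mpr ?_))
        rw [hD, Finsupp.add_apply, Finsupp.single_apply, Finsupp.single_apply]
        split <;> split <;> omega
  -- fixed places away from the poles are zeros of `y`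
  set E : Divisor k K := ∑ R ∈ F.erase P, Finsupp.single R (1 : ℤ) with hE
  have hEle : E - D ≤ div k y := by
    intro Q
    rw [Finsupp.sub_apply, hFF.div_apply]
    have hEQ : E Q = if Q ∈ F.erase P then 1 else 0 := by
      rw [hE, Finsupp.finsetSum_apply]
      simp [Finsupp.single_apply]
    rw [hEQ]
    split
    · rename_i hQ
      obtain ⟨hQP, hQF⟩ := Finset.mem_erase.mp hQ
      obtain ⟨c, hc⟩ := hFF.exists_sub_lt Q ((val_le_one_iff Q).mpr (hxQ Q hQP))
      have h2 := hfix Q hQF _ hc
      rw [map_sub, σ.commutes] at h2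
      have h3 : Q.1 y < 1 := by
        have : y = (σ x - algebraMap k K c) - (x - algebraMap k K c) := by ring
        rw [this]
        exact lt_of_le_of_lt (Q.1.map_sub _ _) (max_lt h2 hc)
      have := (val_lt_one_iff Q hy0).mp h3
      have hD0 : 0 ≤ D Q := by
        rw [hD, Finsupp.add_apply, Finsupp.single_apply, Finsupp.single_apply]
        split <;> split <;> omega
      omega
    · have := hσ Q; omega
  have hdeg := deg_mono hEle
  rw [hFF.deg_div, deg_sub, hD, deg_add, hFF.deg_single', hFF.deg_single'] at hdeg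
  have hEdeg : E.deg = ((F.erase P).card : ℤ) := by
    rw [hFF.deg_eq_sum_coeff, hE, ← Finsupp.sum_finsetSum_index (fun _ => rfl) (fun _ _ _ => rfl)]
    simp
  rw [hEdeg] at hdeg
  have hcard : F.card ≤ (F.erase P).card + 1 := by
    rw [Finset.card_erase_eq_ite]; split <;> omega
  by_cases hPF : P ∈ F
  · have hPv : v' = P := by
      refine (eq_of_val_le_one_imp fun z hz => ?_).symm
      change P.1 (σ.symm z) ≤ 1
      by_contra hgt
      have hlt : P.1 (σ.symm z)⁻¹ < 1 := by
        rw [map_inv₀]; exact inv_lt_one_of_one_lt₀ (not_le.mp hgt)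
      have := hfix P hPF _ hlt
      rw [map_inv₀, σ.apply_symm_apply, map_inv₀] at this
      rcases eq_or_ne z 0 with rfl | hz0
      · simp at hgt
      · exact absurd ((inv_lt_one₀ (zero_lt_iff.mpr (val_ne_zero P hz0))).mp this) (not_lt.mpr hz)
    have hle2 : E - (Finsupp.single P (m : ℤ)) ≤ div k y := by
      intro Q
      rw [Finsupp.sub_apply, hFF.div_apply]
      by_cases hQP : Q = P
      · subst hQP
        have h0 : E Q = 0 := by
          rw [hE, Finsupp.finsetSum_apply]; simp [Finsupp.single_apply]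
        rw [h0, Finsupp.single_eq_same, zero_sub, ← val_le_exp_iff Q hy0]
        have hx0 : x ≠ 0 := fun e => by subst e; rw [ord_zero] at hxP; omega
        refine (Q.1.map_sub _ _).trans (max_le ?_ ?_)
        · have : Q.1 (σ x) = Q.1 x := by
            conv_lhs => rw [← hPv]
            change Q.1 (σ.symm (σ x)) = Q.1 x
            rw [σ.symm_apply_apply]
          rw [this, val_eq Q hx0, hxP, neg_neg]
        · rw [val_eq Q hx0, hxP, neg_neg]
      · have := hEle Q
        rw [Finsupp.sub_apply, hFF.div_apply, hD, hPv, Finsupp.add_apply,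
          Finsupp.single_eq_of_ne hQP] at this
        rw [Finsupp.single_eq_of_ne hQP]
        omega
    have := deg_mono hle2
    rw [hFF.deg_div, deg_sub, hEdeg, hFF.deg_single'] at this
    omega
  · rw [Finset.erase_eq_of_notMem hPF] at hdeg
    omega

theorem algEquiv_eq_one_of_fixed (h : IsFunctionField k K) (σ : K ≃ₐ[k] K)
    {F : Finset (Place k K)} (hF : 2 * genus k K + 2 < F.card)
    (hfix : ∀ P ∈ F, ∀ x : K, P.1 x < 1 → P.1 (σ x) < 1) : σ = 1 := by
  classical
  have hFF : FF k K := h.1
  by_contra hne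
  set E : IntermediateField k K := IntermediateField.fixedField (Subgroup.zpowers σ) with hE
  obtain ⟨P₀⟩ := hFF.nonempty_place
  have hmemE : ∀ x : K, σ x = x → x ∈ E := by
    intro x hx g
    obtain ⟨i, hi⟩ := g.2
    have hst : σ ∈ MulAction.stabilizer (K ≃ₐ[k] K) x := hx
    change (g.1 : K ≃ₐ[k] K) • x = x
    rw [← hi]
    exact MulAction.mem_stabilizer_iff.mp ((MulAction.stabilizer (K ≃ₐ[k] K) x).zpow_mem hst i)
  obtain ⟨x₀, hx₀, hx₀P, -⟩ := exists_fixed_with_sole_pole h σ hF hfix P₀
  have htr : Transcendental k x₀ := transcendental_of_ord_ne_zero P₀ (ne_of_lt hx₀P)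
  obtain ⟨hEF, hfinE⟩ := hFF.intermediateField E (hmemE x₀ hx₀) htr
  have : IsScalarTower k E K := IsScalarTower.of_algebraMap_eq fun _ => rfl
  let ψ : Subgroup.zpowers σ → (K ≃ₐ[E] K) := fun g =>
    { g.1.toRingEquiv with commutes' := fun e => e.2 g }
  have hψ : Function.Injective ψ := fun a b hab =>
    Subtype.ext (AlgEquiv.ext fun x => AlgEquiv.congr_fun hab x)
  have : Finite (Subgroup.zpowers σ) := Finite.of_injective ψ hψ
  have := Fintype.ofFinite (Subgroup.zpowers σ)
  have hgal : IsGalois E K := IsGalois.of_fixed_field K (Subgroup.zpowers σ)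
  have h2 : 2 ≤ Module.finrank E K := by
    have hrk := FixedPoints.finrank_eq_card (Subgroup.zpowers σ) K
    have hE' : Module.finrank E K = Fintype.card (Subgroup.zpowers σ) := hrk
    rw [hE']
    exact Fintype.one_lt_card_iff_nontrivial.mpr ((Subgroup.nontrivial_iff_ne_bot _).mpr
      (Subgroup.zpowers_ne_bot.mpr hne))
  have hinf := hFF.infinite_places
  obtain ⟨Q, hQ⟩ := (hEF.finite_ramified (K' := K)).exists_notMem
  simp only [Set.mem_ofPred_eq, not_not] at hQ
  obtain ⟨R, hR⟩ := hQ
  have hs := hEF.sum_ramIdx_mul_deg (K' := K) R {Q} fun Q' => by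
    rw [Finset.mem_singleton]
    refine ⟨fun e => e ▸ ⟨1, hR⟩, fun hQ' => ?_⟩
    by_contra hne'
    obtain ⟨x, hx, hxQ, hxother⟩ := exists_fixed_with_sole_pole h σ hF hfix Q
    have h1 := isOverWith_ord hR (⟨x, hmemE x hx⟩ : E)
    have h3 := isOver_ord hQ' (⟨x, hmemE x hx⟩ : E)
    change Q.ord x = _ at h1
    change Q'.ord x = _ at h3
    have h4 := hxother Q' hne'
    have h5 := isOverWith_pos (isOverWith_ramIdx hQ')
    rw [h3] at h4
    have h6 : R.ord (⟨x, hmemE x hx⟩ : E) < 0 := by omega
    have : (ramIdx Q' R : ℤ) * R.ord (⟨x, hmemE x hx⟩ : E) < 0 :=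
      mul_neg_of_pos_of_neg (by exact_mod_cast h5) h6
    omega
  rw [Finset.sum_singleton, ramIdx_eq hR, hFF.deg_eq_one Q, hEF.deg_eq_one R] at hs
  omega

end Groth.Agent.FF30
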