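import Groth.Agent.FF30.StrongFixed
import Groth.Agent.SV31.Canonical
import Mathlib.RingTheory.Algebraic.Integral
import Mathlib.FieldTheory.Fixed

/-! Finiteness of the automorphism group in genus `> 1`. -/

open FunFld WithZero IntermediateField

namespace Groth.Agent.FF30

variable {k K : Type*} [Field k] [IsAlgClosed k] [Field K] [Algebra k K]

theorem not_isGap_comapPlace (h : FF k K) (σ : K ≃ₐ[k] K) (P : Place k K) {m : ℕ} (hm : 1 ≤ m)
    (hgap : ¬ IsGap P m) : ¬ IsGap (SV31.comapPlace σ P) m := by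
  rw [not_isGap_iff h _ hm] at hgap ⊢
  obtain ⟨f, hf, hQ⟩ := hgap
  have hcomap : ∀ (τ : K ≃ₐ[k] K) (Q : Place k K) (z : K), (SV31.comapPlace τ Q).ord z = Q.ord (τ z) :=
    fun τ Q z => rfl
  refine ⟨σ.symm f, by rw [hcomap, σ.apply_symm_apply, hf], fun Q hQne => ?_⟩
  rw [← hcomap σ.symm Q f]
  refine hQ _ fun he => hQne ?_
  refine eq_of_val_le_one_imp fun z hz => ?_
  rw [← he, SV31.comapPlace_val, SV31.comapPlace_val, σ.symm_apply_apply]
  exact hz

omit [IsAlgClosed k] in
theorem finite_fixing (h : FF k K) {x : K} (hx : Module.finrank k⟮x⟯ K = 2) :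
    {σ : K ≃ₐ[k] K | σ x = x}.Finite := by
  have : FiniteDimensional k⟮x⟯ K := Module.finite_of_finrank_pos (by omega)
  have key : ∀ σ : {σ : K ≃ₐ[k] K | σ x = x}, ∀ z ∈ k⟮x⟯, (σ : K ≃ₐ[k] K) z = z := by
    rintro ⟨σ, hσ⟩ z hz
    induction hz using IntermediateField.adjoin_induction with
    | mem a ha => rw [Set.mem_singleton_iff] at ha; subst ha; exact hσ
    | algebraMap c => exact σ.commutes c
    | add a b _ _ ha hb => simp only [map_add] at *; rw [ha, hb]
    | inv a _ ha => simp only [map_inv₀] at *; rw [ha]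
    | mul a b _ _ ha hb => simp only [map_mul] at *; rw [ha, hb]
  let f : {σ : K ≃ₐ[k] K | σ x = x} → (K →ₐ[k⟮x⟯] K) := fun σ =>
    { toRingHom := ((σ : K ≃ₐ[k] K) : K →+* K)
      commutes' := fun c => key σ c c.2 }
  have : Finite {σ : K ≃ₐ[k] K | σ x = x} := Finite.of_injective f fun a b hab =>
    Subtype.ext (AlgEquiv.ext fun z => DFunLike.congr_fun hab z)
  exact Set.toFinite _

theorem finite_algEquiv (hK : IsFunctionField k K) (hg : 1 < genus k K)
    (hchar : ringChar k = 0 ∨ 2 * genus k K - 2 < ringChar k) : Finite (K ≃ₐ[k] K) := by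
  classical
  have hF : FF k K := hK.1
  obtain ⟨C, hC⟩ := exists_isCanonical hK
  obtain ⟨n, hn⟩ : ∃ n, genus k K = n + 1 := ⟨genus k K - 1, by omega⟩
  have hell : ell C = n + 1 := (ell_canonical hK hC).trans hn
  have : FiniteDimensional k (L C) := Module.finite_of_finrank_pos (by rw [← ell, hell]; omega)
  let b := Module.finBasisOfFinrankEq k (L C) hell
  set φ : Fin (n + 1) → K := fun i => (b i : K) with hφdef
  have hφ : LinearIndependent k φ := b.linearIndependent.map' (L C).subtype (L C).ker_subtype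
  have hspan : Submodule.span k (Set.range φ) = L C := by
    rw [hφdef, show Set.range (fun i => (b i : K)) = (L C).subtype '' Set.range b from Set.range_comp _ _,
      ← Submodule.map_span, b.span_eq, Submodule.map_top, Submodule.range_subtype]
  obtain ⟨s, H, -, hH⟩ := SV31.exists_base hK
  obtain ⟨Φ, hΦ⟩ := SV31.exists_expansion_family hK
  set J : Fin n → ℕ := fun l => (l : ℕ) + 1
  have hJ : IsOrders K (hcol (AlgHom.id k K) H φ) J :=
    (SV31.orders_classical hK hφ (hchar.imp id fun h => by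
      rw [SV31.mapDiv_canonical hK (by omega) hC hφ hspan, deg_canonical hK hC]; omega)
      (AlgHom.id k K) hH).1 rfl
  set W := {P : Place k K | wDiv (AlgHom.id k K) H Φ s φ J P ≠ 0}
  have hWfin : W.Finite := (wDiv (AlgHom.id k K) H Φ s φ J).support.finite_toSet.subset fun P hP =>
    Finset.mem_coe.mpr (Finsupp.mem_support_iff.mpr hP)
  -- the intrinsic description
  have hW : ∀ P, P ∈ W ↔ ∃ m, 2 ≤ m ∧ m ≤ n + 1 ∧ ¬ IsGap P m := by
    intro P
    obtain ⟨J', hJ', hJ'', hWP⟩ := SV31.exists_orders_at hK (by omega) hchar hC hφ hspan hH Φ hΦ P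
    have hpos : ∀ l, 0 < J' l := fun l => ((hJ'' _).1 ⟨l, rfl⟩).1
    have hge : ∀ l : Fin n, (l : ℕ) + 1 ≤ J' l := by
      intro l
      have hmono : StrictMono fun a : Fin n => J' a - 1 := fun a c hac => by
        have := hJ' hac
        have := hpos a
        change J' a - 1 < J' c - 1
        omega
      have := SV31.coe_le_of_strictMono hmono l
      have := hpos l
      omega
    constructor
    · intro hP
      by_contra hall
      push Not at hall
      refine hP ?_
      rw [hWP]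
      refine Finset.sum_eq_zero fun l _ => ?_
      rw [orders_eq_of_range (m := n) hJ' hpos (fun j hj1 hj2 => (hJ'' j).2
        ⟨hj1, hall (j + 1) (by omega) (by omega)⟩) l l.isLt]
      omega
    · rintro ⟨m, hm1, hm2, hm⟩ h0
      rw [hWP] at h0
      have hnn := (Finset.sum_eq_zero_iff_of_nonneg fun l _ => by
        have := hge l
        omega).1 h0 ⟨m - 2, by omega⟩ (Finset.mem_univ _)
      obtain ⟨-, hgap⟩ := (hJ'' _).1 ⟨⟨m - 2, by omega⟩, rfl⟩
      refine hm ?_
      simp only at hnn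
      rwa [show J' ⟨m - 2, by omega⟩ + 1 = m by omega] at hgap
  have hmaps : ∀ σ : K ≃ₐ[k] K, ∀ P ∈ W, SV31.comapPlace σ P ∈ W := fun σ P hP => by
    obtain ⟨m, hm1, hm2, hm⟩ := (hW P).1 hP
    exact (hW _).2 ⟨m, hm1, hm2, not_isGap_comapPlace hF σ P (by omega) hm⟩
  -- pointwise fixing
  have hfix : {δ : K ≃ₐ[k] K | ∀ P ∈ W, IsFixedPt (δ : K →ₐ[k] K) P}.Finite := by
    rcases SV31.dichotomy hK hg hchar C hC φ hφ hspan s H hH J hJ Φ hΦ with ⟨-, h⟩ | ⟨-, x, hx, h⟩
    · exact (Set.finite_singleton AlgEquiv.refl).subset fun δ hδ => h δ hδ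
    · exact (finite_fixing hF hx).subset fun δ hδ => (h δ).1 hδ
  have := hWfin.to_subtype
  have := hfix.to_subtype
  let ρ : (K ≃ₐ[k] K) → (W → W) := fun σ P => ⟨SV31.comapPlace σ P, hmaps σ P P.2⟩
  have hrep : ∀ σ, ρ (Function.invFun ρ (ρ σ)) = ρ σ := fun σ => Function.invFun_eq ⟨σ, rfl⟩
  let f : (K ≃ₐ[k] K) → (W → W) × {δ : K ≃ₐ[k] K | ∀ P ∈ W, IsFixedPt (δ : K →ₐ[k] K) P} :=
    fun σ => (ρ σ, ⟨(Function.invFun ρ (ρ σ)).symm.trans σ, fun P hP => by
      rw [SV31.isFixedPt_iff_comapPlace]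
      refine Subtype.ext (Valuation.ext fun z => ?_)
      have h1 := congrArg (fun r : W → W => ((r ⟨P, hP⟩ : W) : Place k K).1
        ((Function.invFun ρ (ρ σ)).symm z)) (hrep σ)
      simp only [ρ, SV31.comapPlace_val, AlgEquiv.apply_symm_apply] at h1
      exact h1.symm⟩)
  refine Finite.of_injective f fun a c hac => ?_
  obtain ⟨h1, h2⟩ := Prod.mk.inj hac
  have h3 := congrArg Subtype.val h2
  simp only [h1] at h3
  refine AlgEquiv.ext fun z => ?_
  have := DFunLike.congr_fun h3 (Function.invFun ρ (ρ c) z)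
  simpa using this

end Groth.Agent.FF30
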