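import Groth.Agent.FF30.AlgClosed
import Mathlib.Data.Set.Card

/-! Gaps at a place. -/

open FunFld WithZero
open scoped Multiplicative

namespace Groth.Agent.FF30

variable {k K : Type*} [Field k] [IsAlgClosed k] [Field K] [Algebra k K]

/-- `n` is a gap at `P`. -/
def IsGap (P : Place k K) (n : ℕ) : Prop :=
  L (Finsupp.single P (n : ℤ) : Divisor k K) = L (Finsupp.single P ((n : ℤ) - 1))

theorem L_single_pred_le (P : Place k K) (n : ℤ) :
    L (Finsupp.single P (n - 1) : Divisor k K) ≤ L (Finsupp.single P n) := by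
  refine L_mono fun Q => ?_
  classical
  rw [Finsupp.single_apply, Finsupp.single_apply]
  split <;> omega

theorem not_isGap_iff (h : FF k K) (P : Place k K) {n : ℕ} (hn : 1 ≤ n) :
    ¬ IsGap P n ↔ ∃ f : K, P.ord f = -(n : ℤ) ∧ ∀ Q : Place k K, Q ≠ P → 0 ≤ Q.ord f := by
  classical
  constructor
  · intro hgap
    have : ¬ L (Finsupp.single P (n : ℤ) : Divisor k K) ≤ L (Finsupp.single P ((n : ℤ) - 1)) :=
      fun hle => hgap (le_antisymm hle (L_single_pred_le P n))
    obtain ⟨f, hf, hfn⟩ := SetLike.not_le_iff_exists.mp this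
    have hf0 : f ≠ 0 := fun e => hfn (e ▸ Submodule.zero_mem _)
    have hord := (mem_L_iff_ord hf0).mp hf
    have hQ : ∀ Q : Place k K, Q ≠ P → 0 ≤ Q.ord f := fun Q hQ => by
      have := hord Q; rw [Finsupp.single_eq_of_ne hQ] at this; omega
    refine ⟨f, ?_, hQ⟩
    have h1 := hord P
    rw [Finsupp.single_eq_same] at h1
    by_contra hne
    refine hfn ((mem_L_iff_ord hf0).mpr fun Q => ?_)
    by_cases hQP : Q = P
    · subst hQP; rw [Finsupp.single_eq_same]; omega
    · rw [Finsupp.single_eq_of_ne hQP]; simpa using hQ Q hQP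
  · rintro ⟨f, hf, hQ⟩ hgap
    have hf0 : f ≠ 0 := fun e => by subst e; rw [ord_zero] at hf; omega
    have hmem : f ∈ L (Finsupp.single P (n : ℤ) : Divisor k K) := by
      rw [mem_L_iff_ord hf0]
      intro Q
      by_cases hQP : Q = P
      · subst hQP; rw [Finsupp.single_eq_same]; omega
      · rw [Finsupp.single_eq_of_ne hQP]; simpa using hQ Q hQP
    rw [hgap] at hmem
    have := (mem_L_iff_ord hf0).mp hmem P
    rw [Finsupp.single_eq_same] at this
    omega

theorem not_isGap_add (h : FF k K) (P : Place k K) {a b : ℕ} (ha : 1 ≤ a) (hb : 1 ≤ b)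
    (hA : ¬ IsGap P a) (hB : ¬ IsGap P b) : ¬ IsGap P (a + b) := by
  obtain ⟨f, hf, hfQ⟩ := (not_isGap_iff h P ha).mp hA
  obtain ⟨g, hg, hgQ⟩ := (not_isGap_iff h P hb).mp hB
  have hf0 : f ≠ 0 := fun e => by subst e; rw [ord_zero] at hf; omega
  have hg0 : g ≠ 0 := fun e => by subst e; rw [ord_zero] at hg; omega
  refine (not_isGap_iff h P (by omega)).mpr ⟨f * g, ?_, fun Q hQ => ?_⟩
  · rw [ord_mul P hf0 hg0, hf, hg]; push_cast; ring
  · rw [ord_mul Q hf0 hg0]; exact add_nonneg (hfQ Q hQ) (hgQ Q hQ)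

theorem sub_one_le_two_mul_gaps (h : FF k K) (P : Place k K) {n : ℕ}
    (hn : 1 ≤ n) (hgap : IsGap P n) :
    n - 1 ≤ 2 * {m : ℕ | 1 ≤ m ∧ m < n ∧ IsGap P m}.ncard := by
  classical
  set S := (Finset.Ico 1 n).filter fun m => IsGap P m with hS
  have hset : {m : ℕ | 1 ≤ m ∧ m < n ∧ IsGap P m} = ↑S := by
    ext m; simp [hS, and_assoc]
  rw [hset, Set.ncard_coe_finset]
  have hsub : Finset.Ico 1 n ⊆ S ∪ S.image (n - ·) := by
    intro m hm
    rw [Finset.mem_Ico] at hm
    by_cases hA : IsGap P m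
    · exact Finset.mem_union_left _ (Finset.mem_filter.mpr ⟨Finset.mem_Ico.mpr hm, hA⟩)
    · refine Finset.mem_union_right _ (Finset.mem_image.mpr ⟨n - m, ?_, by omega⟩)
      refine Finset.mem_filter.mpr ⟨Finset.mem_Ico.mpr ⟨by omega, by omega⟩, ?_⟩
      by_contra hB
      have := not_isGap_add h P hm.1 (by omega) hA hB
      rw [show m + (n - m) = n by omega] at this
      exact this hgap
  have h1 := (Finset.card_le_card hsub).trans (Finset.card_union_le _ _)
  have h2 := Finset.card_image_le (s := S) (f := (n - ·))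
  rw [Nat.card_Ico] at h1
  omega

/-- The gaps in `[1, n]`. -/
noncomputable def gapsUpTo (P : Place k K) (n : ℕ) : Finset ℕ := by
  classical exact (Finset.Icc 1 n).filter fun m => IsGap P m

theorem mem_gapsUpTo {P : Place k K} {n m : ℕ} :
    m ∈ gapsUpTo P n ↔ 1 ≤ m ∧ m ≤ n ∧ IsGap P m := by
  simp [gapsUpTo, and_assoc]

theorem ell_single_add_gaps (h : IsFunctionField k K) (P : Place k K) (n : ℕ) :
    ell (Finsupp.single P (n : ℤ) : Divisor k K) + (gapsUpTo P n).card = n + 1 := by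
  classical
  have hF : FF k K := h.1
  induction n with
  | zero =>
    have : gapsUpTo P 0 = ∅ := by ext m; simp [mem_gapsUpTo]; omega
    rw [Nat.cast_zero, Finsupp.single_zero, ell_zero h, this]; rfl
  | succ n ih =>
    have hstep := hF.ell_le_succ (Finsupp.single P ((n + 1 : ℕ) : ℤ)) P
    rw [← Finsupp.single_sub, show ((n + 1 : ℕ) : ℤ) - 1 = (n : ℤ) by push_cast; ring] at hstep
    have hle : L (Finsupp.single P (n : ℤ) : Divisor k K) ≤ L (Finsupp.single P ((n + 1 : ℕ) : ℤ)) := by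
      have := L_single_pred_le P ((n + 1 : ℕ) : ℤ)
      rwa [show ((n + 1 : ℕ) : ℤ) - 1 = (n : ℤ) by push_cast; ring] at this
    have := hF.finite_L (Finsupp.single P ((n + 1 : ℕ) : ℤ))
    have hmono : ell (Finsupp.single P (n : ℤ) : Divisor k K) ≤ ell (Finsupp.single P ((n + 1 : ℕ) : ℤ)) :=
      Submodule.finrank_mono hle
    by_cases hg : IsGap P (n + 1)
    · have e : gapsUpTo P (n + 1) = insert (n + 1) (gapsUpTo P n) := by
        ext m
        rw [Finset.mem_insert, mem_gapsUpTo, mem_gapsUpTo]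
        constructor
        · rintro ⟨h1, h2, h3⟩; rcases eq_or_ne m (n + 1) with rfl | hm
          · exact Or.inl rfl
          · exact Or.inr ⟨h1, by omega, h3⟩
        · rintro (rfl | ⟨h1, h2, h3⟩)
          · exact ⟨by omega, le_rfl, hg⟩
          · exact ⟨h1, by omega, h3⟩
      rw [e, Finset.card_insert_of_notMem (by simp [mem_gapsUpTo])]
      have heq : ell (Finsupp.single P ((n + 1 : ℕ) : ℤ) : Divisor k K) = ell (Finsupp.single P (n : ℤ)) := by
        rw [ell, hg, show ((n + 1 : ℕ) : ℤ) - 1 = (n : ℤ) by push_cast; ring]; rfl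
      omega
    · have e : gapsUpTo P (n + 1) = gapsUpTo P n := by
        ext m
        rw [mem_gapsUpTo, mem_gapsUpTo]
        refine ⟨fun ⟨h1, h2, h3⟩ => ⟨h1, ?_, h3⟩, fun ⟨h1, h2, h3⟩ => ⟨h1, by omega, h3⟩⟩
        rcases eq_or_ne m (n + 1) with rfl | hm
        · exact absurd h3 hg
        · omega
      rw [e]
      have hne : ell (Finsupp.single P (n : ℤ) : Divisor k K) ≠ ell (Finsupp.single P ((n + 1 : ℕ) : ℤ)) := by
        intro heq
        apply hg
        unfold IsGap
        rw [show ((n + 1 : ℕ) : ℤ) - 1 = (n : ℤ) by push_cast; ring]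
        exact (Submodule.eq_of_le_of_finrank_eq hle heq).symm
      omega

theorem card_gapsUpTo (h : IsFunctionField k K) (P : Place k K) {n : ℕ}
    (hn : 2 * genus k K ≤ n + 1) : (gapsUpTo P n).card = genus k K := by
  have h1 := ell_single_add_gaps h P n
  have h2 := ell_eq_of_deg_gt h (D := Finsupp.single P (n : ℤ))
    (by rw [(FF.of_isFunctionField h).deg_single']; omega)
  rw [(FF.of_isFunctionField h).deg_single'] at h2
  omega

theorem exists_gap_bound (h : IsFunctionField k K) (P : Place k K) {n : ℕ}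
    (hn : (gapsUpTo P n).card < genus k K) : n ≤ 2 * (gapsUpTo P n).card := by
  classical
  have hex : ∃ m, n < m ∧ IsGap P m := by
    by_contra hcon
    push Not at hcon
    have hsub : gapsUpTo P (n + 2 * genus k K) ⊆ gapsUpTo P n := by
      intro m hm
      obtain ⟨h1, -, h3⟩ := mem_gapsUpTo.mp hm
      refine mem_gapsUpTo.mpr ⟨h1, ?_, h3⟩
      by_contra hlt
      exact hcon m (by omega) h3
    have := Finset.card_le_card hsub
    rw [card_gapsUpTo h P (by omega)] at this
    omega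
  obtain ⟨hn', hgap⟩ := Nat.find_spec hex
  have h1 := sub_one_le_two_mul_gaps (FF.of_isFunctionField h) P (n := Nat.find hex) (by omega) hgap
  have hset : {m : ℕ | 1 ≤ m ∧ m < Nat.find hex ∧ IsGap P m} = ↑(gapsUpTo P n) := by
    ext m
    rw [Finset.mem_coe, mem_gapsUpTo]
    refine ⟨fun ⟨a, b, c⟩ => ⟨a, ?_, c⟩, fun ⟨a, b, c⟩ => ⟨a, by omega, c⟩⟩
    by_contra hlt
    exact Nat.find_min hex b ⟨by omega, c⟩
  rw [hset, Set.ncard_coe_finset] at h1
  omega

theorem two_mul_ell_le (h : IsFunctionField k K) (P : Place k K) {n : ℕ}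
    (hn : (n : ℤ) ≤ 2 * (genus k K : ℤ) - 2) :
    2 * ell (Finsupp.single P (n : ℤ) : Divisor k K) ≤ n + 2 := by
  have h1 := ell_single_add_gaps h P n
  by_cases hc : (gapsUpTo P n).card < genus k K
  · have := exists_gap_bound h P hc; omega
  · omega

theorem le_card_gaps (h : IsFunctionField k K) (P : Place k K) {l : ℕ} (hl : 1 ≤ l)
    (hlg : l ≤ genus k K) : l ≤ (gapsUpTo P (2 * l - 1)).card := by
  by_contra hlt
  have := exists_gap_bound h P (n := 2 * l - 1) (by omega)
  omega

theorem exists_not_isGap (h : IsFunctionField k K) (P : Place k K) :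
    ∃ m : ℕ, 1 ≤ m ∧ m ≤ genus k K + 1 ∧ ¬ IsGap P m := by
  by_contra hcon
  push Not at hcon
  have hsub : Finset.Icc 1 (genus k K + 1) ⊆ gapsUpTo P (2 * genus k K + 1) := by
    intro m hm
    rw [Finset.mem_Icc] at hm
    exact mem_gapsUpTo.mpr ⟨hm.1, by omega, hcon m hm.1 hm.2⟩
  have := Finset.card_le_card hsub
  rw [card_gapsUpTo h P (by omega), Nat.card_Icc] at this
  omega

end Groth.Agent.FF30
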