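import Groth.Agent.FF30.ConstPlaces
import Groth.Agent.FF30.Gaps
import Mathlib.Algebra.CharP.Lemmas

/-! Bombieri's bound for the fixed places of a purely inseparable endomorphism. -/

open FunFld WithZero
open scoped Multiplicative

namespace Groth.Agent.FF30

variable {k L : Type*} [Field k] [IsAlgClosed k] [Field L] [Algebra k L]

/-- The valuation of `τ u` at a fixed place. -/
theorem comap_eq_of_isFixed (hF : FF k L) {τ : L →ₐ[k] L} {Q : ℕ} (hQ : 0 < Q) (ρ : L ≃+* L)
    (hρ : ∀ z, τ z = ρ z ^ Q) {P : Place k L} (hP : IsFixed τ P) (u : L) :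
    P.1 (ρ u) = P.1 u := by
  have hsmall : ∀ u : L, P.1 u < 1 → P.1 (ρ u) < 1 := fun u hu => by
    have h := hP u hu
    rw [hρ, map_pow] at h
    exact (pow_lt_one_iff_of_nonneg zero_le hQ.ne').mp h
  let P' : Place k L := ⟨P.1.comap (ρ : L →+* L), fun c => by
      rw [Valuation.comap_apply]
      change P.1 (ρ (algebraMap k L c)) ≤ 1
      have h := hρ (algebraMap k L c)
      rw [τ.commutes] at h
      have h1 := P.2.1 c
      rw [h, map_pow] at h1
      exact (pow_le_one_iff_of_nonneg zero_le hQ.ne').mp h1,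
    fun v => by
      obtain ⟨x, hx⟩ := P.2.2 v
      exact ⟨ρ.symm x, by rw [Valuation.comap_apply]; simpa using hx⟩⟩
  have heq : P = P' := eq_of_val_le_one_imp fun x hx => by
    change P.1 (ρ x) ≤ 1
    obtain ⟨c, hc⟩ := hF.exists_sub_lt P hx
    rw [show x = algebraMap k L c + (x - algebraMap k L c) by ring, map_add ρ]
    exact (P.1.map_add _ _).trans (max_le (P'.2.1 c) (hsmall _ hc).le)
  exact (congrArg (fun R : Place k L => R.1 u) heq).symm

/-- Functions with prescribed distinct pole orders at one place. -/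
theorem exists_pole_family (h : IsFunctionField k L) (P : Place k L) (b : ℕ) :
    ∃ (T : Finset ℕ) (u : ℕ → L), b + 1 ≤ T.card + genus k L ∧ (∀ n ∈ T, n ≤ b) ∧
      ∀ n ∈ T, u n ≠ 0 ∧ P.ord (u n) = -(n : ℤ) ∧ ∀ R : Place k L, R ≠ P → R.1 (u n) ≤ 1 := by
  classical
  have hF : FF k L := h.1
  set T := (Finset.range (b + 1)).filter fun n => n = 0 ∨ ¬ IsGap P n
  have hex : ∀ n ∈ T, ∃ u : L, u ≠ 0 ∧ P.ord u = -(n : ℤ) ∧ ∀ R : Place k L, R ≠ P → R.1 u ≤ 1 := by
    intro n hn
    rcases Nat.eq_zero_or_pos n with rfl | hpos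
    · exact ⟨1, one_ne_zero, by simp, fun R _ => by rw [map_one]⟩
    · have hg : ¬ IsGap P n := by
        rcases (Finset.mem_filter.mp hn).2 with h0 | h0
        · omega
        · exact h0
      obtain ⟨f, hf, hfR⟩ := (not_isGap_iff hF P hpos).mp hg
      refine ⟨f, fun h0 => ?_, hf, fun R hR => (val_le_one_iff R).mpr (hfR R hR)⟩
      rw [h0, ord_zero] at hf; omega
  choose! u hu0 hu huR using hex
  refine ⟨T, u, ?_, fun n hn => ?_, fun n hn => ⟨hu0 n hn, hu n hn, huR n hn⟩⟩
  · have hcov : Finset.range (b + 1) ⊆ T ∪ gapsUpTo P b := by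
      intro n hn
      by_cases hT : n ∈ T
      · exact Finset.mem_union_left _ hT
      · refine Finset.mem_union_right _ (mem_gapsUpTo.mpr ?_)
        simp only [T, Finset.mem_filter, hn, true_and, not_or, not_not] at hT
        exact ⟨Nat.one_le_iff_ne_zero.mpr hT.1, Nat.lt_succ_iff.mp (Finset.mem_range.mp hn), hT.2⟩
    have h1 := (Finset.card_le_card hcov).trans (Finset.card_union_le _ _)
    rw [Finset.card_range] at h1
    have h2 : (gapsUpTo P b).card ≤ genus k L := by
      have e1 := ell_single_add_gaps h P b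
      have e2 := hF.delta_le_genus (Finsupp.single P (b : ℤ) : Divisor k L)
      rw [delta, hF.deg_single'] at e2
      omega
    omega
  · exact Nat.lt_succ_iff.mp (Finset.mem_range.mp (Finset.mem_filter.mp hn).1)

omit [IsAlgClosed k] in
theorem mem_L_single {P₀ : Place k L} {n : ℤ} {z : L} (h0 : P₀.1 z ≤ exp n)
    (h : ∀ R : Place k L, R ≠ P₀ → R.1 z ≤ 1) :
    z ∈ FunFld.L (Finsupp.single P₀ n : Divisor k L) := by
  intro R
  rcases eq_or_ne R P₀ with rfl | hne
  · rwa [Finsupp.single_eq_same]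
  · rw [Finsupp.single_eq_of_ne hne, exp_zero]
    exact h R hne

omit [IsAlgClosed k] in
theorem exists_val_sum_eq (P : Place k L) {σ : Type*} (s : Finset σ) (z : σ → L)
    (hne : ∃ i ∈ s, z i ≠ 0)
    (hinj : ∀ i ∈ s, ∀ j ∈ s, z i ≠ 0 → z j ≠ 0 → P.1 (z i) = P.1 (z j) → i = j) :
    ∃ i ∈ s, z i ≠ 0 ∧ P.1 (∑ j ∈ s, z j) = P.1 (z i) := by
  classical
  obtain ⟨i₀, hi₀, hz₀⟩ := hne
  obtain ⟨i, hi, hmax⟩ := s.exists_max_image (fun j => P.1 (z j)) ⟨i₀, hi₀⟩
  have hzi : z i ≠ 0 := fun h => by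
    have := hmax i₀ hi₀
    rw [h, map_zero, le_zero_iff] at this
    exact val_ne_zero P hz₀ this
  refine ⟨i, hi, hzi, ?_⟩
  rw [← Finset.add_sum_erase s z hi]
  refine P.1.map_add_eq_of_lt_left (P.1.map_sum_lt (val_ne_zero P hzi) fun j hj => ?_)
  obtain ⟨hji, hjs⟩ := Finset.mem_erase.mp hj
  refine lt_of_le_of_ne (hmax j hjs) fun heq => hji (hinj j hjs i hi ?_ hzi heq)
  intro h0
  rw [h0, map_zero] at heq
  exact val_ne_zero P hzi heq.symm

theorem digit_unique {m l l' n n' : ℤ} (h : l + m * n = l' + m * n') (hl : 0 ≤ l) (hlm : l < m)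
    (hl' : 0 ≤ l') (hlm' : l' < m) : n = n' := by
  rcases lt_trichotomy n n' with hlt | heq | hgt
  · nlinarith
  · exact heq
  · nlinarith

/-- Bombieri's bound. -/
theorem card_le_of_fixed (h : IsFunctionField k L) {p : ℕ} [Fact p.Prime] [CharP L p]
    (τ : L →ₐ[k] L) (e₁ e₂ : ℕ) (he : e₁ ≤ e₂) (ρ : L ≃+* L)
    (hρ : ∀ z, τ z = ρ z ^ (p ^ (e₁ + e₂)))
    (hbig : genus k L ^ 2 + 5 * genus k L + 3 < 3 * p ^ e₁)
    (S : Finset (Place k L)) (hS : ∀ P ∈ S, IsFixed τ P) :
    S.card ≤ p ^ (e₁ + e₂) + p ^ e₂ * (2 * genus k L + 3) := by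
  classical
  have hF : FF k L := h.1
  rcases S.eq_empty_or_nonempty with rfl | ⟨P₀, hP₀⟩
  · simp
  set g := genus k L
  set r := p ^ e₁ with hr_def
  set m := p ^ e₂ with hm_def
  have hp : p.Prime := Fact.out
  have hr : 0 < r := pow_pos hp.pos _
  have hm : 0 < m := pow_pos hp.pos _
  have hrm : r ≤ m := Nat.pow_le_pow_right hp.pos he
  have hQ : p ^ (e₁ + e₂) = m * r := by rw [pow_add, mul_comm]
  rw [hQ] at hρ ⊢
  have hQpos : 0 < m * r := Nat.mul_pos hm hr
  have hgm : g < m := by nlinarith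
  set a := m - 1 with ha_def
  set b := r + 2 * g + 2 with hb_def
  obtain ⟨A, f, hA, hAle, hf⟩ := exists_pole_family h P₀ a
  obtain ⟨B, u, hB, hBle, hu⟩ := exists_pole_family h P₀ b
  have hcomap : ∀ P ∈ S, ∀ z, P.1 (ρ z) = P.1 z := fun P hP =>
    comap_eq_of_isFixed hF hQpos ρ hρ (hS P hP)
  have hfval : ∀ n ∈ A, P₀.1 (f n) = exp (n : ℤ) := fun n hn => by
    rw [val_eq P₀ (hf n hn).1, (hf n hn).2.1, neg_neg]
  have huval : ∀ n ∈ B, P₀.1 (u n) = exp (n : ℤ) := fun n hn => by
    rw [val_eq P₀ (hu n hn).1, (hu n hn).2.1, neg_neg]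
  -- regularity of `ρ u` away from `P₀`
  have hρreg : ∀ z : L, (∀ R : Place k L, R ≠ P₀ → R.1 z ≤ 1) →
      ∀ R : Place k L, R ≠ P₀ → R.1 (ρ z) ≤ 1 := by
    intro z hz R hR
    let R' : Place k L := ⟨R.1.comap (ρ : L →+* L), fun c => by
        rw [Valuation.comap_apply]
        change R.1 (ρ (algebraMap k L c)) ≤ 1
        have h' := hρ (algebraMap k L c)
        rw [τ.commutes] at h'
        have h1 := R.2.1 c
        rw [h', map_pow] at h1
        exact (pow_le_one_iff_of_nonneg zero_le hQpos.ne').mp h1,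
      fun v => by
        obtain ⟨x, hx⟩ := R.2.2 v
        exact ⟨ρ.symm x, by rw [Valuation.comap_apply]; simpa using hx⟩⟩
    refine hz R' fun heq => hR (Subtype.ext (Valuation.ext fun w => ?_))
    have h1 := congrArg (fun T : Place k L => T.1 (ρ.symm w)) heq
    simp only [R', Valuation.comap_apply] at h1
    change R.1 (ρ (ρ.symm w)) = P₀.1 (ρ.symm w) at h1
    rw [ρ.apply_symm_apply] at h1
    rw [h1, ← hcomap P₀ hP₀, ρ.apply_symm_apply]
  -- a relation
  set D : Divisor k L := Finsupp.single P₀ ((a * r + b : ℕ) : ℤ)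
  have := hF.finite_L D
  let v : A × B → FunFld.L D := fun x => ⟨f x.1 ^ r * u x.2, by
    refine mem_L_single ?_ fun R hR => ?_
    · rw [map_mul, map_pow, hfval _ x.1.2, huval _ x.2.2, ← exp_nsmul, ← exp_add, exp_le_exp]
      have h1 := hAle _ x.1.2
      have h2 := hBle _ x.2.2
      simp only [nsmul_eq_mul, Nat.cast_add, Nat.cast_mul]
      have h1' : ((x.1 : ℕ) : ℤ) ≤ (a : ℤ) := by exact_mod_cast h1
      have h2' : ((x.2 : ℕ) : ℤ) ≤ (b : ℤ) := by exact_mod_cast h2
      nlinarith
    · rw [map_mul, map_pow]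
      exact mul_le_one' (pow_le_one₀ zero_le ((hf _ x.1.2).2.2 R hR)) ((hu _ x.2.2).2.2 R hR)⟩
  have hnli : ¬ LinearIndependent k v := by
    intro hli
    have h1 := hli.fintype_card_le_finrank
    rw [Fintype.card_prod, Fintype.card_coe, Fintype.card_coe] at h1
    have h2 := ell_single_add_gaps h P₀ (a * r + b)
    change ell D + _ = _ at h2
    change _ ≤ ell D at h1
    have h3 : (m - g) * (r + g + 3) ≤ A.card * B.card := Nat.mul_le_mul (by omega) (by omega)
    have h4 : ell D ≤ a * r + b + 1 := by omega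
    have h5 : (m - g) * (r + g + 3) ≤ a * r + b + 1 := h3.trans (h1.trans h4)
    have h5' := congrArg (Nat.cast : ℕ → ℤ) (Nat.add_sub_of_le h5)
    have h6 : g * r + g ^ 2 + 5 * g + 3 < m * (g + 3) := by nlinarith
    zify [hgm.le, (by omega : 1 ≤ m)] at h5
    rw [ha_def, hb_def] at h5
    push_cast [(by omega : 1 ≤ m)] at h5
    zify at h6
    nlinarith
  obtain ⟨c, hc, ⟨l₀, n₀⟩, hc0⟩ := Fintype.not_linearIndependent_iff.mp hnli
  choose d hd using fun x : A × B => IsAlgClosed.exists_pow_nat_eq (c x) hr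
  set G := fun n : B => ∑ l : A, algebraMap k L (d (l, n)) * f l
  have : ExpChar L p := ExpChar.prime hp
  have hG : ∀ n : B, G n ^ r = ∑ l : A, algebraMap k L (c (l, n)) * f l ^ r := by
    intro n
    simp only [G, hr_def, sum_pow_char_pow]
    refine Finset.sum_congr rfl fun l _ => ?_
    rw [mul_pow, ← map_pow, ← hr_def, hd]
  have hrel : ∑ n : B, G n ^ r * u n = 0 := by
    have h1 := congrArg Subtype.val hc
    simp only [Submodule.coe_sum, Submodule.coe_smul, Submodule.coe_zero, v,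
      Algebra.smul_def] at h1
    rw [Fintype.sum_prod_type_right] at h1
    rw [← h1]
    refine Finset.sum_congr rfl fun n _ => ?_
    rw [hG, Finset.sum_mul]
    exact Finset.sum_congr rfl fun l _ => by ring
  have hGval : ∀ n : B, G n ≠ 0 → ∃ l : A, P₀.1 (G n) = exp ((l : ℕ) : ℤ) := by
    intro n hn
    have hne : ∃ l ∈ (Finset.univ : Finset A), algebraMap k L (d (l, n)) * f l ≠ 0 := by
      by_contra hcon
      push Not at hcon
      exact hn (Finset.sum_eq_zero hcon)
    obtain ⟨l, -, hl, hval⟩ := exists_val_sum_eq P₀ Finset.univ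
      (fun l : A => algebraMap k L (d (l, n)) * f l) hne (fun i _ j _ hi hj hij => by
        rw [map_mul, map_mul, val_algebraMap P₀ (by simpa using left_ne_zero_of_mul hi),
          val_algebraMap P₀ (by simpa using left_ne_zero_of_mul hj), one_mul, one_mul,
          hfval _ i.2, hfval _ j.2, exp_inj] at hij
        exact Subtype.ext (by exact_mod_cast hij))
    refine ⟨l, hval.trans ?_⟩
    rw [map_mul, val_algebraMap P₀ (by simpa using left_ne_zero_of_mul hl), one_mul, hfval _ l.2]
  have hG0 : G n₀ ≠ 0 := by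
    intro h0
    have hne : ∃ l ∈ (Finset.univ : Finset A), algebraMap k L (d (l, n₀)) * f l ≠ 0 := by
      refine ⟨l₀, Finset.mem_univ _, mul_ne_zero ?_ (hf _ l₀.2).1⟩
      rw [ne_eq, map_eq_zero]
      intro hd0
      exact hc0 (by rw [← hd, hd0, zero_pow hr.ne'])
    obtain ⟨l, -, hl, hval⟩ := exists_val_sum_eq P₀ Finset.univ
      (fun l : A => algebraMap k L (d (l, n₀)) * f l) hne (fun i _ j _ hi hj hij => by
        rw [map_mul, map_mul, val_algebraMap P₀ (by simpa using left_ne_zero_of_mul hi),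
          val_algebraMap P₀ (by simpa using left_ne_zero_of_mul hj), one_mul, one_mul,
          hfval _ i.2, hfval _ j.2, exp_inj] at hij
        exact Subtype.ext (by exact_mod_cast hij))
    change P₀.1 (G n₀) = _ at hval
    rw [h0, map_zero] at hval
    exact val_ne_zero P₀ hl hval.symm
  set H := ∑ n : B, G n * ρ (u n) ^ m
  have hHr : H ^ r = ∑ n : B, G n ^ r * τ (u n) := by
    simp only [H, hr_def, sum_pow_char_pow]
    refine Finset.sum_congr rfl fun n _ => ?_
    rw [mul_pow, hρ, ← pow_mul]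
  have hterm : ∀ n : B, G n ≠ 0 → ∃ l : A,
      P₀.1 (G n * ρ (u n) ^ m) = exp ((l : ℕ) + (m : ℤ) * (n : ℕ)) := by
    intro n hn
    obtain ⟨l, hl⟩ := hGval n hn
    refine ⟨l, ?_⟩
    rw [map_mul, map_pow, hcomap P₀ hP₀, huval _ n.2, hl, ← exp_nsmul, ← exp_add, nsmul_eq_mul]
  have hH0 : H ≠ 0 := by
    intro h0
    obtain ⟨n, -, hn, hval⟩ := exists_val_sum_eq P₀ Finset.univ (fun n : B => G n * ρ (u n) ^ m)
      ⟨n₀, Finset.mem_univ _, mul_ne_zero hG0
        (pow_ne_zero _ (by simpa using (hu _ n₀.2).1))⟩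
      (fun i _ j _ hi hj hij => by
        obtain ⟨li, hli⟩ := hterm i (left_ne_zero_of_mul hi)
        obtain ⟨lj, hlj⟩ := hterm j (left_ne_zero_of_mul hj)
        rw [hli, hlj, exp_inj] at hij
        have h1' : ((li : ℕ) : ℤ) < m := by
          have := hAle _ li.2
          exact_mod_cast (show (li : ℕ) < m by omega)
        have h2' : ((lj : ℕ) : ℤ) < m := by
          have := hAle _ lj.2
          exact_mod_cast (show (lj : ℕ) < m by omega)
        exact Subtype.ext (Int.ofNat.inj (digit_unique hij (Int.natCast_nonneg _) h1'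
          (Int.natCast_nonneg _) h2')))
    change P₀.1 H = _ at hval
    rw [h0, map_zero] at hval
    exact val_ne_zero P₀ hn hval.symm
  set T := S.erase P₀
  set E : Divisor k L :=
    Finsupp.single P₀ ((a + m * b : ℕ) : ℤ) - ∑ P ∈ T, Finsupp.single P (1 : ℤ)
  have hHmem : H ∈ FunFld.L E := by
    intro R
    by_cases hRT : R ∈ T
    · obtain ⟨hne, hRS⟩ := Finset.mem_erase.mp hRT
      have hER : E R = -1 := by
        simp only [E, Finsupp.sub_apply, Finsupp.finset_sum_apply]
        rw [Finsupp.single_eq_of_ne hne, Finset.sum_eq_single R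
          (fun P _ hP => Finsupp.single_eq_of_ne hP.symm) (fun h => absurd hRT h),
          Finsupp.single_eq_same]
        norm_num
      rw [hER]
      refine val_lt_one_le R ((pow_lt_one_iff_of_nonneg zero_le hr.ne').mp ?_)
      rw [← map_pow, hHr, ← sub_zero (∑ n : B, G n ^ r * τ (u n)), ← hrel, ← Finset.sum_sub_distrib]
      refine R.1.map_sum_lt one_ne_zero fun n _ => ?_
      rw [← mul_sub, map_mul, map_pow]
      have hGR : R.1 (G n) ≤ 1 := R.1.map_sum_le fun l _ => by
        rw [map_mul]; exact mul_le_one' (R.2.1 _) ((hf _ l.2).2.2 R hne)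
      refine lt_of_le_of_lt (mul_le_of_le_one_left' (pow_le_one₀ zero_le hGR)) ?_
      obtain ⟨w, hw⟩ := hF.exists_sub_lt R ((hu _ n.2).2.2 R hne)
      have h2 := hS R hRS _ hw
      rw [map_sub τ, τ.commutes] at h2
      rw [show τ (u n) - u n = (τ (u n) - algebraMap k L w) - (u n - algebraMap k L w) by ring]
      exact lt_of_le_of_lt (R.1.map_sub _ _) (max_lt h2 hw)
    · have hER : E R = (Finsupp.single P₀ ((a + m * b : ℕ) : ℤ) : Divisor k L) R := by
        simp only [E, Finsupp.sub_apply, Finsupp.finset_sum_apply]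
        rw [Finset.sum_eq_zero fun P hP => Finsupp.single_eq_of_ne fun h => hRT (by rw [h]; exact hP), sub_zero]
      rw [hER]
      refine mem_L_single (z := H) ?_ (fun R' hR' => ?_) R
      · refine P₀.1.map_sum_le fun n _ => ?_
        by_cases hn : G n = 0
        · rw [hn, zero_mul, map_zero]; exact zero_le
        obtain ⟨l, hl⟩ := hterm n hn
        rw [hl, exp_le_exp]
        have h1 := hAle _ l.2
        have h2 := hBle _ n.2
        have h1' : ((l : ℕ) : ℤ) ≤ (a : ℤ) := by exact_mod_cast h1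
        have h2' : ((n : ℕ) : ℤ) ≤ (b : ℤ) := by exact_mod_cast h2
        push_cast
        nlinarith
      · refine R'.1.map_sum_le fun n _ => ?_
        rw [map_mul, map_pow]
        exact mul_le_one' (R'.1.map_sum_le fun l _ => by
          rw [map_mul]; exact mul_le_one' (R'.2.1 _) ((hf _ l.2).2.2 R' hR'))
          (pow_le_one₀ zero_le (hρreg _ (hu _ n.2).2.2 R' hR'))
  have hdeg : 0 ≤ E.deg := by
    by_contra hneg
    have := hF.L_eq_bot_of_deg_neg (D := E) (by omega)
    exact hH0 (by simpa [this] using hHmem)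
  have hsum' : ∀ U : Finset (Place k L),
      (∑ P ∈ U, Finsupp.single P (1 : ℤ) : Divisor k L).deg = U.card := by
    intro U
    induction U using Finset.induction_on with
    | empty => simp [Divisor.deg]
    | @insert P U hPU ih =>
      rw [Finset.sum_insert hPU, deg_add, ih, hF.deg_single', Finset.card_insert_of_notMem hPU]
      push_cast
      ring
  have hsum := hsum' T
  rw [deg_sub, hF.deg_single', hsum] at hdeg
  have hT : T.card + 1 = S.card := Finset.card_erase_add_one hP₀
  have h1 : T.card ≤ a + m * b := by omega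
  have h2 : m * b = m * r + m * (2 * g + 2) := by rw [hb_def]; ring
  have h3 : m * (2 * g + 3) = m * (2 * g + 2) + m := by ring
  omega

end Groth.Agent.FF30
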