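import Groth.Agent.FF30.Ext
import Groth.Prelude.Def_W4bk4goldsch45

/-! The divisor of a tuple of functions. -/

open FunFld WithZero
open scoped Multiplicative

namespace Groth.Agent.FF30

variable {k K : Type*} [Field k] [Field K] [Algebra k K] {ι : Type*} [Fintype ι] [Nonempty ι]

theorem FF.mapDiv_apply (h : FF k K) (φ : ι → K) (P : Place k K) :
    mapDiv k φ P = -Finset.univ.inf' Finset.univ_nonempty (fun i => P.ord (φ i)) := by
  have hfin : (Function.support fun P : Place k K =>
      -Finset.univ.inf' Finset.univ_nonempty (fun i => P.ord (φ i))).Finite := by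
    refine (Set.finite_iUnion fun i => h.finite_support_ord (φ i)).subset fun Q hQ => ?_
    obtain ⟨i, -, hi⟩ := Finset.exists_mem_eq_inf' Finset.univ_nonempty (fun i => Q.ord (φ i))
    refine Set.mem_iUnion.mpr ⟨i, fun h0 => hQ ?_⟩
    change -Finset.univ.inf' Finset.univ_nonempty (fun i => Q.ord (φ i)) = 0
    rw [hi]
    exact neg_eq_zero.mpr h0
  rw [mapDiv, dif_pos hfin]
  rfl

theorem FF.neg_ord_le_mapDiv (h : FF k K) (φ : ι → K) (P : Place k K) (i : ι) :
    -P.ord (φ i) ≤ mapDiv k φ P := by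
  rw [h.mapDiv_apply]
  exact neg_le_neg (Finset.inf'_le _ (Finset.mem_univ i))

theorem FF.exists_mapDiv_eq (h : FF k K) (φ : ι → K) (P : Place k K) :
    ∃ i, mapDiv k φ P = -P.ord (φ i) := by
  obtain ⟨i, -, hi⟩ := Finset.exists_mem_eq_inf' Finset.univ_nonempty (fun i => P.ord (φ i))
  exact ⟨i, by rw [h.mapDiv_apply, hi]⟩

theorem FF.mapDiv_algebraMap {K' : Type*} [Field K'] [Algebra K K'] [Algebra k K']
    [IsScalarTower k K K'] [FiniteDimensional K K'] (h : FF k K) (φ : ι → K) :
    mapDiv k (fun i => algebraMap K K' (φ i)) = conorm K' (mapDiv k φ) := by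
  refine Finsupp.ext fun Q => ?_
  obtain ⟨P, e, -, hQ⟩ := h.exists_isOverWith Q
  rw [h.conorm_apply _ hQ, h.mapDiv_apply, (h.extension K').mapDiv_apply]
  simp only [isOverWith_ord hQ, mul_neg]
  congr 1
  obtain ⟨i, -, hi⟩ := Finset.exists_mem_eq_inf' Finset.univ_nonempty (fun i => P.ord (φ i))
  refine le_antisymm ?_ (Finset.le_inf' _ _ fun j _ => ?_)
  · rw [hi]; exact Finset.inf'_le (f := fun i => (e : ℤ) * P.ord (φ i)) (Finset.mem_univ i)
  · exact mul_le_mul_of_nonneg_left (Finset.inf'_le _ (Finset.mem_univ j)) (by positivity)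

end Groth.Agent.FF30
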