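import Groth.Agent.FF30.AlgClosed
import Groth.Agent.FF30.MapDiv
import Mathlib.RingTheory.Adjoin.Basic

/-! Affine charts and local rings of a projective map. -/

open FunFld WithZero
open scoped Multiplicative

namespace Groth.Agent.FF30

variable {k K : Type*} [Field k] [Field K] [Algebra k K] {ι : Type*}

/-- The affine coordinate ring in the chart `j`. -/
def chart (k : Type*) {K : Type*} [Field k] [Field K] [Algebra k K] {ι : Type*} (φ : ι → K) (j : ι) :
    Subalgebra k K :=
  Algebra.adjoin k (Set.range fun i => φ i / φ j)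

/-- `j` is an entry of least order at `P`. -/
def IsMin (φ : ι → K) (P : Place k K) (j : ι) : Prop := φ j ≠ 0 ∧ ∀ i, P.1 (φ i) ≤ P.1 (φ j)

theorem ratio_mem_chart (φ : ι → K) (i j : ι) : φ i / φ j ∈ chart k φ j :=
  Algebra.subset_adjoin ⟨i, rfl⟩

theorem chart_induction {φ : ι → K} {j : ι} {p : K → Prop} {a : K} (ha : a ∈ chart k φ j)
    (hgen : ∀ i, p (φ i / φ j)) (hC : ∀ c : k, p (algebraMap k K c))
    (hadd : ∀ a b, p a → p b → p (a + b)) (hmul : ∀ a b, p a → p b → p (a * b)) : p a := by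
  induction ha using Algebra.adjoin_induction with
  | mem x hx => obtain ⟨i, rfl⟩ := hx; exact hgen i
  | algebraMap c => exact hC c
  | add a b _ _ h1 h2 => exact hadd a b h1 h2
  | mul a b _ _ h1 h2 => exact hmul a b h1 h2

theorem val_ratio_le_one {φ : ι → K} {P : Place k K} {j : ι} (hj : IsMin φ P j) (i : ι) :
    P.1 (φ i / φ j) ≤ 1 := by
  rw [map_div₀]
  exact div_le_one_of_le₀ (hj.2 i) zero_le

theorem isMin_iff_chart {φ : ι → K} {j : ι} (hj : φ j ≠ 0) (P : Place k K) :
    IsMin φ P j ↔ ∀ a ∈ chart k φ j, P.1 a ≤ 1 := by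
  refine ⟨fun h a ha => ?_, fun h => ⟨hj, fun i => ?_⟩⟩
  · exact chart_induction (p := fun a => P.1 a ≤ 1) ha (val_ratio_le_one h) P.2.1
      (fun a b h1 h2 => (P.1.map_add a b).trans (max_le h1 h2))
      (fun a b h1 h2 => by rw [map_mul]; exact mul_le_one' h1 h2)
  · have := h _ (ratio_mem_chart φ i j)
    rw [map_div₀] at this
    exact (div_le_one₀ (zero_lt_iff.mpr (val_ne_zero P hj))).mp this

theorem IsMin.chart_le {φ : ι → K} {P : Place k K} {j : ι} (h : IsMin φ P j) {a : K}
    (ha : a ∈ chart k φ j) : P.1 a ≤ 1 := (isMin_iff_chart h.1 P).mp h a ha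

theorem exists_isMin [Fintype ι] [Nonempty ι] (φ : ι → K) (h0 : ∃ i, φ i ≠ 0) (P : Place k K) :
    ∃ j, IsMin φ P j := by
  obtain ⟨j, -, hj⟩ := Finset.exists_max_image Finset.univ (fun i => P.1 (φ i)) Finset.univ_nonempty
  refine ⟨j, fun h => ?_, fun i => hj i (Finset.mem_univ i)⟩
  obtain ⟨i, hi⟩ := h0
  have := hj i (Finset.mem_univ i)
  rw [h, map_zero, le_zero_iff] at this
  exact val_ne_zero P hi this

/-- The local ring of `φ` at `P`, computed in the chart `j`. -/
def locRing (φ : ι → K) (P : Place k K) (j : ι) : Subalgebra k K where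
  carrier := {z | ∃ u ∈ chart k φ j, ∃ w ∈ chart k φ j, P.1 w = 1 ∧ z * w = u}
  mul_mem' := by
    rintro a b ⟨u, hu, w, hw, hw1, rfl⟩ ⟨u', hu', w', hw', hw1', rfl⟩
    refine ⟨_, mul_mem hu hu', w * w', mul_mem hw hw', by rw [map_mul, hw1, hw1', one_mul], by ring⟩
  add_mem' := by
    rintro a b ⟨u, hu, w, hw, hw1, rfl⟩ ⟨u', hu', w', hw', hw1', rfl⟩
    exact ⟨_, add_mem (mul_mem hu hw') (mul_mem hu' hw), w * w', mul_mem hw hw',
      by rw [map_mul, hw1, hw1', one_mul], by ring⟩
  algebraMap_mem' c := ⟨_, Subalgebra.algebraMap_mem _ c, 1, one_mem _, map_one _, mul_one _⟩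

theorem chart_le_locRing (φ : ι → K) (P : Place k K) (j : ι) : chart k φ j ≤ locRing φ P j :=
  fun a ha => ⟨a, ha, 1, one_mem _, map_one _, mul_one a⟩

theorem locRing_le_one {φ : ι → K} {P : Place k K} {j : ι} (hj : IsMin φ P j) {z : K}
    (hz : z ∈ locRing φ P j) : P.1 z ≤ 1 := by
  obtain ⟨u, hu, w, -, hw1, rfl⟩ := hz
  have := hj.chart_le hu
  rwa [map_mul, hw1, mul_one] at this

theorem inv_mem_locRing {φ : ι → K} {P : Place k K} {j : ι} {z : K}
    (hz : z ∈ locRing φ P j) (h1 : P.1 z = 1) : z⁻¹ ∈ locRing φ P j := by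
  obtain ⟨u, hu, w, hw, hw1, rfl⟩ := hz
  have hz0 : z ≠ 0 := fun h => by simp [h] at h1
  exact ⟨w, hw, _, hu, by rw [map_mul, h1, hw1, one_mul], by rw [inv_mul_cancel_left₀ hz0]⟩

theorem inLocRing_iff {φ : ι → K} {P : Place k K} {j : ι} (hj : IsMin φ P j) (z : K) :
    InLocRing φ P z ↔ z ∈ locRing φ P j := by
  constructor
  · rintro ⟨j', hj0, hj', u, hu, w, hw, hw1, hzw⟩
    have hsub : chart k φ j' ≤ locRing φ P j := by
      refine Algebra.adjoin_le ?_
      rintro _ ⟨i, rfl⟩
      have heq : P.1 (φ j' / φ j) = 1 := by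
        rw [map_div₀, le_antisymm (hj.2 j') (hj' j), div_self (val_ne_zero P hj.1)]
      have : φ i / φ j' = φ i / φ j * (φ j' / φ j)⁻¹ := by
        field_simp [hj.1, hj0]
      change φ i / φ j' ∈ locRing φ P j
      rw [this]
      exact mul_mem (chart_le_locRing φ P j (ratio_mem_chart φ i j))
        (inv_mem_locRing (chart_le_locRing φ P j (ratio_mem_chart φ j' j)) heq)
    have hw0 : w ≠ 0 := fun h => by simp [h] at hw1
    have : z = u * w⁻¹ := by rw [← hzw, mul_inv_cancel_right₀ hw0]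
    rw [this]
    exact mul_mem (hsub hu) (inv_mem_locRing (hsub hw) hw1)
  · rintro ⟨u, hu, w, hw, hw1, hzw⟩
    exact ⟨j, hj.1, hj.2, u, hu, w, hw, hw1, hzw⟩

theorem isNonsingularAt_iff_locRing {φ : ι → K} {P : Place k K} {j : ι} (hj : IsMin φ P j) :
    IsNonsingularAt φ P ↔ ∀ z : K, P.1 z ≤ 1 → z ∈ locRing φ P j :=
  forall_congr' fun z => imp_congr_right fun _ => inLocRing_iff hj z

theorem chart_congr_of_ratios {φ : ι → K} {P Q : Place k K} {j : ι}
    (h : ∀ i, ∃ c : k, P.1 (φ i / φ j - algebraMap k K c) < 1 ∧ Q.1 (φ i / φ j - algebraMap k K c) < 1)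
    {a : K} (ha : a ∈ chart k φ j) :
    ∃ c : k, P.1 (a - algebraMap k K c) < 1 ∧ Q.1 (a - algebraMap k K c) < 1 := by
  refine chart_induction (p := fun a => ∃ c : k, P.1 (a - algebraMap k K c) < 1 ∧
    Q.1 (a - algebraMap k K c) < 1) ha h (fun c => ⟨c, by simp, by simp⟩) ?_ ?_
  · rintro a b ⟨c, h1, h2⟩ ⟨c', h1', h2'⟩
    refine ⟨c + c', ?_, ?_⟩ <;> rw [map_add, add_sub_add_comm]
    · exact lt_of_le_of_lt (P.1.map_add _ _) (max_lt h1 h1')
    · exact lt_of_le_of_lt (Q.1.map_add _ _) (max_lt h2 h2')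
  · rintro a b ⟨c, h1, h2⟩ ⟨c', h1', h2'⟩
    have key : ∀ R : Place k K, R.1 (a - algebraMap k K c) < 1 → R.1 (b - algebraMap k K c') < 1 →
        R.1 (a * b - algebraMap k K (c * c')) < 1 := by
      intro R r1 r2
      have hb : R.1 b ≤ 1 := by
        have : b = (b - algebraMap k K c') + algebraMap k K c' := by ring
        rw [this]
        exact (R.1.map_add _ _).trans (max_le r2.le (R.2.1 c'))
      have : a * b - algebraMap k K (c * c') = (a - algebraMap k K c) * b +
          algebraMap k K c * (b - algebraMap k K c') := by rw [map_mul]; ring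
      rw [this]
      refine lt_of_le_of_lt (R.1.map_add _ _) (max_lt ?_ ?_)
      · rw [map_mul]; exact lt_of_le_of_lt (mul_le_of_le_one_right' hb) r1
      · rw [map_mul]; exact lt_of_le_of_lt (mul_le_of_le_one_left' (R.2.1 c)) r2
    exact ⟨c * c', key P h1 h1', key Q h2 h2'⟩

theorem exists_const_both {φ : ι → K} {P Q : Place k K} (h : SameImage φ P Q) :
    ∃ j, IsMin φ P j ∧ IsMin φ Q j ∧ ∀ a ∈ chart k φ j,
      ∃ c : k, P.1 (a - algebraMap k K c) < 1 ∧ Q.1 (a - algebraMap k K c) < 1 := by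
  obtain ⟨j, hj0, hP, hQ, hc⟩ := h
  exact ⟨j, ⟨hj0, hP⟩, ⟨hj0, hQ⟩, fun a ha => chart_congr_of_ratios hc ha⟩

theorem sameImage_iff [IsAlgClosed k] (hF : FF k K) {φ : ι → K} {P Q : Place k K} {j : ι}
    (hj : IsMin φ P j) :
    SameImage φ P Q ↔ ∀ a ∈ chart k φ j, Q.1 a ≤ 1 ∧ (P.1 a < 1 → Q.1 a < 1) := by
  constructor
  · intro h
    obtain ⟨l, hlP, hlQ, hc⟩ := exists_const_both h
    have heqP : P.1 (φ j) = P.1 (φ l) := le_antisymm (hlP.2 j) (hj.2 l)
    obtain ⟨c, hcP, hcQ⟩ := hc _ (ratio_mem_chart φ j l)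
    have hc0 : c ≠ 0 := by
      rintro rfl
      rw [map_zero, sub_zero, map_div₀, heqP, div_self (val_ne_zero P hlP.1)] at hcP
      exact lt_irrefl _ hcP
    have hQj : IsMin φ Q j := by
      refine ⟨hj.1, fun i => (hlQ.2 i).trans (le_of_eq ?_)⟩
      have h1 : Q.1 (φ j / φ l) = 1 := by
        have : φ j / φ l = algebraMap k K c + (φ j / φ l - algebraMap k K c) := by ring
        rw [this, Q.1.map_add_eq_of_lt_left (by rwa [val_algebraMap Q hc0]), val_algebraMap Q hc0]
      rw [map_div₀, div_eq_one_iff_eq (val_ne_zero Q hlQ.1)] at h1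
      exact h1.symm
    intro a ha
    refine ⟨hQj.chart_le ha, fun hlt => ?_⟩
    -- transport the congruence to the chart `j`
    have key : ∀ a ∈ chart k φ j, ∃ c : k, P.1 (a - algebraMap k K c) < 1 ∧
        Q.1 (a - algebraMap k K c) < 1 := by
      have hrat : ∀ i, ∃ d : k, P.1 (φ i / φ j - algebraMap k K d) < 1 ∧
          Q.1 (φ i / φ j - algebraMap k K d) < 1 := by
        intro i
        obtain ⟨e, heP, heQ⟩ := hc _ (ratio_mem_chart φ i l)
        refine ⟨e / c, ?_, ?_⟩
        all_goals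
          have hid : φ i / φ j - algebraMap k K (e / c) =
              ((φ i / φ l - algebraMap k K e) * algebraMap k K c -
                algebraMap k K e * (φ j / φ l - algebraMap k K c)) / ((φ j / φ l) * algebraMap k K c) := by
            have := hlP.1
            have := hj.1
            have : algebraMap k K c ≠ 0 := by simpa using hc0
            rw [map_div₀]
            field_simp
            ring
          rw [hid, map_div₀, map_mul]
        · have h1 : P.1 (φ j / φ l) = 1 := by rw [map_div₀, heqP, div_self (val_ne_zero P hlP.1)]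
          rw [h1, val_algebraMap P hc0, one_mul, div_one]
          refine lt_of_le_of_lt (P.1.map_sub _ _) (max_lt ?_ ?_)
          · rw [map_mul, val_algebraMap P hc0, mul_one]; exact heP
          · rw [map_mul]; exact lt_of_le_of_lt (mul_le_of_le_one_left' (P.2.1 e)) hcP
        · have h1 : Q.1 (φ j / φ l) = 1 := by
            rw [map_div₀, le_antisymm (hlQ.2 j) (hQj.2 l), div_self (val_ne_zero Q hlQ.1)]
          rw [h1, val_algebraMap Q hc0, one_mul, div_one]
          refine lt_of_le_of_lt (Q.1.map_sub _ _) (max_lt ?_ ?_)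
          · rw [map_mul, val_algebraMap Q hc0, mul_one]; exact heQ
          · rw [map_mul]; exact lt_of_le_of_lt (mul_le_of_le_one_left' (Q.2.1 e)) hcQ
      exact fun a ha => chart_congr_of_ratios hrat ha
    obtain ⟨d, hdP, hdQ⟩ := key a ha
    have hd0 : d = 0 := by
      by_contra hd
      have h1 : P.1 a = 1 := by
        have : a = algebraMap k K d + (a - algebraMap k K d) := by ring
        rw [this, P.1.map_add_eq_of_lt_left (by rwa [val_algebraMap P hd]), val_algebraMap P hd]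
      rw [h1] at hlt
      exact lt_irrefl _ hlt
    subst hd0
    simpa using hdQ
  · intro h
    refine ⟨j, hj.1, hj.2, fun i => ?_, fun i => ?_⟩
    · exact ((isMin_iff_chart hj.1 Q).mpr fun a ha => (h a ha).1).2 i
    · obtain ⟨c, hc⟩ := hF.exists_sub_lt P (val_ratio_le_one hj i)
      exact ⟨c, hc, (h _ (sub_mem (ratio_mem_chart φ i j) (Subalgebra.algebraMap_mem _ c))).2 hc⟩

theorem SameImage.isMin [IsAlgClosed k] (hF : FF k K) {φ : ι → K} {P Q : Place k K} {j : ι}
    (hj : IsMin φ P j) (h : SameImage φ P Q) : IsMin φ Q j :=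
  (isMin_iff_chart hj.1 Q).mpr fun a ha => ((sameImage_iff hF hj).mp h a ha).1

theorem sameImage_self [IsAlgClosed k] (hF : FF k K) [Fintype ι] [Nonempty ι] (φ : ι → K)
    (h0 : ∃ i, φ i ≠ 0) (P : Place k K) : SameImage φ P P := by
  obtain ⟨j, hj⟩ := exists_isMin φ h0 P
  exact (sameImage_iff hF hj).mpr fun a ha => ⟨hj.chart_le ha, id⟩

theorem sameImage_iff_locRing [IsAlgClosed k] (hF : FF k K) {φ : ι → K} {P Q : Place k K} {j : ι}
    (hj : IsMin φ P j) :
    SameImage φ P Q ↔ ∀ z : K, InLocRing φ P z → (Q.1 z ≤ 1 ∧ (Q.1 z < 1 ↔ P.1 z < 1)) := by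
  constructor
  · intro h z hz
    obtain ⟨u, hu, w, hw, hw1, rfl⟩ := (inLocRing_iff hj z).mp hz
    have key := (sameImage_iff hF hj).mp h
    have hQ1 : ∀ a ∈ chart k φ j, P.1 a = 1 → Q.1 a = 1 := by
      intro a ha h1
      obtain ⟨c, hc⟩ := hF.exists_sub_lt P (hj.chart_le ha)
      have hc' := (key _ (sub_mem ha (Subalgebra.algebraMap_mem _ c))).2 hc
      have hc0 : c ≠ 0 := by
        rintro rfl; rw [map_zero, sub_zero, h1] at hc; exact lt_irrefl _ hc
      have : a = algebraMap k K c + (a - algebraMap k K c) := by ring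
      rw [this, Q.1.map_add_eq_of_lt_left (by rwa [val_algebraMap Q hc0]), val_algebraMap Q hc0]
    have hQw := hQ1 w hw hw1
    have hu' := key _ hu
    have hle := hu'.1
    rw [map_mul, hQw, mul_one] at hle
    refine ⟨hle, ?_⟩
    constructor
    · intro hlt
      by_contra hge
      have h1 : P.1 (z * w) = 1 := le_antisymm (hj.chart_le hu) (by rw [map_mul, hw1, mul_one]; exact not_lt.mp hge)
      have := hQ1 _ hu h1
      rw [map_mul, hQw, mul_one] at this
      rw [this] at hlt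
      exact lt_irrefl _ hlt
    · intro hlt
      have := hu'.2 (by rwa [map_mul, hw1, mul_one])
      rwa [map_mul, hQw, mul_one] at this
  · intro h
    rw [sameImage_iff hF hj]
    intro a ha
    obtain ⟨h1, h2⟩ := h a ((inLocRing_iff hj a).mpr (chart_le_locRing φ P j ha))
    exact ⟨h1, h2.mpr⟩

theorem ne_zero_of_linearIndependent {φ : ι → K} (h : LinearIndependent k φ) (i : ι) : φ i ≠ 0 :=
  h.ne_zero i

end Groth.Agent.FF30
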