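import Groth.Agent.FF30.Chart
import Groth.Agent.FF30.Ext
import Mathlib.FieldTheory.IntermediateField.Adjoin.Defs

/-! A conductor of an affine chart. -/

open FunFld WithZero
open scoped Multiplicative

namespace Groth.Agent.FF30

variable {k K : Type*} [Field k] [IsAlgClosed k] [Field K] [Algebra k K] {ι : Type*}

theorem exists_common_pole (hF : FF k K) (A : Subalgebra k K) (S : Finset (Place k K))
    (hS : ∀ Q ∈ S, ∃ a ∈ A, 1 < Q.1 a) : ∃ x ∈ A, ∀ Q ∈ S, 1 < Q.1 x := by
  classical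
  induction S using Finset.induction_on with
  | empty => exact ⟨0, zero_mem A, by simp⟩
  | @insert Q S hQ ih =>
    obtain ⟨x, hxA, hx⟩ := ih fun R hR => hS R (Finset.mem_insert_of_mem hR)
    obtain ⟨y, hyA, hy⟩ := hS Q (Finset.mem_insert_self _ _)
    set bad := fun R : Place k K => {ε : k | R.1 (x + ε • y) ≤ 1}
    have hbad : ∀ R ∈ insert Q S, (bad R).Subsingleton := by
      intro R hR ε h1 ε' h2
      by_contra hne
      have h3 : R.1 ((ε - ε') • y) ≤ 1 := by
        rw [sub_smul, show ε • y - ε' • y = (x + ε • y) - (x + ε' • y) by ring]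
        exact (R.1.map_sub _ _).trans (max_le h1 h2)
      rw [val_smul R (sub_ne_zero.mpr hne)] at h3
      rcases Finset.mem_insert.mp hR with rfl | hR
      · exact absurd hy (not_lt.mpr h3)
      · have h4 : R.1 x ≤ 1 := by
          rw [show x = (x + ε • y) - ε • y by ring]
          exact (R.1.map_sub _ _).trans (max_le h1 ((val_smul_le R ε y).trans h3))
        exact absurd (hx R hR) (not_lt.mpr h4)
    have hfin : (⋃ R ∈ (↑(insert Q S) : Set (Place k K)), bad R).Finite :=
      Set.Finite.biUnion (Finset.finite_toSet _) fun R hR => (hbad R hR).finite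
    obtain ⟨ε, hε⟩ := hfin.exists_notMem
    refine ⟨x + ε • y, add_mem hxA (A.smul_mem hyA ε), fun R hR => ?_⟩
    by_contra hle
    exact hε (Set.mem_biUnion hR (not_lt.mp hle))

theorem FF.exists_pole_element (hF : FF k K) [Fintype ι] [Nonempty ι] (φ : ι → K) (j : ι)
    (hne : φ j ≠ 0) {a : K} (ha : a ∈ chart k φ j) (htr : Transcendental k a) :
    ∃ x ∈ chart k φ j, Transcendental k x ∧ ∀ Q : Place k K, Q.1 x ≤ 1 ↔ IsMin φ Q j := by
  classical
  set S := (Set.Finite.toFinset (Set.finite_iUnion fun i => hF.finite_support_ord (φ i / φ j))).filter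
    fun Q => ∃ b ∈ chart k φ j, 1 < Q.1 b with hS
  obtain ⟨x, hx, hxS⟩ := exists_common_pole hF (chart k φ j) S fun Q hQ => (Finset.mem_filter.mp hQ).2
  have hbad : ∀ Q : Place k K, ¬ IsMin φ Q j → Q ∈ S := by
    intro Q hQ
    rw [isMin_iff_chart hne] at hQ
    push Not at hQ
    obtain ⟨b, hb, hb1⟩ := hQ
    refine Finset.mem_filter.mpr ⟨?_, b, hb, hb1⟩
    rw [Set.Finite.mem_toFinset, Set.mem_iUnion]
    by_contra hall
    push Not at hall
    refine absurd hb1 (not_lt.mpr ((isMin_iff_chart hne Q).mp ⟨hne, fun i => ?_⟩ b hb))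
    have h1 := hall i
    simp only [Function.mem_support, ne_eq, not_not] at h1
    have h2 := (val_le_one_iff Q).mpr h1.ge
    rw [map_div₀] at h2
    exact (div_le_one₀ (zero_lt_iff.mpr (val_ne_zero Q hne))).mp h2
  obtain ⟨Q₀, hQ₀⟩ := hF.exists_place_neg htr
  have h₀ : ¬ IsMin φ Q₀ j := fun h => absurd (h.chart_le ha) (not_le.mpr ((one_lt_val_iff Q₀).mpr hQ₀))
  refine ⟨x, hx, transcendental_of_ord_ne_zero Q₀
    ((one_lt_val_iff Q₀).mp (hxS Q₀ (hbad Q₀ h₀))).ne, fun Q => ⟨fun h => ?_, fun h => h.chart_le hx⟩⟩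
  by_contra hQ
  exact absurd (hxS Q (hbad Q hQ)) (not_lt.mpr h)

omit [IsAlgClosed k] in
theorem smul_mem_L_succ (hF : FF k K) {x : K} (t : ℕ) {f : K}
    (hf : f ∈ L (t • (poleDiv x : Divisor k K))) :
    x * f ∈ L ((t + 1) • (poleDiv x : Divisor k K)) := by
  intro R
  have h1 := hf R
  rw [Finsupp.smul_apply, hF.poleDiv_apply, nsmul_eq_mul] at h1 ⊢
  rw [map_mul]
  rcases eq_or_ne x 0 with rfl | hx
  · simp
  refine (mul_le_mul' ((val_eq R hx).le.trans (exp_le_exp.mpr (le_max_left (-R.ord x) 0))) h1).trans ?_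
  rw [← exp_add, exp_le_exp]
  push_cast
  ring_nf
  exact le_rfl

theorem exists_generation (h : IsFunctionField k K) {x : K} (hx : Transcendental k x) :
    ∃ t₀ : ℕ, ∀ t : ℕ, t₀ ≤ t → ∀ f ∈ L ((t + 1) • (poleDiv x : Divisor k K)),
      ∃ a ∈ L (t • (poleDiv x : Divisor k K)), ∃ b ∈ L (t • (poleDiv x : Divisor k K)),
        f = a + x * b := by
  have hF : FF k K := h.1
  set D : Divisor k K := poleDiv x with hD
  have hdeg : 1 ≤ D.deg := by
    rw [hD, hF.deg_poleDiv hx]
    have := hF.finiteDimensional_adjoin hx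
    exact_mod_cast Module.finrank_pos
  have hx0 : x ≠ 0 := fun h0 => hx (h0 ▸ isAlgebraic_zero)
  refine ⟨2 * genus k K + 1, fun t ht f hf => ?_⟩
  have hDnn : (0 : Divisor k K) ≤ D := le_sup_right
  have hmono : ∀ {s u : ℕ}, s ≤ u → (s • D : Divisor k K) ≤ u • D := fun {s u} hsu =>
    nsmul_le_nsmul_left hDnn hsu
  let V : Submodule k K := L (t • D)
  let W : Submodule k K := V.map (LinearMap.mulLeft k x)
  have hsub : V ⊔ W ≤ L ((t + 1) • D) := by
    refine sup_le (L_mono (hmono (Nat.le_succ t))) ?_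
    rintro _ ⟨b, hb, rfl⟩
    exact smul_mem_L_succ hF t hb
  have hinf : V ⊓ W ≤ (L ((t - 1) • D)).map (LinearMap.mulLeft k x) := by
    rintro _ ⟨hV, b, hb, rfl⟩
    refine ⟨b, fun R => ?_, rfl⟩
    have h1 := hb R
    have h2 : R.1 (x * b) ≤ exp ((t • D) R) := hV R
    rw [Finsupp.smul_apply, hD, hF.poleDiv_apply, nsmul_eq_mul] at h1 h2
    rw [Finsupp.smul_apply, hD, hF.poleDiv_apply, nsmul_eq_mul]
    rcases eq_or_ne b 0 with rfl | hb0
    · simp
    rcases le_total 0 (R.ord x) with hR | hR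
    · rw [max_eq_right (by omega)] at h1 ⊢
      simpa using h1
    · rw [max_eq_left (by omega)] at h2 ⊢
      rw [val_le_exp_iff R (mul_ne_zero hx0 hb0), ord_mul R hx0 hb0] at h2
      rw [val_le_exp_iff R hb0, Nat.cast_sub (by omega), Nat.cast_one]
      linarith
  have := hF.finite_L (t • D)
  have := hF.finite_L ((t + 1) • D)
  have := hF.finite_L ((t - 1) • D)
  have hinj : Function.Injective (LinearMap.mulLeft k x) := mul_right_injective₀ hx0
  have hW : Module.finrank k W = Module.finrank k V :=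
    (Submodule.equivMapOfInjective _ hinj V).finrank_eq.symm
  have hI : Module.finrank k ↥(V ⊓ W) ≤ ell ((t - 1) • D) :=
    (Submodule.finrank_mono hinf).trans
      (Submodule.equivMapOfInjective _ hinj (L ((t - 1) • D))).finrank_eq.symm.le
  have hsum := Submodule.finrank_sup_add_finrank_inf_eq V W
  have hd : ∀ s : ℕ, 2 * genus k K ≤ s → (ell (s • D) : ℤ) = s * D.deg + 1 - genus k K := by
    intro s hs
    have := ell_eq_of_deg_gt h (D := s • D) (by rw [deg_nsmul]; nlinarith)
    rwa [deg_nsmul] at this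
  have e1 := hd t (by omega)
  have e2 := hd (t + 1) (by omega)
  have e3 := hd (t - 1) (by omega)
  rw [Nat.cast_sub (by omega : 1 ≤ t)] at e3
  push_cast at e2 e3
  have hle : Module.finrank k (L ((t + 1) • D)) ≤ Module.finrank k ↥(V ⊔ W) := by
    unfold ell at e1 e2 e3 hI
    have : Module.finrank k V = Module.finrank k (L (t • D)) := rfl
    nlinarith [hsum, hW, hI]
  rw [← Submodule.eq_of_le_of_finrank_le hsub hle] at hf
  obtain ⟨a, ha, _, ⟨b, hb, rfl⟩, rfl⟩ := Submodule.mem_sup.mp hf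
  exact ⟨a, ha, b, hb, rfl⟩

omit [IsAlgClosed k] in
theorem exists_chart_div {φ : ι → K} {j : ι}
    (hbir : IntermediateField.adjoin k (Set.range fun i => φ i / φ j) = ⊤) (z : K) :
    ∃ u ∈ chart k φ j, ∃ w ∈ chart k φ j, w ≠ 0 ∧ z * w = u := by
  have hz : z ∈ IntermediateField.adjoin k (Set.range fun i => φ i / φ j) :=
    hbir ▸ IntermediateField.mem_top
  obtain ⟨u, hu, w, hw, rfl⟩ := IntermediateField.mem_adjoin_iff_div.mp hz
  by_cases hw0 : w = 0
  · exact ⟨0, zero_mem _, 1, one_mem _, one_ne_zero, by simp [hw0]⟩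
  · exact ⟨u, hu, w, hw, hw0, div_mul_cancel₀ u hw0⟩

theorem exists_conductor (h : IsFunctionField k K) [Fintype ι] [Nonempty ι] (φ : ι → K) (j : ι)
    (hne : φ j ≠ 0) (hbir : IntermediateField.adjoin k (Set.range fun i => φ i / φ j) = ⊤) :
    ∃ c ∈ chart k φ j, c ≠ 0 ∧
      ∀ z : K, (∀ Q : Place k K, IsMin φ Q j → Q.1 z ≤ 1) → c * z ∈ chart k φ j := by
  classical
  have hF : FF k K := h.1
  obtain ⟨a, ha, htr⟩ : ∃ a ∈ chart k φ j, Transcendental k a := by
    obtain ⟨y, hy, -⟩ := id hF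
    obtain ⟨u, hu, w, hw, hw0, huw⟩ := exists_chart_div hbir y
    by_contra hcon
    push Not at hcon
    have hu' : IsAlgebraic k u := not_not.mp (hcon u hu)
    have hw' : IsAlgebraic k w := not_not.mp (hcon w hw)
    exact hy (by rw [show y = u * w⁻¹ by rw [← huw, mul_inv_cancel_right₀ hw0]]; exact hu'.mul hw'.inv)
  obtain ⟨x, hxA, hxtr, hx⟩ := hF.exists_pole_element φ j hne ha htr
  obtain ⟨t₀, ht₀⟩ := exists_generation h hxtr
  set D : Divisor k K := poleDiv x
  have := hF.finite_L (t₀ • D)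
  let b := Module.finBasis k (L (t₀ • D))
  choose u hu w hw hw0 huw using fun i => exists_chart_div hbir ((b i : L (t₀ • D)) : K)
  set c := ∏ i, w i
  refine ⟨c, prod_mem fun i _ => hw i, Finset.prod_ne_zero_iff.mpr fun i _ => hw0 i, ?_⟩
  let M : Submodule k K := (Subalgebra.toSubmodule (chart k φ j)).comap (LinearMap.mulLeft k c)
  have hM0 : L (t₀ • D) ≤ M := by
    intro f hf
    have := (Submodule.span_le (R := k) (s := Set.range b) (p := M.comap (L (t₀ • D)).subtype)).mpr (by
      rintro _ ⟨i, rfl⟩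
      change c * ((b i : L (t₀ • D)) : K) ∈ chart k φ j
      have : c * ((b i : L (t₀ • D)) : K) = (∏ l ∈ Finset.univ.erase i, w l) * u i := by
        rw [← huw i, show c = w i * ∏ l ∈ Finset.univ.erase i, w l from
          (Finset.mul_prod_erase _ _ (Finset.mem_univ i)).symm]
        ring
      rw [this]
      exact mul_mem (prod_mem fun l _ => hw l) (hu i))
    exact this (x := ⟨f, hf⟩) (by rw [b.span_eq]; exact Submodule.mem_top)
  have hM : ∀ t, t₀ ≤ t → L (t • D) ≤ M := by
    intro t ht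
    induction t, ht using Nat.le_induction with
    | base => exact hM0
    | succ t ht ih =>
      intro f hf
      obtain ⟨a, ha, b, hb, rfl⟩ := ht₀ t ht f hf
      change c * (a + x * b) ∈ chart k φ j
      rw [mul_add, ← mul_assoc, mul_comm c x, mul_assoc]
      exact add_mem (ih ha) (mul_mem hxA (ih hb))
  intro z hz
  rcases eq_or_ne z 0 with rfl | hz0
  · simp
  set t := t₀ + ∑ P ∈ (div k z).support, (div k z P).natAbs
  refine hM t (Nat.le_add_right _ _) fun Q => ?_
  rw [Finsupp.smul_apply, hF.poleDiv_apply, nsmul_eq_mul, val_le_exp_iff Q hz0]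
  by_cases hQ : IsMin φ Q j
  · have := (val_le_one_iff Q).mp (hz Q hQ)
    have : (0 : ℤ) ≤ (t : ℤ) * max (-Q.ord x) 0 := mul_nonneg (Int.natCast_nonneg _) (le_max_right _ _)
    omega
  · have h1 : Q.ord x < 0 := by
      by_contra hge
      exact hQ ((hx Q).mp ((val_le_one_iff Q).mpr (not_lt.mp hge)))
    have h2 : (Q.ord z).natAbs ≤ t := by
      by_cases hQz : Q ∈ (div k z).support
      · refine le_trans (le_of_eq (by rw [hF.div_apply])) (le_add_left
          (Finset.single_le_sum (f := fun P => (div k z P).natAbs) (fun _ _ => Nat.zero_le _) hQz))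
      · rw [Finsupp.notMem_support_iff, hF.div_apply] at hQz
        simp [hQz]
    have h3 : (t : ℤ) ≤ (t : ℤ) * max (-Q.ord x) 0 :=
      le_mul_of_one_le_right (Int.natCast_nonneg _) (le_max_of_le_left (by omega))
    have h4 : ((Q.ord z).natAbs : ℤ) ≤ (t : ℤ) := by exact_mod_cast h2
    omega

end Groth.Agent.FF30
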