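import Groth.Agent.FF30.Basic
import Groth.Agent.FF30.FF
import Mathlib.FieldTheory.PrimitiveElement
import Mathlib.RingTheory.Polynomial.IsIntegral
import Mathlib.LinearAlgebra.TensorProduct.Basis
import Mathlib.RingTheory.TensorProduct.Maps
import Mathlib.LinearAlgebra.Dual.Lemmas
import Mathlib.FieldTheory.Finite.Basic
import Mathlib.Algebra.Polynomial.Basis

/-! Algebraic extensions of the constants. -/

open FunFld
open scoped TensorProduct IntermediateField

namespace Groth.Agent.FF30

/-- `Kb` is the compositum of the field `K` and the algebraic constant extension `kb` of `k`, and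
`k` is algebraically closed in `K`. -/
structure IsCompositum (k K kb Kb : Type*) [Field k] [Field K] [Algebra k K] [Field kb]
    [Algebra k kb] [Field Kb] [Algebra K Kb] [Algebra kb Kb] [Algebra k Kb] [IsScalarTower k K Kb]
    [IsScalarTower k kb Kb] : Prop where
  closed : ∀ y : K, IsAlgebraic k y → y ∈ Set.range (algebraMap k K)
  gen : Algebra.adjoin K (Set.range (algebraMap kb Kb)) = ⊤

variable {k K kb Kb : Type*} [Field k] [PerfectField k] [Field K] [Algebra k K] [Field kb]
  [Algebra k kb] [Algebra.IsAlgebraic k kb] [Field Kb] [Algebra K Kb] [Algebra kb Kb] [Algebra k Kb]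
  [IsScalarTower k K Kb] [IsScalarTower k kb Kb]

namespace IsCompositum

omit [PerfectField k] in
theorem natDegree_minpoly (hC : IsCompositum k K kb Kb) (α : kb) :
    (minpoly K (algebraMap kb Kb α)).natDegree = (minpoly k α).natDegree := by
  have hα : IsIntegral k α := Algebra.IsIntegral.isIntegral α
  have hroot : Polynomial.aeval (algebraMap kb Kb α) ((minpoly k α).map (algebraMap k K)) = 0 := by
    rw [Polynomial.aeval_map_algebraMap, Polynomial.aeval_algebraMap_apply, minpoly.aeval, map_zero]
  have hint : IsIntegral K (algebraMap kb Kb α) :=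
    ⟨(minpoly k α).map (algebraMap k K), (minpoly.monic hα).map _, hroot⟩
  set g := minpoly K (algebraMap kb Kb α)
  have hdvd : g ∣ (minpoly k α).map (algebraMap k K) := minpoly.dvd _ _ hroot
  refine le_antisymm ?_ ?_
  · refine (Polynomial.natDegree_le_of_dvd hdvd ?_).trans (Polynomial.natDegree_map_le)
    exact ((minpoly.monic hα).map _).ne_zero
  · have hlift : g ∈ Polynomial.lifts (algebraMap k K) := by
      rw [Polynomial.lifts_iff_coeff_lifts]
      intro i
      exact hC.closed _
        (Polynomial.isIntegral_coeff_of_dvd _ _ (minpoly.monic hα) (minpoly.monic hint) hdvd i).isAlgebraic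
    obtain ⟨g₀, hg₀, hdeg, hmon⟩ :=
      Polynomial.lifts_and_natDegree_eq_and_monic hlift (minpoly.monic hint)
    rw [← hdeg]
    refine Polynomial.natDegree_le_natDegree (minpoly.min k α hmon ?_)
    apply (algebraMap kb Kb).injective
    rw [map_zero, ← Polynomial.aeval_algebraMap_apply, ← Polynomial.aeval_map_algebraMap K, hg₀]
    exact minpoly.aeval _ _

theorem linearIndependent_map (hC : IsCompositum k K kb Kb) {ι : Type*} {b : ι → kb}
    (hb : LinearIndependent k b) : LinearIndependent K fun i => algebraMap kb Kb (b i) := by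
  classical
  rw [linearIndependent_iff']
  intro s x hx
  set E := IntermediateField.adjoin k (b '' (↑s : Set ι))
  have : FiniteDimensional k E := IntermediateField.finiteDimensional_adjoin
    fun z _ => Algebra.IsIntegral.isIntegral z
  obtain ⟨α, hα⟩ := Field.exists_primitive_element k E
  have hint : IsIntegral k α := Algebra.IsIntegral.isIntegral α
  have hdeg : (minpoly k (α : kb)).natDegree = (minpoly k α).natDegree := by
    rw [minpoly.algebraMap_eq (B' := kb) (algebraMap E kb).injective α |>.symm]
    rfl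
  let pb : PowerBasis k k⟮α⟯ := IntermediateField.adjoin.powerBasis hint
  have hmem : ∀ i : s, ∃ m : Fin (minpoly k α).natDegree → k,
      b i = ∑ l, m l • (α : kb) ^ (l : ℕ) := by
    intro i
    have hiE : b i ∈ E := IntermediateField.subset_adjoin _ _ ⟨i.1, i.2, rfl⟩
    have hia : (⟨b i, hiE⟩ : E) ∈ k⟮α⟯ := by rw [hα]; exact IntermediateField.mem_top
    have h1 := pb.basis.sum_repr ⟨⟨b i, hiE⟩, hia⟩
    refine ⟨fun l => pb.basis.repr ⟨⟨b i, hiE⟩, hia⟩ l, ?_⟩
    have h2 := congrArg (fun z : k⟮α⟯ => ((z : E) : kb)) h1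
    simp only [PowerBasis.coe_basis] at h2
    push_cast at h2
    exact h2.symm
  choose m hm using hmem
  have hLI : LinearIndependent K
      fun l : Fin (minpoly k α).natDegree => algebraMap kb Kb (α : kb) ^ (l : ℕ) := by
    have := linearIndependent_pow (K := K) (algebraMap kb Kb (α : kb))
    rw [hC.natDegree_minpoly, hdeg] at this
    exact this
  have hzero : ∀ l, ∑ i : s, x i * algebraMap k K (m i l) = 0 := by
    refine fun l => Fintype.linearIndependent_iff.mp hLI (fun l => ∑ i : s, x i * algebraMap k K (m i l)) ?_ l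
    rw [← hx, ← Finset.sum_coe_sort s]
    simp only [hm, map_sum, Finset.sum_smul, Finset.smul_sum]
    rw [Finset.sum_comm]
    refine Finset.sum_congr rfl fun i _ => Finset.sum_congr rfl fun l _ => ?_
    rw [Algebra.smul_def (m i l), map_mul, ← IsScalarTower.algebraMap_apply,
      IsScalarTower.algebraMap_apply k K Kb, map_pow, Algebra.smul_def, Algebra.smul_def, map_mul,
      mul_assoc]
  intro i hi
  rw [← Module.forall_dual_apply_eq_zero_iff k]
  intro φ
  have h1 : ∑ i : s, φ (x i) • b i = 0 := by
    simp only [hm, Finset.smul_sum, smul_smul]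
    rw [Finset.sum_comm]
    refine Finset.sum_eq_zero fun l _ => ?_
    have h2 := congrArg φ (hzero l)
    simp only [map_sum, map_zero, ← Algebra.commutes, ← Algebra.smul_def, map_smul, smul_eq_mul,
      mul_comm (m _ l)] at h2
    rw [← Finset.sum_smul, h2, zero_smul]
  have hs : LinearIndependent k fun i : s => b i := hb.comp _ Subtype.coe_injective
  exact Fintype.linearIndependent_iff.mp hs _ h1 ⟨i, hi⟩

/-- The canonical map from the tensor product. -/
noncomputable def tensorMap (k K kb Kb : Type*) [Field k] [Field K] [Algebra k K] [Field kb]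
    [Algebra k kb] [Field Kb] [Algebra K Kb] [Algebra kb Kb] [Algebra k Kb] [IsScalarTower k K Kb]
    [IsScalarTower k kb Kb] : kb ⊗[k] K →ₐ[kb] Kb :=
  Algebra.TensorProduct.lift (Algebra.ofId kb Kb) (IsScalarTower.toAlgHom k K Kb)
    fun _ _ => Commute.all _ _

omit [PerfectField k] [Algebra.IsAlgebraic k kb] in
@[simp] theorem tensorMap_tmul (a : kb) (x : K) :
    tensorMap k K kb Kb (a ⊗ₜ x) = algebraMap kb Kb a * algebraMap K Kb x :=
  Algebra.TensorProduct.lift_tmul _ _ _ _ _

theorem tensorMap_bijective (hC : IsCompositum k K kb Kb) :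
    Function.Bijective (tensorMap k K kb Kb) := by
  constructor
  · rw [injective_iff_map_eq_zero]
    intro z hz
    let b := Module.Free.chooseBasis k kb
    obtain ⟨c, rfl⟩ := (TensorProduct.equivFinsuppOfBasisLeft (N := K) b).symm.surjective z
    rw [TensorProduct.equivFinsuppOfBasisLeft_symm_apply, Finsupp.sum] at hz ⊢
    rw [map_sum] at hz
    have h := linearIndependent_iff'.mp (hC.linearIndependent_map b.linearIndependent) c.support
      (fun i => c i) (by rw [← hz]; simp [Algebra.smul_def, mul_comm])
    exact Finset.sum_eq_zero fun i hi => by rw [h i hi, TensorProduct.tmul_zero]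
  · intro z
    have hz : z ∈ Algebra.adjoin K (Set.range (algebraMap kb Kb)) := hC.gen ▸ Algebra.mem_top
    induction hz using Algebra.adjoin_induction with
    | mem x hx => obtain ⟨a, rfl⟩ := hx; exact ⟨a ⊗ₜ 1, by simp⟩
    | algebraMap x => exact ⟨1 ⊗ₜ x, by simp⟩
    | add a b _ _ ha hb =>
      obtain ⟨p, rfl⟩ := ha; obtain ⟨q, rfl⟩ := hb; exact ⟨p + q, map_add _ _ _⟩
    | mul a b _ _ ha hb =>
      obtain ⟨p, rfl⟩ := ha; obtain ⟨q, rfl⟩ := hb; exact ⟨p * q, map_mul _ _ _⟩

/-- `kb ⊗ K ≅ Kb`. -/
noncomputable def equiv (hC : IsCompositum k K kb Kb) : kb ⊗[k] K ≃ₐ[kb] Kb :=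
  AlgEquiv.ofBijective _ hC.tensorMap_bijective

omit [PerfectField k] [Algebra.IsAlgebraic k kb] in
theorem algHom_ext (hC : IsCompositum k K kb Kb) {A : Type*} [Ring A] [Algebra kb A]
    {f g : Kb →ₐ[kb] A} (h : ∀ x : K, f (algebraMap K Kb x) = g (algebraMap K Kb x)) : f = g := by
  ext z
  have hz : z ∈ Algebra.adjoin K (Set.range (algebraMap kb Kb)) := hC.gen ▸ Algebra.mem_top
  induction hz using Algebra.adjoin_induction with
  | mem x hx => obtain ⟨a, rfl⟩ := hx; rw [f.commutes, g.commutes]
  | algebraMap x => exact h x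
  | add a b _ _ ha hb => rw [map_add, map_add, ha, hb]
  | mul a b _ _ ha hb => rw [map_mul, map_mul, ha, hb]

/-- Extend a `k`-endomorphism of `K` to a `kb`-endomorphism of `Kb`. -/
noncomputable def extendEnd (hC : IsCompositum k K kb Kb) (ψ : K →ₐ[k] K) : Kb →ₐ[kb] Kb :=
  ((tensorMap k K kb Kb).comp (Algebra.TensorProduct.map (AlgHom.id kb kb) ψ)).comp
    hC.equiv.symm.toAlgHom

@[simp] theorem extendEnd_apply (hC : IsCompositum k K kb Kb) (ψ : K →ₐ[k] K) (x : K) :
    hC.extendEnd ψ (algebraMap K Kb x) = algebraMap K Kb (ψ x) := by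
  have h1 : hC.equiv.symm (algebraMap K Kb x) = 1 ⊗ₜ x := by
    rw [AlgEquiv.symm_apply_eq]
    simp [equiv]
  simp [extendEnd, h1]

/-- Extend an automorphism of the constants. -/
noncomputable def extendConst (hC : IsCompositum k K kb Kb) (s : kb ≃ₐ[k] kb) : Kb ≃+* Kb :=
  hC.equiv.symm.toRingEquiv.trans
    ((Algebra.TensorProduct.congr (R := k) (S := k) s (AlgEquiv.refl : K ≃ₐ[k] K)).toRingEquiv.trans
      hC.equiv.toRingEquiv)

@[simp] theorem extendConst_apply (hC : IsCompositum k K kb Kb) (s : kb ≃ₐ[k] kb) (x : K) :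
    hC.extendConst s (algebraMap K Kb x) = algebraMap K Kb x := by
  have h1 : hC.equiv.symm (algebraMap K Kb x) = 1 ⊗ₜ x := by
    rw [AlgEquiv.symm_apply_eq]
    simp [equiv]
  change hC.equiv ((Algebra.TensorProduct.congr (R := k) (S := k) s (AlgEquiv.refl : K ≃ₐ[k] K))
    (hC.equiv.symm (algebraMap K Kb x))) = _
  rw [h1]
  simp [equiv]

@[simp] theorem extendConst_algebraMap (hC : IsCompositum k K kb Kb) (s : kb ≃ₐ[k] kb) (a : kb) :
    hC.extendConst s (algebraMap kb Kb a) = algebraMap kb Kb (s a) := by
  have h1 : hC.equiv.symm (algebraMap kb Kb a) = a ⊗ₜ 1 := by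
    rw [AlgEquiv.symm_apply_eq]
    simp [equiv]
  change hC.equiv ((Algebra.TensorProduct.congr (R := k) (S := k) s (AlgEquiv.refl : K ≃ₐ[k] K))
    (hC.equiv.symm (algebraMap kb Kb a))) = _
  rw [h1]
  simp [equiv]

/-- Linear independence is symmetric. -/
theorem linearIndependent_of_K (hC : IsCompositum k K kb Kb) {ι : Type*} {v : ι → K}
    (hv : LinearIndependent k v) : LinearIndependent kb fun i => algebraMap K Kb (v i) := by
  classical
  rw [linearIndependent_iff']
  intro s a ha i hi
  let b := Module.Free.chooseBasis k kb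
  set T := s.biUnion fun i => (b.repr (a i)).support
  have hrep : ∀ i ∈ s, a i = ∑ l ∈ T, b.repr (a i) l • b l := by
    intro i hi
    conv_lhs => rw [← b.linearCombination_repr (a i), Finsupp.linearCombination_apply]
    exact Finsupp.sum_of_support_subset _ (fun l hl => Finset.mem_biUnion.mpr ⟨i, hi, hl⟩) _ (by simp)
  have hsum : ∑ l ∈ T, (∑ i ∈ s, b.repr (a i) l • v i) • algebraMap kb Kb (b l) = 0 := by
    rw [← ha]
    simp only [Finset.sum_smul]
    rw [Finset.sum_comm]
    refine Finset.sum_congr rfl fun i hi => ?_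
    conv_rhs => rw [hrep i hi, Finset.sum_smul]
    refine Finset.sum_congr rfl fun l _ => ?_
    simp only [Algebra.smul_def, map_mul, ← IsScalarTower.algebraMap_apply]
    ring
  have hzero := linearIndependent_iff'.mp (hC.linearIndependent_map b.linearIndependent) T _ hsum
  have hcoord : ∀ l, b.repr (a i) l = 0 := by
    intro l
    by_cases hl : l ∈ T
    · exact linearIndependent_iff'.mp hv s (fun i => b.repr (a i) l) (hzero l hl) i hi
    · by_contra hne
      exact hl (Finset.mem_biUnion.mpr ⟨i, hi, Finsupp.mem_support_iff.mpr hne⟩)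
  exact b.repr.map_eq_zero_iff.mp (Finsupp.ext hcoord)

/-- Transcendental elements stay transcendental. -/
theorem transcendental (hC : IsCompositum k K kb Kb) {x : K} (hx : Transcendental k x) :
    Transcendental kb (algebraMap K Kb x) := by
  have h1 : LinearIndependent k fun n : ℕ => x ^ n := by
    have h := (Polynomial.basisMonomials k).linearIndependent.map' (Polynomial.aeval x).toLinearMap
      (LinearMap.ker_eq_bot.mpr (transcendental_iff_injective.mp hx))
    simpa [Function.comp_def, Polynomial.aeval_monomial] using h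
  have h2 := hC.linearIndependent_of_K h1
  simp only [map_pow] at h2
  rw [transcendental_iff]
  intro p hp
  rw [Polynomial.aeval_eq_sum_range] at hp
  refine Polynomial.ext fun n => ?_
  rw [Polynomial.coeff_zero]
  by_cases hn : n < p.natDegree + 1
  · exact linearIndependent_iff'.mp h2 _ (fun n => p.coeff n) hp n (Finset.mem_range.mpr hn)
  · exact Polynomial.coeff_eq_zero_of_natDegree_lt (by omega)

theorem ff (hC : IsCompositum k K kb Kb) (hK : FF k K) : FF kb Kb := by
  obtain ⟨x, hx, hfin⟩ := hK
  refine ⟨algebraMap K Kb x, hC.transcendental hx, ?_⟩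
  set x' := algebraMap K Kb x
  let v := Module.finBasis k⟮x⟯ K
  have hmap : ∀ c : K, c ∈ k⟮x⟯ → algebraMap K Kb c ∈ kb⟮x'⟯ := by
    have hle : k⟮x⟯.map (IsScalarTower.toAlgHom k K Kb) ≤ (kb⟮x'⟯).restrictScalars k := by
      rw [IntermediateField.adjoin_map, IntermediateField.adjoin_le_iff, Set.image_singleton,
        Set.singleton_subset_iff]
      exact IntermediateField.mem_adjoin_simple_self kb x'
    exact fun c hc => hle ⟨c, hc, rfl⟩
  set W := Submodule.span kb⟮x'⟯ (Set.range fun i => algebraMap K Kb (v i))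
  suffices hW : W = ⊤ from Module.finite_def.mpr (hW ▸ Submodule.fg_span (Set.finite_range _))
  refine Submodule.eq_top_iff'.mpr fun z => ?_
  obtain ⟨w, rfl⟩ := hC.tensorMap_bijective.2 z
  induction w using TensorProduct.induction_on with
  | zero => simp
  | tmul a y =>
    rw [tensorMap_tmul, ← v.sum_repr y, map_sum, Finset.mul_sum]
    refine sum_mem fun i _ => ?_
    have : algebraMap kb Kb a * algebraMap K Kb (v.repr y i • v i) =
        ((⟨algebraMap kb Kb a, algebraMap_mem _ a⟩ : kb⟮x'⟯) *
          ⟨_, hmap _ (v.repr y i).2⟩) • algebraMap K Kb (v i) := by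
      change algebraMap kb Kb a * algebraMap K Kb ((v.repr y i : K) * v i) =
        (algebraMap kb Kb a * algebraMap K Kb (v.repr y i : K)) * algebraMap K Kb (v i)
      rw [map_mul, mul_assoc]
    rw [this]
    exact Submodule.smul_mem _ _ (Submodule.subset_span ⟨i, rfl⟩)
  | add p q hp hq => rw [map_add]; exact add_mem hp hq

end IsCompositum

end Groth.Agent.FF30
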