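import Groth.Agent.FF30.ConstTower
import Groth.Agent.FF30.SubField
import Groth.Agent.Exp31.Separating
import Mathlib.RingTheory.Trace.Basic
import Mathlib.FieldTheory.IsAlgClosed.AlgebraicClosure
import Mathlib.RingTheory.Polynomial.ScaleRoots

/-! Only finitely many places are singular. -/

open FunFld WithZero Polynomial IntermediateField
open scoped Pointwise TensorProduct

namespace Groth.Agent.FF30

universe u v w

variable {k k' : Type u} {K : Type v} {K' : Type w} [Field k] [Field k'] [Field K] [Field K']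
  [Algebra k k'] [Algebra k K] [Algebra K K'] [Algebra k' K'] [Algebra k K']
  [IsScalarTower k k' K'] [IsScalarTower k K K']
  {ι : Type*} [Fintype ι]

theorem exists_coprime_fraction {k : Type*} [Field k] (u d : k[X]) (hd : d ≠ 0) :
    ∃ u' d' : k[X], IsCoprime u' d' ∧ u * d' = u' * d ∧ d' ≠ 0 := by
  obtain ⟨u', d', c, hrel, hu, hd'⟩ := UniqueFactorizationMonoid.exists_reduced_factors' u d hd
  exact ⟨u', d', hrel.isCoprime, by rw [← hu, ← hd']; ring, fun e => hd (by rw [← hd', e, mul_zero])⟩

theorem mul_lt_one_aux {a b : WithZero (Multiplicative ℤ)} (ha : a ≤ 1) (hb : b < 1) : a * b < 1 :=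
  (mul_le_of_le_one_left' ha).trans_lt hb

/-- The rational function field is nonsingular at the places where `x` is finite. -/
theorem rational_coord_le_one [FiniteDimensional k k'] {x : K} (hx : Transcendental k x)
    (P₀ : Place k k⟮x⟯) (hx1 : P₀.1 ⟨x, IntermediateField.mem_adjoin_simple_self k x⟩ ≤ 1)
    (b : Module.Basis ι k k') (bK : Module.Basis ι K K') (hbK : ∀ i, bK i = algebraMap k' K' (b i))
    [Algebra P₀.O K'] (hmap : ∀ a : P₀.O, algebraMap P₀.O K' a = algebraMap K K' ((a : k⟮x⟯) : K))
    (r : ι → k⟮x⟯) (hr : IsIntegral P₀.O (∑ i, (r i : K) • bK i)) (i : ι) : P₀.1 (r i) ≤ 1 := by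
  classical
  set W := ∑ i, (r i : K) • bK i with hW
  let g : k⟮x⟯ := IntermediateField.AdjoinSimple.gen k x
  have hgK : ((g : k⟮x⟯) : K) = x := IntermediateField.AdjoinSimple.coe_gen k x
  have hg1 : P₀.1 g ≤ 1 := hx1
  -- the polynomial ring over `k'`
  have hx' : Transcendental k' (algebraMap K K' x) := fun ha =>
    hx ((isAlgebraic_algebraMap_iff (algebraMap K K').injective).mp (ha.restrictScalars k))
  let φ : k'[X] →ₐ[k'] K' := Polynomial.aeval (algebraMap K K' x)
  have hφ : Function.Injective φ := transcendental_iff_injective.1 hx'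
  let ψ : FractionRing k'[X] →ₐ[k'] K' := IsFractionRing.liftAlgHom hφ
  -- `W` is a fraction
  have hfield : ∀ c : k⟮x⟯, algebraMap K K' (c : K) ∈ ψ.fieldRange := by
    intro c
    have hle : k⟮x⟯ ≤ (ψ.fieldRange.restrictScalars k).comap (IsScalarTower.toAlgHom k K K') := by
      rw [IntermediateField.adjoin_simple_le_iff]
      refine ⟨algebraMap k'[X] _ X, ?_⟩
      change ψ (algebraMap k'[X] (FractionRing k'[X]) X) = algebraMap K K' x
      rw [IsFractionRing.liftAlgHom_apply, IsFractionRing.lift_algebraMap]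
      exact aeval_X _
    exact hle c.2
  have hWmem : W ∈ ψ.fieldRange := by
    refine sum_mem fun i _ => ?_
    rw [Algebra.smul_def, hbK]
    exact mul_mem (hfield _) (ψ.fieldRange.algebraMap_mem _)
  -- clear the denominators of an equation
  obtain ⟨p, hp, hpW⟩ := hr
  have hfrac : ∀ l, ∃ u d : k[X], P₀.1 (aeval g d) = 1 ∧
      ((p.coeff l : P₀.O) : k⟮x⟯) * aeval g d = aeval g u := by
    intro l
    obtain ⟨u, d, hud⟩ := IntermediateField.mem_adjoin_simple_iff k _ |>.1 ((p.coeff l : P₀.O) : k⟮x⟯).2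
    rcases eq_or_ne ((p.coeff l : P₀.O) : k⟮x⟯) 0 with h0 | h0
    · exact ⟨0, 1, by simp, by simp [h0]⟩
    -- reduce by the greatest common divisor
    have hd0 : d ≠ 0 := by
      rintro rfl
      exact h0 (Subtype.ext (by rw [hud]; simp))
    obtain ⟨u', d', hcop, hu, hd⟩ := exists_coprime_fraction u d hd0
    have hd'0 : aeval x d' ≠ 0 := fun e => hd (transcendental_iff.1 hx d' e)
    have hev : ∀ q : k[X], ((aeval g q : k⟮x⟯) : K) = aeval x q := fun q =>
      (aeval_algHom_apply k⟮x⟯.val g q).symm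
    have heq : ((p.coeff l : P₀.O) : k⟮x⟯) * aeval g d' = aeval g u' := by
      refine Subtype.ext ?_
      change ((((p.coeff l : P₀.O) : k⟮x⟯)) : K) * ((aeval g d' : k⟮x⟯) : K) = ((aeval g u' : k⟮x⟯) : K)
      rw [hev, hev, hud, div_mul_eq_mul_div, div_eq_iff (fun e => hd0 (transcendental_iff.1 hx d e)),
        ← map_mul, ← map_mul, hu]
    refine ⟨u', d', ?_, heq⟩
    refine le_antisymm (val_aeval_le_one P₀.1 P₀.2.1 hg1 d') (not_lt.1 fun hlt => ?_)
    have hu1 : P₀.1 (aeval g u') < 1 := by
      rw [← heq, map_mul]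
      exact mul_lt_one_aux (p.coeff l).2 hlt
    obtain ⟨a, c, hac⟩ := hcop
    have h1 := congrArg (fun q => P₀.1 (aeval g q)) hac
    simp only [map_add, map_mul, map_one] at h1
    exact absurd h1 (ne_of_lt ((P₀.1.map_add _ _).trans_lt (max_lt
      (by rw [map_mul]; exact mul_lt_one_aux (val_aeval_le_one P₀.1 P₀.2.1 hg1 a) hu1)
      (by rw [map_mul]; exact mul_lt_one_aux (val_aeval_le_one P₀.1 P₀.2.1 hg1 c) hlt))))
  choose u d hd hud using hfrac
  set hh : k[X] := ∏ l ∈ p.support, d l
  set H := aeval g hh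
  have hH : P₀.1 H = 1 := by
    simp only [H, hh, map_prod]
    exact Finset.prod_eq_one fun l _ => hd l
  let Hs : P₀.O := ⟨H, hH.le⟩
  have hroot : eval₂ (algebraMap P₀.O K') (algebraMap P₀.O K' Hs * W) (p.scaleRoots Hs) = 0 :=
    scaleRoots_eval₂_eq_zero _ hpW
  let _ : Algebra k'[X] K' := φ.toRingHom.toAlgebra
  have : IsScalarTower k' k'[X] K' := IsScalarTower.of_algebraMap_eq fun c => (φ.commutes c).symm
  let θ : FractionRing k'[X] →ₐ[k'[X]] K' :=
    { toRingHom := ψ.toRingHom
      commutes' := fun q => by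
        change ψ (algebraMap k'[X] (FractionRing k'[X]) q) = φ q
        rw [IsFractionRing.liftAlgHom_apply, IsFractionRing.lift_algebraMap]
        rfl }
  -- the scaled equation has polynomial coefficients
  have hint : IsIntegral k'[X] (algebraMap P₀.O K' Hs * W) := by
    have hlift : (p.scaleRoots Hs).map (algebraMap P₀.O K') ∈ Polynomial.lifts (algebraMap k'[X] K') := by
      rw [Polynomial.lifts_iff_coeff_lifts]
      intro l
      rw [coeff_map, coeff_scaleRoots]
      rcases eq_or_ne (p.coeff l) 0 with h0 | h0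
      · exact ⟨0, by simp [h0]⟩
      rcases Nat.eq_or_lt_of_le (le_natDegree_of_ne_zero h0) with hl | hl
      · subst hl
        exact ⟨1, by rw [hp.coeff_natDegree, Nat.sub_self, pow_zero, one_mul, map_one, map_one]⟩
      obtain ⟨q, hq⟩ : d l ∣ hh := Finset.dvd_prod_of_mem d (mem_support_iff.2 h0)
      refine ⟨(u l * q * hh ^ (p.natDegree - l - 1)).map (algebraMap k k'), ?_⟩
      change φ _ = _
      rw [hmap]
      have hval : (((p.coeff l * Hs ^ (p.natDegree - l) : P₀.O)) : k⟮x⟯) =
          aeval g (u l * q * hh ^ (p.natDegree - l - 1)) := by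
        rw [map_mul, map_mul, map_pow, ← hud, show p.natDegree - l = (p.natDegree - l - 1) + 1 by omega,
          pow_succ]
        change ((p.coeff l : P₀.O) : k⟮x⟯) * (H ^ (p.natDegree - l - 1) * H) = _
        rw [show p.natDegree - l - 1 + 1 - 1 = p.natDegree - l - 1 by omega,
          show aeval g hh = H from rfl, show H = aeval g (d l) * aeval g q by rw [← map_mul, ← hq]]
        ring
      rw [hval]
      change aeval (algebraMap K K' x) _ = _
      rw [aeval_map_algebraMap]
      exact aeval_algHom_apply ((IsScalarTower.toAlgHom k K K').comp k⟮x⟯.val) g _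
    obtain ⟨q, hq, -, hqm⟩ :=
      Polynomial.lifts_and_degree_eq_and_monic hlift (((monic_scaleRoots_iff Hs).2 hp).map _)
    exact ⟨q, hqm, by rw [← eval_map, hq, eval_map]; exact hroot⟩
  -- normality of the polynomial ring
  obtain ⟨w, hw⟩ : algebraMap P₀.O K' Hs * W ∈ ψ.fieldRange := by
    refine mul_mem ?_ hWmem
    rw [hmap]; exact hfield _
  have hw' : θ w = algebraMap P₀.O K' Hs * W := hw
  rw [← hw', isIntegral_algHom_iff θ θ.injective, IsIntegrallyClosed.isIntegral_iff] at hint
  obtain ⟨G, rfl⟩ := hint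
  rw [θ.commutes] at hw'
  -- compare coordinates
  have hco : ∀ q : k'[X], ∀ j, ∃ qj : k[X], bK.repr (φ q) j = aeval x qj := by
    intro q j
    induction q using Polynomial.induction_on' with
    | add a c ha hc =>
      obtain ⟨qa, ha⟩ := ha; obtain ⟨qc, hc⟩ := hc
      exact ⟨qa + qc, by rw [map_add, map_add, Finsupp.add_apply, ha, hc, map_add]⟩
    | monomial n c =>
      refine ⟨Polynomial.monomial n (b.repr c j), ?_⟩
      have h1 : φ (Polynomial.monomial n c) = ∑ i, (algebraMap k K (b.repr c i) * x ^ n) • bK i := by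
        rw [aeval_monomial]
        conv_lhs => rw [← b.sum_repr c, map_sum, Finset.sum_mul]
        refine Finset.sum_congr rfl fun i _ => ?_
        rw [hbK, Algebra.smul_def, Algebra.smul_def, map_mul, map_mul, map_pow,
          ← IsScalarTower.algebraMap_apply k k' K', ← IsScalarTower.algebraMap_apply k K K']
        ring
      rw [h1, bK.repr_sum_self, aeval_monomial]
  obtain ⟨Gi, hGi⟩ := hco G i
  have h3 : bK.repr (algebraMap P₀.O K' Hs * W) i = ((H : k⟮x⟯) : K) * (r i : K) := by
    rw [hmap, ← Algebra.smul_def, map_smul, Finsupp.smul_apply, smul_eq_mul, hW, bK.repr_sum_self]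
  have h4 : H * r i = aeval g Gi := by
    refine Subtype.ext ?_
    change ((H : k⟮x⟯) : K) * (r i : K) = ((aeval g Gi : k⟮x⟯) : K)
    rw [← h3, ← hw', show ((aeval g Gi : k⟮x⟯) : K) = aeval x Gi from
      (aeval_algHom_apply k⟮x⟯.val g Gi).symm]
    exact hGi
  have h5 : P₀.1 (H * r i) ≤ 1 := h4 ▸ val_aeval_le_one P₀.1 P₀.2.1 hg1 Gi
  rwa [map_mul, hH, one_mul] at h5

/-- The places at which no finite constant extension is singular, up to finitely many. -/
theorem exists_finite_singular {k : Type u} {K : Type v} [Field k] [Field K] [Algebra k K]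
    (hK : IsFunctionField k K) (hg : IsGeometric k K) :
    ∃ S : Set (Place k K), S.Finite ∧ ∀ P ∉ S, ∀ (k' : Type u) (K' : Type (max u v)) [Field k'] [Field K']
      [Algebra k k'] [FiniteDimensional k k'] [Algebra K K'] [Algebra k' K'] [Algebra k K']
      [IsScalarTower k k' K'] [IsScalarTower k K K'],
      Function.Bijective (Algebra.TensorProduct.productMap
        (IsScalarTower.toAlgHom k k' K') (IsScalarTower.toAlgHom k K K')) →
      ConstNormal P (Set.range (algebraMap k' K')) := by
  classical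
  obtain ⟨x, hx, hfin, hsep⟩ := Exp31.exists_separating hK hg
  have := hfin
  have := hsep
  set L := k⟮x⟯
  have hF : FF k K := hK.1
  obtain ⟨y, hy⟩ := Field.exists_primitive_element L K
  have hyi : IsIntegral L y := Algebra.IsIntegral.isIntegral y
  have hytop : Algebra.adjoin L ({y} : Set K) = ⊤ := by
    rw [← IntermediateField.adjoin_simple_toSubalgebra_of_isAlgebraic hyi.isAlgebraic, hy,
      IntermediateField.top_toSubalgebra]
  set f := minpoly L y with hf
  have hD0 : aeval y (derivative f) ≠ 0 :=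
    (Algebra.IsSeparable.isSeparable L y).aeval_derivative_ne_zero (minpoly.aeval L y)
  refine ⟨{P | 1 < P.1 x} ∪ {P | P.ord (aeval y (derivative f)) ≠ 0} ∪
    ⋃ l ∈ Finset.range (f.natDegree + 1), {P | 1 < P.1 (f.coeff l : K)}, ?_, ?_⟩
  · have hfin : ∀ c : K, {P : Place k K | 1 < P.1 c}.Finite := fun c =>
      (hF.finite_support_ord c).subset fun P hP => by
        have := (one_lt_val_iff P).mp hP
        simp only [Function.mem_support]
        omega
    exact ((hfin x).union (hF.finite_support_ord _)).union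
      (Set.Finite.biUnion (Finset.finite_toSet _) fun l _ => hfin _)
  intro P hP k' K' _ _ _ _ _ _ _ _ _ hbij
  simp only [Set.mem_union, not_or, Set.mem_setOf_eq, Set.mem_iUnion, not_exists, not_lt, not_not] at hP
  obtain ⟨⟨hxP, hDP⟩, hcoef⟩ := hP
  have := finiteDimensional_const hbij
  -- the place below
  obtain ⟨hFL, hfd⟩ := hF.intermediateField L (IntermediateField.mem_adjoin_simple_self k x) hx
  obtain ⟨P₀, e, he0, he⟩ := hFL.exists_isOverWith P
  have hx1 : P₀.1 ⟨x, IntermediateField.mem_adjoin_simple_self k x⟩ ≤ 1 :=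
    (isOverWith_le_one_iff he _).1 hxP
  have hf1 : ∀ l, P₀.1 (f.coeff l) ≤ 1 := fun l => by
    refine (isOverWith_le_one_iff he _).1 ?_
    by_cases hl : l ∈ Finset.range (f.natDegree + 1)
    · exact hcoef l hl
    · rw [coeff_eq_zero_of_natDegree_lt (by simpa using hl)]
      simp
  have : IsScalarTower k L K := inferInstance
  have : IsScalarTower L K K' := inferInstance
  have : IsScalarTower k L K' := IsScalarTower.of_algebraMap_eq fun c =>
    IsScalarTower.algebraMap_apply k K K' c
  have : FiniteDimensional L K' := Module.Finite.trans K K'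
  let _ : Algebra P₀.O K := ((algebraMap L K).comp P₀.O.subtype).toAlgebra
  have : IsScalarTower P₀.O L K := IsScalarTower.of_algebraMap_eq fun _ => rfl
  let _ : Algebra P₀.O K' := ((algebraMap L K').comp P₀.O.subtype).toAlgebra
  have : IsScalarTower P₀.O L K' := IsScalarTower.of_algebraMap_eq fun _ => rfl
  have : IsScalarTower P₀.O K K' := IsScalarTower.of_algebraMap_eq fun _ => rfl
  let _ : Algebra P.O K' := ((algebraMap K K').comp P.O.subtype).toAlgebra
  have : IsScalarTower P.O K K' := IsScalarTower.of_algebraMap_eq fun _ => rfl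
  have hk' : ∀ c : k', IsIntegral k (algebraMap k' K' c) := fun c =>
    (Algebra.IsIntegral.isIntegral c).map (IsScalarTower.toAlgHom k k' K')
  refine (constNormal_iff P _ ?_).2 fun z hz => ?_
  · rintro _ ⟨c, rfl⟩
    exact (hF.isIntegral_iff P _).2 fun Q _ => val_le_one_of_isIntegral Q (hk' c)
  obtain ⟨bK, hbK⟩ := exists_constBasis hbij (Module.finBasis k k')
  refine (mem_adjoin_const_iff P _ bK hbK z).2 fun i => ?_
  -- localise at `P`
  set T := (hFL.finite_setOf_isOver (K' := K) P₀).toFinset
  have memT : ∀ R, R ∈ T ↔ IsOver R P₀ := fun R => (hFL.finite_setOf_isOver P₀).mem_toFinset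
  set T' := (hFL.finite_setOf_isOver (K' := K') P₀).toFinset
  have memT' : ∀ R, R ∈ T' ↔ IsOver R P₀ := fun R => (hFL.finite_setOf_isOver P₀).mem_toFinset
  set N := ∑ R ∈ T', (R.ord z).natAbs + 1 with hN
  obtain ⟨s, hsP, hsR⟩ := exists_delta P (T.erase P) (T.notMem_erase P) N
  have hs1 : P.1 s = 1 := by
    have hlt : P.1 (s - 1) < P.1 1 := by
      rw [map_one]
      refine hsP.trans_lt ?_
      rw [← exp_zero, exp_lt_exp]
      omega
    have h3 := P.1.map_add_eq_of_lt_left hlt
    rwa [add_sub_cancel, map_one] at h3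
  set w := s • z with hw
  have hwint : IsIntegral P₀.O w := by
    refine (hFL.isIntegral_iff P₀ _).2 fun R hR => ?_
    obtain ⟨R', d, hd0, hRR'⟩ := hF.exists_isOverWith R
    obtain ⟨P', d', -, hR'P⟩ := hFL.exists_isOverWith R'
    have hPP : P' = P₀ := by
      refine eq_of_val_le_one_imp fun a ha => ?_
      rw [← isOverWith_le_one_iff hR'P, ← isOverWith_le_one_iff hRR',
        ← IsScalarTower.algebraMap_apply L K K'] at ha
      exact (isOverWith_le_one_iff (isOverWith_ramIdx hR) a).1 ha
    subst hPP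
    rw [hw, Algebra.smul_def, map_mul, hRR' s]
    by_cases hR'P' : R' = P
    · subst hR'P'
      rw [hs1, one_pow, one_mul]
      exact (hF.isIntegral_iff R' z).1 hz R ⟨d, hRR'⟩
    · have hmem : R' ∈ T.erase P := Finset.mem_erase.2 ⟨hR'P', (memT R').2 ⟨d', hR'P⟩⟩
      rcases eq_or_ne z 0 with rfl | hz0
      · simp
      rw [val_eq R hz0]
      refine (mul_le_mul' (pow_le_pow_left' (hsR R' hmem) d) le_rfl).trans ?_
      rw [← exp_nsmul, ← exp_add, ← exp_zero, exp_le_exp, nsmul_eq_mul]
      have h1 : (R.ord z).natAbs ≤ ∑ R ∈ T', (R.ord z).natAbs :=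
        Finset.single_le_sum (f := fun R : Place k K' => (R.ord z).natAbs) (fun _ _ => Nat.zero_le _)
          ((memT' R).2 hR)
      have h2 : (1 : ℤ) ≤ d := by exact_mod_cast hd0
      have h3 : ((R.ord z).natAbs : ℤ) + 1 ≤ (N : ℤ) := by omega
      nlinarith [neg_abs_le (R.ord z), Int.natCast_natAbs (R.ord z)]
  -- traces of the coordinates
  have hyint : IsIntegral P₀.O y := by
    obtain ⟨g, hg, -, hgm⟩ := lifts_and_degree_eq_and_monic
      (show f ∈ lifts (algebraMap P₀.O L) from
        (lifts_iff_coeff_lifts f).2 fun l => ⟨⟨_, hf1 l⟩, rfl⟩) (minpoly.monic hyi)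
    refine ⟨g, hgm, ?_⟩
    change aeval y g = 0
    rw [← aeval_map_algebraMap L, hg]
    exact minpoly.aeval L y
  have htr : ∀ a ∈ Algebra.adjoin P₀.O ({y} : Set K),
      P₀.1 (Algebra.trace L K (bK.repr w i * a)) ≤ 1 := by
    intro a ha
    have haint : IsIntegral P₀.O a := adjoin_le_integralClosure hyint ha
    refine rational_coord_le_one hx P₀ hx1 _ bK hbK (fun _ => rfl)
      (fun j => Algebra.trace L K (bK.repr w j * a)) ?_ i
    set v := algebraMap K K' a * w with hv
    have hvint : IsIntegral P₀.O v := (haint.map (IsScalarTower.toAlgHom P₀.O K K')).mul hwint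
    let Ω := AlgebraicClosure K'
    let Φ : K' →ₐ[P₀.O] Ω := IsScalarTower.toAlgHom P₀.O K' Ω
    rw [← isIntegral_algHom_iff Φ (algebraMap K' Ω).injective]
    have hsum : Φ (∑ j, ((Algebra.trace L K (bK.repr w j * a) : L) : K) • bK j) =
        ∑ σ : K →ₐ[L] Ω, ∑ j, σ (bK.repr w j * a) * algebraMap K' Ω (bK j) := by
      rw [Finset.sum_comm, map_sum]
      refine Finset.sum_congr rfl fun j _ => ?_
      rw [← Finset.sum_mul, ← trace_eq_sum_embeddings Ω, Algebra.smul_def]
      change algebraMap K' Ω _ = _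
      rw [map_mul]
      rfl
    rw [hsum]
    refine IsIntegral.sum _ fun σ _ => ?_
    let ιk' : k' →ₐ[k] Ω := (IsScalarTower.toAlgHom k K' Ω).comp (IsScalarTower.toAlgHom k k' K')
    let e := AlgEquiv.ofBijective _ hbij
    let σ' : K' →ₐ[k] Ω :=
      (Algebra.TensorProduct.productMap ιk' (σ.restrictScalars k)).comp e.symm.toAlgHom
    have hσ'K : ∀ c : K, σ' (algebraMap K K' c) = σ c := fun c => by
      have h1 : e ((1 : k') ⊗ₜ[k] c) = algebraMap K K' c := by simp [e]
      change Algebra.TensorProduct.productMap ιk' (σ.restrictScalars k) (e.symm (algebraMap K K' c)) = σ c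
      rw [← h1, e.symm_apply_apply]
      simp
    have hσ'k : ∀ c : k', σ' (algebraMap k' K' c) = algebraMap K' Ω (algebraMap k' K' c) := fun c => by
      have h1 : e (c ⊗ₜ[k] (1 : K)) = algebraMap k' K' c := by simp [e]
      change Algebra.TensorProduct.productMap ιk' (σ.restrictScalars k) (e.symm (algebraMap k' K' c)) = _
      rw [← h1, e.symm_apply_apply, Algebra.TensorProduct.productMap_apply_tmul, map_one, mul_one, h1]
      rfl
    let σ'' : K' →ₐ[P₀.O] Ω :=
      { toRingHom := σ'.toRingHom
        commutes' := fun c => by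
          change σ' (algebraMap K K' ((c : L) : K)) = _
          rw [hσ'K]
          exact σ.commutes (c : L) }
    have h2 : ∑ j, σ (bK.repr w j * a) * algebraMap K' Ω (bK j) = σ'' v := by
      change _ = σ' (algebraMap K K' a * w)
      conv_rhs => rw [← bK.sum_repr w, Finset.mul_sum, map_sum]
      refine Finset.sum_congr rfl fun j _ => ?_
      rw [Algebra.smul_def, map_mul σ', map_mul σ', hbK, hσ'K, hσ'K, hσ'k, map_mul σ]
      ring
    rw [h2]
    exact hvint.map σ''
  -- the dual module
  have hd := traceForm_dualSubmodule_adjoin P₀.O L hytop hyint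
  have hmem : bK.repr w i ∈ (Algebra.traceForm L K).dualSubmodule
      (Subalgebra.toSubmodule (Algebra.adjoin P₀.O ({y} : Set K))) := by
    intro a ha
    rw [Submodule.mem_one]
    exact ⟨⟨_, htr a ha⟩, rfl⟩
  rw [hd] at hmem
  obtain ⟨q, hq, hqc⟩ := (Submodule.mem_smul_pointwise_iff_exists _ _ _).mp hmem
  have hqint : IsIntegral P₀.O q := adjoin_le_integralClosure hyint hq
  have hq1 : P.1 q ≤ 1 := (hFL.isIntegral_iff P₀ q).1 hqint P ⟨e, he⟩
  have hc : P.1 (bK.repr w i) ≤ 1 := by
    rw [← hqc, smul_eq_mul, map_mul, map_inv₀, (val_eq_one_iff P hD0).2 hDP, inv_one, one_mul]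
    exact hq1
  rw [hw, map_smul, Finsupp.smul_apply, smul_eq_mul, map_mul, hs1, one_mul] at hc
  exact hc

theorem finite_singular_places {k : Type u} {K : Type v} [Field k] [Field K] [Algebra k K]
    (hK : IsFunctionField k K) (hg : IsGeometric k K) :
    {P : Place k K | ∃ (k' : Type u) (_ : Field k') (_ : Algebra k k'), FiniteDimensional k k' ∧
      integralClosure (P.O.toSubring.map (Algebra.TensorProduct.includeRight : K →ₐ[k] k' ⊗[k] K).toRingHom) (k' ⊗[k] K) ≠
        Algebra.adjoin (P.O.toSubring.map (Algebra.TensorProduct.includeRight : K →ₐ[k] k' ⊗[k] K).toRingHom)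
          (Set.range (Algebra.TensorProduct.includeLeftRingHom : k' →+* k' ⊗[k] K))}.Finite := by
  obtain ⟨S, hS, hgood⟩ := exists_finite_singular hK hg
  refine hS.subset fun P hP => by_contra fun hPS => ?_
  obtain ⟨k', _, _, hfd, hne⟩ := hP
  let _ : Field (k' ⊗[k] K) := (hg k' hfd).toField
  let _ : Algebra K (k' ⊗[k] K) :=
    (Algebra.TensorProduct.includeRight : K →ₐ[k] k' ⊗[k] K).toRingHom.toAlgebra
  have : IsScalarTower k K (k' ⊗[k] K) := IsScalarTower.of_algebraMap_eq fun c =>
    ((Algebra.TensorProduct.includeRight : K →ₐ[k] k' ⊗[k] K).commutes c).symm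
  have hb : Function.Bijective (Algebra.TensorProduct.productMap
      (IsScalarTower.toAlgHom k k' (k' ⊗[k] K)) (IsScalarTower.toAlgHom k K (k' ⊗[k] K))) := by
    have : Algebra.TensorProduct.productMap
        (IsScalarTower.toAlgHom k k' (k' ⊗[k] K)) (IsScalarTower.toAlgHom k K (k' ⊗[k] K)) =
        AlgHom.id k (k' ⊗[k] K) := Algebra.TensorProduct.ext' fun a c => by
      rw [Algebra.TensorProduct.productMap_apply_tmul]
      change (a ⊗ₜ[k] (1 : K)) * ((1 : k') ⊗ₜ[k] c) = a ⊗ₜ[k] c
      simp
    rw [this]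
    exact Function.bijective_id
  exact hne (hgood P hPS k' (k' ⊗[k] K) hb)

end Groth.Agent.FF30
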