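import Groth.Agent.FF30.IntClosure
import Groth.Agent.FF30.Ramif
import Mathlib.RingTheory.TensorProduct.Free
import Mathlib.RingTheory.Unramified.Field
import Mathlib.RingTheory.Unramified.Basic
import Mathlib.FieldTheory.PrimitiveElement

/-! Local rings under a finite extension of the constants: `O_P[k']` and its normality. -/

open FunFld WithZero
open scoped TensorProduct

namespace Groth.Agent.FF30

universe u v w

variable {k k' : Type u} {K : Type v} {K' : Type w} [Field k] [Field k'] [Field K] [Field K']
  [Algebra k k'] [Algebra k K] [Algebra K K'] [Algebra k' K'] [Algebra k K']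
  [IsScalarTower k k' K'] [IsScalarTower k K K']
  {ι : Type*} [Fintype ι]

theorem exists_constBasis (h : Function.Bijective (Algebra.TensorProduct.productMap
    (IsScalarTower.toAlgHom k k' K') (IsScalarTower.toAlgHom k K K'))) (b : Module.Basis ι k k') :
    ∃ bK : Module.Basis ι K K', ∀ i, bK i = algebraMap k' K' (b i) := by
  let pm := Algebra.TensorProduct.productMap (IsScalarTower.toAlgHom k k' K') (IsScalarTower.toAlgHom k K K')
  let e₀ : K ⊗[k] k' ≃ₐ[k] K' := (Algebra.TensorProduct.comm k K k').trans (AlgEquiv.ofBijective pm h)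
  let e : K ⊗[k] k' ≃ₐ[K] K' := AlgEquiv.ofRingEquiv (f := e₀.toRingEquiv) fun a => by
    change pm (Algebra.TensorProduct.comm k K k' (a ⊗ₜ[k] (1 : k'))) = algebraMap K K' a
    simp [pm]
  refine ⟨(Algebra.TensorProduct.basis K b).map e.toLinearEquiv, fun i => ?_⟩
  rw [Module.Basis.map_apply, Algebra.TensorProduct.basis_apply]
  change pm (Algebra.TensorProduct.comm k K k' ((1 : K) ⊗ₜ[k] b i)) = _
  simp [pm]

theorem finiteDimensional_const [FiniteDimensional k k'] (h : Function.Bijective (Algebra.TensorProduct.productMap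
    (IsScalarTower.toAlgHom k k' K') (IsScalarTower.toAlgHom k K K'))) : FiniteDimensional K K' := by
  obtain ⟨bK, -⟩ := exists_constBasis h (Module.finBasis k k')
  exact Module.Finite.of_basis bK

theorem algebraMap_O' (P : Place k K) [Algebra P.O K'] [IsScalarTower P.O K K'] (a : P.O) :
    algebraMap P.O K' a = algebraMap K K' (a : K) :=
  IsScalarTower.algebraMap_apply P.O K K' a

theorem coe_smul_O (P : Place k K) [Algebra P.O K'] [IsScalarTower P.O K K'] (a : P.O) (x : K') :
    (a : K) • x = a • x := by
  rw [Algebra.smul_def, Algebra.smul_def, algebraMap_O']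

theorem isScalarTower_O (P : Place k K) [Algebra P.O K'] [IsScalarTower P.O K K'] :
    IsScalarTower k P.O K' := IsScalarTower.of_algebraMap_eq fun c => by
  rw [algebraMap_O', IsScalarTower.algebraMap_apply k K K']
  rfl

/-- The coordinates of the elements of `O_P[k']`. -/
theorem mem_adjoin_const_iff (P : Place k K) [Algebra P.O K'] [IsScalarTower P.O K K']
    (b : Module.Basis ι k k') (bK : Module.Basis ι K K') (hbK : ∀ i, bK i = algebraMap k' K' (b i))
    (z : K') : z ∈ Algebra.adjoin P.O (Set.range (algebraMap k' K')) ↔ ∀ i, P.1 (bK.repr z i) ≤ 1 := by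
  classical
  have hk : ∀ (c : k') (i : ι), bK.repr (algebraMap k' K' c) i = algebraMap k K (b.repr c i) := by
    intro c i
    have h1 : algebraMap k' K' c = ∑ j, algebraMap k K (b.repr c j) • bK j := by
      conv_lhs => rw [← b.sum_repr c, map_sum]
      refine Finset.sum_congr rfl fun j _ => ?_
      rw [hbK, algebraMap_smul, Algebra.smul_def, map_mul, ← IsScalarTower.algebraMap_apply,
        ← Algebra.smul_def]
    rw [h1, bK.repr_sum_self]
  constructor
  · intro hz
    have hz' : z ∈ Submodule.span P.O (Set.range (algebraMap k' K')) := by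
      have h1 : z ∈ Subalgebra.toSubmodule (Algebra.adjoin P.O (Set.range (algebraMap k' K'))) := hz
      rw [Algebra.adjoin_eq_span] at h1
      refine Submodule.span_mono ?_ h1
      intro w hw
      induction hw using Submonoid.closure_induction with
      | mem x hx => exact hx
      | one => exact ⟨1, map_one _⟩
      | mul x y _ _ hx hy =>
        obtain ⟨a, rfl⟩ := hx; obtain ⟨c, rfl⟩ := hy
        exact ⟨a * c, map_mul _ _ _⟩
    clear hz
    induction hz' using Submodule.span_induction with
    | mem x hx =>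
      obtain ⟨c, rfl⟩ := hx
      intro i
      rw [hk]; exact P.2.1 _
    | zero => simp
    | add x y _ _ hx hy =>
      intro i
      rw [map_add, Finsupp.add_apply]
      exact (P.1.map_add _ _).trans (max_le (hx i) (hy i))
    | smul a x _ hx =>
      intro i
      rw [← coe_smul_O, map_smul, Finsupp.smul_apply, smul_eq_mul, map_mul]
      exact mul_le_one' a.2 (hx i)
  · intro hz
    rw [← bK.sum_repr z]
    refine Subalgebra.sum_mem _ fun i _ => ?_
    rw [show bK.repr z i • bK i = (⟨bK.repr z i, hz i⟩ : P.O) • bK i from coe_smul_O P (⟨bK.repr z i, hz i⟩ : P.O) _, hbK]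
    exact Subalgebra.smul_mem _ (Algebra.subset_adjoin (Set.mem_range_self (b i))) _

/-- Coordinates of the elements integral over `O_P` have bounded poles. -/
theorem exists_conductor_exp (hF : FF k K) [FiniteDimensional K K'] (P : Place k K) [Algebra P.O K']
    [IsScalarTower P.O K K'] (bK : Module.Basis ι K K') :
    ∃ M : ℕ, ∀ z : K', IsIntegral P.O z → ∀ i, P.1 (bK.repr z i) ≤ exp (M : ℤ) := by
  classical
  obtain ⟨s, -, -, hs⟩ := hF.exists_integral_basis P (K' := K')
  refine ⟨∑ g ∈ s, ∑ i, (P.ord (bK.repr g i)).natAbs, fun z hz => ?_⟩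
  have hz' : z ∈ Submodule.span P.O (s : Set K') := hs ▸ hz
  clear hz
  induction hz' using Submodule.span_induction with
  | mem g hg =>
    intro i
    rcases eq_or_ne (bK.repr g i) 0 with h0 | h0
    · simp [h0]
    · rw [val_eq P h0, exp_le_exp]
      have h1 : ∑ j, (P.ord (bK.repr g j)).natAbs ≤ ∑ g ∈ s, ∑ j, (P.ord (bK.repr g j)).natAbs :=
        Finset.single_le_sum (f := fun g => ∑ j, (P.ord (bK.repr g j)).natAbs) (fun _ _ => Nat.zero_le _) hg
      have h2 : (P.ord (bK.repr g i)).natAbs ≤ ∑ j, (P.ord (bK.repr g j)).natAbs :=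
        Finset.single_le_sum (f := fun j => (P.ord (bK.repr g j)).natAbs) (fun _ _ => Nat.zero_le _)
          (Finset.mem_univ i)
      omega
  | zero => simp
  | add x y _ _ hx hy =>
    intro i
    rw [map_add, Finsupp.add_apply]
    exact (P.1.map_add _ _).trans (max_le (hx i) (hy i))
  | smul a x _ hx =>
    intro i
    rw [← coe_smul_O, map_smul, Finsupp.smul_apply, smul_eq_mul, map_mul]
    exact (mul_le_mul' a.2 (hx i)).trans_eq (one_mul _)

omit [Fintype ι] in
/-- Coordinates of nilpotents modulo a prime with separable residue field. -/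
theorem coord_eq_zero_of_pow {R F : Type*} [CommRing R] [Field F] [Algebra k R] [Algebra k F]
    [Algebra.IsSeparable k F] (hfin : Module.Finite k F) (res : R →ₐ[k] F) (b : Module.Basis ι k k')
    (x : R ⊗[k] k') (n : ℕ)
    (hn : ∀ i, res ((Algebra.TensorProduct.basis R b).repr (x ^ n) i) = 0) (i : ι) :
    res ((Algebra.TensorProduct.basis R b).repr x i) = 0 := by
  have hred : IsReduced (F ⊗[k] k') := by
    have : Algebra.FormallyUnramified k F := Algebra.FormallyUnramified.of_isSeparable k _
    have : IsReduced (k' ⊗[k] F) := Algebra.FormallyUnramified.isReduced_of_field k' _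
    exact isReduced_of_injective (Algebra.TensorProduct.comm k F k') (AlgEquiv.injective _)
  let ψ := Algebra.TensorProduct.map res (AlgHom.id k k')
  let bF := Algebra.TensorProduct.basis F b
  have hψ : ∀ x i, bF.repr (ψ x) i = res ((Algebra.TensorProduct.basis R b).repr x i) := by
    intro x i
    induction x using TensorProduct.induction_on with
    | zero => simp
    | tmul a c =>
      simp [ψ, bF, Algebra.TensorProduct.basis_repr_tmul]
    | add x y hx hy => simp [map_add, hx, hy]
  have hzero : ψ (x ^ n) = 0 := bF.ext_elem fun i => by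
    rw [hψ, map_zero, Finsupp.zero_apply]
    exact hn i
  rw [map_pow] at hzero
  have h0 := hψ x i
  rw [(show IsNilpotent (ψ x) from ⟨n, hzero⟩).eq_zero, map_zero, Finsupp.zero_apply] at h0
  exact h0.symm

/-- A separable residue field gives a reduced special fibre. -/
theorem coord_lt_one_of_pow (P : Place k K) [Algebra P.O K'] [IsScalarTower P.O K K']
    [Algebra.IsSeparable k (IsLocalRing.ResidueField P.O)]
    [FiniteDimensional k (IsLocalRing.ResidueField P.O)]
    (b : Module.Basis ι k k') (bK : Module.Basis ι K K') (hbK : ∀ i, bK i = algebraMap k' K' (b i))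
    {w : K'} (hw : ∀ i, P.1 (bK.repr w i) ≤ 1) {n : ℕ} (hn : ∀ i, P.1 (bK.repr (w ^ n) i) < 1) (i : ι) :
    P.1 (bK.repr w i) < 1 := by
  classical
  have := isScalarTower_O (K' := K') P
  let φ : P.O ⊗[k] k' →ₐ[k] K' := Algebra.TensorProduct.productMap
    (IsScalarTower.toAlgHom k P.O K') (IsScalarTower.toAlgHom k k' K')
  let bT := Algebra.TensorProduct.basis P.O b
  have hφ : ∀ (x : P.O ⊗[k] k') i, bK.repr (φ x) i = ((bT.repr x i : P.O) : K) := by
    intro x i
    induction x using TensorProduct.induction_on with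
    | zero => simp
    | tmul a c =>
      have h1 : φ (a ⊗ₜ[k] c) = ∑ j, ((a : K) * algebraMap k K (b.repr c j)) • bK j := by
        simp only [φ, Algebra.TensorProduct.productMap_apply_tmul, IsScalarTower.coe_toAlgHom']
        conv_lhs => rw [← b.sum_repr c, map_sum, Finset.mul_sum, algebraMap_O']
        refine Finset.sum_congr rfl fun j _ => ?_
        rw [hbK, Algebra.smul_def, Algebra.smul_def, map_mul, map_mul, ← IsScalarTower.algebraMap_apply,
          ← IsScalarTower.algebraMap_apply k K K']
        ring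
      rw [h1, bK.repr_sum_self, Algebra.TensorProduct.basis_repr_tmul, Finsupp.smul_apply,
        Finsupp.mapRange_apply, smul_eq_mul]
      rfl
    | add x y hx hy => simp [map_add, hx, hy]
  let res : P.O →ₐ[k] IsLocalRing.ResidueField P.O :=
    { IsLocalRing.residue P.O with commutes' := fun _ => rfl }
  have hlt : ∀ a : P.O, P.1 (a : K) < 1 ↔ IsLocalRing.residue P.O a = 0 := fun a => by
    rw [IsLocalRing.residue_eq_zero_iff, Valuation.mem_maximalIdeal_iff]
  let x : P.O ⊗[k] k' := ∑ i, (⟨bK.repr w i, hw i⟩ : P.O) • bT i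
  have hx : ∀ i, ((bT.repr x i : P.O) : K) = bK.repr w i := fun i => by
    rw [bT.repr_sum_self]
  have hφx : φ x = w := bK.ext_elem fun i => by rw [hφ, hx]
  have h0 := coord_eq_zero_of_pow (F := IsLocalRing.ResidueField P.O) ‹_› res b x n (fun i => (hlt _).1 (by
    rw [← hφ, map_pow, hφx]; exact hn i)) i
  have := (hlt _).2 h0
  rwa [hx] at this

/-- A place with separable residue field is nonsingular. -/
theorem integral_coord_le_one (hF : FF k K) [FiniteDimensional K K'] (P : Place k K) [Algebra P.O K']
    [IsScalarTower P.O K K'] [Algebra.IsSeparable k (IsLocalRing.ResidueField P.O)]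
    (b : Module.Basis ι k k') (bK : Module.Basis ι K K') (hbK : ∀ i, bK i = algebraMap k' K' (b i))
    {z : K'} (hz : IsIntegral P.O z) (i : ι) : P.1 (bK.repr z i) ≤ 1 := by
  have := hF.finite_residueField P
  obtain ⟨M, hM⟩ := exists_conductor_exp hF P bK
  obtain ⟨t, ht0, ht⟩ := exists_uniformizer (P := P)
  have hscale : ∀ (c : K) (y : K') i, bK.repr (algebraMap K K' c * y) i = c * bK.repr y i := fun c y i => by
    rw [← Algebra.smul_def, map_smul, Finsupp.smul_apply, smul_eq_mul]
  have key : ∀ m : ℕ, (∀ i, P.1 (bK.repr z i) ≤ exp (m : ℤ)) → ∀ i, P.1 (bK.repr z i) ≤ 1 := by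
    intro m
    induction m with
    | zero => intro h i; exact (h i).trans_eq exp_zero
    | succ m ih =>
      intro h
      refine ih fun i => ?_
      have hw : ∀ i, P.1 (bK.repr (algebraMap K K' (t ^ (m + 1)) * z) i) ≤ 1 := fun i => by
        rw [hscale, map_mul, map_pow, ht, ← exp_nsmul]
        refine (mul_le_mul' le_rfl (h i)).trans_eq ?_
        rw [← exp_add, ← exp_zero]
        congr 1
        simp
      have hpow : ∀ i, P.1 (bK.repr ((algebraMap K K' (t ^ (m + 1)) * z) ^ (M + 1)) i) < 1 := fun i => by
        rw [mul_pow, ← map_pow, hscale, map_mul, map_pow, map_pow, ht, ← exp_nsmul, ← exp_nsmul]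
        refine (mul_le_mul' le_rfl (hM _ (hz.pow _) i)).trans_lt ?_
        rw [← exp_add, ← exp_zero, exp_lt_exp]
        simp only [nsmul_eq_mul]
        push_cast
        nlinarith
      have h1 := val_lt_one_le P (coord_lt_one_of_pow P b bK hbK hw hpow i)
      rw [hscale, map_mul, map_pow, ht, ← exp_nsmul] at h1
      rcases eq_or_ne (bK.repr z i) 0 with h0 | h0
      · simp [h0]
      · rw [val_eq P h0] at h1 ⊢
        rw [← exp_add, exp_le_exp] at h1
        rw [exp_le_exp]
        simp only [nsmul_eq_mul] at h1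
        push_cast at h1
        linarith
  exact key M (fun i => hM z hz i) i

theorem integralClosure_eq_adjoin_const [FiniteDimensional k k'] (hF : FF k K)
    (h : Function.Bijective (Algebra.TensorProduct.productMap
      (IsScalarTower.toAlgHom k k' K') (IsScalarTower.toAlgHom k K K')))
    (P : Place k K) [Algebra P.O K'] [IsScalarTower P.O K K']
    (hint : ∀ (bK : Module.Basis (Fin (Module.finrank k k')) K K'),
      (∀ i, bK i = algebraMap k' K' (Module.finBasis k k' i)) →
      ∀ z : K', IsIntegral P.O z → ∀ i, P.1 (bK.repr z i) ≤ 1) :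
    integralClosure P.O K' = Algebra.adjoin P.O (Set.range (algebraMap k' K')) := by
  obtain ⟨bK, hbK⟩ := exists_constBasis h (Module.finBasis k k')
  refine le_antisymm (fun z hz => (mem_adjoin_const_iff P _ bK hbK z).2 (hint bK hbK z hz))
    (Algebra.adjoin_le ?_)
  rintro _ ⟨c, rfl⟩
  have := isScalarTower_O (K' := K') P
  exact ((Algebra.IsIntegral.isIntegral (R := k) c).map (IsScalarTower.toAlgHom k k' K')).tower_top

theorem exists_finite_mod_const (hF : FF k K) [FiniteDimensional k k'] (P : Place k K) [Algebra P.O K']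
    [IsScalarTower P.O K K'] (h : Function.Bijective (Algebra.TensorProduct.productMap
      (IsScalarTower.toAlgHom k k' K') (IsScalarTower.toAlgHom k K K'))) :
    (∃ V : Submodule k K', FiniteDimensional k V ∧ ∀ r ∈ integralClosure P.O K',
        ∃ s ∈ Algebra.adjoin P.O (Set.range (algebraMap k' K')), r - s ∈ V) ∧
    (∃ c ∈ integralClosure P.O K', c ≠ 0 ∧ ∀ r ∈ integralClosure P.O K',
        c * r ∈ Algebra.adjoin P.O (Set.range (algebraMap k' K'))) := by
  classical
  have := finiteDimensional_const h
  have := hF.finite_residueField P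
  have := isScalarTower_O (K' := K') P
  obtain ⟨bK, hbK⟩ := exists_constBasis h (Module.finBasis k k')
  obtain ⟨M, hM⟩ := exists_conductor_exp hF P bK
  obtain ⟨t, ht0, ht⟩ := exists_uniformizer (P := P)
  obtain ⟨hfin, -⟩ := fil_finrank P (a := 0) (b := (M : ℤ)) (by omega)
  obtain ⟨S, hS⟩ := hfin.fg_top
  choose lift hlift using fun q : RQ (Fil P 0) (Fil P (M : ℤ)) => Submodule.Quotient.mk_surjective _ q
  let W : Submodule k (Fil P (M : ℤ)) := Submodule.span k (lift '' (S : Set (RQ (Fil P 0) (Fil P (M : ℤ)))))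
  have hWsplit : ∀ c : Fil P (M : ℤ), ∃ w ∈ W, P.1 ((c : K) - (w : K)) ≤ 1 := by
    intro c
    have hq : (Submodule.Quotient.mk c : RQ (Fil P 0) (Fil P (M : ℤ))) ∈
        Submodule.map (Submodule.mkQ _) W := by
      rw [Submodule.map_span, ← Set.image_comp]
      rw [show (⇑(Submodule.comap (Fil P (M : ℤ)).subtype (Fil P 0)).mkQ ∘ lift) = id from funext hlift,
        Set.image_id, hS]
      exact Submodule.mem_top
    obtain ⟨w, hw, hwc⟩ := hq
    refine ⟨w, hw, ?_⟩
    have hmem := (Submodule.Quotient.eq _).1 hwc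
    have h' : P.1 ((w : K) - (c : K)) ≤ exp (0 : ℤ) := hmem
    rw [← Valuation.map_neg, neg_sub]
    exact h'.trans_eq exp_zero
  have hWfin : FiniteDimensional k W := Module.Finite.span_of_finite k (S.finite_toSet.image _)
  let V : Submodule k K' := ⨆ i, W.map
    (((LinearMap.toSpanSingleton K K' (bK i)).restrictScalars k).comp (Fil P (M : ℤ)).subtype)
  refine ⟨⟨V, inferInstance, fun r hr => ?_⟩,
    ⟨algebraMap K K' (t ^ M), ?_, (map_ne_zero _).2 (pow_ne_zero _ ht0), fun r hr => ?_⟩⟩
  · choose w hw hwle using fun i => hWsplit ⟨bK.repr r i, hM r hr i⟩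
    refine ⟨∑ i, (bK.repr r i - (w i : K)) • bK i, (mem_adjoin_const_iff P _ bK hbK _).2 fun i => ?_, ?_⟩
    · rw [bK.repr_sum_self]; exact hwle i
    · have : r - ∑ i, (bK.repr r i - (w i : K)) • bK i = ∑ i, (w i : K) • bK i := by
        conv_lhs => lhs; rw [← bK.sum_repr r]
        rw [← Finset.sum_sub_distrib]
        exact Finset.sum_congr rfl fun i _ => by rw [← sub_smul, sub_sub_cancel]
      rw [this]
      exact Submodule.sum_mem _ fun i _ => Submodule.mem_iSup_of_mem i ⟨w i, hw i, rfl⟩
  · have htle : P.1 (t ^ M) ≤ 1 := by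
      rw [map_pow, ht]
      exact pow_le_one₀ zero_le (by rw [← exp_zero, exp_le_exp]; norm_num)
    exact (congrArg (IsIntegral P.O) (algebraMap_O' (K' := K') P ⟨_, htle⟩)).mp isIntegral_algebraMap
  · refine (mem_adjoin_const_iff P _ bK hbK _).2 fun i => ?_
    rw [← Algebra.smul_def, map_smul, Finsupp.smul_apply, smul_eq_mul, map_mul, map_pow, ht, ← exp_nsmul]
    refine (mul_le_mul' le_rfl (hM r hr i)).trans_eq ?_
    rw [← exp_add, ← exp_zero]
    congr 1
    simp

end Groth.Agent.FF30
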