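import Groth.Agent.FF30.Galois
import Mathlib.FieldTheory.PrimitiveElement
import Mathlib.RingTheory.LocalRing.ResidueField.Basic
import Mathlib.FieldTheory.Galois.Basic
import Mathlib.RingTheory.Polynomial.Vieta

/-! The inertia group of a place in a Galois extension. -/

open FunFld WithZero Polynomial
open scoped Multiplicative Pointwise

namespace Groth.Agent.FF30

variable {k K K' : Type*} [Field k] [Field K] [Field K'] [Algebra k K] [Algebra K K'] [Algebra k K']
variable [IsScalarTower k K K']
set_option linter.unusedSectionVars false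

theorem mem_decomposition_of_congr (Q : Place k K') {σ : K' ≃ₐ[K] K'}
    (h : ∀ x : K', Q.1 x ≤ 1 → Q.1 (σ x - x) < 1) : σ ∈ Q.O.decompositionSubgroup K := by
  rw [← placeComap_eq_self_iff]
  refine (eq_of_val_le_one_imp fun x hx => ?_).symm
  rw [placeComap_apply]
  have : σ x = x + (σ x - x) := by ring
  rw [this]
  exact (Q.1.map_add _ _).trans (max_le hx (h x hx).le)

theorem residue_smul_eq (Q : Place k K') (σ : Q.O.decompositionSubgroup K) (a : Q.O) :
    σ • IsLocalRing.residue Q.O a = IsLocalRing.residue Q.O (σ • a) := rfl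

theorem residue_eq_iff (Q : Place k K') (a b : Q.O) :
    IsLocalRing.residue Q.O a = IsLocalRing.residue Q.O b ↔ Q.1 ((a : K') - b) < 1 := by
  rw [← sub_eq_zero, ← map_sub, IsLocalRing.residue_eq_zero_iff]
  exact (Valuation.mem_maximalIdeal_iff (v := Q.1)).trans (by rfl)

theorem mem_inertia_iff (Q : Place k K') (σ : Q.O.decompositionSubgroup K) :
    σ ∈ Q.O.inertiaSubgroup K ↔ ∀ x : K', Q.1 x ≤ 1 → Q.1 ((σ : K' ≃ₐ[K] K') x - x) < 1 := by
  constructor
  · intro h x hx
    have h1 := RingEquiv.congr_fun (MonoidHom.mem_ker.mp h) (IsLocalRing.residue Q.O ⟨x, hx⟩)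
    have h2 : IsLocalRing.residue Q.O (σ • (⟨x, hx⟩ : Q.O)) = IsLocalRing.residue Q.O ⟨x, hx⟩ := h1
    exact (residue_eq_iff Q _ _).mp h2
  · intro h
    refine MonoidHom.mem_ker.mpr (RingEquiv.ext fun r => ?_)
    obtain ⟨a, rfl⟩ := IsLocalRing.residue_surjective r
    exact (residue_eq_iff Q (σ • a) a).mpr (h a a.2)

theorem mem_inertia_map_iff (Q : Place k K') (σ : K' ≃ₐ[K] K') :
    σ ∈ (Q.O.inertiaSubgroup K).map (Q.O.decompositionSubgroup K).subtype ↔
      ∀ x : K', Q.1 x ≤ 1 → Q.1 (σ x - x) < 1 := by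
  constructor
  · rintro ⟨τ, hτ, rfl⟩
    exact (mem_inertia_iff Q τ).mp hτ
  · intro h
    exact ⟨⟨σ, mem_decomposition_of_congr Q h⟩, (mem_inertia_iff Q _).mpr h, rfl⟩

/-- `O_P → O_Q` for `Q` over `P`. -/
def overHom {Q : Place k K'} {P : Place k K} (h : IsOver Q P) : P.O →+* Q.O :=
  ((algebraMap K K').comp P.O.subtype).codRestrict Q.O.toSubring fun a =>
    ((isOverWith_le_one_iff (isOverWith_ramIdx h) _).mpr a.2)

theorem overHom_apply {Q : Place k K'} {P : Place k K} (h : IsOver Q P) (a : P.O) :
    ((overHom h a : Q.O) : K') = algebraMap K K' (a : K) := rfl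

theorem overHom_isLocalHom {Q : Place k K'} {P : Place k K} (h : IsOver Q P) :
    IsLocalHom (overHom h) := by
  refine ⟨fun a ha => ?_⟩
  by_contra hnu
  have h1 : P.1 (a : K) < 1 :=
    (Valuation.mem_maximalIdeal_iff (v := P.1)).mp ((IsLocalRing.mem_maximalIdeal a).mpr hnu)
  have h3 : overHom h a ∈ IsLocalRing.maximalIdeal Q.O := by
    refine (Valuation.mem_maximalIdeal_iff (v := Q.1)).mpr ?_
    change Q.1 (algebraMap K K' (a : K)) < 1
    rw [isOverWith_ramIdx h]
    exact pow_lt_one₀ zero_le h1 (isOverWith_pos (isOverWith_ramIdx h)).ne'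
  exact (IsLocalRing.mem_maximalIdeal _).mp h3 ha

theorem FF.card_inertia_mul_deg (h : FF k K) [FiniteDimensional K K'] [IsGalois K K']
    {P : Place k K} {Q : Place k K'} {e : ℕ} (he : IsOverWith Q P e)
    [Algebra.IsSeparable k (IsLocalRing.ResidueField Q.O)] :
    Nat.card (Q.O.inertiaSubgroup K) * Q.deg =
      Nat.card (Q.O.decompositionSubgroup K) * P.deg := by
  classical
  have hQP : IsOver Q P := ⟨e, he⟩
  have := overHom_isLocalHom hQP
  have := h.finite_residueField P
  have := (h.extension K').finite_residueField Q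
  let : Algebra (IsLocalRing.ResidueField P.O) (IsLocalRing.ResidueField Q.O) :=
    (IsLocalRing.ResidueField.map (overHom hQP)).toAlgebra
  have htower : @IsScalarTower k (IsLocalRing.ResidueField P.O) (IsLocalRing.ResidueField Q.O)
      Algebra.toSMul Algebra.toSMul Algebra.toSMul := by
    refine IsScalarTower.of_algebraMap_eq fun c => ?_
    change IsLocalRing.residue Q.O _ = IsLocalRing.residue Q.O (overHom hQP (algebraMap k P.O c))
    congr 1
    exact Subtype.ext (IsScalarTower.algebraMap_apply k K K' c)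
  have : Algebra.IsSeparable (IsLocalRing.ResidueField P.O) (IsLocalRing.ResidueField Q.O) :=
    Algebra.isSeparable_tower_top_of_isSeparable k (IsLocalRing.ResidueField P.O)
      (IsLocalRing.ResidueField Q.O)
  have htower2 : @IsScalarTower k (IsLocalRing.ResidueField P.O) (IsLocalRing.ResidueField Q.O)
      (IsLocalRing.instModuleResidueFieldOfAlgebra P.O).toDistribMulAction.toDistribSMul.toSMulZeroClass.toSMul
      Algebra.toSMul
      (IsLocalRing.instModuleResidueFieldOfAlgebra Q.O).toDistribMulAction.toDistribSMul.toSMulZeroClass.toSMul :=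
    @IsScalarTower.mk k _ _ (_) (_) (_) fun a b c => htower.smul_assoc a b c
  have htower3 : @IsScalarTower k (IsLocalRing.ResidueField P.O) (IsLocalRing.ResidueField Q.O)
      Algebra.toSMul Algebra.toSMul
      (IsLocalRing.instModuleResidueFieldOfAlgebra Q.O).toDistribMulAction.toDistribSMul.toSMulZeroClass.toSMul :=
    @IsScalarTower.mk k _ _ (_) (_) (_) fun a b c => htower.smul_assoc a b c
  have : FiniteDimensional (IsLocalRing.ResidueField P.O) (IsLocalRing.ResidueField Q.O) :=
    Module.Finite.of_restrictScalars_finite k (IsLocalRing.ResidueField P.O)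
      (IsLocalRing.ResidueField Q.O)
  set F := IsLocalRing.ResidueField P.O
  set E := IsLocalRing.ResidueField Q.O
  have hdeg : Q.deg = Module.finrank F E * P.deg := by
    rw [mul_comm]; exact (Module.finrank_mul_finrank k F E).symm
  obtain ⟨θb, hθb⟩ := Field.exists_primitive_element F E
  obtain ⟨⟨θ₀, hθ₀⟩, hres⟩ := IsLocalRing.residue_surjective θb
  set T := (h.finite_setOf_isOver (K' := K') P).toFinset
  obtain ⟨θ, hθ⟩ := exists_approx (insert Q T) (fun R => if R = Q then θ₀ else 0) (fun _ => -1)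
  have hm1 : exp (-1 : ℤ) < 1 := by rw [← exp_zero, exp_lt_exp]; norm_num
  have hθQ : Q.1 (θ - θ₀) < 1 := by
    have := hθ Q (Finset.mem_insert_self _ _)
    rw [if_pos rfl] at this
    exact lt_of_le_of_lt this hm1
  have hθR : ∀ R, IsOver R P → R ≠ Q → R.1 θ < 1 := fun R hR hne => by
    have := hθ R (Finset.mem_insert_of_mem ((h.finite_setOf_isOver P).mem_toFinset.mpr hR))
    rw [if_neg hne, sub_zero] at this
    exact lt_of_le_of_lt this hm1
  have hθQ1 : Q.1 θ ≤ 1 := by
    have : θ = θ₀ + (θ - θ₀) := by ring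
    rw [this]
    exact (Q.1.map_add _ _).trans (max_le hθ₀ hθQ.le)
  have hθb : IsLocalRing.residue Q.O ⟨θ, hθQ1⟩ = θb ∧ IntermediateField.adjoin F {θb} = ⊤ :=
    ⟨by rw [← hres, residue_eq_iff]; exact hθQ, hθb⟩
  have hσθ : ∀ σ : K' ≃ₐ[K] K', Q.1 (σ θ) ≤ 1 := fun σ => by
    change (placeComap Q σ).1 θ ≤ 1
    by_cases hne : placeComap Q σ = Q
    · rw [hne]; exact hθQ1
    · exact (hθR _ ⟨e, isOverWith_placeComap he σ⟩ hne).le
  let HQ : (Q.O)[X] := ∏ σ : K' ≃ₐ[K] K', (X - C (⟨σ θ, hσθ σ⟩ : Q.O))
  have hcoef : ∀ i, ∃ a : P.O, overHom hQP a = HQ.coeff i := by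
    intro i
    set H := HQ.map Q.O.subtype with hH
    have hHeq : H = ∏ σ : K' ≃ₐ[K] K', (X - C (σ θ)) := by
      simp only [hH, HQ, Polynomial.map_prod, Polynomial.map_sub, map_X, map_C,
        ValuationSubring.subtype_apply]
    have hfix : ∀ τ : K' ≃ₐ[K] K', τ (H.coeff i) = H.coeff i := by
      intro τ
      have : H.map (τ : K' →+* K') = H := by
        rw [hHeq, Polynomial.map_prod]
        simp only [Polynomial.map_sub, map_X, map_C]
        exact Fintype.prod_equiv (Equiv.mulLeft τ) _ _ (fun σ => rfl)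
      have h1 := congrArg (fun p : K'[X] => p.coeff i) this
      simp only [coeff_map] at h1
      exact h1
    obtain ⟨c, hc⟩ : H.coeff i ∈ Set.range (algebraMap K K') :=
      (IsGalois.mem_range_algebraMap_iff_fixed _).mpr hfix
    have hc' : algebraMap K K' c = ((HQ.coeff i : Q.O) : K') := by
      rw [hc, hH, coeff_map]; rfl
    refine ⟨⟨c, (isOverWith_le_one_iff he c).mp (by rw [hc']; exact (HQ.coeff i).2)⟩, Subtype.ext hc'⟩
  obtain ⟨HP, hHP⟩ : ∃ HP : (P.O)[X], HP.map (overHom hQP) = HQ :=
    (lifts_iff_coeff_lifts HQ).mpr hcoef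
  set q := minpoly F θb
  have hroots_prod : (HP.map (IsLocalRing.residue P.O)).map (algebraMap F E) =
      ∏ σ : K' ≃ₐ[K] K', (X - C (IsLocalRing.residue Q.O ⟨σ θ, hσθ σ⟩)) := by
    rw [Polynomial.map_map]
    have : (algebraMap F E).comp (IsLocalRing.residue P.O) =
        (IsLocalRing.residue Q.O).comp (overHom hQP) := RingHom.ext fun _ => rfl
    rw [this, ← Polynomial.map_map, hHP]
    simp only [HQ, Polynomial.map_prod, Polynomial.map_sub, map_X, map_C]
  have hdvd : q.map (algebraMap F E) ∣
      ∏ σ : K' ≃ₐ[K] K', (X - C (IsLocalRing.residue Q.O ⟨σ θ, hσθ σ⟩)) := by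
    rw [← hroots_prod]
    refine Polynomial.map_dvd _ (minpoly.dvd F θb ?_)
    rw [← eval_map_algebraMap, hroots_prod, eval_prod]
    refine Finset.prod_eq_zero (Finset.mem_univ (1 : K' ≃ₐ[K] K')) ?_
    rw [eval_sub, eval_X, eval_C, sub_eq_zero, ← hθb.1]
    rfl
  have hθint : IsIntegral F θb := Algebra.IsIntegral.isIntegral θb
  have hsplit : (q.map (algebraMap F E)).Splits := by
    refine Polynomial.Splits.of_dvd ?_ ?_ hdvd
    · exact Polynomial.Splits.prod fun σ _ => Polynomial.Splits.X_sub_C _
    · exact Finset.prod_ne_zero_iff.mpr fun σ _ => X_sub_C_ne_zero _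
  have hsep : q.Separable := Algebra.IsSeparable.isSeparable F θb
  have hqdeg : q.natDegree = Module.finrank F E := by
    rw [← IntermediateField.adjoin.finrank hθint, hθb.2]
    exact IntermediateField.finrank_top'
  have hact : ∀ (σ : Q.O.decompositionSubgroup K) (a : F),
      σ • algebraMap F E a = algebraMap F E a := by
    intro σ a
    obtain ⟨b, rfl⟩ := IsLocalRing.residue_surjective a
    change IsLocalRing.residue Q.O (σ • overHom hQP b) = IsLocalRing.residue Q.O (overHom hQP b)
    congr 1
    exact Subtype.ext ((σ : K' ≃ₐ[K] K').commutes _)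
  have horbit : MulAction.orbit (Q.O.decompositionSubgroup K) θb =
      ↑((q.map (algebraMap F E)).roots.toFinset) := by
    have hq0 : q.map (algebraMap F E) ≠ 0 :=
      Polynomial.map_ne_zero (minpoly.ne_zero hθint)
    ext r
    rw [Finset.mem_coe, Multiset.mem_toFinset, mem_roots hq0]
    constructor
    · rintro ⟨σ, rfl⟩
      rw [IsRoot, eval_map_algebraMap]
      let g : E →ₐ[F] E :=
        { MulSemiringAction.toRingHom (Q.O.decompositionSubgroup K) E σ with
          commutes' := hact σ }
      have hg := aeval_algHom_apply g θb q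
      rw [minpoly.aeval, map_zero] at hg
      exact hg
    · intro hr
      have hr' := IsRoot.dvd hr hdvd
      rw [IsRoot, eval_prod, Finset.prod_eq_zero_iff] at hr'
      obtain ⟨σ, -, hσ⟩ := hr'
      rw [eval_sub, eval_X, eval_C, sub_eq_zero] at hσ
      by_cases hD : placeComap Q σ = Q
      · refine ⟨⟨σ, (placeComap_eq_self_iff Q σ).mp hD⟩, ?_⟩
        rw [hσ, ← hθb.1]
        rfl
      · have hr0 : r = 0 := by
          rw [hσ, ← map_zero (IsLocalRing.residue Q.O), residue_eq_iff, ZeroMemClass.coe_zero, sub_zero]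
          exact hθR _ ⟨e, isOverWith_placeComap he σ⟩ hD
        have hθ0 : θb = 0 := by
          have h0 : q.coeff 0 = 0 := by
            rw [IsRoot, eval_map_algebraMap, hr0, ← coeff_zero_eq_aeval_zero'] at hr
            exact (algebraMap F E).injective (by rw [hr, map_zero])
          exact (minpoly.coeff_zero_eq_zero hθint).mp h0
        exact ⟨1, (one_smul _ θb).trans (hθ0.trans hr0.symm)⟩
  have hcard : Nat.card (MulAction.orbit (Q.O.decompositionSubgroup K) θb) = Module.finrank F E := by
    rw [horbit, Nat.card_coe_set_eq, Set.ncard_coe_finset, Multiset.toFinset_card_of_nodup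
      (nodup_roots (hsep.map)), ← hsplit.natDegree_eq_card_roots, natDegree_map, hqdeg]
  have hstab : MulAction.stabilizer (Q.O.decompositionSubgroup K) θb = Q.O.inertiaSubgroup K := by
    ext σ
    rw [MulAction.mem_stabilizer_iff]
    constructor
    · intro hσ
      refine MonoidHom.mem_ker.mpr (RingEquiv.ext fun r => ?_)
      have hr : r ∈ Algebra.adjoin F ({θb} : Set E) := by
        rw [← IntermediateField.adjoin_simple_toSubalgebra_of_isAlgebraic hθint.isAlgebraic, hθb.2]
        exact IntermediateField.mem_top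
      induction hr using Algebra.adjoin_induction with
      | mem x hx => rw [Set.mem_singleton_iff.mp hx]; exact hσ
      | algebraMap a => exact hact σ a
      | add a b _ _ ha hb => rw [map_add, ha, hb]; rfl
      | mul a b _ _ ha hb => rw [map_mul, ha, hb]; rfl
    · intro hσ
      exact RingEquiv.congr_fun (MonoidHom.mem_ker.mp hσ) θb
  have horb := Nat.card_congr
    (MulAction.orbitProdStabilizerEquivGroup (Q.O.decompositionSubgroup K) θb)
  rw [Nat.card_prod, hcard, hstab] at horb
  rw [← horb, hdeg]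
  ring

theorem FF.card_inertia (h : FF k K) [FiniteDimensional K K'] [IsGalois K K']
    {P : Place k K} {Q : Place k K'} {e : ℕ} (he : IsOverWith Q P e)
    [Algebra.IsSeparable k (IsLocalRing.ResidueField Q.O)] :
    Nat.card (Q.O.inertiaSubgroup K) = e :=
  Nat.eq_of_mul_eq_mul_right ((h.extension K').deg_pos Q)
    ((h.card_inertia_mul_deg he).trans (h.card_decomposition_mul_deg' he))

end Groth.Agent.FF30
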