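import Groth.Agent.FF30.ConstSep
import Groth.Agent.FF30.SubField
import Groth.Agent.FF30.Inertia
import Mathlib.FieldTheory.PurelyInseparable.Tower
import Mathlib.FieldTheory.PurelyInseparable.PerfectClosure

/-! Places above a place in a purely inseparable situation. -/

open FunFld WithZero Polynomial IntermediateField

namespace Groth.Agent.FF30

universe u v

/-- Places agreeing on a subfield with purely inseparable complement agree. -/
theorem eq_of_isPurelyInseparable {k L K' : Type*} [Field k] [Field L] [Field K'] [Algebra L K']
    [Algebra k K'] [IsPurelyInseparable L K'] {Q Q' : Place k K'}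
    (h : ∀ z : L, Q.1 (algebraMap L K' z) ≤ 1 ↔ Q'.1 (algebraMap L K' z) ≤ 1) : Q = Q' := by
  obtain ⟨q, hq⟩ := ExpChar.exists L
  refine eq_of_val_le_one_imp fun x hx => ?_
  obtain ⟨n, z, hz⟩ := IsPurelyInseparable.pow_mem L q x
  have h1 : Q.1 (algebraMap L K' z) ≤ 1 := by rw [hz, map_pow]; exact pow_le_one₀ zero_le hx
  rw [h, hz, map_pow] at h1
  exact (pow_le_one_iff (pow_ne_zero _ (expChar_pos L q).ne')).mp h1

/-- A separable element generates at least as much over a purely inseparable extension. -/
theorem natDegree_mul_finrank_le {k F E : Type*} [Field k] [Field F] [Field E] [Algebra k F] [Algebra k E]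
    [IsPurelyInseparable k F] (φ : F →ₐ[k] E) (hfin : Module.Finite k E) (y : E) (hy : IsSeparable k y) :
    Module.finrank k F * (minpoly k y).natDegree ≤ Module.finrank k E := by
  let _ : Algebra F E := φ.toRingHom.toAlgebra
  have : IsScalarTower k F E := IsScalarTower.of_algebraMap_eq fun c => (φ.commutes c).symm
  have := hfin
  have : Module.Finite F E := Module.Finite.of_restrictScalars_finite k F E
  rw [← Module.finrank_mul_finrank k F E, ← Polynomial.natDegree_map (algebraMap k F),
    minpoly.map_eq_of_isSeparable_of_isPurelyInseparable F y hy]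
  exact Nat.mul_le_mul_left _ (minpoly.natDegree_le y)

variable {k k' : Type u} {K K' : Type v} [Field k] [Field k'] [Field K] [Field K']
  [Algebra k k'] [Algebra k K] [Algebra K K'] [Algebra k' K'] [Algebra k K']
  [IsScalarTower k k' K'] [IsScalarTower k K K']

theorem isPurelyInseparable_adjoin_const [Algebra.IsAlgebraic k k']
    (h : Function.Bijective (Algebra.TensorProduct.productMap
      (IsScalarTower.toAlgHom k k' K') (IsScalarTower.toAlgHom k K K')))
    (L : IntermediateField K K') (S : IntermediateField k k') [IsPurelyInseparable S k']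
    (hS : ∀ c ∈ S, algebraMap k' K' c ∈ L) : IsPurelyInseparable L K' := by
  obtain ⟨q, hq⟩ := ExpChar.exists k
  have : ExpChar S q := expChar_of_injective_algebraMap (algebraMap k S).injective q
  have : ExpChar K q := expChar_of_injective_algebraMap (algebraMap k K).injective q
  have : ExpChar L q := expChar_of_injective_algebraMap (algebraMap K L).injective q
  have hk : ∀ c : k', algebraMap k' K' c ∈ perfectClosure L K' := fun c => by
    obtain ⟨n, s, hs⟩ := IsPurelyInseparable.pow_mem S q c
    refine (mem_perfectClosure_iff_pow_mem q).2 ⟨n, ⟨⟨_, hS s s.2⟩, ?_⟩⟩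
    change algebraMap k' K' (s : k') = _
    rw [← map_pow, ← hs]
    rfl
  rw [isPurelyInseparable_iff_pow_mem L q]
  intro x
  rw [← mem_perfectClosure_iff_pow_mem q]
  obtain ⟨w, rfl⟩ := h.2 x
  induction w using TensorProduct.induction_on with
  | zero => rw [map_zero]; exact zero_mem _
  | tmul a b =>
    rw [Algebra.TensorProduct.productMap_apply_tmul]
    refine mul_mem (hk a) ?_
    exact (perfectClosure L K').algebraMap_mem (algebraMap K L b)
  | add a b ha hb => rw [map_add]; exact add_mem ha hb

theorem existsUnique_over_of_pi [FiniteDimensional k k'] (hF : FF k K)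
    (h : Function.Bijective (Algebra.TensorProduct.productMap
      (IsScalarTower.toAlgHom k k' K') (IsScalarTower.toAlgHom k K K')))
    (P : Place k K)
    (hpi : IsPurelyInseparable k k' ∨ IsPurelyInseparable k (IsLocalRing.ResidueField P.O)) :
    ∃! Q : Place k K', IsOver Q P := by
  classical
  have := finiteDimensional_const h
  obtain ⟨Q₀, hQ₀⟩ := hF.exists_over (K' := K') P
  refine ⟨Q₀, hQ₀, fun Q hQ => ?_⟩
  rcases hpi with hpi | hpi
  · have : IsPurelyInseparable (⊥ : IntermediateField k k') k' :=
      IsPurelyInseparable.tower_top k (⊥ : IntermediateField k k') k'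
    have := isPurelyInseparable_adjoin_const h (⊥ : IntermediateField K K') (⊥ : IntermediateField k k')
      fun c hc => by
        obtain ⟨a, rfl⟩ := IntermediateField.mem_bot.1 hc
        refine IntermediateField.mem_bot.2 ⟨algebraMap k K a, ?_⟩
        rw [← IsScalarTower.algebraMap_apply k K K', ← IsScalarTower.algebraMap_apply k k' K']
    refine eq_of_isPurelyInseparable (L := (⊥ : IntermediateField K K')) fun z => ?_
    obtain ⟨a, ha⟩ := IntermediateField.mem_bot.1 z.2
    change Q.1 (z : K') ≤ 1 ↔ Q₀.1 (z : K') ≤ 1
    rw [← ha, isOverWith_le_one_iff (isOverWith_ramIdx hQ), isOverWith_le_one_iff (isOverWith_ramIdx hQ₀)]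
  · set S := separableClosure k k'
    obtain ⟨α, hα⟩ := Field.exists_primitive_element k S
    set y := algebraMap k' K' (α : k') with hy
    set L := IntermediateField.adjoin K ({y} : Set K') with hL
    have hS : ∀ c ∈ S, algebraMap k' K' c ∈ L := by
      have hle : S ≤ (L.restrictScalars k).comap (IsScalarTower.toAlgHom k k' K') := by
        have hS' : S = IntermediateField.adjoin k ({(α : k')} : Set k') := by
          have := congrArg (IntermediateField.map S.val) hα
          rw [IntermediateField.adjoin_map, ← AlgHom.fieldRange_eq_map, IntermediateField.fieldRange_val,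
            Set.image_singleton] at this
          exact this.symm
        rw [hS', IntermediateField.adjoin_simple_le_iff]
        exact IntermediateField.mem_adjoin_simple_self K y
      exact fun c hc => hle hc
    have := isPurelyInseparable_adjoin_const h L S hS
    -- one place of `L` over `P`
    have hαsep : IsSeparable k (α : k') := mem_separableClosure_iff.1 α.2
    have hyi : IsIntegral K y := Algebra.IsIntegral.isIntegral y
    have hLdeg : Module.finrank K L ≤ (minpoly k (α : k')).natDegree := by
      rw [hL, IntermediateField.adjoin.finrank hyi, ← natDegree_map (p := minpoly k (α : k')) (algebraMap k K)]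
      refine natDegree_le_of_dvd (minpoly.dvd K y ?_) ((minpoly.monic hαsep.isIntegral).map _).ne_zero
      rw [aeval_map_algebraMap, hy, aeval_algebraMap_apply, minpoly.aeval, map_zero]
    have hFL : FF k L := hF.extension L
    set T := (hF.finite_setOf_isOver (K' := L) P).toFinset with hT
    have memT : ∀ R, R ∈ T ↔ IsOver R P := fun R => (hF.finite_setOf_isOver P).mem_toFinset
    have hsum := hF.sum_ramIdx_mul_deg (K' := L) P T memT
    have hlow : ∀ R ∈ T, P.deg * (minpoly k (α : k')).natDegree ≤ ramIdx R P * R.deg := by
      intro R hR
      have hover := (memT R).1 hR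
      have hloc : IsLocalHom (overHom hover) := overHom_isLocalHom hover
      let φ : IsLocalRing.ResidueField P.O →ₐ[k] IsLocalRing.ResidueField R.O :=
        { IsLocalRing.ResidueField.map (overHom hover) with
          commutes' := fun c => congrArg (IsLocalRing.residue R.O)
            (Subtype.ext (IsScalarTower.algebraMap_apply k K L c).symm) }
      let yL : L := ⟨y, IntermediateField.mem_adjoin_simple_self K y⟩
      have hyint : IsIntegral k yL :=
        (isIntegral_algHom_iff (L.val.restrictScalars k) L.val.injective).1
          ((hαsep.isIntegral).map (IsScalarTower.toAlgHom k k' K'))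
      let yO : R.O := ⟨yL, val_le_one_of_isIntegral R hyint⟩
      let res : R.O →ₐ[k] IsLocalRing.ResidueField R.O :=
        { IsLocalRing.residue R.O with commutes' := fun _ => rfl }
      have hirr : Irreducible (minpoly k (α : k')) := minpoly.irreducible hαsep.isIntegral
      have hroot : aeval (res yO) (minpoly k (α : k')) = 0 := by
        rw [aeval_algHom_apply]
        refine (congrArg res (Subtype.ext ?_)).trans (map_zero res)
        let incl : R.O →ₐ[k] K' :=
          ((L.val.restrictScalars k).comp
            ({ R.O.subtype with commutes' := fun _ => rfl } : R.O →ₐ[k] L))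
        have h1 : incl (aeval yO (minpoly k (α : k'))) = 0 := by
          rw [← aeval_algHom_apply]
          change aeval y (minpoly k (α : k')) = 0
          rw [hy, aeval_algebraMap_apply, minpoly.aeval, map_zero]
        exact Subtype.ext h1
      have hmin : minpoly k (res yO) = minpoly k (α : k') :=
        (minpoly.eq_of_irreducible_of_monic hirr hroot (minpoly.monic hαsep.isIntegral)).symm
      have hsepy : IsSeparable k (res yO) := by
        unfold IsSeparable; rw [hmin]; exact hαsep
      have h1 := natDegree_mul_finrank_le φ (hFL.finite_residueField R) (res yO) hsepy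
      rw [hmin] at h1
      refine le_trans h1 ?_
      exact Nat.le_mul_of_pos_left _ (isOverWith_pos (isOverWith_ramIdx hover))
    have hcard : T.card ≤ 1 := by
      have h1 := Finset.card_nsmul_le_sum T _ _ hlow
      rw [hsum, smul_eq_mul] at h1
      have hpos : 0 < P.deg * (minpoly k (α : k')).natDegree :=
        Nat.mul_pos (hF.deg_pos P) (minpoly.natDegree_pos hαsep.isIntegral)
      by_contra hgt
      rw [not_le] at hgt
      have h2 : Module.finrank K L * P.deg ≤ (minpoly k (α : k')).natDegree * P.deg :=
        Nat.mul_le_mul_right _ hLdeg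
      nlinarith
    have : IsScalarTower k L K' := IsScalarTower.of_algebraMap_eq fun c => ((L.val.restrictScalars k).commutes c).symm
    obtain ⟨R, e, he0, hRe⟩ := hFL.exists_isOverWith Q
    obtain ⟨R₀, e₀, he00, hRe₀⟩ := hFL.exists_isOverWith Q₀
    have hmem : ∀ {Q : Place k K'} {R : Place k L} {e : ℕ}, IsOverWith Q R e → IsOver Q P → R ∈ T := by
      intro Q R e hQR hQP
      obtain ⟨P', e', -, hRP⟩ := hF.exists_isOverWith R
      have : P' = P := by
        refine eq_of_val_le_one_imp fun x hx => ?_
        rw [← isOverWith_le_one_iff hRP, ← isOverWith_le_one_iff hQR] at hx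
        exact (isOverWith_le_one_iff (isOverWith_ramIdx hQP) x).1 hx
      exact (memT R).2 ⟨e', this ▸ hRP⟩
    have hRR : R = R₀ := Finset.card_le_one.1 hcard R (hmem hRe hQ) R₀ (hmem hRe₀ hQ₀)
    subst hRR
    exact eq_of_isPurelyInseparable (L := L) fun z => by
      rw [isOverWith_le_one_iff hRe, isOverWith_le_one_iff hRe₀]

end Groth.Agent.FF30
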