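import Groth.Agent.FF30.ConstLoc

/-! Separable extensions of the constants are unramified. -/

open FunFld WithZero Polynomial

namespace Groth.Agent.FF30

universe u v

variable {k k' : Type u} {K K' : Type v} [Field k] [Field k'] [Field K] [Field K']
  [Algebra k k'] [Algebra k K] [Algebra K K'] [Algebra k' K'] [Algebra k K']
  [IsScalarTower k k' K'] [IsScalarTower k K K']

theorem exists_const_gen [FiniteDimensional k k'] [Algebra.IsSeparable k k']
    (h : Function.Bijective (Algebra.TensorProduct.productMap
      (IsScalarTower.toAlgHom k k' K') (IsScalarTower.toAlgHom k K K'))) :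
    ∃ α : k', Algebra.adjoin K ({algebraMap k' K' α} : Set K') = ⊤ ∧
      Algebra.IsSeparable K K' ∧
      minpoly K (algebraMap k' K' α) = (minpoly k α).map (algebraMap k K) ∧
      aeval α (derivative (minpoly k α)) ≠ 0 := by
  have := finiteDimensional_const h
  obtain ⟨α, hα⟩ := Field.exists_primitive_element k k'
  have hαi : IsIntegral k α := Algebra.IsIntegral.isIntegral α
  have hαtop : Algebra.adjoin k ({α} : Set k') = ⊤ := by
    rw [← IntermediateField.adjoin_simple_toSubalgebra_of_isAlgebraic hαi.isAlgebraic, hα,
      IntermediateField.top_toSubalgebra]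
  set y := algebraMap k' K' α with hy
  obtain ⟨bK, hbK⟩ := exists_constBasis h (Module.finBasis k k')
  have hytop : Algebra.adjoin K ({y} : Set K') = ⊤ := by
    have hmem : ∀ c : k', algebraMap k' K' c ∈ Algebra.adjoin K ({y} : Set K') := by
      intro c
      have hc : c ∈ Algebra.adjoin k ({α} : Set k') := hαtop ▸ Algebra.mem_top
      induction hc using Algebra.adjoin_induction with
      | mem x hx => rw [Set.mem_singleton_iff.1 hx]; exact Algebra.subset_adjoin rfl
      | algebraMap r =>
        rw [← IsScalarTower.algebraMap_apply, IsScalarTower.algebraMap_apply k K K']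
        exact Subalgebra.algebraMap_mem _ _
      | add a b _ _ ha hb => rw [map_add]; exact add_mem ha hb
      | mul a b _ _ ha hb => rw [map_mul]; exact mul_mem ha hb
    rw [eq_top_iff]
    intro z _
    rw [← bK.sum_repr z]
    exact Subalgebra.sum_mem _ fun i _ => Subalgebra.smul_mem _ (hbK i ▸ hmem _) _
  have hyi : IsIntegral K y := Algebra.IsIntegral.isIntegral y
  have hroot : aeval y ((minpoly k α).map (algebraMap k K)) = 0 := by
    rw [aeval_map_algebraMap, hy, aeval_algebraMap_apply, minpoly.aeval, map_zero]
  have hytop' : IntermediateField.adjoin K ({y} : Set K') = ⊤ := by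
    rw [← IntermediateField.toSubalgebra_inj,
      IntermediateField.adjoin_simple_toSubalgebra_of_isAlgebraic hyi.isAlgebraic, hytop,
      IntermediateField.top_toSubalgebra]
  have hmin : minpoly K y = (minpoly k α).map (algebraMap k K) := by
    refine eq_of_monic_of_dvd_of_natDegree_le (minpoly.monic hyi) ((minpoly.monic hαi).map _)
      (minpoly.dvd K y hroot) (le_of_eq ?_) |>.symm
    rw [natDegree_map, ← IntermediateField.adjoin.finrank hαi, hα, IntermediateField.finrank_top',
      ← IntermediateField.adjoin.finrank hyi, hytop', IntermediateField.finrank_top',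
      Module.finrank_eq_card_basis bK, Fintype.card_fin]
  have hsep : IsSeparable k α := Algebra.IsSeparable.isSeparable k α
  have hsepy : IsSeparable K y := by
    unfold IsSeparable
    rw [hmin]
    exact Polynomial.Separable.map hsep
  refine ⟨α, hytop, ?_, hmin, hsep.aeval_derivative_ne_zero (minpoly.aeval k α)⟩
  have h1 : Algebra.IsSeparable K (IntermediateField.adjoin K ({y} : Set K')) :=
    (IntermediateField.isSeparable_adjoin_simple_iff_isSeparable _ _).2 hsepy
  rw [hytop'] at h1
  exact Algebra.IsSeparable.of_algHom _ _ IntermediateField.topEquiv.symm.toAlgHom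

theorem const_separable_integralClosure [FiniteDimensional k k'] [Algebra.IsSeparable k k'] (hF : FF k K)
    (h : Function.Bijective (Algebra.TensorProduct.productMap
      (IsScalarTower.toAlgHom k k' K') (IsScalarTower.toAlgHom k K K')))
    (P : Place k K) [Algebra P.O K'] [IsScalarTower P.O K K'] :
    integralClosure P.O K' = Algebra.adjoin P.O (Set.range (algebraMap k' K')) := by
  have := finiteDimensional_const h
  have := isScalarTower_O (K' := K') P
  obtain ⟨α, hy, hsep, hmin, hd⟩ := exists_const_gen h
  have := hsep
  refine le_antisymm (fun z hz => ?_) (Algebra.adjoin_le ?_)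
  · have hyi : IsIntegral P.O (algebraMap k' K' α) :=
      ((Algebra.IsIntegral.isIntegral (R := k) α).map (IsScalarTower.toAlgHom k k' K')).tower_top
    have h1 := deriv_mul_mem_adjoin P hy hyi hz
    rw [hmin, derivative_map, aeval_map_algebraMap, aeval_algebraMap_apply] at h1
    have h2 := mul_mem (Algebra.subset_adjoin (R := P.O) (s := Set.range (algebraMap k' K'))
      (Set.mem_range_self (aeval α (derivative (minpoly k α)))⁻¹))
      (Algebra.adjoin_mono (Set.singleton_subset_iff.2 (Set.mem_range_self α)) h1)
    rwa [← mul_assoc, ← map_mul, inv_mul_cancel₀ hd, map_one, one_mul] at h2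
  · rintro _ ⟨c, rfl⟩
    exact ((Algebra.IsIntegral.isIntegral (R := k) c).map (IsScalarTower.toAlgHom k k' K')).tower_top

theorem const_separable_unramified [FiniteDimensional k k'] [Algebra.IsSeparable k k'] (hF : FF k K)
    (h : Function.Bijective (Algebra.TensorProduct.productMap
      (IsScalarTower.toAlgHom k k' K') (IsScalarTower.toAlgHom k K K')))
    (P : Place k K) [Algebra P.O K'] [IsScalarTower P.O K K'] {Q : Place k K'} (hQ : IsOver Q P) :
    IsOverWith Q P 1 := by
  have := finiteDimensional_const h
  obtain ⟨α, hy, hsep, hmin, hd⟩ := exists_const_gen h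
  have := hsep
  obtain ⟨e, he⟩ := hQ
  have hf : ((minpoly k α).map (algebraMap k P.O)).map (algebraMap P.O K) =
      minpoly K (algebraMap k' K' α) := by
    rw [hmin, Polynomial.map_map]
    rfl
  have hval : Q.1 (aeval (algebraMap k' K' α) (derivative (minpoly K (algebraMap k' K' α)))) = 1 := by
    rw [hmin, derivative_map, aeval_map_algebraMap, aeval_algebraMap_apply]
    refine val_eq_one_of_isAlgebraic Q ?_ ((_root_.map_ne_zero _).2 hd)
    exact ((Algebra.IsAlgebraic.isAlgebraic (R := k) _).algebraMap)
  have he1 := hF.ramIdx_eq_one_of_deriv P hy ((minpoly.monic (Algebra.IsIntegral.isIntegral α)).map _)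
    hf he hval
  exact he1 ▸ he

end Groth.Agent.FF30
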