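import Groth.Agent.FF30.ConstLoc

/-! Nonsingularity in a tower of constant extensions. -/

open FunFld WithZero

namespace Groth.Agent.FF30

universe u v w

/-- `O_P[X]` is integrally closed. -/
def ConstNormal {k K L : Type*} [Field k] [Field K] [Field L] [Algebra k K] [Algebra K L]
    (P : Place k K) (X : Set L) : Prop :=
  integralClosure (P.O.toSubring.map (algebraMap K L)) L =
    Algebra.adjoin (P.O.toSubring.map (algebraMap K L)) X

theorem constNormal_iff {k : Type u} {K : Type v} {L : Type w} [Field k] [Field K] [Field L] [Algebra k K] [Algebra K L]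
    (P : Place k K) [Algebra P.O L] [IsScalarTower P.O K L] (X : Set L)
    (hX : ∀ x ∈ X, IsIntegral P.O x) :
    ConstNormal P X ↔ ∀ z : L, IsIntegral P.O z → z ∈ Algebra.adjoin P.O X := by
  set S := P.O.toSubring.map (algebraMap K L) with hS
  let f : P.O →+* S := ((algebraMap K L).comp P.O.subtype).codRestrict S fun a => ⟨a, a.2, rfl⟩
  have hf : Function.Surjective f := by
    rintro ⟨_, a, ha, rfl⟩
    exact ⟨⟨a, ha⟩, rfl⟩
  have hfc : (algebraMap S L).comp f = algebraMap P.O L := RingHom.ext fun a =>
    (IsScalarTower.algebraMap_apply P.O K L a).symm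
  have hint : ∀ z : L, IsIntegral S z ↔ IsIntegral P.O z := by
    intro z
    constructor
    · rintro ⟨p, hp, hpz⟩
      obtain ⟨q, hq, -, hqm⟩ := Polynomial.lifts_and_degree_eq_and_monic
        (Polynomial.mem_lifts_of_surjective hf p) hp
      refine ⟨q, hqm, ?_⟩
      rw [← hfc, ← Polynomial.eval₂_map, hq]
      exact hpz
    · rintro ⟨p, hp, hpz⟩
      exact ⟨p.map f, hp.map f, by rwa [Polynomial.eval₂_map, hfc]⟩
  have hadj : ∀ z : L, z ∈ Algebra.adjoin S X ↔ z ∈ Algebra.adjoin P.O X := by
    intro z
    rw [← Subalgebra.mem_toSubring, ← Subalgebra.mem_toSubring, Algebra.adjoin_eq_ring_closure,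
      Algebra.adjoin_eq_ring_closure,
      show Set.range (algebraMap S L) = Set.range (algebraMap P.O L) by
        rw [← hfc, RingHom.coe_comp, Set.range_comp, hf.range_eq, Set.image_univ]]
  constructor
  · intro h z hz
    rw [← hadj]
    exact (h : integralClosure S L = Algebra.adjoin S X) ▸ (hint z).2 hz
  · intro h
    refine le_antisymm (fun z hz => (hadj z).2 (h z ((hint z).1 hz))) (Algebra.adjoin_le fun x hx => ?_)
    exact (hint x).2 (hX x hx)

variable {k k' k'' : Type u} {K K' K'' : Type v} [Field k] [Field k'] [Field k''] [Field K] [Field K'] [Field K'']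
  [Algebra k k'] [Algebra k' k''] [Algebra k k''] [IsScalarTower k k' k'']
  [FiniteDimensional k k'] [FiniteDimensional k' k'']
  [Algebra k K] [Algebra K K'] [Algebra k' K'] [Algebra k K'] [IsScalarTower k k' K'] [IsScalarTower k K K']
  [Algebra K' K''] [Algebra k'' K''] [Algebra k' K''] [Algebra k K''] [Algebra K K'']
  [IsScalarTower k' k'' K''] [IsScalarTower k' K' K''] [IsScalarTower K K' K''] [IsScalarTower k K K'']

theorem constNormal_tower
    (h1 : Function.Bijective (Algebra.TensorProduct.productMap
      (IsScalarTower.toAlgHom k k' K') (IsScalarTower.toAlgHom k K K')))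
    (h2 : Function.Bijective (Algebra.TensorProduct.productMap
      (IsScalarTower.toAlgHom k' k'' K'') (IsScalarTower.toAlgHom k' K' K'')))
    (hF : FF k K) (P : Place k K) :
    ConstNormal P (Set.range (algebraMap k'' K'')) ↔
      (ConstNormal P (Set.range (algebraMap k' K')) ∧
        ∀ Q : Place k K', IsOver Q P → ConstNormal Q (Set.range (algebraMap k'' K''))) := by
  classical
  have := finiteDimensional_const h1
  have := finiteDimensional_const h2
  have : FiniteDimensional K K'' := Module.Finite.trans K' K''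
  have : IsScalarTower k K' K'' := IsScalarTower.of_algebraMap_eq fun c => by
    rw [IsScalarTower.algebraMap_apply k K K'', IsScalarTower.algebraMap_apply K K' K'',
      ← IsScalarTower.algebraMap_apply k K K']
  have : IsScalarTower k k'' K'' := IsScalarTower.of_algebraMap_eq fun c => by
    rw [IsScalarTower.algebraMap_apply k k' k'', ← IsScalarTower.algebraMap_apply k' k'' K'',
      IsScalarTower.algebraMap_apply k' K' K'', ← IsScalarTower.algebraMap_apply k k' K',
      ← IsScalarTower.algebraMap_apply k K' K'']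
  have hF' : FF k K' := hF.extension K'
  let _ : Algebra P.O K' := ((algebraMap K K').comp P.O.subtype).toAlgebra
  have : IsScalarTower P.O K K' := IsScalarTower.of_algebraMap_eq fun _ => rfl
  let _ : Algebra P.O K'' := ((algebraMap K K'').comp P.O.subtype).toAlgebra
  have : IsScalarTower P.O K K'' := IsScalarTower.of_algebraMap_eq fun _ => rfl
  have hk' : ∀ c : k', IsIntegral k (algebraMap k' K' c) := fun c =>
    (Algebra.IsIntegral.isIntegral c).map (IsScalarTower.toAlgHom k k' K')
  have : FiniteDimensional k k'' := Module.Finite.trans k' k''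
  have hk'' : ∀ c : k'', IsIntegral k (algebraMap k'' K'' c) := fun c =>
    (Algebra.IsIntegral.isIntegral c).map (IsScalarTower.toAlgHom k k'' K'')
  have : IsScalarTower P.O K' K'' := IsScalarTower.of_algebraMap_eq fun a =>
    IsScalarTower.algebraMap_apply K K' K'' (a : K)
  let b' := Module.finBasis k k'
  let b'' := Module.finBasis k' k''
  obtain ⟨bK, hbK⟩ := exists_constBasis h1 b'
  obtain ⟨bL, hbL⟩ := exists_constBasis h2 b''
  let B := bK.smulTower bL
  have hB : ∀ ij, B ij = algebraMap k'' K'' (b'.smulTower b'' ij) := by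
    rintro ⟨i, j⟩
    rw [Module.Basis.smulTower_apply, Module.Basis.smulTower_apply, Algebra.smul_def, Algebra.smul_def,
      map_mul, hbK, hbL, ← IsScalarTower.algebraMap_apply k' k'' K'', IsScalarTower.algebraMap_apply k' K' K'']
  have hint' : ∀ x ∈ Set.range (algebraMap k' K'), IsIntegral P.O x := by
    rintro _ ⟨c, rfl⟩
    exact (hF.isIntegral_iff P _).2 fun Q _ => val_le_one_of_isIntegral Q (hk' c)
  have hint'' : ∀ x ∈ Set.range (algebraMap k'' K''), IsIntegral P.O x := by
    rintro _ ⟨c, rfl⟩
    exact (hF.isIntegral_iff P _).2 fun Q _ => val_le_one_of_isIntegral Q (hk'' c)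
  have hrepr : ∀ (z : K'') i j, B.repr z (i, j) = bK.repr (bL.repr z j) i := fun z i j => by
    rw [Module.Basis.smulTower_repr]
  have hP'' : ∀ z : K'', z ∈ Algebra.adjoin P.O (Set.range (algebraMap k'' K'')) ↔
      ∀ j, bL.repr z j ∈ Algebra.adjoin P.O (Set.range (algebraMap k' K')) := fun z => by
    rw [mem_adjoin_const_iff P (b'.smulTower b'') B hB]
    simp only [mem_adjoin_const_iff P b' bK hbK, Prod.forall, hrepr]
    exact forall_comm
  have hQ'' : ∀ (Q : Place k K') (_ : IsOver Q P) [Algebra Q.O K''] [IsScalarTower Q.O K' K''] (z : K''),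
      z ∈ Algebra.adjoin Q.O (Set.range (algebraMap k'' K'')) ↔ ∀ j, Q.1 (bL.repr z j) ≤ 1 :=
    fun Q _ iA iT z => by
      let Q' : Place k' K' := ⟨Q.1, fun c => val_le_one_of_isIntegral Q (hk' c), Q.2.2⟩
      exact @mem_adjoin_const_iff k' k'' K' K'' _ _ _ _ _ _ _ _ _ _ _ _ _ Q' iA iT b'' bL hbL z
  rw [constNormal_iff P _ hint'', constNormal_iff P _ hint']
  constructor
  · intro h
    refine ⟨fun z hz => ?_, fun Q hQ => ?_⟩
    · have hz'' : IsIntegral P.O (algebraMap K' K'' z) :=
        hz.map (IsScalarTower.toAlgHom P.O K' K'')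
      have h0 := (hP'' _).1 (h _ hz'')
      obtain ⟨j, hj⟩ : ∃ j, b''.repr (1 : k'') j ≠ 0 := by
        by_contra hall
        push Not at hall
        exact one_ne_zero (b''.repr.injective ((Finsupp.ext hall).trans (map_zero b''.repr).symm))
      have h1 : bL.repr (algebraMap K' K'' z) j = z * algebraMap k' K' (b''.repr 1 j) := by
        have h2 : algebraMap K' K'' z = ∑ i, (z * algebraMap k' K' (b''.repr 1 i)) • bL i := by
          conv_lhs => rw [← mul_one (algebraMap K' K'' z), ← map_one (algebraMap k'' K''),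
            ← b''.sum_repr 1, map_sum, Finset.mul_sum]
          refine Finset.sum_congr rfl fun i _ => ?_
          rw [hbL, Algebra.smul_def, Algebra.smul_def, map_mul, map_mul,
            ← IsScalarTower.algebraMap_apply k' k'' K'', ← IsScalarTower.algebraMap_apply k' K' K'']
          ring
        rw [h2, bL.repr_sum_self]
      have h3 := mul_mem (h0 j) (Algebra.subset_adjoin (R := P.O)
        (Set.mem_range_self (b''.repr 1 j)⁻¹))
      rwa [h1, mul_assoc, ← map_mul, mul_inv_cancel₀ hj, map_one, mul_one] at h3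
    · let _ : Algebra Q.O K'' := ((algebraMap K' K'').comp Q.O.subtype).toAlgebra
      have : IsScalarTower Q.O K' K'' := IsScalarTower.of_algebraMap_eq fun _ => rfl
      refine (constNormal_iff Q _ ?_).2 fun w hw => (hQ'' Q hQ w).2 fun j => ?_
      · rintro _ ⟨c, rfl⟩
        exact (hF'.isIntegral_iff Q _).2 fun R _ => val_le_one_of_isIntegral R (hk'' c)
      set T' := (hF.finite_setOf_isOver (K' := K') P).toFinset
      have memT' : ∀ R, R ∈ T' ↔ IsOver R P := fun R => (hF.finite_setOf_isOver P).mem_toFinset
      set T'' := (hF.finite_setOf_isOver (K' := K'') P).toFinset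
      have memT'' : ∀ R, R ∈ T'' ↔ IsOver R P := fun R => (hF.finite_setOf_isOver P).mem_toFinset
      set N := ∑ R ∈ T'', (R.ord w).natAbs + 1 with hN
      obtain ⟨u, huQ, huR⟩ := exists_delta Q (T'.erase Q) (T'.notMem_erase Q) N
      have hu1 : Q.1 u = 1 := by
        have hlt : Q.1 (u - 1) < Q.1 1 := by
          rw [map_one]
          refine huQ.trans_lt ?_
          rw [← exp_zero, exp_lt_exp]
          omega
        have h3 := Q.1.map_add_eq_of_lt_left hlt
        rwa [add_sub_cancel, map_one] at h3
      have huw : IsIntegral P.O (algebraMap K' K'' u * w) := by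
        refine (hF.isIntegral_iff P _).2 fun R hR => ?_
        obtain ⟨R', e, he0, hRR'⟩ := hF'.exists_isOverWith R
        obtain ⟨P', e', -, hR'P⟩ := hF.exists_isOverWith R'
        have hPP : P' = P := by
          refine eq_of_val_le_one_imp fun x hx => ?_
          rw [← isOverWith_le_one_iff hR'P, ← isOverWith_le_one_iff hRR',
            ← IsScalarTower.algebraMap_apply K K' K''] at hx
          exact (isOverWith_le_one_iff (isOverWith_ramIdx hR) x).1 hx
        subst hPP
        rw [map_mul, hRR' u]
        by_cases hR'Q : R' = Q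
        · subst hR'Q
          rw [hu1, one_pow, one_mul]
          exact (hF'.isIntegral_iff R' w).1 hw R ⟨e, hRR'⟩
        · have hmem : R' ∈ T'.erase Q := Finset.mem_erase.2 ⟨hR'Q, (memT' R').2 ⟨e', hR'P⟩⟩
          rcases eq_or_ne w 0 with rfl | hw0
          · simp
          rw [val_eq R hw0]
          refine (mul_le_mul' (pow_le_pow_left' (huR R' hmem) e) le_rfl).trans ?_
          rw [← exp_nsmul, ← exp_add, ← exp_zero, exp_le_exp, nsmul_eq_mul]
          have h1 : (R.ord w).natAbs ≤ ∑ R ∈ T'', (R.ord w).natAbs :=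
            Finset.single_le_sum (f := fun R : Place k K'' => (R.ord w).natAbs) (fun _ _ => Nat.zero_le _)
              ((memT'' R).2 hR)
          have h2 : (1 : ℤ) ≤ e := by exact_mod_cast he0
          have h3 : ((R.ord w).natAbs : ℤ) + 1 ≤ (N : ℤ) := by omega
          nlinarith [neg_abs_le (R.ord w), Int.natCast_natAbs (R.ord w)]
      have h4 := (hP'' _).1 (h _ huw) j
      rw [← Algebra.smul_def, map_smul, Finsupp.smul_apply, smul_eq_mul] at h4
      have h5 := (hF.isIntegral_iff P _).1 (Algebra.adjoin_le (S := integralClosure P.O K') hint' h4) Q hQ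
      rwa [map_mul, hu1, one_mul] at h5
  · rintro ⟨h, hQn⟩ z hz
    refine (hP'' z).2 fun j => h _ ((hF.isIntegral_iff P _).2 fun Q hQ => ?_)
    let _ : Algebra Q.O K'' := ((algebraMap K' K'').comp Q.O.subtype).toAlgebra
    have : IsScalarTower Q.O K' K'' := IsScalarTower.of_algebraMap_eq fun _ => rfl
    have hzQ : IsIntegral Q.O z := by
      obtain ⟨p, hp, hpz⟩ := hz
      let g : P.O →+* Q.O := ((algebraMap K K').comp P.O.subtype).codRestrict Q.O.toSubring fun a =>
        ((isOverWith_le_one_iff (isOverWith_ramIdx hQ) _).mpr a.2)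
      refine ⟨p.map g, hp.map g, ?_⟩
      rw [Polynomial.eval₂_map,
        show (algebraMap Q.O K'').comp g = algebraMap P.O K'' from
          RingHom.ext fun a => (IsScalarTower.algebraMap_apply K K' K'' (a : K)).symm]
      exact hpz
    refine (hQ'' Q hQ z).1 ?_ j
    refine (constNormal_iff Q _ ?_).1 (hQn Q hQ) z hzQ
    rintro _ ⟨c, rfl⟩
    exact (hF'.isIntegral_iff Q _).2 fun R _ => val_le_one_of_isIntegral R (hk'' c)

end Groth.Agent.FF30
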