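import Groth.Agent.FF30.ConstPlaces
import Groth.Agent.FF30.Galois

/-! Places fixed by the twists of an endomorphism in a Galois extension. -/

open FunFld WithZero
open scoped Multiplicative

namespace Groth.Agent.FF30

variable {k L : Type*} [Field k] [Field L] [Algebra k L]

/-- The pullback of a place along an endomorphism. -/
theorem FF.exists_comap_place (h : FF k L) (τ : L →ₐ[k] L) (R : Place k L) {t : L} (ht0 : t ≠ 0)
    (ht : R.1 (τ t) < 1) : ∃ R' : Place k L, ∀ z, R'.1 z ≤ 1 ↔ R.1 (τ z) ≤ 1 := by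
  let V := R.O.comap (τ : L →+* L)
  have hk : ∀ c : k, algebraMap k L c ∈ V := fun c => by
    change R.1 (τ (algebraMap k L c)) ≤ 1
    rw [τ.commutes]
    exact R.2.1 c
  have hV : V ≠ ⊤ := by
    intro htop
    have hmem : t⁻¹ ∈ V := htop ▸ trivial
    have h1 : R.1 (τ t⁻¹) ≤ 1 := hmem
    have hτ0 : τ t ≠ 0 := (map_ne_zero τ).mpr ht0
    rw [map_inv₀, map_inv₀, inv_le_one₀ (zero_lt_iff.mpr (val_ne_zero R hτ0))] at h1
    exact not_lt.mpr h1 ht
  obtain ⟨R', hR'⟩ := h.exists_place V hk hV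
  refine ⟨R', fun z => ?_⟩
  have : z ∈ R'.O ↔ z ∈ V := by rw [hR']
  exact this

theorem comap_lt_one_iff {τ : L →ₐ[k] L} {R R' : Place k L}
    (h : ∀ z, R'.1 z ≤ 1 ↔ R.1 (τ z) ≤ 1) (z : L) : R'.1 z < 1 ↔ R.1 (τ z) < 1 := by
  rcases eq_or_ne z 0 with rfl | hz
  · simp
  have h1 := h z⁻¹
  rw [map_inv₀, map_inv₀, map_inv₀, inv_le_one₀ (zero_lt_iff.mpr (val_ne_zero R' hz)),
    inv_le_one₀ (zero_lt_iff.mpr (val_ne_zero R ((map_ne_zero τ).mpr hz)))] at h1
  rw [← not_le, ← not_le, h1]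

variable [IsAlgClosed k]

theorem FF.eq_of_lt_one_imp (h : FF k L) {R R' : Place k L} (himp : ∀ x, R.1 x < 1 → R'.1 x < 1) :
    R = R' :=
  eq_of_val_le_one_imp fun x hx => by
    obtain ⟨c, hc⟩ := h.exists_sub_lt R hx
    rw [show x = (x - algebraMap k L c) + algebraMap k L c by ring]
    exact (R'.1.map_add _ _).trans (max_le (himp _ hc).le (R'.2.1 c))

theorem isFixed_iff_eq (h : FF k L) {τ : L →ₐ[k] L} {R R' : Place k L}
    (hR' : ∀ z, R'.1 z ≤ 1 ↔ R.1 (τ z) ≤ 1) :
    IsFixed τ R ↔ R = R' := by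
  constructor
  · exact fun hf => h.eq_of_lt_one_imp fun z hz => (comap_lt_one_iff hR' z).mpr (hf z hz)
  · rintro rfl z hz
    exact (comap_lt_one_iff hR' z).mp hz

omit [IsAlgClosed k] in
theorem isOver_of_forall {M : Type*} [Field M] [Algebra k M] [Algebra M L] [IsScalarTower k M L]
    [FiniteDimensional M L] (hM : FF k M) {R : Place k L} {p : Place k M}
    (h : ∀ z, p.1 z < 1 → R.1 (algebraMap M L z) < 1) : IsOver R p := by
  obtain ⟨P', e, he, hP'⟩ := hM.exists_isOverWith R
  have : P' = p := eq_of_val_le_one_imp fun x hx => by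
    by_contra hlt
    rw [not_le] at hlt
    have hx0 : x ≠ 0 := fun h0 => by simp [h0] at hlt
    have h1 : p.1 x⁻¹ < 1 := by rw [map_inv₀]; exact inv_lt_one_of_one_lt₀ hlt
    have h2 := h _ h1
    rw [hP' x⁻¹, pow_lt_one_iff_of_nonneg zero_le he.ne', map_inv₀,
      inv_lt_one₀ (zero_lt_iff.mpr (val_ne_zero P' hx0))] at h2
    exact not_lt.mpr hx h2
  exact ⟨e, this ▸ hP'⟩

omit [IsAlgClosed k] in
theorem isOver_lt_iff {M : Type*} [Field M] [Algebra k M] [Algebra M L] [IsScalarTower k M L]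
    {R : Place k L} {p : Place k M} (h : IsOver R p) (z : M) :
    R.1 (algebraMap M L z) < 1 ↔ p.1 z < 1 := by
  obtain ⟨e, he⟩ := h
  rw [he z, pow_lt_one_iff_of_nonneg zero_le (isOverWith_pos he).ne']

variable {M : Type*} [Field M] [Algebra k M] [Algebra M L] [IsScalarTower k M L]
  [FiniteDimensional M L] [IsGalois M L] (τ : L →ₐ[k] L) (τM : M →ₐ[k] M)

/-- The twist of `τ` by `σ`. -/
def twist (σ : L ≃ₐ[M] L) : L →ₐ[k] L := (σ.restrictScalars k).toAlgHom.comp τ

omit [IsAlgClosed k] [FiniteDimensional M L] [IsGalois M L] in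
theorem twist_apply (σ : L ≃ₐ[M] L) (z : L) : twist τ σ z = σ (τ z) := rfl

omit [IsGalois M L] in
/-- A fixed place of a twist lies over a fixed place. -/
theorem below_fixed_of_twist (hM : FF k M) (hcomm : ∀ z : M, τ (algebraMap M L z) = algebraMap M L (τM z))
    (σ : L ≃ₐ[M] L) {R : Place k L} (hR : IsFixed (twist τ σ) R) :
    ∃ p : Place k M, IsFixed τM p ∧ IsOver R p := by
  obtain ⟨p, e, he, hp⟩ := hM.exists_isOverWith R
  refine ⟨p, fun z hz => ?_, e, hp⟩
  have h1 := hR _ ((isOver_lt_iff ⟨e, hp⟩ z).mpr hz)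
  rw [twist_apply, hcomm, σ.commutes] at h1
  exact (isOver_lt_iff ⟨e, hp⟩ _).mp h1

open scoped Classical in
/-- Over a fixed place there are `|G|` fixed places of twists. -/
theorem sum_card_fixed_over (hM : FF k M)
    (hcomm : ∀ z : M, τ (algebraMap M L z) = algebraMap M L (τM z)) {p : Place k M}
    (hp : IsFixed τM p) (F : (L ≃ₐ[M] L) → Finset (Place k L))
    (hF : ∀ σ R, R ∈ F σ ↔ IsFixed (twist τ σ) R) :
    ∑ σ, ((F σ).filter fun R => IsOver R p).card = Fintype.card (L ≃ₐ[M] L) := by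
  have hL : FF k L := hM.extension L
  set T := (hM.finite_setOf_isOver (K' := L) p).toFinset
  have hT : ∀ R, R ∈ T ↔ IsOver R p := fun R => (hM.finite_setOf_isOver p).mem_toFinset
  obtain ⟨t, ht0, ht⟩ := exists_uniformizer p
  have ht' : p.1 t < 1 := by rw [ht, ← exp_zero, exp_lt_exp]; omega
  have hpull : ∀ R, IsOver R p → ∃ R', (∀ z, R'.1 z ≤ 1 ↔ R.1 (τ z) ≤ 1) ∧ IsOver R' p := by
    intro R hR
    obtain ⟨R', hR'⟩ := hL.exists_comap_place τ R (t := algebraMap M L t) (by simpa using ht0)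
      (by rw [hcomm]; exact (isOver_lt_iff hR _).mpr (hp t ht'))
    refine ⟨R', hR', isOver_of_forall hM fun z hz => (comap_lt_one_iff hR' _).mpr ?_⟩
    rw [hcomm]
    exact (isOver_lt_iff hR _).mpr (hp z hz)
  have : Nonempty (Place k L) := hL.nonempty_place
  choose! pull hpull1 hpull2 using hpull
  have hover : ∀ R, IsOver R p → ∀ σ : L ≃ₐ[M] L, IsOver (placeComap R σ) p := by
    rintro R ⟨e, he⟩ σ
    exact ⟨e, isOverWith_placeComap he σ⟩
  have hfix : ∀ (σ : L ≃ₐ[M] L) R, IsOver R p →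
      (IsFixed (twist τ σ) R ↔ pull (placeComap R σ) = R) := by
    intro σ R hR
    rw [isFixed_iff_eq hL (R' := pull (placeComap R σ)) (fun z => ?_), eq_comm]
    rw [hpull1 _ (hover R hR σ), placeComap_apply, twist_apply]
  obtain ⟨R₁, hR₁⟩ : ∃ R : Place k L, IsOver R p := hM.exists_over p
  calc ∑ σ, ((F σ).filter fun R => IsOver R p).card
      = ∑ σ : L ≃ₐ[M] L, (T.filter fun R' => placeComap (pull R') σ = R').card := by
        refine Finset.sum_congr rfl fun σ _ => ?_
        refine Finset.card_nbij' (fun R => placeComap R σ) (fun R' => pull R') ?_ ?_ ?_ ?_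
        · intro R hR
          simp only [SetLike.mem_coe, Finset.mem_filter, hF] at hR
          simp only [SetLike.mem_coe, Finset.mem_filter, hT]
          exact ⟨hover R hR.2 σ, by rw [(hfix σ R hR.2).mp hR.1]⟩
        · intro R' hR'
          simp only [SetLike.mem_coe, Finset.mem_filter, hT] at hR'
          simp only [SetLike.mem_coe, Finset.mem_filter, hF]
          exact ⟨(hfix σ _ (hpull2 _ hR'.1)).mpr (by rw [hR'.2]), hpull2 _ hR'.1⟩
        · intro R hR
          simp only [SetLike.mem_coe, Finset.mem_filter, hF] at hR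
          exact (hfix σ R hR.2).mp hR.1
        · intro R' hR'
          simp only [SetLike.mem_coe, Finset.mem_filter] at hR'
          exact hR'.2
    _ = ∑ R' ∈ T, (Finset.univ.filter fun σ : L ≃ₐ[M] L => placeComap (pull R') σ = R').card := by
        simp only [Finset.card_filter]
        exact Finset.sum_comm
    _ = ∑ R' ∈ T, (Finset.univ.filter fun σ : L ≃ₐ[M] L => placeComap R₁ σ = R').card := by
        refine Finset.sum_congr rfl fun R' hR' => ?_
        obtain ⟨μ, hμ⟩ := hM.exists_placeComap_eq hR₁ (hpull2 _ ((hT R').mp hR'))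
        refine Finset.card_nbij' (fun σ => μ * σ) (fun σ => μ⁻¹ * σ) ?_ ?_ ?_ ?_
        · intro σ hσ
          simp only [SetLike.mem_coe, Finset.mem_filter, Finset.mem_univ, true_and] at hσ ⊢
          rw [placeComap_mul, hμ, hσ]
        · intro σ hσ
          simp only [SetLike.mem_coe, Finset.mem_filter, Finset.mem_univ, true_and] at hσ ⊢
          rw [← hμ, ← placeComap_mul, mul_inv_cancel_left, hσ]
        · intro σ _; exact inv_mul_cancel_left μ σ
        · intro σ _; exact mul_inv_cancel_left μ σ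
    _ = Fintype.card (L ≃ₐ[M] L) := by
        rw [← Finset.card_univ]
        exact (Finset.card_eq_sum_card_fiberwise fun σ _ =>
          (hT _).mpr (hover R₁ hR₁ σ)).symm

open scoped Classical in
theorem sum_card_fixed_ge (hM : FF k M)
    (hcomm : ∀ z : M, τ (algebraMap M L z) = algebraMap M L (τM z)) (S : Finset (Place k M))
    (hS : ∀ p ∈ S, IsFixed τM p) (F : (L ≃ₐ[M] L) → Finset (Place k L))
    (hF : ∀ σ R, R ∈ F σ ↔ IsFixed (twist τ σ) R) :
    S.card * Fintype.card (L ≃ₐ[M] L) ≤ ∑ σ, (F σ).card := by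
  rw [← smul_eq_mul, ← Finset.sum_const, ← Finset.sum_congr rfl fun p hp =>
    sum_card_fixed_over τ τM hM hcomm (hS p hp) F hF, Finset.sum_comm]
  refine Finset.sum_le_sum fun σ _ => ?_
  rw [← Finset.card_biUnion]
  · exact Finset.card_le_card fun R hR => by
      simp only [Finset.mem_biUnion, Finset.mem_filter] at hR
      obtain ⟨_, _, h, _⟩ := hR
      exact h
  · intro p _ p' _ hne
    rw [Function.onFun, Finset.disjoint_left]
    intro R h1 h2
    simp only [Finset.mem_filter] at h1 h2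
    exact hne (isOver_unique h1.2 h2.2)

open scoped Classical in
theorem sum_card_fixed_le (hM : FF k M)
    (hcomm : ∀ z : M, τ (algebraMap M L z) = algebraMap M L (τM z)) (S : Finset (Place k M))
    (hS : ∀ p, p ∈ S ↔ IsFixed τM p) (F : (L ≃ₐ[M] L) → Finset (Place k L))
    (hF : ∀ σ R, R ∈ F σ ↔ IsFixed (twist τ σ) R) :
    ∑ σ, (F σ).card ≤ S.card * Fintype.card (L ≃ₐ[M] L) := by
  rw [← smul_eq_mul, ← Finset.sum_const, ← Finset.sum_congr rfl fun p hp =>
    sum_card_fixed_over τ τM hM hcomm ((hS p).mp hp) F hF, Finset.sum_comm]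
  refine Finset.sum_le_sum fun σ _ => ?_
  refine (Finset.card_le_card fun R hR => ?_).trans Finset.card_biUnion_le
  obtain ⟨p, hp, hpR⟩ := below_fixed_of_twist τ τM hM hcomm σ ((hF σ R).mp hR)
  simp only [Finset.mem_biUnion, Finset.mem_filter]
  exact ⟨p, (hS p).mpr hp, hR, hpR⟩

end Groth.Agent.FF30
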