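import Groth.Agent.FF30.RH
import Groth.Agent.FF30.Twist

/-! The zeta function of a constant field extension; places defined over the constants. -/

open FunFld WithZero
open scoped Multiplicative

namespace Groth.Agent.FF30

open PowerSeries in
/-- A power series with constant term is determined by its logarithmic derivative. -/
theorem eq_of_logDeriv {P R S : PowerSeries ℂ} (hP : X * d⁄dX ℂ P = -(P * S))
    (hR : X * d⁄dX ℂ R = -(R * S)) (hS : constantCoeff S = 0)
    (h0 : constantCoeff P = constantCoeff R) : P = R := by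
  ext n
  induction n using Nat.strong_induction_on with
  | _ n ih =>
    rcases n with _ | n
    · simpa using h0
    · have e1 := congrArg (coeff (n + 1)) hP
      have e2 := congrArg (coeff (n + 1)) hR
      rw [coeff_succ_X_mul, coeff_derivative, map_neg, coeff_mul] at e1 e2
      have hsum : ∑ p ∈ Finset.antidiagonal (n + 1), coeff p.1 P * coeff p.2 S =
          ∑ p ∈ Finset.antidiagonal (n + 1), coeff p.1 R * coeff p.2 S := by
        refine Finset.sum_congr rfl fun p hp => ?_
        rw [Finset.mem_antidiagonal] at hp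
        rcases Nat.eq_zero_or_pos p.2 with h2 | h2
        · rw [h2, coeff_zero_eq_constantCoeff_apply, hS, mul_zero, mul_zero]
        · rw [ih p.1 (by omega)]
      rw [hsum, ← e2] at e1
      exact mul_right_cancel₀ (Nat.cast_add_one_ne_zero n) e1

open PowerSeries in
theorem frobSum_of_numer {k K : Type*} [Field k] [Finite k] [Field K] [Algebra k K]
    (hK : IsFunctionField k K) {σ : Type*} [Fintype σ] (α : σ → ℂ)
    (hα : PowerSeries.map (Int.castRingHom ℂ) (numerZ k K) =
      ((∏ i, (1 - Polynomial.C (α i) * Polynomial.X) : Polynomial ℂ) : PowerSeries ℂ))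
    (j : ℕ) (hj : j ≠ 0) :
    (frobSum k K j : ℂ) = 1 + (Nat.card k : ℂ) ^ j - ∑ i, α i ^ j := by
  classical
  have h1 := frobSum_eq_of_roots hK.1 one_pos (fun D => by simp) α (by
    rw [zSer_one, hα, ← Polynomial.coeToPowerSeries.ringHom_apply, map_prod]
    simp) j hj
  simpa using h1

variable {k K k' K' : Type*} [Field k] [Finite k] [Field K] [Algebra k K] [Field k'] [Finite k']
  [Field K'] [Algebra k k'] [Algebra K K'] [Algebra k' K']

/-- Point counts in a constant extension. -/
theorem frobSum_constExt (hK : IsFunctionField k K) (hK' : IsFunctionField k' K')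
    (hce : IsConstExt k K k' K') {m : ℕ} (hm : m ≠ 0) :
    frobSum k' K' m = frobSum k K (Module.finrank k k' * m) := by
  obtain ⟨hcomm, hgen, -⟩ := hce
  have : FiniteDimensional k k' := Module.Finite.of_finite
  let kb := kbar k' K'
  let Kb := Kbar k' K'
  let : Algebra k kb := ((algebraMap k' kb).comp (algebraMap k k')).toAlgebra
  have : IsScalarTower k k' kb := IsScalarTower.of_algebraMap_eq fun _ => rfl
  let : Algebra K Kb := ((algebraMap K' Kb).comp (algebraMap K K')).toAlgebra
  have : IsScalarTower K K' Kb := IsScalarTower.of_algebraMap_eq fun _ => rfl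
  let : Algebra k Kb := ((algebraMap kb Kb).comp (algebraMap k kb)).toAlgebra
  have : IsScalarTower k kb Kb := IsScalarTower.of_algebraMap_eq fun _ => rfl
  have : IsScalarTower k K Kb := IsScalarTower.of_algebraMap_eq fun c => by
    change algebraMap kb Kb (algebraMap k' kb (algebraMap k k' c)) = algebraMap K' Kb (algebraMap K K' (algebraMap k K c))
    rw [hcomm c, ← IsScalarTower.algebraMap_apply k' kb Kb, ← IsScalarTower.algebraMap_apply k' K' Kb]
  have : Algebra.IsAlgebraic k kb := Algebra.IsAlgebraic.trans k k' kb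
  have hC' := isCompositum_bar hK'
  have hC : IsCompositum k K kb Kb := ⟨hK.2, by
    rw [eq_top_iff]
    intro z htop
    clear htop
    have hz : z ∈ Algebra.adjoin K' (Set.range (algebraMap kb Kb)) := hC'.gen ▸ Algebra.mem_top
    have hK'mem : ∀ y : K', algebraMap K' Kb y ∈ Algebra.adjoin K (Set.range (algebraMap kb Kb)) := by
      intro y
      have hy : y ∈ Algebra.adjoin K (Set.range (algebraMap k' K')) := hgen ▸ Algebra.mem_top
      induction hy using Algebra.adjoin_induction with
      | mem x hx =>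
        obtain ⟨c, rfl⟩ := hx
        refine Algebra.subset_adjoin ⟨algebraMap k' kb c, ?_⟩
        rw [← IsScalarTower.algebraMap_apply, ← IsScalarTower.algebraMap_apply]
      | algebraMap x =>
        rw [← IsScalarTower.algebraMap_apply K K' Kb]
        exact Subalgebra.algebraMap_mem _ x
      | add a b _ _ ha hb => rw [map_add]; exact add_mem ha hb
      | mul a b _ _ ha hb => rw [map_mul]; exact mul_mem ha hb
    induction hz using Algebra.adjoin_induction with
    | mem x hx => exact Algebra.subset_adjoin hx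
    | algebraMap x => exact hK'mem x
    | add a b _ _ ha hb => exact add_mem ha hb
    | mul a b _ _ ha hb => exact mul_mem ha hb⟩
  have := Fintype.ofFinite k'
  set n := Module.finrank k k'
  have hn : n ≠ 0 := Module.finrank_pos.ne'
  set τ := hC'.extendEnd ((FiniteField.frobeniusAlgHom k' K') ^ m)
  have hτ' : ∀ x : K', τ (algebraMap K' Kb x) = algebraMap K' Kb (x ^ Nat.card k' ^ m) := fun x => by
    rw [hC'.extendEnd_apply, AlgHom.coe_pow, FiniteField.coe_frobeniusAlgHom, pow_iterate,
      Fintype.card_eq_nat_card]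
  have hτ : ∀ x : K, τ (algebraMap K Kb x) = algebraMap K Kb (x ^ Nat.card k ^ (n * m)) := fun x => by
    rw [IsScalarTower.algebraMap_apply K K' Kb, hτ', IsScalarTower.algebraMap_apply K K' Kb,
      ← map_pow (algebraMap K K'), Module.natCard_eq_pow_finrank (K := k) (V := k'), ← pow_mul]
  obtain ⟨S, hS, hSmem⟩ := hC'.exists_fixedSet hK'.1 hm τ hτ'
  obtain ⟨T, hT, hTmem⟩ := hC.exists_fixedSet hK.1 (Nat.mul_ne_zero hn hm) τ hτ
  rw [← hS, ← hT]
  congr 1
  ext Q
  rw [hSmem, hTmem]

theorem card_deg_one_constExt (hK : IsFunctionField k K) (hK' : IsFunctionField k' K')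
    (hce : IsConstExt k K k' K') {σ : Type*} [Fintype σ] (α : σ → ℂ)
    (hα : PowerSeries.map (Int.castRingHom ℂ) (numerZ k K) =
      ((∏ i, (1 - Polynomial.C (α i) * Polynomial.X) : Polynomial ℂ) : PowerSeries ℂ)) :
    (Nat.card {P : Place k' K' // P.deg = 1} : ℂ) =
      1 + (Nat.card k : ℂ) ^ Module.finrank k k' - ∑ i, α i ^ Module.finrank k k' := by
  have : FiniteDimensional k k' := Module.Finite.of_finite
  rw [← frobSum_one, frobSum_constExt hK hK' hce one_ne_zero, mul_one,
    frobSum_of_numer hK α hα _ Module.finrank_pos.ne']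

open PowerSeries in
theorem numer_constExt (hK : IsFunctionField k K) (hK' : IsFunctionField k' K')
    (hce : IsConstExt k K k' K') {σ : Type*} [Fintype σ] (α : σ → ℂ)
    (hα : PowerSeries.map (Int.castRingHom ℂ) (numerZ k K) =
      ((∏ i, (1 - Polynomial.C (α i) * Polynomial.X) : Polynomial ℂ) : PowerSeries ℂ)) :
    PowerSeries.map (Int.castRingHom ℂ) (numerZ k' K') =
      ((∏ i, (1 - Polynomial.C (α i ^ Module.finrank k k') * Polynomial.X) : Polynomial ℂ) :
        PowerSeries ℂ) := by
  classical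
  have : FiniteDimensional k k' := Module.Finite.of_finite
  obtain ⟨β, -, hser, -, hF⟩ := exists_roots hK'
  set n := Module.finrank k k'
  have hn : n ≠ 0 := Module.finrank_pos.ne'
  have key : ∀ j, j ≠ 0 → ∑ i, β i ^ j = ∑ i, (α i ^ n) ^ j := by
    intro j hj
    have h1 := hF j hj
    rw [frobSum_constExt hK hK' hce hj, frobSum_of_numer hK α hα _ (Nat.mul_ne_zero hn hj),
      Module.natCard_eq_pow_finrank (K := k) (V := k'), Nat.cast_pow, ← pow_mul] at h1
    simp only [← pow_mul]
    linear_combination h1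
  rw [hser, ← Polynomial.coeToPowerSeries.ringHom_apply, map_prod,
    ← Polynomial.coeToPowerSeries.ringHom_apply, map_prod]
  simp only [Polynomial.coeToPowerSeries.ringHom_apply, Polynomial.coe_sub, Polynomial.coe_one,
    Polynomial.coe_mul, Polynomial.coe_C, Polynomial.coe_X]
  refine eq_of_logDeriv (logDeriv_prod Finset.univ β) ?_ (by simp [constantCoeff_mk]) (by simp)
  rw [show (PowerSeries.mk fun j => if j = 0 then (0 : ℂ) else ∑ i, β i ^ j) =
      PowerSeries.mk fun j => if j = 0 then (0 : ℂ) else ∑ i, (α i ^ n) ^ j by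
    ext j
    simp only [coeff_mk]
    split_ifs with hj
    · rfl
    · exact key j hj]
  exact logDeriv_prod Finset.univ fun i => α i ^ n

omit [Finite k'] in
/-- Frobenius-fixed places are the places of degree one. -/
theorem fixed_iff_deg_one {kb Kb : Type*} [Field kb] [Algebra k kb] [IsAlgClosure k kb] [Field Kb]
    [Algebra K Kb] [Algebra kb Kb] (hK : IsFunctionField k K)
    (hc : ∀ c : k, algebraMap K Kb (algebraMap k K c) = algebraMap kb Kb (algebraMap k kb c))
    (hgen : Algebra.adjoin K (Set.range (algebraMap kb Kb)) = ⊤)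
    (F : Kb →+* Kb) (hF1 : ∀ c : kb, F (algebraMap kb Kb c) = algebraMap kb Kb c)
    (hF2 : ∀ x : K, F (algebraMap K Kb x) = algebraMap K Kb x ^ Nat.card k)
    (Q : Place kb Kb) :
    (∀ z : Kb, Q.1 (F z) < 1 ↔ Q.1 z < 1) ↔
      ∃ P : Place k K, (∀ x : K, Q.1 (algebraMap K Kb x) ≤ 1 ↔ P.1 x ≤ 1) ∧ P.deg = 1 := by
  classical
  let : Algebra k Kb := ((algebraMap kb Kb).comp (algebraMap k kb)).toAlgebra
  have : IsScalarTower k kb Kb := IsScalarTower.of_algebraMap_eq fun _ => rfl
  have : IsScalarTower k K Kb := IsScalarTower.of_algebraMap_eq fun c => (hc c).symm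
  have : IsAlgClosed kb := IsAlgClosure.isAlgClosed k
  have : Algebra.IsAlgebraic k kb := IsAlgClosure.isAlgebraic
  have hC : IsCompositum k K kb Kb := ⟨hK.2, hgen⟩
  let τ : Kb →ₐ[kb] Kb := { F with commutes' := hF1 }
  have hτ : ∀ x : K, τ (algebraMap K Kb x) = algebraMap K Kb (x ^ Nat.card k ^ 1) := fun x => by
    rw [pow_one, map_pow]; exact hF2 x
  obtain ⟨P, hP⟩ := hC.exists_below hK.1 Q
  have h1 := hC.card_fixed_fibre hK.1 P 1 τ hτ
  have hfinfix : Finite {R : Place kb Kb // Below R P ∧ IsFixed τ R} :=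
    ((hC.finite_fibre hK.1 P).subset fun R (hR : Below R P ∧ IsFixed τ R) => hR.1).to_subtype
  have hfix : (∀ z : Kb, Q.1 (F z) < 1 ↔ Q.1 z < 1) ↔ IsFixed τ Q := by
    refine ⟨fun h z hz => (h z).mpr hz, fun h z => ?_⟩
    obtain ⟨t, ht0, ht⟩ := exists_uniformizer Q
    have ht' : Q.1 t < 1 := by rw [ht, ← exp_zero, exp_lt_exp]; omega
    have hFF := hC.ff hK.1
    obtain ⟨R', hR'⟩ := hFF.exists_comap_place τ Q ht0 (h t ht')
    have := (isFixed_iff_eq hFF hR').mp h
    subst this
    exact (comap_lt_one_iff hR' z).symm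
  rw [hfix]
  constructor
  · intro hQ
    refine ⟨P, hP, ?_⟩
    by_contra hne
    rw [if_neg (show ¬ P.deg ∣ 1 from fun hd => hne (Nat.dvd_one.mp hd))] at h1
    have : Nonempty {R : Place kb Kb // Below R P ∧ IsFixed τ R} := ⟨⟨Q, hP, hQ⟩⟩
    exact Nat.card_pos.ne' h1
  · rintro ⟨P', hP', hdeg⟩
    obtain rfl := Below.unique hP hP'
    rw [if_pos (show P.deg ∣ 1 from hdeg ▸ dvd_rfl)] at h1
    have h2 := hC.card_fixed_fibre hK.1 P 0 (AlgHom.id kb Kb) (fun x => by simp)
    rw [if_pos (dvd_zero _)] at h2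
    have : Nat.card {R : Place kb Kb // Below R P ∧ IsFixed (AlgHom.id kb Kb) R} =
        Nat.card {R : Place kb Kb // Below R P} :=
      Nat.card_congr (Equiv.subtypeEquivRight fun R => and_iff_left fun z hz => hz)
    rw [this, hdeg] at h2
    rw [hdeg] at h1
    have := (Nat.card_eq_one_iff_unique.mp h2).1
    obtain ⟨⟨R, hR, hRfix⟩⟩ := (Nat.card_eq_one_iff_unique.mp h1).2
    have : (⟨R, hR⟩ : {R : Place kb Kb // Below R P}) = ⟨Q, hP⟩ := Subsingleton.elim _ _
    rw [Subtype.mk.injEq] at this
    exact this ▸ hRfix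

end Groth.Agent.FF30
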