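import Groth.Agent.FF30.Nonsing

/-! The codimension-two criterion and embeddings by complete linear systems. -/

open FunFld WithZero
open scoped Multiplicative

namespace Groth.Agent.FF30

variable {k K : Type*} [Field k] [IsAlgClosed k] [Field K] [Algebra k K] {ι : Type*}

theorem sub_single_apply_self (D : Divisor k K) (R : Place k K) :
    (D - (Finsupp.single R 1 : Divisor k K)) R = D R - 1 := by
  rw [Finsupp.sub_apply, Finsupp.single_eq_same]

theorem sub_single_apply_ne (D : Divisor k K) {R Q : Place k K} (h : Q ≠ R) :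
    (D - (Finsupp.single R 1 : Divisor k K)) Q = D Q := by
  rw [Finsupp.sub_apply, Finsupp.single_eq_of_ne h, sub_zero]

theorem le_exp_pred_iff {P : Place k K} {l : K} {n : ℤ} :
    P.1 l ≤ exp (n - 1) ↔ P.1 l < exp n := by
  rcases eq_or_ne l 0 with rfl | hl
  · rw [map_zero]; exact ⟨fun _ => zero_lt_iff.mpr exp_ne_zero, fun _ => zero_le⟩
  · rw [val_eq P hl, exp_le_exp, exp_lt_exp]; omega

theorem mem_L_sub_single_iff {D : Divisor k K} {R : Place k K} {l : K} :
    l ∈ L (D - (Finsupp.single R 1 : Divisor k K)) ↔ l ∈ L D ∧ R.1 l < exp (D R) := by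
  constructor
  · intro h
    refine ⟨L_mono (sub_le_self _ (Finsupp.single_nonneg.mpr zero_le_one)) h, ?_⟩
    have := h R
    rwa [sub_single_apply_self, le_exp_pred_iff] at this
  · rintro ⟨h1, h2⟩ Q
    rcases eq_or_ne Q R with rfl | hQR
    · rwa [sub_single_apply_self, le_exp_pred_iff]
    · rw [sub_single_apply_ne _ hQR]; exact h1 Q

/-- Codimension of one vanishing condition on a subspace. -/
theorem FF.finrank_inf_L_step (hF : FF k K) (V : Submodule k K) (D : Divisor k K) (R : Place k K) :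
    ((∃ l ∈ V ⊓ L D, R.1 l = exp (D R)) →
      Module.finrank k ↥(V ⊓ L (D - (Finsupp.single R 1 : Divisor k K))) + 1 = Module.finrank k ↥(V ⊓ L D)) ∧
    (¬ (∃ l ∈ V ⊓ L D, R.1 l = exp (D R)) →
      Module.finrank k ↥(V ⊓ L (D - (Finsupp.single R 1 : Divisor k K))) = Module.finrank k ↥(V ⊓ L D)) := by
  constructor
  · rintro ⟨l₀, hl₀, hval⟩
    have hne : l₀ ≠ 0 := fun h => by rw [h, map_zero] at hval; exact exp_ne_zero hval.symm
    have := hF.finite_L D
    have : FiniteDimensional k ↥(V ⊓ L D) := Submodule.finiteDimensional_of_le inf_le_right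
    have : FiniteDimensional k ↥(V ⊓ L (D - (Finsupp.single R 1 : Divisor k K))) :=
      Submodule.finiteDimensional_of_le (inf_le_right.trans (L_mono (sub_le_self _
        (Finsupp.single_nonneg.mpr zero_le_one))))
    have hsup : V ⊓ L (D - (Finsupp.single R 1 : Divisor k K)) ⊔ Submodule.span k {l₀} = V ⊓ L D := by
      refine le_antisymm (sup_le (inf_le_inf_left V (L_mono (sub_le_self _
        (Finsupp.single_nonneg.mpr zero_le_one)))) ((Submodule.span_singleton_le_iff_mem _ _).mpr hl₀)) ?_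
      intro l hl
      obtain ⟨c, hc⟩ := exists_decrease_lt R hF hne ((hl.2 R).trans hval.ge)
      refine Submodule.mem_sup.mpr ⟨l - c • l₀, ⟨sub_mem hl.1 (V.smul_mem c hl₀.1), ?_⟩, c • l₀,
        Submodule.smul_mem _ c (Submodule.mem_span_singleton_self _), sub_add_cancel _ _⟩
      exact mem_L_sub_single_iff.mpr ⟨sub_mem hl.2 ((L D).smul_mem c hl₀.2), hval ▸ hc⟩
    have hinf : V ⊓ L (D - (Finsupp.single R 1 : Divisor k K)) ⊓ Submodule.span k {l₀} = ⊥ := by
      rw [eq_bot_iff]
      rintro l ⟨⟨-, hl⟩, hls⟩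
      obtain ⟨c, rfl⟩ := Submodule.mem_span_singleton.mp hls
      by_contra h0
      have hc : c ≠ 0 := fun hc => h0 (by simp [hc])
      have := (mem_L_sub_single_iff.mp hl).2
      rw [val_smul R hc, hval] at this
      exact lt_irrefl _ this
    have := Submodule.finrank_sup_add_finrank_inf_eq (V ⊓ L (D - (Finsupp.single R 1 : Divisor k K)))
      (Submodule.span k {l₀})
    rw [hsup, hinf, finrank_bot, finrank_span_singleton hne] at this
    omega
  · intro h
    push Not at h
    have heq : V ⊓ L (D - (Finsupp.single R 1 : Divisor k K)) = V ⊓ L D := by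
      refine le_antisymm (inf_le_inf_left V (L_mono (sub_le_self _
        (Finsupp.single_nonneg.mpr zero_le_one)))) fun l hl => ⟨hl.1, ?_⟩
      exact mem_L_sub_single_iff.mpr ⟨hl.2, lt_of_le_of_ne (hl.2 R) (h l hl)⟩
    rw [heq]

theorem span_le_L_mapDiv (hF : FF k K) [Fintype ι] [Nonempty ι] (φ : ι → K) :
    Submodule.span k (Set.range φ) ≤ L (mapDiv k φ) := by
  rw [Submodule.span_le]
  rintro _ ⟨i, rfl⟩ Q
  rcases eq_or_ne (φ i) 0 with h0 | h0
  · rw [h0, map_zero]; exact zero_le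
  · have := hF.neg_ord_le_mapDiv φ Q i
    rw [val_le_exp_iff Q h0]
    omega

/-- At a minimal entry the value is the exponential of the map divisor. -/
theorem IsMin.val_eq_mapDiv (hF : FF k K) [Fintype ι] [Nonempty ι] {φ : ι → K} (hne : ∀ i, φ i ≠ 0)
    {Q : Place k K} {j : ι} (hj : IsMin φ Q j) : Q.1 (φ j) = exp (mapDiv k φ Q) := by
  obtain ⟨i, hi⟩ := hF.exists_mapDiv_eq φ Q
  have h1 := hF.neg_ord_le_mapDiv φ Q j
  have h2 := hj.2 i
  rw [val_eq Q (hne i), val_eq Q hj.1, exp_le_exp] at h2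
  rw [val_eq Q hj.1]
  congr 1
  omega

theorem isMin_iff_val_eq_mapDiv (hF : FF k K) [Fintype ι] [Nonempty ι] {φ : ι → K}
    (hne : ∀ i, φ i ≠ 0) {Q : Place k K} {j : ι} :
    IsMin φ Q j ↔ Q.1 (φ j) = exp (mapDiv k φ Q) := by
  refine ⟨fun h => h.val_eq_mapDiv hF hne, fun h => ⟨hne j, fun i => ?_⟩⟩
  rw [h]
  exact span_le_L_mapDiv hF φ (Submodule.subset_span ⟨i, rfl⟩) Q

/-- The second vanishing condition. -/
theorem exists_sep_iff (h : IsFunctionField k K) [Fintype ι] [Nonempty ι] {φ : ι → K}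
    (hne : ∀ i, φ i ≠ 0) (P : Place k K) :
    IsNonsingularAt φ P ↔ ∀ Q : Place k K,
      ∃ l ∈ Submodule.span k (Set.range φ) ⊓ L (mapDiv k φ - (Finsupp.single P 1 : Divisor k K)),
        Q.1 l = exp ((mapDiv k φ - (Finsupp.single P 1 : Divisor k K)) Q) := by
  have hF : FF k K := h.1
  obtain ⟨j, hj⟩ := exists_isMin φ ⟨Classical.arbitrary ι, hne _⟩ P
  have hPj := hj.val_eq_mapDiv hF hne
  rw [nonsingular_iff_linear h hj]
  constructor
  · rintro ⟨hu, l, hl, hl1⟩ Q
    rcases eq_or_ne Q P with rfl | hQP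
    · refine ⟨l, ⟨hl, mem_L_sub_single_iff.mpr ⟨span_le_L_mapDiv hF φ hl, ?_⟩⟩, ?_⟩ <;>
        rw [map_div₀, div_eq_iff (val_ne_zero Q hj.1), hPj, ← exp_add] at hl1 <;> rw [hl1]
      · rw [exp_lt_exp]; omega
      · rw [sub_single_apply_self]; congr 1; ring
    · rw [sub_single_apply_ne _ hQP]
      by_contra hcon
      push Not at hcon
      apply hQP
      refine hu Q ?_
      have hle : ∀ l ∈ Submodule.span k (Set.range φ), P.1 l < exp (mapDiv k φ P) →
          Q.1 l < exp (mapDiv k φ Q) := fun l hl hlt =>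
        lt_of_le_of_ne (span_le_L_mapDiv hF φ hl Q)
          (hcon l ⟨hl, mem_L_sub_single_iff.mpr ⟨span_le_L_mapDiv hF φ hl, hlt⟩⟩)
      have hQj : IsMin φ Q j := by
        obtain ⟨i, hi⟩ := exists_isMin φ ⟨j, hj.1⟩ Q
        have hQi := hi.val_eq_mapDiv hF hne
        rw [isMin_iff_val_eq_mapDiv hF hne]
        obtain ⟨c, hc⟩ := exists_decrease_lt P hF hj.1 (hj.2 i)
        rw [hPj] at hc
        have hmem : φ i - c • φ j ∈ Submodule.span k (Set.range φ) :=
          sub_mem (Submodule.subset_span ⟨i, rfl⟩)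
            (Submodule.smul_mem _ c (Submodule.subset_span ⟨j, rfl⟩))
        have h1 := hle _ hmem hc
        refine le_antisymm (span_le_L_mapDiv hF φ (Submodule.subset_span ⟨j, rfl⟩) Q) ?_
        by_contra hlt
        have h2 : Q.1 (c • φ j) < exp (mapDiv k φ Q) :=
          lt_of_le_of_lt (val_smul_le Q c _) (not_le.mp hlt)
        have h3 : Q.1 (φ i) < exp (mapDiv k φ Q) := by
          rw [show φ i = (φ i - c • φ j) + c • φ j by ring]
          exact lt_of_le_of_lt (Q.1.map_add _ _) (max_lt h1 h2)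
        rw [hQi] at h3
        exact lt_irrefl _ h3
      refine ⟨j, hj.1, hj.2, hQj.2, fun i => ?_⟩
      obtain ⟨c, hc⟩ := exists_decrease_lt P hF hj.1 (hj.2 i)
      have heq : φ i / φ j - algebraMap k K c = (φ i - c • φ j) / φ j := by
        rw [sub_div, Algebra.smul_def, mul_div_cancel_right₀ _ hj.1]
      have hmem : φ i - c • φ j ∈ Submodule.span k (Set.range φ) :=
        sub_mem (Submodule.subset_span ⟨i, rfl⟩)
          (Submodule.smul_mem _ c (Submodule.subset_span ⟨j, rfl⟩))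
      refine ⟨c, ?_, ?_⟩ <;> rw [heq, map_div₀, div_lt_one₀ (zero_lt_iff.mpr (val_ne_zero _ hj.1))]
      · exact hc
      · rw [hQj.val_eq_mapDiv hF hne]
        exact hle _ hmem (hPj ▸ hc)
  · intro hall
    refine ⟨fun Q hQ => ?_, ?_⟩
    · by_contra hQP
      obtain ⟨l, ⟨hl, hlL⟩, hlQ⟩ := hall Q
      rw [sub_single_apply_ne _ hQP] at hlQ
      have hQj := SameImage.isMin hF hj hQ
      have h1 := ((sameImage_iff hF hj).mp hQ _ (mem_chart_of_span j hl)).2 (by
        rw [map_div₀, hPj, div_lt_one₀ (zero_lt_iff.mpr exp_ne_zero)]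
        exact (mem_L_sub_single_iff.mp hlL).2)
      rw [map_div₀, hQj.val_eq_mapDiv hF hne, hlQ, div_self exp_ne_zero] at h1
      exact lt_irrefl _ h1
    · obtain ⟨l, ⟨hl, -⟩, hlP⟩ := hall P
      refine ⟨l, hl, ?_⟩
      rw [sub_single_apply_self] at hlP
      rw [map_div₀, hlP, hPj, ← exp_sub]
      congr 1
      ring

/-- The map given by a basis of `L(D)` is an embedding if `D` separates points and tangents. -/
theorem nonsingular_of_complete (h : IsFunctionField k K) [Fintype ι] [Nonempty ι] {φ : ι → K}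
    (hne : ∀ i, φ i ≠ 0) {D : Divisor k K} (hspan : Submodule.span k (Set.range φ) = L D)
    (h1 : ∀ R : Place k K, ell (D - (Finsupp.single R 1 : Divisor k K)) < ell D)
    (h2 : ∀ R Q : Place k K,
      ell (D - (Finsupp.single R 1 : Divisor k K) - (Finsupp.single Q 1 : Divisor k K)) < ell (D - (Finsupp.single R 1 : Divisor k K)))
    (P : Place k K) : IsNonsingularAt φ P := by
  have hF : FF k K := h.1
  have hmd : mapDiv k φ = D := by
    ext R
    have hbpf : ∃ l ∈ (⊤ : Submodule k K) ⊓ L D, R.1 l = exp (D R) := by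
      by_contra hcon
      have := (hF.finrank_inf_L_step ⊤ D R).2 hcon
      rw [top_inf_eq, top_inf_eq] at this
      exact (h1 R).ne this
    obtain ⟨l, ⟨-, hl⟩, hlR⟩ := hbpf
    refine le_antisymm ?_ ?_
    · obtain ⟨i, hi⟩ := hF.exists_mapDiv_eq φ R
      rw [hi]
      have := ((hspan ▸ Submodule.subset_span ⟨i, rfl⟩ : φ i ∈ L D) R)
      rwa [val_eq R (hne i), exp_le_exp] at this
    · have := span_le_L_mapDiv hF φ (hspan ▸ hl) R
      rwa [hlR, exp_le_exp] at this
  rw [exists_sep_iff h hne P]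
  intro Q
  rw [hspan, hmd]
  by_contra hcon
  have h3 := (hF.finrank_inf_L_step (L D) (D - (Finsupp.single P 1 : Divisor k K)) Q).2 hcon
  have e1 : L D ⊓ L (D - (Finsupp.single P 1 : Divisor k K)) = L (D - (Finsupp.single P 1 : Divisor k K)) :=
    inf_eq_right.mpr (L_mono (sub_le_self _ (Finsupp.single_nonneg.mpr zero_le_one)))
  have e2 : L D ⊓ L (D - (Finsupp.single P 1 : Divisor k K) - (Finsupp.single Q 1 : Divisor k K)) =
      L (D - (Finsupp.single P 1 : Divisor k K) - (Finsupp.single Q 1 : Divisor k K)) :=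
    inf_eq_right.mpr (L_mono ((sub_le_self _ (Finsupp.single_nonneg.mpr zero_le_one)).trans
      (sub_le_self _ (Finsupp.single_nonneg.mpr zero_le_one))))
  rw [e1, e2] at h3
  exact (h2 P Q).ne h3

end Groth.Agent.FF30
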