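import Groth.Agent.FF30.PlaneEmbed

/-! Homogeneous relation ideals. -/

open FunFld WithZero MvPolynomial
open scoped Multiplicative

namespace Groth.Agent.FF30

variable {k K : Type*} [Field k] [Field K] [Algebra k K] {σ : Type*}

/-- The ideal of homogeneous relations. -/
noncomputable def relIdeal (k : Type*) {K : Type*} [Field k] [Field K] [Algebra k K] {σ : Type*}
    (φ : σ → K) : Ideal (MvPolynomial σ k) :=
  RingHom.ker (aeval (R := k) fun i => Polynomial.C (φ i) * Polynomial.X)

theorem relEval_homog (φ : σ → K) {g : MvPolynomial σ k} {m : ℕ} (hg : g.IsHomogeneous m) :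
    aeval (R := k) (fun i => Polynomial.C (φ i) * Polynomial.X) g =
      Polynomial.C (aeval φ g) * Polynomial.X ^ m := by
  rw [show (fun i => Polynomial.C (φ i) * Polynomial.X) =
    fun i => Polynomial.X * algebraMap K (Polynomial K) (φ i) from
      funext fun i => mul_comm _ _, aeval_mul_left_of_homog hg,
    show (fun i => algebraMap K (Polynomial K) (φ i)) = algebraMap K (Polynomial K) ∘ φ from rfl,
    MvPolynomial.aeval_algebraMap_apply, Polynomial.algebraMap_eq, mul_comm]

theorem mem_relIdeal_homog (φ : σ → K) {g : MvPolynomial σ k} {m : ℕ} (hg : g.IsHomogeneous m) :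
    g ∈ relIdeal k φ ↔ aeval φ g = 0 := by
  rw [relIdeal, RingHom.mem_ker, relEval_homog φ hg, mul_eq_zero, Polynomial.C_eq_zero]
  simp [Polynomial.X_ne_zero]

theorem mem_relIdeal_iff (φ : σ → K) {g : MvPolynomial σ k} :
    g ∈ relIdeal k φ ↔ ∀ m, aeval φ (homogeneousComponent m g) = 0 := by
  constructor
  · intro h m
    by_cases hm : m ∈ Finset.range (g.totalDegree + 1)
    · have hsum : aeval (R := k) (fun i => Polynomial.C (φ i) * Polynomial.X) g =
          ∑ i ∈ Finset.range (g.totalDegree + 1),
            Polynomial.C (aeval φ (homogeneousComponent i g)) * Polynomial.X ^ i := by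
        conv_lhs => rw [← sum_homogeneousComponent g, map_sum]
        exact Finset.sum_congr rfl fun i _ => relEval_homog φ (homogeneousComponent_isHomogeneous i g)
      rw [relIdeal, RingHom.mem_ker, hsum] at h
      have := congrArg (fun p => Polynomial.coeff p m) h
      simp only [Polynomial.finsetSum_coeff, Polynomial.coeff_C_mul, Polynomial.coeff_X_pow,
        mul_ite, mul_one, mul_zero, Finset.sum_ite_eq, Polynomial.coeff_zero, if_pos hm] at this
      exact this
    · rw [homogeneousComponent_eq_zero _ _ (by simpa using hm), map_zero]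
  · intro h
    rw [← sum_homogeneousComponent g]
    exact sum_mem fun i _ => (mem_relIdeal_homog φ (homogeneousComponent_isHomogeneous i g)).mpr (h i)

theorem relIdeal_scale (φ : σ → K) {a : K} (ha : a ≠ 0) :
    relIdeal k (fun i => a * φ i) = relIdeal k φ := by
  ext g
  rw [mem_relIdeal_iff, mem_relIdeal_iff]
  refine forall_congr' fun m => ?_
  rw [aeval_mul_left_of_homog (homogeneousComponent_isHomogeneous m g), mul_eq_zero]
  simp [ha]

/-- Homogenization in the variable `j`. -/
noncomputable def homogenize (j : σ) (g : MvPolynomial σ k) : MvPolynomial σ k :=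
  ∑ m ∈ Finset.range (g.totalDegree + 1), X j ^ (g.totalDegree - m) * homogeneousComponent m g

theorem homogenize_isHomogeneous (j : σ) (g : MvPolynomial σ k) :
    (homogenize j g).IsHomogeneous g.totalDegree := by
  refine IsHomogeneous.sum _ _ _ fun m hm => ?_
  have := (isHomogeneous_X_pow (R := k) j (g.totalDegree - m)).mul
    (homogeneousComponent_isHomogeneous m g)
  rwa [Nat.sub_add_cancel (Nat.lt_succ_iff.mp (Finset.mem_range.mp hm))] at this

theorem homogenize_sub_mem (j : σ) (g : MvPolynomial σ k) :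
    homogenize j g - g ∈ Ideal.span {X j - (1 : MvPolynomial σ k)} := by
  nth_rw 2 [← sum_homogeneousComponent g]
  rw [homogenize, ← Finset.sum_sub_distrib]
  refine sum_mem fun m _ => ?_
  rw [show X j ^ (g.totalDegree - m) * homogeneousComponent m g - homogeneousComponent m g =
    (X j ^ (g.totalDegree - m) - 1) * homogeneousComponent m g by ring]
  exact Ideal.mul_mem_right _ _ (Ideal.mem_span_singleton.mpr (sub_one_dvd_pow_sub_one _ _))

/-- An affine relation lies in the homogeneous ideal plus `(X_j - 1)`. -/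
theorem mem_relIdeal_sup {φ : σ → K} {j : σ} (hj : φ j ≠ 0) {g : MvPolynomial σ k}
    (hg : aeval (fun i => φ i / φ j) g = 0) :
    g ∈ relIdeal k φ ⊔ Ideal.span {X j - (1 : MvPolynomial σ k)} := by
  refine Submodule.mem_sup.mpr ⟨homogenize j g, ?_, -(homogenize j g - g),
    neg_mem (homogenize_sub_mem j g), by ring⟩
  rw [mem_relIdeal_homog φ (homogenize_isHomogeneous j g)]
  have hv : (fun i => φ j * (φ i / φ j)) = φ := funext fun i => mul_div_cancel₀ _ hj
  have h1 := aeval_mul_left_of_homog (homogenize_isHomogeneous j g) (φ j) fun i => φ i / φ j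
  rw [hv] at h1
  obtain ⟨r, hr⟩ := Ideal.mem_span_singleton'.mp (homogenize_sub_mem j g)
  have h2 : aeval (fun i => φ i / φ j) (homogenize j g) = 0 := by
    rw [← sub_add_cancel (homogenize j g) g, map_add, hg, ← hr, map_mul, map_sub, aeval_X,
      map_one, div_self hj, sub_self, mul_zero, add_zero]
  rw [h1, h2, mul_zero]

variable [IsAlgClosed k]

theorem eq_C_mul_of_dvd_mem {F : MvPolynomial σ k} {J : Ideal (MvPolynomial σ k)}
    (hJ : J = Ideal.span {F}) {m : ℕ} (h : homogeneousComponent m F ∈ J)
    (h0 : homogeneousComponent m F ≠ 0) : F.totalDegree ≤ m := by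
  rw [hJ, Ideal.mem_span_singleton] at h
  obtain ⟨q, hq⟩ := h
  have hq0 : q ≠ 0 := fun e => h0 (by rw [hq, e, mul_zero])
  have hF0 : F ≠ 0 := fun e => h0 (by rw [e, map_zero])
  have h1 := (homogeneousComponent_isHomogeneous m F).totalDegree h0
  rw [hq, totalDegree_mul_of_isDomain hF0 hq0] at h1
  omega

/-- The homogeneous ideal of a plane curve is principal. -/
theorem exists_relIdeal_eq_span (h : IsFunctionField k K) (x y : K)
    (hxy : IntermediateField.adjoin k ({x, y} : Set K) = ⊤) :
    ∃ F : MvPolynomial (Fin 3) k, Irreducible F ∧ F.IsHomogeneous F.totalDegree ∧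
      relIdeal k ![(1 : K), x, y] = Ideal.span {F} := by
  have hF : FF k K := h.1
  set φ := ![(1 : K), x, y]
  set J := relIdeal k φ
  have hJp : J.IsPrime := RingHom.ker_isPrime _
  have hne : J ≠ ⊥ := by
    obtain ⟨f, hf, hfxy⟩ := exists_irreducible_relation h x y
    intro hbot
    let g : MvPolynomial (Fin 3) k := rename Fin.succ f
    have hg : aeval (fun i => φ i / φ 0) g = 0 := by
      simp only [g, aeval_rename]
      rw [show (fun i => φ i / φ 0) ∘ Fin.succ = ![x, y] from by
        funext i; fin_cases i <;> simp [φ]]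
      exact hfxy
    have hmem := mem_relIdeal_sup (by simp [φ]) hg
    change g ∈ J ⊔ _ at hmem
    rw [hbot, bot_sup_eq, Ideal.mem_span_singleton] at hmem
    obtain ⟨q, hq⟩ := hmem
    have h0 : f = 0 := by
      have := congrArg (aeval (R := k) ![(1 : MvPolynomial (Fin 2) k), X 0, X 1]) hq
      simp only [g, aeval_rename, map_mul, map_sub, aeval_X, map_one, Matrix.cons_val_zero,
        sub_self, zero_mul] at this
      rw [show ![(1 : MvPolynomial (Fin 2) k), X 0, X 1] ∘ Fin.succ = X from by
        funext i; fin_cases i <;> simp, aeval_X_left_apply] at this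
      exact this
    exact hf.ne_zero h0
  obtain ⟨F, hFJ, hFp⟩ := hJp.exists_mem_prime_of_ne_bot hne
  obtain ⟨P, a, ha⟩ := hF.exists_finite_point φ
  let a' : Fin 3 → Polynomial k := fun i => Polynomial.C (a i) * Polynomial.X
  set J₁ := RingHom.ker (aeval (R := k) a')
  have hJ₁ : J₁.IsPrime := RingHom.ker_isPrime _
  have hJJ₁ : J ≤ J₁ := by
    intro g hg
    have hg' : g ∈ relIdeal k a := (mem_relIdeal_iff a).mpr fun m => by
      rw [aeval_eq_eval]
      exact eval_eq_zero_of_aeval P ha ((mem_relIdeal_iff φ).mp hg m)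
    exact hg'
  have ha0 : a 0 = 1 := by
    by_contra hne1
    have h1 := ha 0
    simp only [φ, Matrix.cons_val_zero] at h1
    rw [← (algebraMap k K).map_one, ← map_sub, val_algebraMap P (sub_ne_zero.mpr (Ne.symm hne1))] at h1
    exact lt_irrefl _ h1
  have hJJ₁' : ¬ J₁ ≤ J := by
    intro hle
    obtain ⟨i, hi⟩ := exists_transcendental_entry h hxy
    have hmem : X i.succ - C (a i.succ) * X 0 ∈ J₁ := by
      simp only [J₁, RingHom.mem_ker, map_sub, map_mul, aeval_X, aeval_C, a', ha0, map_one, one_mul,
        Polynomial.algebraMap_eq, sub_self]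
    have h1 : IsHomogeneous (X i.succ - C (a i.succ) * X 0 : MvPolynomial (Fin 3) k) 1 :=
      (isHomogeneous_X k _).sub (isHomogeneous_C_mul_X _ _)
    have h2 := (mem_relIdeal_homog φ h1).mp (hle hmem)
    simp only [map_sub, map_mul, aeval_X, aeval_C] at h2
    have hxi : φ i.succ = ![x, y] i := by fin_cases i <;> simp [φ]
    rw [hxi, show φ 0 = 1 from rfl, mul_one, sub_eq_zero] at h2
    exact hi (h2 ▸ isAlgebraic_algebraMap _)
  set M := RingHom.ker (constantCoeff (σ := Fin 3) (R := k))
  have hM : M.IsPrime := RingHom.ker_isPrime _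
  have hJM : J₁ ≤ M := by
    intro g hg
    have h1 := (mem_relIdeal_iff a).mp hg 0
    rw [homogeneousComponent_zero, aeval_C] at h1
    exact h1
  have hJM' : ¬ M ≤ J₁ := by
    intro hle
    have := hle (show X 0 ∈ M by simp [M, RingHom.mem_ker])
    simp [J₁, RingHom.mem_ker, a', ha0] at this
  have hFs : Ideal.span {F} ≤ J := (Ideal.span_singleton_le_iff_mem _).mpr hFJ
  have heq : J = Ideal.span {F} := by
    refine le_antisymm ?_ hFs
    by_contra hne'
    have hfp : (Ideal.span {F}).IsPrime := (Ideal.span_singleton_prime hFp.ne_zero).mpr hFp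
    let p : Fin 5 → PrimeSpectrum (MvPolynomial (Fin 3) k) :=
      ![⟨⊥, Ideal.isPrime_bot⟩, ⟨_, hfp⟩, ⟨J, hJp⟩, ⟨J₁, hJ₁⟩, ⟨M, hM⟩]
    have hp : StrictMono p := by
      refine Fin.strictMono_iff_lt_succ.mpr fun i => ?_
      fin_cases i <;> refine lt_of_le_not_ge ?_ ?_
      · exact bot_le
      · exact fun hle => hFp.ne_zero (Ideal.span_singleton_eq_bot.mp (le_bot_iff.mp hle))
      · exact hFs
      · exact fun hle => hne' hle
      · exact hJJ₁
      · exact hJJ₁'
      · exact hJM
      · exact hJM'
    have := chain_le_dim p hp (mvDim k 3)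
    omega
  refine ⟨F, hFp.irreducible, ?_, heq⟩
  have hcomp : ∀ m, m ≠ F.totalDegree → homogeneousComponent m F = 0 := by
    intro m hm
    by_contra h0
    have h1 : homogeneousComponent m F ∈ J :=
      (mem_relIdeal_homog φ (homogeneousComponent_isHomogeneous m F)).mpr
        ((mem_relIdeal_iff φ).mp hFJ m)
    have h2 := eq_C_mul_of_dvd_mem heq h1 h0
    have h3 : ¬ F.totalDegree < m := fun hlt => h0 (homogeneousComponent_eq_zero _ _ hlt)
    omega
  have hF' : homogeneousComponent F.totalDegree F = F := by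
    nth_rw 3 [← sum_homogeneousComponent F]
    rw [Finset.sum_eq_single F.totalDegree (fun m _ hm => hcomp m hm) (fun h => by simp at h)]
  have hh := homogeneousComponent_isHomogeneous F.totalDegree F
  rwa [hF'] at hh

/-- An irreducible homogeneous relation of a plane map generates its homogeneous ideal. -/
theorem relIdeal_eq_span_of_irreducible (h : IsFunctionField k K) {φ : Fin 3 → K} (h0 : φ 0 ≠ 0)
    (hbir : IntermediateField.adjoin k (Set.range fun i => φ i / φ 0) = ⊤)
    {f : MvPolynomial (Fin 3) k} (hf : Irreducible f) (hhom : f.IsHomogeneous f.totalDegree)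
    (hfφ : aeval φ f = 0) : relIdeal k φ = Ideal.span {f} := by
  have hxy : IntermediateField.adjoin k ({φ 1 / φ 0, φ 2 / φ 0} : Set K) = ⊤ := by
    rw [eq_top_iff, ← hbir, IntermediateField.adjoin_le_iff]
    rintro _ ⟨i, rfl⟩
    fin_cases i
    · simp [h0]
    · exact IntermediateField.subset_adjoin _ _ (Or.inl rfl)
    · exact IntermediateField.subset_adjoin _ _ (Or.inr rfl)
  obtain ⟨F, hFi, -, hFJ⟩ := exists_relIdeal_eq_span h _ _ hxy
  have hφ : (fun i => φ 0 * ![(1 : K), φ 1 / φ 0, φ 2 / φ 0] i) = φ := by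
    funext i; fin_cases i <;> simp [mul_div_cancel₀ _ h0]
  rw [← relIdeal_scale (k := k) ![(1 : K), φ 1 / φ 0, φ 2 / φ 0] h0, hφ] at hFJ
  have hmem := (mem_relIdeal_homog φ hhom).mpr hfφ
  rw [hFJ, Ideal.mem_span_singleton] at hmem
  rw [hFJ, Ideal.span_singleton_eq_span_singleton]
  exact hFi.associated_of_dvd hf hmem

end Groth.Agent.FF30
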