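import Groth.Agent.FF30.QuadraticRat
import Mathlib.FieldTheory.IntermediateField.Adjoin.Basic

/-! `K = k(x, y)`, `y² = f(x)`. -/

open FunFld Polynomial

namespace Groth.Agent.FF30

variable {k K : Type*} [Field k] [Field K] [Algebra k K]

theorem exists_ratFunc_quadratic {x y : K} (hx : Transcendental k x)
    (hxy : IntermediateField.adjoin k ({x, y} : Set K) = ⊤) {f : k[X]} (hf : Squarefree f)
    (hd : 1 ≤ f.natDegree) (heq : y ^ 2 = aeval x f) :
    ∃ (_ : Algebra (RatFunc k) K) (_ : IsScalarTower k (RatFunc k) K),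
      Module.finrank (RatFunc k) K = 2 ∧
      y ^ 2 = algebraMap (RatFunc k) K (algebraMap k[X] (RatFunc k) f) := by
  have hinj : Function.Injective (aeval x : k[X] →ₐ[k] K) := transcendental_iff_injective.mp hx
  let φ : RatFunc k →ₐ[k] K := RatFunc.liftAlgHom (aeval x : k[X] →ₐ[k] K)
    (nonZeroDivisors_le_comap_nonZeroDivisors_of_injective _ hinj)
  let _ : Algebra (RatFunc k) K := φ.toRingHom.toAlgebra
  have : IsScalarTower k (RatFunc k) K := IsScalarTower.of_algebraMap_eq fun c => (φ.commutes c).symm
  have hφ : ∀ g : k[X], algebraMap (RatFunc k) K (algebraMap k[X] (RatFunc k) g) = aeval x g := by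
    intro g
    change φ (algebraMap k[X] (RatFunc k) g) = _
    rw [RatFunc.liftAlgHom_apply, RatFunc.num_algebraMap, RatFunc.denom_algebraMap, map_one, div_one]
  have heq' : y ^ 2 = algebraMap (RatFunc k) K (algebraMap k[X] (RatFunc k) f) := by rw [hφ, heq]
  refine ⟨inferInstance, inferInstance, ?_, heq'⟩
  have hy : y ∉ Set.range (algebraMap (RatFunc k) K) := y_notMem hf hd heq'
  have haev : aeval y (X ^ 2 - C (algebraMap k[X] (RatFunc k) f) : (RatFunc k)[X]) = 0 := by simp [heq']
  have hint : IsIntegral (RatFunc k) y := ⟨_, monic_X_pow_sub_C _ two_ne_zero, haev⟩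
  have htop : IntermediateField.adjoin (RatFunc k) ({y} : Set K) = ⊤ := by
    refine IntermediateField.restrictScalars_injective k ?_
    rw [IntermediateField.restrictScalars_top, eq_top_iff, ← hxy, IntermediateField.adjoin_le_iff]
    intro z hz
    rcases hz with rfl | hz
    · have h1 := hφ X
      rw [aeval_X] at h1
      rw [SetLike.mem_coe, IntermediateField.mem_restrictScalars, ← h1]
      exact IntermediateField.algebraMap_mem _ _
    · rw [Set.mem_singleton_iff.mp hz]
      exact IntermediateField.mem_adjoin_simple_self _ y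
  rw [← IntermediateField.finrank_top', ← htop, IntermediateField.adjoin.finrank hint]
  refine le_antisymm ?_ ((minpoly.two_le_natDegree_iff hint).mpr hy)
  have h1 := natDegree_le_of_dvd (minpoly.dvd (RatFunc k) y haev) (monic_X_pow_sub_C _ two_ne_zero).ne_zero
  rwa [natDegree_X_pow_sub_C] at h1

end Groth.Agent.FF30
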