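import Groth.Agent.FF30.Homog
import Mathlib.RingTheory.MvPolynomial.EulerIdentity
import Mathlib.Algebra.MvPolynomial.PDeriv
import Mathlib.LinearAlgebra.Matrix.NonsingularInverse
import Mathlib.LinearAlgebra.FiniteDimensional.Lemmas
import Mathlib.LinearAlgebra.Dual.Lemmas

/-! The Jacobian criterion. -/

open FunFld WithZero MvPolynomial
open scoped Multiplicative

namespace Groth.Agent.FF30

variable {k K : Type*} [Field k] [Field K] [Algebra k K] {σ : Type*}

/-- First order expansion of a polynomial. -/
theorem exists_linear_expansion [Fintype σ] [DecidableEq σ] (P : Place k K) (A : Subalgebra k K)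
    (z : σ → K) (hzA : ∀ i, z i ∈ A) (a : σ → k) (hz : ∀ i, P.1 (z i - algebraMap k K (a i)) < 1)
    (g : MvPolynomial σ k) :
    ∃ h : σ → K, (∀ i, h i ∈ A ∧ P.1 (h i - algebraMap k K (eval a (pderiv i g))) < 1) ∧
      aeval z g - algebraMap k K (eval a g) = ∑ i, h i * (z i - algebraMap k K (a i)) := by
  induction g using MvPolynomial.induction_on with
  | C c => exact ⟨fun _ => 0, fun i => ⟨zero_mem A, by simp⟩, by simp⟩
  | add p q hp hq =>
    obtain ⟨h, hh, he⟩ := hp
    obtain ⟨h', hh', he'⟩ := hq
    refine ⟨h + h', fun i => ⟨add_mem (hh i).1 (hh' i).1, ?_⟩, ?_⟩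
    · rw [map_add, map_add, map_add, Pi.add_apply, add_sub_add_comm]
      exact lt_of_le_of_lt (P.1.map_add _ _) (max_lt (hh i).2 (hh' i).2)
    · rw [map_add, map_add, map_add, add_sub_add_comm, he, he', ← Finset.sum_add_distrib]
      exact Finset.sum_congr rfl fun i _ => by rw [Pi.add_apply, add_mul]
  | mul_X p l hp =>
    obtain ⟨h, hh, he⟩ := hp
    refine ⟨fun i => h i * z l + if i = l then algebraMap k K (eval a p) else 0, fun i => ⟨?_, ?_⟩, ?_⟩
    · refine add_mem (mul_mem (hh i).1 (hzA l)) ?_
      split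
      · exact Subalgebra.algebraMap_mem A _
      · exact zero_mem A
    · have hzl : P.1 (z l) ≤ 1 := by
        rw [show z l = (z l - algebraMap k K (a l)) + algebraMap k K (a l) by ring]
        exact (P.1.map_add _ _).trans (max_le (hz l).le (P.2.1 _))
      have key : h i * z l + (if i = l then algebraMap k K (eval a p) else 0) -
          algebraMap k K (eval a (pderiv i (p * X l))) =
          (h i - algebraMap k K (eval a (pderiv i p))) * z l +
            algebraMap k K (eval a (pderiv i p)) * (z l - algebraMap k K (a l)) := by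
        rw [pderiv_mul, pderiv_X]
        rcases eq_or_ne i l with rfl | hil
        · rw [if_pos rfl, Pi.single_eq_same, map_add, map_mul, map_mul, eval_X, map_one, mul_one,
            map_add, map_mul]
          ring
        · rw [if_neg hil, Pi.single_eq_of_ne hil.symm, map_add, map_mul, map_mul, eval_X, map_zero,
            mul_zero, add_zero, add_zero, map_mul]
          ring
      rw [key]
      refine lt_of_le_of_lt (P.1.map_add _ _) (max_lt ?_ ?_) <;> rw [map_mul]
      · exact lt_of_le_of_lt (mul_le_of_le_one_right' hzl) (hh i).2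
      · exact lt_of_le_of_lt (mul_le_of_le_one_left' (P.2.1 _)) (hz l)
    · rw [map_mul, map_mul, map_mul, aeval_X, eval_X,
        show aeval z p * z l - algebraMap k K (eval a p) * algebraMap k K (a l) =
          (aeval z p - algebraMap k K (eval a p)) * z l +
            algebraMap k K (eval a p) * (z l - algebraMap k K (a l)) by ring, he, Finset.sum_mul]
      simp only [add_mul, ite_mul, zero_mul, Finset.sum_add_distrib, Finset.sum_ite_eq',
        Finset.mem_univ, if_true]
      congr 1
      exact Finset.sum_congr rfl fun i _ => by ring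

theorem chart_eq_range [Fintype σ] (φ : σ → K) (j : σ) {u : K} (hu : u ∈ chart k φ j) :
    ∃ g : MvPolynomial σ k, aeval (fun i => φ i / φ j) g = u := by
  rw [chart, Algebra.adjoin_range_eq_range_aeval] at hu
  exact hu

theorem aeval_mem_chart (φ : σ → K) (j : σ) (g : MvPolynomial σ k) :
    aeval (fun i => φ i / φ j) g ∈ chart k φ j := by
  rw [chart, Algebra.adjoin_range_eq_range_aeval]
  exact ⟨g, rfl⟩

/-- Euler's identity at a point. -/
theorem euler_eval [Fintype σ] {g : MvPolynomial σ k} {m : ℕ} (hg : g.IsHomogeneous m) (c : σ → k) :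
    ∑ i, c i * eval c (pderiv i g) = m * eval c g := by
  have := congrArg (eval c) hg.sum_X_mul_pderiv
  simpa [map_sum, nsmul_eq_mul] using this

/-- The tangent space of the relations at a point, in the chart `j`. -/
def tangent {ρ : Type*} [Fintype σ] (f : ρ → MvPolynomial σ k) (c : σ → k) (j : σ) :
    Submodule k (σ → k) where
  carrier := {e | e j = 0 ∧ ∀ r, ∑ l, eval c (pderiv l (f r)) * e l = 0}
  zero_mem' := by simp
  add_mem' := by
    rintro e e' ⟨h1, h2⟩ ⟨h1', h2'⟩
    refine ⟨by simp [h1, h1'], fun r => ?_⟩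
    simp only [Pi.add_apply, mul_add, Finset.sum_add_distrib, h2 r, h2' r, add_zero]
  smul_mem' := by
    rintro a e ⟨h1, h2⟩
    refine ⟨by simp [h1], fun r => ?_⟩
    simp only [Pi.smul_apply, smul_eq_mul, mul_left_comm _ a, ← Finset.mul_sum, h2 r, mul_zero]

variable [IsAlgClosed k]

/-- If the maximal ideal of the local ring is principal then the place is nonsingular. -/
theorem nonsingular_of_principal {φ : σ → K} {P : Place k K} {j : σ} (hj : IsMin φ P j)
    (hbir : IntermediateField.adjoin k (Set.range fun i => φ i / φ j) = ⊤) {u : K}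
    (hu : u ∈ locRing φ P j) (hu0 : u ≠ 0) (hu1 : P.1 u < 1)
    (hdiv : ∀ a ∈ chart k φ j, P.1 a < 1 → a / u ∈ locRing φ P j) : IsNonsingularAt φ P := by
  have hloc : ∀ z ∈ locRing φ P j, P.1 z < 1 → z / u ∈ locRing φ P j := by
    intro z hz hz1
    obtain ⟨a, ha, w, hw, hw1, haw⟩ := hz
    have ha1 : P.1 a < 1 := by rw [← haw, map_mul, hw1, mul_one]; exact hz1
    obtain ⟨b, hb, v, hv, hv1, hbv⟩ := hdiv a ha ha1
    refine ⟨b, hb, w * v, mul_mem hw hv, by rw [map_mul, hw1, hv1, one_mul], ?_⟩
    rw [← hbv, ← haw]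
    ring
  have hord : 1 ≤ P.ord u := (val_lt_one_iff P hu0).mp hu1
  have hdec : ∀ (n : ℕ) (z : K), z ∈ locRing φ P j → z ≠ 0 → P.ord z ≤ n →
      ∃ (m : ℕ) (e : K), e ∈ locRing φ P j ∧ P.1 e = 1 ∧ z = u ^ m * e := by
    intro n
    induction n with
    | zero =>
      intro z hz hz0 hle
      refine ⟨0, z, hz, ?_, by ring⟩
      have h1 := (val_le_one_iff P).mp (locRing_le_one hj hz)
      rw [val_eq_one_iff P hz0]
      omega
    | succ n ih =>
      intro z hz hz0 hle
      by_cases h1 : P.1 z = 1
      · exact ⟨0, z, hz, h1, by ring⟩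
      · have hlt : P.1 z < 1 := lt_of_le_of_ne (locRing_le_one hj hz) h1
        have hzu : P.ord (z / u) ≤ n := by
          rw [ord_div P hz0 hu0]; push_cast at hle; omega
        obtain ⟨m, e, he, he1, hze⟩ := ih (z / u) (hloc z hz hlt) (div_ne_zero hz0 hu0) hzu
        exact ⟨m + 1, e, he, he1, by rw [pow_succ', mul_assoc, ← hze, mul_div_cancel₀ z hu0]⟩
  rw [isNonsingularAt_iff_locRing hj]
  intro z hz
  rcases eq_or_ne z 0 with rfl | hz0
  · exact zero_mem _
  obtain ⟨b, hb, w, hw, hw0, hbw⟩ := exists_chart_div hbir z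
  have hb0 : b ≠ 0 := by rw [← hbw]; exact mul_ne_zero hz0 hw0
  obtain ⟨m, e, he, he1, hbe⟩ :=
    hdec (P.ord b).toNat b (chart_le_locRing φ P j hb) hb0 (Int.self_le_toNat _)
  obtain ⟨m', e', he', he1', hwe⟩ :=
    hdec (P.ord w).toNat w (chart_le_locRing φ P j hw) hw0 (Int.self_le_toNat _)
  have he0 : e ≠ 0 := fun h => by simp [h] at he1
  have he0' : e' ≠ 0 := fun h => by simp [h] at he1'
  have hmm : m' ≤ m := by
    have h1 := congrArg P.ord hbw
    rw [ord_mul P hz0 hw0, hbe, hwe, ord_mul P (pow_ne_zero _ hu0) he0',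
      ord_mul P (pow_ne_zero _ hu0) he0, ord_pow, ord_pow, (val_eq_one_iff P he0).mp he1,
      (val_eq_one_iff P he0').mp he1'] at h1
    have h2 := (val_le_one_iff P).mp hz
    have h3 : (m' : ℤ) ≤ m := by nlinarith
    exact_mod_cast h3
  obtain ⟨d, rfl⟩ := Nat.exists_eq_add_of_le hmm
  have hzeq : z = u ^ d * e * e'⁻¹ := by
    rw [hbe, hwe, pow_add] at hbw
    field_simp
    apply mul_left_cancel₀ (pow_ne_zero m' hu0)
    linear_combination hbw
  rw [hzeq]
  exact mul_mem (mul_mem (pow_mem hu d) he) (inv_mem_locRing he' he1')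

/-- At a nonsingular place the tangent space is a line. -/
theorem finrank_tangent_eq_one [Fintype σ] (h : IsFunctionField k K) [Nonempty σ] {φ : σ → K}
    {P : Place k K} {j : σ} (hj : IsMin φ P j) {c : σ → k}
    (hc : ∀ i, P.1 (φ i / φ j - algebraMap k K (c i)) < 1) {ρ : Type*}
    (f : ρ → MvPolynomial σ k) (hgen : Ideal.span (Set.range f) = relIdeal k φ)
    (hf : ∀ r, aeval (fun i => φ i / φ j) (f r) = 0) (hns : IsNonsingularAt φ P) :
    ∃ e₀ ∈ tangent f c j, e₀ ≠ 0 ∧ ∀ e ∈ tangent f c j, ∃ a : k, e = a • e₀ := by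
  classical
  have hF : FF k K := h.1
  set v := fun i => φ i / φ j
  have hcj : c j = 1 := by
    by_contra hne
    have h1 := hc j
    rw [div_self hj.1, ← (algebraMap k K).map_one, ← map_sub,
      val_algebraMap P (sub_ne_zero.mpr (Ne.symm hne))] at h1
    exact lt_irrefl _ h1
  obtain ⟨l, hl, hl1⟩ := hF.exists_linear_param hj (exists_param_of_nonsingular hj hns)
  obtain ⟨q, rfl⟩ := (Submodule.mem_span_range_iff_exists_fun k).mp hl
  set u := (∑ i, q i • φ i) / φ j
  have hu_eq : u = ∑ i, algebraMap k K (q i) * v i := by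
    simp only [u, v, Finset.sum_div, Algebra.smul_def, mul_div_assoc]
  have hu0 : u ≠ 0 := fun h0 => by rw [h0, map_zero] at hl1; exact exp_ne_zero hl1.symm
  have hq0 : ∑ i, q i * c i = 0 := by
    by_contra hne
    have h1 : P.1 (u - algebraMap k K (∑ i, q i * c i)) < 1 := by
      rw [hu_eq, map_sum, ← Finset.sum_sub_distrib]
      refine P.1.map_sum_lt one_ne_zero fun i _ => ?_
      rw [map_mul, ← mul_sub, map_mul]
      exact lt_of_le_of_lt (mul_le_of_le_one_left' (P.2.1 _)) (hc i)
    have h2 : P.1 u < 1 := by rw [hl1, ← exp_zero, exp_lt_exp]; omega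
    have h3 : P.1 (algebraMap k K (∑ i, q i * c i)) < 1 := by
      rw [show algebraMap k K (∑ i, q i * c i) = u - (u - algebraMap k K (∑ i, q i * c i)) by ring]
      exact lt_of_le_of_lt (P.1.map_sub _ _) (max_lt h2 h1)
    rw [val_algebraMap P hne] at h3
    exact lt_irrefl _ h3
  -- each coordinate is determined by the parameter
  have hdet : ∀ i, ∃ a : k, ∀ e ∈ tangent f c j, e i = a * ∑ l, q l * e l := by
    intro i
    have hle : P.1 ((v i - algebraMap k K (c i)) / u) ≤ 1 := by
      rw [map_div₀, hl1]; exact div_le_one_of_le₀ (val_lt_one_le P (hc i)) zero_le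
    obtain ⟨R, hR, W, hW, hW1, hRW⟩ := (inLocRing_iff hj _).mp (hns _ hle)
    obtain ⟨gR, hgR⟩ := chart_eq_range φ j hR
    obtain ⟨gW, hgW⟩ := chart_eq_range φ j hW
    set G : MvPolynomial σ k := gW * (X i - C (c i)) - gR * ∑ l, C (q l) * X l
    have hG0 : aeval v G = 0 := by
      simp only [G, map_sub, map_mul, map_sum, aeval_X, aeval_C]
      rw [hgR, hgW, ← hu_eq, ← hRW]
      field_simp
      ring
    have hGmem := mem_relIdeal_sup hj.1 hG0
    rw [← hgen] at hGmem
    obtain ⟨G₁, hG₁, G₂, hG₂, hGsum⟩ := Submodule.mem_sup.mp hGmem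
    obtain ⟨r₂, rfl⟩ := Ideal.mem_span_singleton'.mp hG₂
    have hW0 : eval c gW ≠ 0 := by
      intro h0
      have := val_aeval_sub_lt P v c hc gW
      rw [h0, map_zero, sub_zero, hgW, hW1] at this
      exact lt_irrefl _ this
    refine ⟨eval c gR / eval c gW, fun e he => ?_⟩
    obtain ⟨hej, he'⟩ := he
    have hD : ∀ g ∈ Ideal.span (Set.range f), eval c g = 0 ∧ ∑ l, eval c (pderiv l g) * e l = 0 := by
      intro g hg
      induction hg using Submodule.span_induction with
      | mem g hg =>
        obtain ⟨r, rfl⟩ := hg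
        exact ⟨eval_eq_zero_of_aeval P hc (hf r), he' r⟩
      | zero => simp
      | add g g' _ _ h1 h2 =>
        refine ⟨by rw [map_add, h1.1, h2.1, add_zero], ?_⟩
        simp only [map_add, add_mul, Finset.sum_add_distrib, h1.2, h2.2, add_zero]
      | smul a g _ h1 =>
        refine ⟨by rw [smul_eq_mul, map_mul, h1.1, mul_zero], ?_⟩
        simp only [smul_eq_mul, pderiv_mul, map_add, map_mul, h1.1, mul_zero, zero_add, mul_assoc,
          ← Finset.mul_sum, h1.2]
    have h1 : ∑ l, eval c (pderiv l G) * e l = 0 := by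
      rw [← hGsum]
      simp only [map_add, add_mul, Finset.sum_add_distrib, (hD G₁ hG₁).2, zero_add, pderiv_mul,
        map_sub, pderiv_X, pderiv_one, sub_zero, map_mul, eval_X, hcj, map_one, sub_self,
        mul_zero]
      rw [Finset.sum_eq_single j]
      · rw [hej, mul_zero]
      · intro l _ hl
        rw [Pi.single_eq_of_ne hl.symm, map_zero, mul_zero, zero_mul]
      · simp
    have h2 : ∀ l, eval c (pderiv l G) =
        eval c gW * (if l = i then 1 else 0) - eval c gR * q l := by
      intro l
      simp only [G, map_sub, map_sum, pderiv_mul, pderiv_C, pderiv_X, map_add, map_mul, eval_X,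
        eval_C, sub_self, mul_zero, zero_add, zero_mul, sub_zero, hq0]
      congr 1
      · rcases eq_or_ne l i with rfl | hli
        · simp
        · simp [hli, Pi.single_eq_of_ne hli.symm]
      · congr 1
        rw [Finset.sum_eq_single l]
        · simp
        · intro b _ hb; simp [Pi.single_eq_of_ne hb]
        · simp
    simp only [h2, sub_mul, Finset.sum_sub_distrib, mul_assoc, ← Finset.mul_sum, ite_mul, one_mul,
      zero_mul, Finset.sum_ite_eq', Finset.mem_univ, if_true] at h1
    rw [div_mul_eq_mul_div, eq_div_iff hW0]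
    linear_combination h1
  -- the tangent vector of `P`
  have hle : ∀ i, P.1 ((v i - algebraMap k K (c i)) / u) ≤ 1 := fun i => by
    rw [map_div₀, hl1]; exact div_le_one_of_le₀ (val_lt_one_le P (hc i)) zero_le
  choose e₀ he₀ using fun i => hF.exists_sub_lt P (hle i)
  have hmem : e₀ ∈ tangent f c j := by
    refine ⟨?_, fun r => ?_⟩
    · by_contra hne
      have h1 := he₀ j
      rw [show v j = 1 from div_self hj.1, hcj, map_one, sub_self, zero_div, zero_sub,
        Valuation.map_neg, val_algebraMap P hne] at h1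
      exact lt_irrefl _ h1
    · by_contra hne
      obtain ⟨h', hh, he⟩ := exists_linear_expansion P (chart k φ j) v
        (fun i => ratio_mem_chart φ i j) c hc (f r)
      rw [hf r, eval_eq_zero_of_aeval P hc (hf r), map_zero, sub_zero] at he
      have h1 : ∑ i, h' i * ((v i - algebraMap k K (c i)) / u) = 0 := by
        simp only [mul_div_assoc', ← Finset.sum_div, ← he, zero_div]
      have h2 : P.1 (∑ i, h' i * ((v i - algebraMap k K (c i)) / u) -
          algebraMap k K (∑ l, eval c (pderiv l (f r)) * e₀ l)) < 1 := by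
        rw [map_sum, ← Finset.sum_sub_distrib]
        refine P.1.map_sum_lt one_ne_zero fun i _ => ?_
        rw [map_mul, show h' i * ((v i - algebraMap k K (c i)) / u) -
            algebraMap k K (eval c (pderiv i (f r))) * algebraMap k K (e₀ i) =
            (h' i - algebraMap k K (eval c (pderiv i (f r)))) * ((v i - algebraMap k K (c i)) / u) +
            algebraMap k K (eval c (pderiv i (f r))) *
              ((v i - algebraMap k K (c i)) / u - algebraMap k K (e₀ i)) by ring]
        refine lt_of_le_of_lt (P.1.map_add _ _) (max_lt ?_ ?_) <;> rw [map_mul]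
        · exact lt_of_le_of_lt (mul_le_of_le_one_right' (hle i)) (hh i).2
        · exact lt_of_le_of_lt (mul_le_of_le_one_left' (P.2.1 _)) (he₀ i)
      rw [h1, zero_sub, Valuation.map_neg, val_algebraMap P hne] at h2
      exact lt_irrefl _ h2
  choose a ha using hdet
  have he_ne : e₀ ≠ 0 := by
    intro h0
    have h1 : ∀ i, P.1 ((v i - algebraMap k K (c i)) / u) < 1 := fun i => by
      simpa [h0] using he₀ i
    have h2 : P.1 (∑ i, algebraMap k K (q i) * ((v i - algebraMap k K (c i)) / u)) < 1 := by
      refine P.1.map_sum_lt one_ne_zero fun i _ => ?_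
      rw [map_mul]
      exact lt_of_le_of_lt (mul_le_of_le_one_left' (P.2.1 _)) (h1 i)
    simp only [mul_div_assoc', ← Finset.sum_div, mul_sub, Finset.sum_sub_distrib, ← hu_eq,
      ← map_mul, ← map_sum, hq0, map_zero, sub_zero, div_self hu0, map_one] at h2
    exact lt_irrefl _ h2
  refine ⟨e₀, hmem, he_ne, fun e he => ?_⟩
  have hS : ∑ l, q l * e₀ l ≠ 0 := fun h0 => he_ne (funext fun i => by
    rw [ha i e₀ hmem, h0, mul_zero]; rfl)
  refine ⟨(∑ l, q l * e l) / ∑ l, q l * e₀ l, funext fun i => ?_⟩
  rw [Pi.smul_apply, smul_eq_mul, ha i e he, ha i e₀ hmem]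
  field_simp

/-- If the tangent space is a line then the place is nonsingular. -/
theorem FF.nonsingular_of_tangent [Fintype σ] (hF : FF k K) {φ : σ → K}
    {P : Place k K} {j : σ} (hj : IsMin φ P j)
    (hbir : IntermediateField.adjoin k (Set.range fun i => φ i / φ j) = ⊤)
    {c : σ → k} (hc : ∀ i, P.1 (φ i / φ j - algebraMap k K (c i)) < 1) {ρ : Type*} [Fintype ρ]
    (f : ρ → MvPolynomial σ k) (hf : ∀ r, aeval (fun i => φ i / φ j) (f r) = 0)
    {e₀ : σ → k} (he₀ : e₀ ∈ tangent f c j) (hne : e₀ ≠ 0)
    (hall : ∀ e ∈ tangent f c j, ∃ a : k, e = a • e₀) : IsNonsingularAt φ P := by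
  classical
  set v := fun i => φ i / φ j
  have hvA : ∀ i, v i ∈ chart k φ j := fun i => ratio_mem_chart φ i j
  obtain ⟨t, ht⟩ : ∃ t, e₀ t ≠ 0 := Function.ne_iff.mp hne
  set x := fun i => v i - algebraMap k K (c i)
  have hxA : ∀ i, x i ∈ chart k φ j := fun i => sub_mem (hvA i) (Subalgebra.algebraMap_mem _ _)
  have hxj : x j = 0 := by
    have hcj : c j = 1 := by
      by_contra hcj
      have h1 := hc j
      rw [div_self hj.1, ← (algebraMap k K).map_one, ← map_sub,
        val_algebraMap P (sub_ne_zero.mpr (Ne.symm hcj))] at h1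
      exact lt_irrefl _ h1
    simp [x, v, div_self hj.1, hcj]
  -- the linear forms vanishing on the tangent line come from relations
  have hrel : ∀ i, ∃ (μ : ρ → k) (ν : k), ∀ e : σ → k,
      e i - e₀ i / e₀ t * e t = ∑ r, μ r * ∑ l, eval c (pderiv l (f r)) * e l + ν * e j := by
    intro i
    let Lf : Option ρ → Module.Dual k (σ → k) := fun o => match o with
      | none => LinearMap.proj j
      | some r => ∑ l, eval c (pderiv l (f r)) • LinearMap.proj l
    let Φ : Module.Dual k (σ → k) := LinearMap.proj i - (e₀ i / e₀ t) • LinearMap.proj t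
    have hmem : Φ ∈ Submodule.span k (Set.range Lf) := by
      rw [← Subspace.dualCoannihilator_dualAnnihilator_eq (W := Submodule.span k (Set.range Lf)),
        Submodule.mem_dualAnnihilator]
      intro e he
      rw [Submodule.mem_dualCoannihilator] at he
      have he' : e ∈ tangent f c j := by
        refine ⟨he _ (Submodule.subset_span ⟨none, rfl⟩), fun r => ?_⟩
        simpa [Lf, LinearMap.sum_apply] using he _ (Submodule.subset_span ⟨some r, rfl⟩)
      obtain ⟨a, rfl⟩ := hall e he'
      simp only [Φ, LinearMap.sub_apply, LinearMap.smul_apply, LinearMap.proj_apply, Pi.smul_apply,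
        smul_eq_mul]
      field_simp
      ring
    obtain ⟨w, hw⟩ := (Submodule.mem_span_range_iff_exists_fun k).mp hmem
    refine ⟨fun r => w (some r), w none, fun e => ?_⟩
    have := LinearMap.congr_fun hw e
    simp only [Φ, Lf, Fintype.sum_option, LinearMap.add_apply, LinearMap.sum_apply,
      LinearMap.smul_apply, LinearMap.proj_apply, LinearMap.sub_apply, smul_eq_mul] at this
    rw [← this, add_comm]
  choose μ ν hμν using hrel
  choose h hh he using fun r => exists_linear_expansion P (chart k φ j) v hvA c hc (f r)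
  have hexp : ∀ r, ∑ l, h r l * x l = 0 := fun r => by
    rw [← he r, hf r, eval_eq_zero_of_aeval P hc (hf r), map_zero, sub_zero]
  let H : Matrix σ σ K := Matrix.of fun i l => ∑ r, algebraMap k K (μ i r) *
    (h r l - algebraMap k K (eval c (pderiv l (f r))))
  have hsys : ((1 : Matrix σ σ K) + H).mulVec x = fun i => algebraMap k K (e₀ i / e₀ t) * x t := by
    funext i
    rw [Matrix.add_mulVec, Matrix.one_mulVec, Pi.add_apply]
    simp only [H, Matrix.mulVec, dotProduct, Matrix.of_apply, Finset.sum_mul]
    rw [Finset.sum_comm]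
    have h0 : ∀ r, ∑ l, algebraMap k K (μ i r) * (h r l - algebraMap k K (eval c (pderiv l (f r)))) *
        x l = -(algebraMap k K (μ i r) * ∑ l, algebraMap k K (eval c (pderiv l (f r))) * x l) := by
      intro r
      simp only [mul_assoc, ← Finset.mul_sum, sub_mul, Finset.sum_sub_distrib, hexp r, zero_sub,
        mul_neg]
    simp only [h0, Finset.sum_neg_distrib]
    -- the linear identity, extended to `K`
    have hcoef : ∀ l, (if l = i then (1 : k) else 0) - e₀ i / e₀ t * (if l = t then 1 else 0) =
        ∑ r, μ i r * eval c (pderiv l (f r)) + ν i * (if l = j then 1 else 0) := by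
      intro l
      have := hμν i (Pi.single l 1)
      simpa [Pi.single_apply, eq_comm] using this
    have h1 : x i - algebraMap k K (e₀ i / e₀ t) * x t =
        ∑ r, algebraMap k K (μ i r) * ∑ l, algebraMap k K (eval c (pderiv l (f r))) * x l := by
      have h2 := congrArg (fun g : σ → k => ∑ l, algebraMap k K (g l) * x l) (funext hcoef)
      simp only [map_sub, map_mul, map_add, map_sum, apply_ite (algebraMap k K), map_one, map_zero,
        sub_mul, add_mul, mul_assoc, ite_mul, one_mul, zero_mul, Finset.sum_add_distrib,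
        Finset.sum_sub_distrib, ← Finset.mul_sum, Finset.sum_ite_eq', Finset.mem_univ, if_true,
        hxj, mul_zero, add_zero, Finset.sum_mul] at h2
      rw [h2, Finset.sum_comm]
      simp only [Finset.mul_sum]
    rw [← h1]
    ring
  have hB : ∀ i l, ((1 : Matrix σ σ K) + H) i l ∈ chart k φ j := by
    intro i l
    refine add_mem ?_ (sum_mem fun r _ => mul_mem (Subalgebra.algebraMap_mem _ _)
      (sub_mem (hh r l).1 (Subalgebra.algebraMap_mem _ _)))
    rw [Matrix.one_apply]
    split
    · exact one_mem _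
    · exact zero_mem _
  let B : Matrix σ σ (chart k φ j) := Matrix.of fun i l => ⟨_, hB i l⟩
  have hBmap : B.map (chart k φ j).val = 1 + H := rfl
  have hdetmem : ((1 : Matrix σ σ K) + H).det ∈ chart k φ j := by
    rw [← hBmap, ← AlgHom.mapMatrix_apply, ← AlgHom.map_det]
    exact B.det.2
  have hadjmem : ∀ i l, ((1 : Matrix σ σ K) + H).adjugate i l ∈ chart k φ j := fun i l => by
    rw [← hBmap, ← AlgHom.mapMatrix_apply, ← AlgHom.map_adjugate]
    exact (B.adjugate i l).2
  have hdet1 : P.1 ((1 : Matrix σ σ K) + H).det = 1 := by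
    have hlt : P.1 (((1 : Matrix σ σ K) + H).det - 1) < 1 := by
      let BO : Matrix σ σ P.O :=
        Matrix.of fun i l => ⟨_, (Valuation.mem_valuationSubring_iff P.1 _).mpr (hj.chart_le (hB i l))⟩
      have h1 : BO.map (IsLocalRing.residue P.O) = 1 := by
        ext i l
        have hHlt : P.1 (H i l) < 1 := P.1.map_sum_lt one_ne_zero fun r _ => by
          rw [map_mul]; exact lt_of_le_of_lt (mul_le_of_le_one_left' (P.2.1 _)) (hh r l).2
        have h2 : BO i l - (1 : Matrix σ σ P.O) i l ∈ IsLocalRing.maximalIdeal P.O := by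
          refine (Valuation.mem_maximalIdeal_iff (v := P.1)).mpr ?_
          have : ((BO i l - (1 : Matrix σ σ P.O) i l : P.O) : K) = H i l := by
            change ((1 : Matrix σ σ K) + H) i l - (((1 : Matrix σ σ P.O) i l : P.O) : K) = H i l
            rw [Matrix.add_apply, Matrix.one_apply, Matrix.one_apply]
            split <;> simp
          rwa [this]
        rw [← IsLocalRing.residue_eq_zero_iff, map_sub, sub_eq_zero] at h2
        rw [Matrix.map_apply, h2, Matrix.one_apply, Matrix.one_apply]
        split <;> simp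
      have h3 : BO.det - 1 ∈ IsLocalRing.maximalIdeal P.O := by
        rw [← IsLocalRing.residue_eq_zero_iff, map_sub, map_one, RingHom.map_det,
          RingHom.mapMatrix_apply, h1, Matrix.det_one, sub_self]
      have h4 : (BO.det : K) = ((1 : Matrix σ σ K) + H).det := by
        have := RingHom.map_det (algebraMap P.O K) BO
        exact this
      have := (Valuation.mem_maximalIdeal_iff (v := P.1)).mp h3
      change P.1 ((BO.det : K) - 1) < 1 at this
      rwa [h4] at this
    rw [show ((1 : Matrix σ σ K) + H).det = 1 + (((1 : Matrix σ σ K) + H).det - 1) by ring,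
      P.1.map_add_eq_of_lt_left (by rwa [map_one]), map_one]
  have hdet0 : ((1 : Matrix σ σ K) + H).det ≠ 0 := fun h0 => by simp [h0] at hdet1
  have hcramer : ∀ i, ((1 : Matrix σ σ K) + H).det * x i =
      (∑ l, ((1 : Matrix σ σ K) + H).adjugate i l * algebraMap k K (e₀ l / e₀ t)) * x t := by
    intro i
    have h1 := congrArg (fun w => ((1 : Matrix σ σ K) + H).adjugate.mulVec w i) hsys
    simp only [Matrix.mulVec_mulVec, Matrix.adjugate_mul, Matrix.smul_mulVec, Matrix.one_mulVec,
      Pi.smul_apply, smul_eq_mul] at h1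
    rw [h1, Finset.sum_mul]
    simp only [Matrix.mulVec, dotProduct, mul_assoc]
  set b := fun i => (∑ l, ((1 : Matrix σ σ K) + H).adjugate i l * algebraMap k K (e₀ l / e₀ t)) *
    ((1 : Matrix σ σ K) + H).det⁻¹
  have hbloc : ∀ i, b i ∈ locRing φ P j := fun i =>
    mul_mem (chart_le_locRing φ P j
      (sum_mem fun l _ => mul_mem (hadjmem i l) (Subalgebra.algebraMap_mem _ _)))
      (inv_mem_locRing (chart_le_locRing φ P j hdetmem) hdet1)
  have hxb : ∀ i, x i = b i * x t := fun i => by
    simp only [b]
    rw [mul_right_comm, ← hcramer i, mul_comm _ (x i), mul_inv_cancel_right₀ hdet0]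
  have hu0 : x t ≠ 0 := by
    intro h0
    have hconst : ∀ i, v i = algebraMap k K (c i) := fun i => by
      have := hxb i; rw [h0, mul_zero] at this; exact sub_eq_zero.mp this
    obtain ⟨y, hy, -⟩ := id hF
    have hle : IntermediateField.adjoin k (Set.range fun i => φ i / φ j) ≤ ⊥ := by
      rw [IntermediateField.adjoin_le_iff]
      rintro _ ⟨i, rfl⟩
      exact IntermediateField.mem_bot.mpr ⟨c i, (hconst i).symm⟩
    obtain ⟨d, rfl⟩ := IntermediateField.mem_bot.mp (hle (hbir ▸ IntermediateField.mem_top (x := y)))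
    exact hy (isAlgebraic_algebraMap d)
  refine nonsingular_of_principal hj hbir (chart_le_locRing φ P j (hxA t)) hu0 (hc t)
    fun a ha ha1 => ?_
  obtain ⟨g, rfl⟩ := chart_eq_range φ j ha
  obtain ⟨hg, hhg, heg⟩ := exists_linear_expansion P (chart k φ j) v hvA c hc g
  have hgc : eval c g = 0 := by
    by_contra hne'
    have h1 := val_aeval_sub_lt P v c hc g
    have h2 : P.1 (algebraMap k K (eval c g)) < 1 := by
      rw [show algebraMap k K (eval c g) = aeval v g - (aeval v g - algebraMap k K (eval c g)) by ring]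
      exact lt_of_le_of_lt (P.1.map_sub _ _) (max_lt ha1 h1)
    rw [val_algebraMap P hne'] at h2
    exact lt_irrefl _ h2
  rw [hgc, map_zero, sub_zero] at heg
  rw [heg, Finset.sum_div]
  refine sum_mem fun i _ => ?_
  change hg i * x i / x t ∈ _
  rw [hxb i, ← mul_assoc, mul_div_cancel_right₀ _ hu0]
  exact mul_mem (chart_le_locRing φ P j (hhg i).1) (hbloc i)

end Groth.Agent.FF30
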