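import Groth.Agent.FF30.Embed

/-! Jets at nonsingular places. -/

open FunFld WithZero
open scoped Multiplicative

namespace Groth.Agent.FF30

variable {k K : Type*} [Field k] [IsAlgClosed k] [Field K] [Algebra k K] {ι : Type*}

/-- An element of the local ring is congruent to one of the chart, to any order. -/
theorem FF.exists_chart_approx (hF : FF k K) {φ : ι → K} {P : Place k K} {j : ι} (hj : IsMin φ P j)
    {z : K} (hz : z ∈ locRing φ P j) (N : ℕ) :
    ∃ b ∈ chart k φ j, P.1 (b - z) ≤ exp (-(N : ℤ)) := by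
  have hz1 := locRing_le_one hj hz
  obtain ⟨u, hu, v, hv, hv1, huv⟩ := hz
  obtain ⟨c, hc⟩ := hF.exists_sub_lt P hv1.le
  have hc0 : c ≠ 0 := by rintro rfl; rw [map_zero, sub_zero, hv1] at hc; exact lt_irrefl _ hc
  set m := 1 - v * algebraMap k K c⁻¹
  have hm : m ∈ chart k φ j := sub_mem (one_mem _) (mul_mem hv (Subalgebra.algebraMap_mem _ _))
  have hm1 : P.1 m ≤ exp (-1) := by
    refine val_lt_one_le P ?_
    have : m = -((v - algebraMap k K c) * algebraMap k K c⁻¹) := by
      have : algebraMap k K c * algebraMap k K c⁻¹ = 1 := by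
        rw [← map_mul, mul_inv_cancel₀ hc0, map_one]
      simp only [m, sub_mul, this]
      ring
    rw [this, Valuation.map_neg, map_mul, val_algebraMap P (inv_ne_zero hc0), mul_one]
    exact hc
  set inv := algebraMap k K c⁻¹ * ∑ i ∈ Finset.range N, m ^ i
  have hinv : v * inv - 1 = -m ^ N := by
    have h1 := mul_geom_sum m N
    have h2 : v * inv = (1 - m) * ∑ i ∈ Finset.range N, m ^ i := by
      simp only [inv, m]; ring
    rw [h2]
    linear_combination -h1
  refine ⟨u * inv, mul_mem hu (mul_mem (Subalgebra.algebraMap_mem _ _)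
    (sum_mem fun i _ => pow_mem hm i)), ?_⟩
  rw [← huv, show z * v * inv - z = z * (v * inv - 1) by ring, hinv, map_mul, Valuation.map_neg,
    map_pow]
  refine (mul_le_of_le_one_left' hz1).trans ((pow_le_pow_left₀ zero_le hm1 N).trans (le_of_eq ?_))
  rw [← exp_nsmul, nsmul_eq_mul, mul_neg, mul_one]

/-- Jets at finitely many nonsingular places of a chart are realized in the chart. -/
theorem FF.exists_jet (hF : FF k K) {φ : ι → K} {j : ι} (S : Finset (Place k K))
    (hS : ∀ Q ∈ S, IsMin φ Q j ∧ IsNonsingularAt φ Q) (g : Place k K → K)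
    (hg : ∀ Q ∈ S, Q.1 (g Q) ≤ 1) (N : ℕ) :
    ∃ b ∈ chart k φ j, ∀ Q ∈ S, Q.1 (b - g Q) ≤ exp (-(N : ℤ)) := by
  classical
  have hsep : ∀ P ∈ S, ∃ a ∈ chart k φ j, P.1 (a - g P) ≤ exp (-(N : ℤ)) ∧
      ∀ Q ∈ S, Q ≠ P → Q.1 a ≤ exp (-(N : ℤ)) := by
    intro P hP
    obtain ⟨hPmin, hPns⟩ := hS P hP
    obtain ⟨h, hh, hh1, hhS⟩ := hF.exists_sep_pow hPmin (S.erase P) (fun Q hQ => by
      obtain ⟨hne, hQS⟩ := Finset.mem_erase.mp hQ
      exact ⟨(hS Q hQS).1, fun hs => hne (hF.unique_of_nonsingular hPmin hPns hs)⟩) N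
    have hgh : g P / h ∈ locRing φ P j := by
      refine (inLocRing_iff hPmin _).mp (hPns _ ?_)
      rw [map_div₀, hh1, div_one]; exact hg P hP
    obtain ⟨b, hb, hb1⟩ := hF.exists_chart_approx hPmin hgh N
    have hh0 : h ≠ 0 := fun h0 => by simp [h0] at hh1
    refine ⟨h * b, mul_mem hh hb, ?_, fun Q hQ hne => ?_⟩
    · rw [show h * b - g P = h * (b - g P / h) by field_simp, map_mul, hh1, one_mul]
      exact hb1
    · rw [map_mul]
      exact (mul_le_of_le_one_right' ((hS Q hQ).1.chart_le hb)).trans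
        (hhS Q (Finset.mem_erase.mpr ⟨hne, hQ⟩))
  choose! a ha ha1 ha2 using hsep
  refine ⟨∑ P ∈ S, a P, sum_mem fun P hP => ha P hP, fun Q hQ => ?_⟩
  rw [← Finset.add_sum_erase S a hQ, add_sub_right_comm]
  refine (Q.1.map_add _ _).trans (max_le (ha1 Q hQ) ?_)
  exact Q.1.map_sum_le fun P hP => ha2 P (Finset.mem_erase.mp hP).2 Q hQ (Finset.mem_erase.mp hP).1.symm

/-- A nonsingular chart contains every function regular on it. -/
theorem mem_chart_of_nonsingular (h : IsFunctionField k K) [Fintype ι] [Nonempty ι] {φ : ι → K}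
    {j : ι} (hne : φ j ≠ 0)
    (hbir : IntermediateField.adjoin k (Set.range fun i => φ i / φ j) = ⊤)
    (hns : ∀ Q : Place k K, IsMin φ Q j → IsNonsingularAt φ Q) {z : K}
    (hz : ∀ Q : Place k K, IsMin φ Q j → Q.1 z ≤ 1) : z ∈ chart k φ j := by
  classical
  have hF : FF k K := h.1
  obtain ⟨c, hcA, hc0, hc⟩ := exists_conductor h φ j hne hbir
  set S := (hF.zeros_finite c).toFinset.filter fun Q => IsMin φ Q j
  obtain ⟨b, hb, hbS⟩ := hF.exists_jet S
    (fun Q hQ => ⟨(Finset.mem_filter.mp hQ).2, hns Q (Finset.mem_filter.mp hQ).2⟩) (fun _ => z)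
    (fun Q hQ => hz Q (Finset.mem_filter.mp hQ).2) (∑ Q ∈ S, (Q.ord c).natAbs)
  have hreg : ∀ Q : Place k K, IsMin φ Q j → Q.1 ((z - b) / c) ≤ 1 := by
    intro Q hQ
    rw [map_div₀]
    refine div_le_one_of_le₀ ?_ zero_le
    by_cases hQS : Q ∈ S
    · rw [Valuation.map_sub_swap]
      refine (hbS Q hQS).trans ?_
      have : (Q.ord c).natAbs ≤ ∑ R ∈ S, (R.ord c).natAbs :=
        Finset.single_le_sum (f := fun R : Place k K => (R.ord c).natAbs) (fun _ _ => Nat.zero_le _) hQS
      rw [val_eq Q hc0, exp_le_exp]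
      omega
    · have h1 : Q.1 c = 1 := by
        refine le_antisymm (hQ.chart_le hcA) (not_lt.mp fun hlt => hQS (Finset.mem_filter.mpr ⟨?_, hQ⟩))
        exact (hF.zeros_finite c).mem_toFinset.mpr ((val_lt_one_iff Q hc0).mp hlt)
      rw [h1]
      exact (Q.1.map_sub _ _).trans (max_le (hz Q hQ) (hQ.chart_le hb))
  have := hc _ hreg
  rw [show c * ((z - b) / c) = z - b by field_simp] at this
  simpa using add_mem this hb

end Groth.Agent.FF30
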