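import Groth.Agent.FF30.Conductor
import Groth.Agent.FF30.Rational
import Groth.Agent.FF30.SubField

/-! Nonsingular places of projective maps. -/

open FunFld WithZero
open scoped Multiplicative

namespace Groth.Agent.FF30

variable {k K : Type*} [Field k] [IsAlgClosed k] [Field K] [Algebra k K] {ι : Type*}

omit [IsAlgClosed k] in
theorem bir_change {φ : ι → K} {i₀ j : ι} (hne : φ j ≠ 0)
    (hbir : IntermediateField.adjoin k (Set.range fun i => φ i / φ i₀) = ⊤) :
    IntermediateField.adjoin k (Set.range fun i => φ i / φ j) = ⊤ := by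
  rw [eq_top_iff, ← hbir, IntermediateField.adjoin_le_iff]
  rintro _ ⟨i, rfl⟩
  have : φ i / φ i₀ = (φ i / φ j) / (φ i₀ / φ j) := (div_div_div_cancel_right₀ hne _ _).symm
  change φ i / φ i₀ ∈ IntermediateField.adjoin k _
  rw [this]
  exact div_mem (IntermediateField.subset_adjoin _ _ ⟨i, rfl⟩)
    (IntermediateField.subset_adjoin _ _ ⟨i₀, rfl⟩)

/-- An element of the chart separating `Q` from the fibre of `P`. -/
theorem FF.exists_sep (hF : FF k K) {φ : ι → K} {P Q : Place k K} {j : ι} (hP : IsMin φ P j)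
    (hQ : IsMin φ Q j) (hne : ¬ SameImage φ P Q) :
    ∃ w ∈ chart k φ j, P.1 w = 1 ∧ Q.1 w < 1 := by
  rw [sameImage_iff hF hP] at hne
  push Not at hne
  obtain ⟨a, ha, h⟩ := hne
  obtain ⟨hPa, hQa⟩ := h (hQ.chart_le ha)
  obtain ⟨c, hc⟩ := hF.exists_sub_lt Q (hQ.chart_le ha)
  have hc0 : c ≠ 0 := by
    rintro rfl; rw [map_zero, sub_zero] at hc; exact absurd hc (not_lt.mpr hQa)
  refine ⟨a - algebraMap k K c, sub_mem ha (Subalgebra.algebraMap_mem _ c), ?_, hc⟩
  rw [P.1.map_sub_eq_of_lt_right (by rwa [val_algebraMap P hc0]), val_algebraMap P hc0]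

/-- Separate finitely many places from the fibre of `P`, to any order. -/
theorem FF.exists_sep_pow (hF : FF k K) {φ : ι → K} {P : Place k K} {j : ι} (hP : IsMin φ P j)
    (S : Finset (Place k K)) (hS : ∀ Q ∈ S, IsMin φ Q j ∧ ¬ SameImage φ P Q) (N : ℕ) :
    ∃ w ∈ chart k φ j, P.1 w = 1 ∧ ∀ Q ∈ S, Q.1 w ≤ exp (-(N : ℤ)) := by
  classical
  induction S using Finset.induction_on with
  | empty => exact ⟨1, one_mem _, map_one _, by simp⟩
  | @insert R S hR ih =>
    obtain ⟨w, hw, hw1, hwS⟩ := ih fun Q hQ => hS Q (Finset.mem_insert_of_mem hQ)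
    obtain ⟨hRmin, hRne⟩ := hS R (Finset.mem_insert_self _ _)
    obtain ⟨v, hv, hv1, hvR⟩ := hF.exists_sep hP hRmin hRne
    refine ⟨w * v ^ N, mul_mem hw (pow_mem hv N), by rw [map_mul, map_pow, hw1, hv1, one_pow, one_mul],
      fun Q hQ => ?_⟩
    obtain ⟨hQmin, -⟩ := hS Q hQ
    rw [map_mul, map_pow]
    rcases Finset.mem_insert.mp hQ with rfl | hQ'
    · refine (mul_le_of_le_one_left' (hQmin.chart_le hw)).trans ?_
      refine (pow_le_pow_left₀ zero_le (val_lt_one_le Q hvR) N).trans (le_of_eq ?_)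
      rw [← exp_nsmul, nsmul_eq_mul, mul_neg, mul_one]
    · exact (mul_le_of_le_one_right' (pow_le_one₀ zero_le (hQmin.chart_le hv))).trans (hwS Q hQ')

omit [IsAlgClosed k] in
theorem FF.finite_one_lt (hF : FF k K) (z : K) : {Q : Place k K | 1 < Q.1 z}.Finite :=
  (hF.finite_support_ord z).subset fun Q hQ => ((one_lt_val_iff Q).mp hQ).ne

/-- Key lemma: an element that is small on the fibre, compared with a conductor, is in the local
ring. -/
theorem FF.mem_locRing_of_small (hF : FF k K) {φ : ι → K} {P : Place k K} {j : ι}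
    (hP : IsMin φ P j) {c : K} (hc0 : c ≠ 0)
    (hc : ∀ z : K, (∀ Q : Place k K, IsMin φ Q j → Q.1 z ≤ 1) → c * z ∈ chart k φ j) {z : K}
    (hz : ∀ Q : Place k K, SameImage φ P Q → Q.1 z ≤ Q.1 c) : z ∈ locRing φ P j := by
  classical
  set S := (hF.finite_one_lt (z / c)).toFinset.filter fun Q => IsMin φ Q j
  have hS : ∀ Q ∈ S, IsMin φ Q j ∧ ¬ SameImage φ P Q := by
    intro Q hQ
    obtain ⟨h1, h2⟩ := Finset.mem_filter.mp hQ
    refine ⟨h2, fun hs => ?_⟩
    rw [Set.Finite.mem_toFinset, Set.mem_setOf_eq, map_div₀] at h1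
    exact absurd h1 (not_lt.mpr (div_le_one_of_le₀ (hz Q hs) zero_le))
  set N := ∑ Q ∈ S, (Q.ord (z / c)).natAbs
  obtain ⟨w, hw, hw1, hwS⟩ := hF.exists_sep_pow hP S hS N
  have hreg : ∀ Q : Place k K, IsMin φ Q j → Q.1 (w * (z / c)) ≤ 1 := by
    intro Q hQ
    by_cases h1 : Q ∈ S
    · have h2 : Q.1 (z / c) ≤ exp (N : ℤ) := by
        rcases eq_or_ne (z / c) 0 with h0 | h0
        · rw [h0, map_zero]; exact zero_le
        have : (Q.ord (z / c)).natAbs ≤ N :=
          Finset.single_le_sum (f := fun R : Place k K => (R.ord (z / c)).natAbs)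
            (fun _ _ => Nat.zero_le _) h1
        rw [val_le_exp_iff Q h0]
        omega
      rw [map_mul]
      refine (mul_le_mul' (hwS Q h1) h2).trans (le_of_eq ?_)
      rw [← exp_add, neg_add_cancel, exp_zero]
    · have h2 : Q.1 (z / c) ≤ 1 := by
        by_contra h2
        exact h1 (Finset.mem_filter.mpr ⟨by simpa using not_le.mp h2, hQ⟩)
      rw [map_mul]
      exact mul_le_one' (hQ.chart_le hw) h2
  refine ⟨z * w, ?_, w, hw, hw1, rfl⟩
  have := hc _ hreg
  rwa [show c * (w * (z / c)) = z * w by field_simp] at this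

/-- A finite-codimension ideal of the local ring. -/
theorem exists_fibre_bound (h : IsFunctionField k K) [Fintype ι] [Nonempty ι] {φ : ι → K}
    {P : Place k K} {j : ι} (hP : IsMin φ P j)
    (hbir : IntermediateField.adjoin k (Set.range fun i => φ i / φ j) = ⊤) :
    ∃ N : ℕ, ∀ z : K, (∀ Q : Place k K, SameImage φ P Q → Q.1 z ≤ exp (-(N : ℤ))) →
      z ∈ locRing φ P j := by
  have hF : FF k K := h.1
  obtain ⟨c, -, hc0, hc⟩ := exists_conductor h φ j hP.1 hbir
  set T := (hF.finite_support_ord c).toFinset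
  refine ⟨∑ Q ∈ T, (Q.ord c).natAbs, fun z hz => hF.mem_locRing_of_small hP hc0 hc fun Q hQ => ?_⟩
  refine (hz Q hQ).trans ?_
  rw [val_eq Q hc0, exp_le_exp]
  have : (Q.ord c).natAbs ≤ ∑ R ∈ T, (R.ord c).natAbs := by
    by_cases hQT : Q ∈ T
    · exact Finset.single_le_sum (f := fun R : Place k K => (R.ord c).natAbs)
        (fun _ _ => Nat.zero_le _) hQT
    · simp only [T, Set.Finite.mem_toFinset, Function.mem_support, ne_eq, not_not] at hQT
      simp [hQT]
  omega

omit [IsAlgClosed k] in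
theorem sameImage_comm {φ : ι → K} {P Q : Place k K} (h : SameImage φ P Q) : SameImage φ Q P := by
  obtain ⟨l, hl, h1, h2, h3⟩ := h
  exact ⟨l, hl, h2, h1, fun i => (h3 i).imp fun c hc => ⟨hc.2, hc.1⟩⟩

/-- Expansion in a parameter of the local ring. -/
theorem FF.exists_locRing_approx (hF : FF k K) {φ : ι → K} {P : Place k K} {j : ι}
    (ht : ∃ t ∈ locRing φ P j, P.1 t = exp (-1)) {z : K} (hz : P.1 z ≤ 1) (N : ℕ) :
    ∃ r ∈ locRing φ P j, P.1 (z - r) ≤ exp (-(N : ℤ)) := by
  obtain ⟨t, ht, ht1⟩ := ht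
  induction N with
  | zero => exact ⟨0, zero_mem _, by simpa using hz⟩
  | succ N ih =>
    obtain ⟨r, hr, hzr⟩ := ih
    have hpow : P.1 (t ^ N) = exp (-(N : ℤ)) := by
      rw [map_pow, ht1, ← exp_nsmul, nsmul_eq_mul, mul_neg, mul_one]
    have hle : P.1 ((z - r) / t ^ N) ≤ 1 := by
      rw [map_div₀, hpow]; exact div_le_one_of_le₀ hzr zero_le
    obtain ⟨c, hc⟩ := hF.exists_sub_lt P hle
    refine ⟨r + algebraMap k K c * t ^ N,
      add_mem hr (mul_mem (Subalgebra.algebraMap_mem _ c) (pow_mem ht N)), ?_⟩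
    have ht0 : t ^ N ≠ 0 := fun h0 => by rw [h0, map_zero] at hpow; exact exp_ne_zero hpow.symm
    have hrw : z - (r + algebraMap k K c * t ^ N) =
        ((z - r) / t ^ N - algebraMap k K c) * t ^ N := by
      field_simp
      ring
    rw [hrw, map_mul, hpow]
    refine (mul_le_mul' (val_lt_one_le P hc) le_rfl).trans (le_of_eq ?_)
    rw [← exp_add]
    congr 1
    push_cast
    ring

/-- A single-point fibre and a parameter in the local ring force birationality. -/
theorem FF.bir_of_unique (hF : FF k K) {φ : ι → K} {P : Place k K} {j : ι} (hP : IsMin φ P j)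
    (hu : ∀ Q : Place k K, SameImage φ P Q → Q = P)
    (ht : ∃ t ∈ locRing φ P j, P.1 t = exp (-1)) :
    IntermediateField.adjoin k (Set.range fun i => φ i / φ j) = ⊤ := by
  obtain ⟨t, ⟨u, hu', w, hw, hw1, huw⟩, ht1⟩ := ht
  set E := IntermediateField.adjoin k (Set.range fun i => φ i / φ j) with hE
  have hsub : chart k φ j ≤ E.toSubalgebra := IntermediateField.algebra_adjoin_le_adjoin k _
  have hw0 : w ≠ 0 := fun h0 => by simp [h0] at hw1
  have htE : t ∈ E := by
    rw [show t = u / w by rw [← huw, mul_div_cancel_right₀ t hw0]]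
    exact div_mem (hsub hu') (hsub hw)
  have htord : P.ord t = 1 := by
    have := ord_eq_of_val_eq P ht1
    omega
  have htr : Transcendental k t := transcendental_of_ord_ne_zero P (by omega)
  obtain ⟨hFE, hfin⟩ := hF.intermediateField E htE htr
  have : IsScalarTower k E K := IsScalarTower.of_algebraMap_eq fun c => rfl
  obtain ⟨p, e, he, hPp⟩ := hFE.exists_isOverWith P
  have h1 : (e : ℤ) * p.ord ⟨t, htE⟩ = 1 := by
    rw [← isOverWith_ord hPp ⟨t, htE⟩]
    exact htord
  have he1 : e = 1 := by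
    have := Int.eq_one_of_mul_eq_one_right (by positivity) h1
    exact_mod_cast this
  have hone : ∀ Q : Place k K, Q ∈ ({P} : Finset (Place k K)) ↔ IsOver Q p := by
    intro Q
    rw [Finset.mem_singleton]
    refine ⟨fun hQ => hQ ▸ ⟨e, hPp⟩, fun hQ => hu Q ((sameImage_iff hF hP).mpr fun a ha => ?_)⟩
    obtain ⟨e', hQe⟩ := hQ
    have hP' := isOverWith_ord hPp (⟨a, hsub ha⟩ : E)
    have hQ' := isOverWith_ord hQe (⟨a, hsub ha⟩ : E)
    have he' := isOverWith_pos hQe
    change P.ord a = _ at hP'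
    change Q.ord a = _ at hQ'
    rw [he1, Nat.cast_one, one_mul] at hP'
    have hPa : 0 ≤ P.ord a := (val_le_one_iff P).mp (hP.chart_le ha)
    refine ⟨(val_le_one_iff Q).mpr ?_, fun hlt => ?_⟩
    · rw [hQ', ← hP']; positivity
    · rcases eq_or_ne a 0 with rfl | ha0
      · simp
      rw [val_lt_one_iff P ha0] at hlt
      rw [val_lt_one_iff Q ha0, hQ', ← hP']
      positivity
  have hsum := hFE.sum_ramIdx_mul_deg p ({P} : Finset (Place k K)) hone
  rw [Finset.sum_singleton, ramIdx_eq hPp, hF.deg_eq_one, hFE.deg_eq_one, mul_one, mul_one,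
    he1] at hsum
  exact IntermediateField.finrank_eq_one_iff_eq_top.mp hsum.symm

/-- A single-point fibre and a parameter in the local ring give nonsingularity. -/
theorem nonsingular_of_unique (h : IsFunctionField k K) [Fintype ι] [Nonempty ι] {φ : ι → K}
    {P : Place k K} {j : ι} (hP : IsMin φ P j)
    (hu : ∀ Q : Place k K, SameImage φ P Q → Q = P)
    (ht : ∃ t ∈ locRing φ P j, P.1 t = exp (-1)) : IsNonsingularAt φ P := by
  have hF : FF k K := h.1
  rw [isNonsingularAt_iff_locRing hP]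
  intro z hz
  obtain ⟨N, hN⟩ := exists_fibre_bound h hP (hF.bir_of_unique hP hu ht)
  obtain ⟨r, hr, hzr⟩ := hF.exists_locRing_approx ht hz N
  have := hN (z - r) fun Q hQ => by rw [hu Q hQ]; exact hzr
  simpa using add_mem this hr

theorem FF.unique_of_nonsingular (hF : FF k K) {φ : ι → K} {P : Place k K} {j : ι}
    (hP : IsMin φ P j) (h : IsNonsingularAt φ P) {Q : Place k K} (hQ : SameImage φ P Q) :
    Q = P :=
  (eq_of_val_le_one_imp fun z hz => ((sameImage_iff_locRing hF hP).mp hQ z (h z hz)).1).symm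

omit [IsAlgClosed k] in
theorem exists_param_of_nonsingular {φ : ι → K} {P : Place k K} {j : ι}
    (hP : IsMin φ P j) (h : IsNonsingularAt φ P) : ∃ t ∈ locRing φ P j, P.1 t = exp (-1) := by
  obtain ⟨t, -, ht⟩ := exists_uniformizer P
  exact ⟨t, (inLocRing_iff hP t).mp (h t (by rw [ht, ← exp_zero, exp_le_exp]; omega)), ht⟩

omit [IsAlgClosed k] in
theorem bir_of_nonsingular {φ : ι → K} {P : Place k K} {j : ι}
    (hP : IsMin φ P j) (h : IsNonsingularAt φ P) :
    IntermediateField.adjoin k (Set.range fun i => φ i / φ j) = ⊤ := by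
  rw [eq_top_iff]
  intro z _
  set E := IntermediateField.adjoin k (Set.range fun i => φ i / φ j) with hE
  have hsub : chart k φ j ≤ E.toSubalgebra := IntermediateField.algebra_adjoin_le_adjoin k _
  have key : ∀ y : K, P.1 y ≤ 1 → y ∈ E := by
    intro y hy
    obtain ⟨u, hu, w, hw, hw1, huw⟩ := (inLocRing_iff hP y).mp (h y hy)
    have hw0 : w ≠ 0 := fun h0 => by simp [h0] at hw1
    rw [show y = u / w by rw [← huw, mul_div_cancel_right₀ y hw0]]
    exact div_mem (hsub hu) (hsub hw)
  rcases le_total (P.1 z) 1 with hz | hz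
  · exact key z hz
  · have := key z⁻¹ (by rw [map_inv₀]; exact inv_le_one_of_one_le₀ hz)
    simpa using inv_mem this

/-- Almost every place is nonsingular. -/
theorem finite_singular (h : IsFunctionField k K) [Fintype ι] [Nonempty ι] {φ : ι → K}
    (hne : ∀ i, φ i ≠ 0) {i₀ : ι}
    (hbir : IntermediateField.adjoin k (Set.range fun i => φ i / φ i₀) = ⊤) :
    {P : Place k K | ¬ IsNonsingularAt φ P}.Finite := by
  classical
  have hF : FF k K := h.1
  choose c hcA hc0 hc using fun j => exists_conductor h φ j (hne j) (bir_change (hne j) hbir)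
  refine (Set.finite_iUnion fun j => hF.zeros_finite (c j)).subset fun P hns => ?_
  obtain ⟨j, hj⟩ := exists_isMin φ ⟨i₀, hne i₀⟩ P
  rw [Set.mem_iUnion]
  refine ⟨j, ?_⟩
  by_contra hz
  apply hns
  have hPc : P.1 (c j) = 1 := by
    refine le_antisymm (hj.chart_le (hcA j)) (not_lt.mp fun hlt => hz ?_)
    exact (val_lt_one_iff P (hc0 j)).mp hlt
  have hu : ∀ Q : Place k K, SameImage φ P Q → Q = P := by
    intro Q hQ
    by_contra hne'
    have hQmin := SameImage.isMin hF hj hQ
    obtain ⟨Pinf, hPinf⟩ : ∃ R : Place k K, ¬ IsMin φ R j := by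
      obtain ⟨x, hx⟩ : ∃ x, x ∈ chart k φ j ∧ Transcendental k x := by
        by_contra hcon
        push Not at hcon
        obtain ⟨y, hy, -⟩ := id hF
        obtain ⟨u, hu', w, hw, hw0, huw⟩ := exists_chart_div (bir_change (hne j) hbir) y
        have hu'' : IsAlgebraic k u := not_not.mp (hcon u hu')
        have hw' : IsAlgebraic k w := not_not.mp (hcon w hw)
        exact hy (by
          rw [show y = u * w⁻¹ by rw [← huw, mul_inv_cancel_right₀ hw0]]
          exact hu''.mul hw'.inv)
      obtain ⟨R, hR⟩ := hF.exists_place_neg hx.2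
      exact ⟨R, fun hmin => absurd (hmin.chart_le hx.1) (not_le.mpr ((one_lt_val_iff R).mpr hR))⟩
    obtain ⟨y, hy, hyreg⟩ := strong_approximation' h Pinf {P, Q}
      (by
        simp only [Finset.mem_insert, Finset.mem_singleton]
        rintro (rfl | rfl)
        exacts [hPinf hj, hPinf hQmin])
      (fun R => if R = P then 0 else 1) (fun _ => 1)
    have hyP : P.1 y < 1 := by
      have := hy P (by simp)
      simp only [if_pos] at this
      rw [sub_zero] at this
      rw [this, ← exp_zero, exp_lt_exp]; omega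
    have hyQ : Q.1 y = 1 := by
      have := hy Q (by simp)
      simp only [if_neg hne'] at this
      have h1 : Q.1 (y - 1) < 1 := by rw [this, ← exp_zero, exp_lt_exp]; omega
      rw [show y = 1 + (y - 1) by ring, Q.1.map_add_eq_of_lt_left (by rwa [map_one]), map_one]
    have hreg : ∀ R : Place k K, IsMin φ R j → R.1 y ≤ 1 := by
      intro R hR
      rcases eq_or_ne R P with rfl | hRP
      · exact hyP.le
      rcases eq_or_ne R Q with rfl | hRQ
      · exact hyQ.le
      exact hyreg R (fun hRi => hPinf (hRi ▸ hR)) (by simp [hRP, hRQ])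
    have hmem := hc j y hreg
    obtain ⟨hle, hlt⟩ := (sameImage_iff hF hj).mp hQ _ hmem
    have := hlt (by rw [map_mul, hPc, one_mul]; exact hyP)
    rw [map_mul, hyQ, mul_one] at this
    obtain ⟨hle', hlt'⟩ := (sameImage_iff_locRing hF hj).mp hQ (c j)
      ((inLocRing_iff hj _).mpr (chart_le_locRing φ P j (hcA j)))
    exact absurd (hlt'.mp this) (by rw [hPc]; exact lt_irrefl _)
  rw [isNonsingularAt_iff_locRing hj]
  intro z hz'
  refine hF.mem_locRing_of_small hj (hc0 j) (hc j) fun Q hQ => ?_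
  rw [hu Q hQ, hPc]
  exact hz'

theorem mem_chart_of_span {φ : ι → K} (j : ι) {l : K} (hl : l ∈ Submodule.span k (Set.range φ)) :
    l / φ j ∈ chart k φ j := by
  induction hl using Submodule.span_induction with
  | mem x hx => obtain ⟨i, rfl⟩ := hx; exact ratio_mem_chart φ i j
  | zero => simp
  | add a b _ _ ha hb => rw [add_div]; exact add_mem ha hb
  | smul c a _ ha => rw [smul_div_assoc]; exact Subalgebra.smul_mem _ ha c

/-- A parameter in the local ring comes from a linear form. -/
theorem FF.exists_linear_param (hF : FF k K) {φ : ι → K} {P : Place k K} {j : ι} (hP : IsMin φ P j)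
    (ht : ∃ t ∈ locRing φ P j, P.1 t = exp (-1)) :
    ∃ l ∈ Submodule.span k (Set.range φ), P.1 (l / φ j) = exp (-1) := by
  by_contra hcon
  push Not at hcon
  have key : ∀ a ∈ chart k φ j, ∃ c : k, P.1 (a - algebraMap k K c) ≤ exp (-2) := by
    intro a ha
    refine chart_induction (p := fun a => ∃ c : k, P.1 (a - algebraMap k K c) ≤ exp (-2)) ha ?_
      (fun c => ⟨c, by simp⟩) ?_ ?_
    · intro i
      obtain ⟨c, hc⟩ := hF.exists_sub_lt P (val_ratio_le_one hP i)
      refine ⟨c, ?_⟩
      have hl : φ i - c • φ j ∈ Submodule.span k (Set.range φ) :=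
        sub_mem (Submodule.subset_span ⟨i, rfl⟩) (Submodule.smul_mem _ c (Submodule.subset_span ⟨j, rfl⟩))
      have heq : (φ i - c • φ j) / φ j = φ i / φ j - algebraMap k K c := by
        rw [sub_div, Algebra.smul_def, mul_div_cancel_right₀ _ hP.1]
      rcases eq_or_ne (φ i / φ j - algebraMap k K c) 0 with h0 | h0
      · rw [h0, map_zero]; exact zero_le
      have h1 := hcon _ hl
      rw [heq, val_eq P h0, ne_eq, exp_inj] at h1
      rw [val_lt_one_iff P h0] at hc
      rw [val_le_exp_iff P h0]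
      omega
    · rintro a b ⟨c, h1⟩ ⟨c', h2⟩
      refine ⟨c + c', ?_⟩
      rw [map_add, add_sub_add_comm]
      exact (P.1.map_add _ _).trans (max_le h1 h2)
    · rintro a b ⟨c, h1⟩ ⟨c', h2⟩
      refine ⟨c * c', ?_⟩
      have h3 : exp (-2 : ℤ) ≤ (1 : ℤᵐ⁰) := by rw [← exp_zero, exp_le_exp]; omega
      have hb : P.1 b ≤ 1 := by
        rw [show b = (b - algebraMap k K c') + algebraMap k K c' by ring]
        exact (P.1.map_add _ _).trans (max_le (h2.trans h3) (P.2.1 c'))
      rw [show a * b - algebraMap k K (c * c') = (a - algebraMap k K c) * b +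
        algebraMap k K c * (b - algebraMap k K c') by rw [map_mul]; ring]
      refine (P.1.map_add _ _).trans (max_le ?_ ?_) <;> rw [map_mul]
      · exact (mul_le_of_le_one_right' hb).trans h1
      · exact (mul_le_of_le_one_left' (P.2.1 c)).trans h2
  obtain ⟨t, ⟨u, hu, w, hw, hw1, huw⟩, ht1⟩ := ht
  have hu1 : P.1 u = exp (-1) := by rw [← huw, map_mul, hw1, mul_one, ht1]
  obtain ⟨c, hc⟩ := key u hu
  have hc0 : c = 0 := by
    by_contra hc0
    have h1 : P.1 (algebraMap k K c) ≤ exp (-1) := by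
      rw [show algebraMap k K c = u - (u - algebraMap k K c) by ring]
      exact (P.1.map_sub _ _).trans (max_le hu1.le (hc.trans (by rw [exp_le_exp]; omega)))
    rw [val_algebraMap P hc0, ← exp_zero, exp_le_exp] at h1
    omega
  rw [hc0, map_zero, sub_zero, hu1, exp_le_exp] at hc
  omega

theorem nonsingular_iff_linear (h : IsFunctionField k K) [Fintype ι] [Nonempty ι] {φ : ι → K}
    {P : Place k K} {j : ι} (hP : IsMin φ P j) :
    IsNonsingularAt φ P ↔ (∀ Q : Place k K, SameImage φ P Q → Q = P) ∧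
      ∃ l ∈ Submodule.span k (Set.range φ), P.1 (l / φ j) = exp (-1) := by
  have hF : FF k K := h.1
  constructor
  · exact fun hns => ⟨fun Q hQ => hF.unique_of_nonsingular hP hns hQ,
      hF.exists_linear_param hP (exists_param_of_nonsingular hP hns)⟩
  · rintro ⟨hu, l, hl, hl1⟩
    exact nonsingular_of_unique h hP hu
      ⟨l / φ j, chart_le_locRing φ P j (mem_chart_of_span j hl), hl1⟩

end Groth.Agent.FF30
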