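import Groth.Agent.FF30.IntClosure
import Mathlib.LinearAlgebra.FreeModule.Norm
import Mathlib.RingTheory.Localization.NormTrace
import Mathlib.RingTheory.DedekindDomain.IntegralClosure
import Mathlib.RingTheory.DiscreteValuationRing.Basic

/-! The norm of a function and the orders at the places above. -/

open FunFld WithZero

namespace Groth.Agent.FF30

variable {k K K' : Type*} [Field k] [Field K] [Field K'] [Algebra k K] [Algebra K K'] [Algebra k K']
  [IsScalarTower k K K']

theorem isUnit_O_iff (P : Place k K) (z : P.O) : IsUnit z ↔ P.1 (z : K) = 1 :=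
  Valuation.Integers.isUnit_iff_valuation_eq_one (Valuation.integer.integers P.1)

theorem isDVR_place (P : Place k K) : IsDiscreteValuationRing P.O := by
  obtain ⟨t, ht0, ht⟩ := exists_uniformizer (P := P)
  have htle : P.1 t ≤ 1 := by rw [ht, ← exp_zero, exp_le_exp]; norm_num
  let π : P.O := ⟨t, htle⟩
  refine IsDiscreteValuationRing.ofHasUnitMulPowIrreducibleFactorization ⟨π, ⟨fun hu => ?_, fun a b hab => ?_⟩, fun {x} hx => ?_⟩
  · rw [isUnit_O_iff] at hu
    change P.1 t = 1 at hu
    rw [ht, ← exp_zero, exp_inj] at hu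
    norm_num at hu
  · by_contra hcon
    rw [not_or] at hcon
    have hnu : ∀ z : P.O, ¬ IsUnit z → P.1 (z : K) ≤ exp (-1) := fun z hz =>
      val_lt_one_le P (lt_of_le_of_ne z.2 fun e => hz ((isUnit_O_iff P z).2 e))
    have h1 := mul_le_mul' (hnu a hcon.1) (hnu b hcon.2)
    rw [← map_mul, ← exp_add] at h1
    have h2 : P.1 ((a : K) * (b : K)) = exp (-1) := by
      rw [← ht]; exact congrArg (fun z : P.O => P.1 (z : K)) hab.symm
    rw [h2, exp_le_exp] at h1
    norm_num at h1
  · have hx0 : (x : K) ≠ 0 := fun e => hx (Subtype.ext e)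
    have hn : 0 ≤ P.ord (x : K) := (val_le_one_iff P).1 x.2
    set n := (P.ord (x : K)).toNat
    have hv : P.1 ((x : K) / t ^ n) = 1 := by
      rw [val_eq_one_iff P (div_ne_zero hx0 (pow_ne_zero _ ht0)), ord_div P hx0 (pow_ne_zero _ ht0),
        ord_pow, ord_eq_of_val_eq P ht]
      omega
    refine ⟨n, ((isUnit_O_iff P ⟨_, hv.le⟩).2 hv).unit, Subtype.ext ?_⟩
    change t ^ n * ((x : K) / t ^ n) = x
    rw [mul_div_cancel₀ _ (pow_ne_zero _ ht0)]

theorem ord_associated (P : Place k K) {a b : P.O} (h : Associated a b) :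
    P.ord (a : K) = P.ord (b : K) := by
  obtain ⟨u, rfl⟩ := h
  have hu : P.1 ((u : P.O) : K) = 1 := (isUnit_O_iff P _).1 u.isUnit
  rw [Place.ord, Place.ord, show (((a * u : P.O)) : K) = (a : K) * ((u : P.O) : K) from rfl, map_mul, hu,
    mul_one]

theorem ord_prod (P : Place k K) {ι : Type*} (s : Finset ι) (f : ι → P.O) (hf : ∀ i ∈ s, f i ≠ 0) :
    P.ord ((∏ i ∈ s, f i : P.O) : K) = ∑ i ∈ s, P.ord (f i : K) := by
  classical
  induction s using Finset.induction_on with
  | empty => simp [Place.ord]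
  | @insert i s hi ih =>
    rw [Finset.prod_insert hi, Finset.sum_insert hi,
      ← ih fun j hj => hf j (Finset.mem_insert_of_mem hj)]
    exact ord_mul P (fun e => hf i (Finset.mem_insert_self i s) (Subtype.ext e)) fun e =>
      Finset.prod_ne_zero_iff.2 (fun j hj => hf j (Finset.mem_insert_of_mem hj)) (Subtype.ext e)

theorem FF.finrank_quotient_span (h : FF k K) (P : Place k K) {a : P.O} (ha : a ≠ 0) :
    Module.Finite k (P.O ⧸ Ideal.span {a}) ∧
      (Module.finrank k (P.O ⧸ Ideal.span {a}) : ℤ) = P.ord (a : K) * P.deg := by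
  have := h.finite_residueField P
  have ha0 : (a : K) ≠ 0 := fun e => ha (Subtype.ext e)
  have hn : 0 ≤ P.ord (a : K) := (val_le_one_iff P).1 a.2
  obtain ⟨hfin, hrk⟩ := fil_finrank P (a := -P.ord (a : K)) (b := 0) (by omega)
  let j : P.O →ₗ[k] Fil P 0 :=
    { toFun := fun z => ⟨(z : K), by rw [mem_Fil, exp_zero]; exact z.2⟩
      map_add' := fun _ _ => rfl
      map_smul' := fun c z => Subtype.ext (by
        change algebraMap k K c * (z : K) = c • (z : K)
        rw [Algebra.smul_def]) }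
  let f := (Submodule.comap (Fil P 0).subtype (Fil P (-P.ord (a : K)))).mkQ.comp j
  have hj : Function.Surjective j := fun z => by
    have hz : P.1 (z : K) ≤ 1 := z.2.trans_eq exp_zero
    exact ⟨⟨(z : K), hz⟩, Subtype.ext rfl⟩
  have hf : Function.Surjective f := by
    intro r
    obtain ⟨w, rfl⟩ := Submodule.mkQ_surjective _ r
    obtain ⟨z, rfl⟩ := hj w
    exact ⟨z, LinearMap.comp_apply _ _ _⟩
  have hker : LinearMap.ker f = (Ideal.span {a}).restrictScalars k := by
    ext z
    rw [LinearMap.mem_ker, LinearMap.comp_apply, Submodule.mkQ_apply, Submodule.Quotient.mk_eq_zero,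
      Submodule.mem_comap, Submodule.restrictScalars_mem, Ideal.mem_span_singleton]
    change P.1 (z : K) ≤ exp _ ↔ _
    rw [← val_eq P ha0]
    constructor
    · intro hle
      refine ⟨⟨(z : K) / a, ?_⟩, Subtype.ext (mul_div_cancel₀ (z : K) ha0).symm⟩
      change P.1 _ ≤ 1
      rw [map_div₀, div_le_one₀ (zero_lt_iff.2 (val_ne_zero P ha0))]
      exact hle
    · rintro ⟨w, rfl⟩
      change P.1 ((a : K) * (w : K)) ≤ _
      rw [map_mul]
      exact mul_le_of_le_one_right' w.2
  let e := ((Submodule.Quotient.restrictScalarsEquiv k (Ideal.span {a})).symm.trans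
    (Submodule.quotEquivOfEq _ _ hker.symm)).trans (f.quotKerEquivOfSurjective hf)
  exact ⟨Module.Finite.equiv e.symm, by rw [e.finrank_eq, hrk]; ring⟩

theorem finrank_quotient_ideal_eq {V ι : Type*} [CommRing V] [Algebra k V] [Fintype ι] {W : ι → Type*}
    [∀ i, AddCommGroup (W i)] [∀ i, Module k (W i)] [∀ i, Module.Finite k (W i)]
    (f : V →ₗ[k] ((i : ι) → W i)) (hf : Function.Surjective f) (I : Ideal V)
    (hker : LinearMap.ker f = I.restrictScalars k) :
    Module.finrank k (V ⧸ I) = ∑ i, Module.finrank k (W i) :=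
  (((Submodule.Quotient.restrictScalarsEquiv k I).symm.trans
    (Submodule.quotEquivOfEq _ _ hker.symm)).trans (f.quotKerEquivOfSurjective hf)).finrank_eq.trans
    (Module.finrank_pi_fintype k)

theorem FF.deg_mul_ord_norm_integral [FiniteDimensional K K'] (h : FF k K) (P : Place k K)
    [Algebra P.O K'] [IsScalarTower P.O K K'] (Qs : Finset (Place k K'))
    (hQs : ∀ Q, Q ∈ Qs ↔ IsOver Q P) (x : integralClosure P.O K') (hx : x ≠ 0) :
    (P.deg : ℤ) * P.ord (Algebra.norm K (x : K')) = ∑ Q ∈ Qs, (Q.deg : ℤ) * Q.ord (x : K') := by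
  classical
  have := isDVR_place P
  have := h.finite_residueField P
  have hF' : FF k K' := h.extension K'
  have := h.finite_integralClosure P (K' := K')
  have : IsScalarTower k P.O K' := IsScalarTower.of_algebraMap_eq fun c => by
    rw [algebraMap_O, IsScalarTower.algebraMap_apply k K K']
    rfl
  have : Module.IsTorsionFree P.O K' := .trans_faithfulSMul P.O K K'
  have : Module.IsTorsionFree P.O ↥(integralClosure P.O K') := Subtype.val_injective.moduleIsTorsionFree _ fun _ _ => rfl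
  have : Module.Free P.O ↥(integralClosure P.O K') := Module.free_of_finite_type_torsion_free'
  have : IsIntegralClosure ↥(integralClosure P.O K') P.O K' := integralClosure.isIntegralClosure P.O K'
  have : IsLocalization (Algebra.algebraMapSubmonoid ↥(integralClosure P.O K') (nonZeroDivisors P.O)) K' :=
    IsIntegralClosure.isLocalization P.O K K' ↥(integralClosure P.O K')
  have hnorm : Algebra.norm K (x : K') = ((Algebra.norm P.O x : P.O) : K) :=
    Algebra.norm_localization P.O (nonZeroDivisors P.O) (Rₘ := K) (Sₘ := K') x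
  let b := Module.Free.chooseBasis P.O ↥(integralClosure P.O K')
  have hI := Ideal.span_singleton_eq_bot.not.2 hx
  have hfin : ∀ i, Module.Finite k (P.O ⧸ Ideal.span {(Ideal.span {x}).smithCoeffs b hI i}) := fun i =>
    (h.finrank_quotient_span P (Ideal.smithCoeffs_ne_zero b _ hI i)).1
  have h1 : (Module.finrank k (↥(integralClosure P.O K') ⧸ Ideal.span {x}) : ℤ) = (P.deg : ℤ) * P.ord (Algebra.norm K (x : K')) := by
    rw [hnorm, ord_associated P (associated_norm_prod_smith b hx),
      ord_prod P _ _ (fun i _ => Ideal.smithCoeffs_ne_zero b _ hI i), Finset.mul_sum,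
      Ideal.finrank_quotient_eq_sum k hI b]
    push_cast
    refine Finset.sum_congr rfl fun i _ => ?_
    rw [(h.finrank_quotient_span P (Ideal.smithCoeffs_ne_zero b _ hI i)).2, mul_comm]
  rw [← h1]
  -- the local decomposition
  have hx0 : (x : K') ≠ 0 := fun e => hx (Subtype.ext e)
  have hle : ∀ (z : ↥(integralClosure P.O K')) (Q : Qs), Q.1.1 (z : K') ≤ exp 0 := fun z Q => by
    exact ((h.isIntegral_iff P _).1 z.2 Q.1 ((hQs _).1 Q.2)).trans_eq exp_zero.symm
  have hn : ∀ Q : Qs, 0 ≤ Q.1.ord (x : K') := fun Q =>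
    (val_le_one_iff Q.1).1 ((hle x Q).trans_eq exp_zero)
  have := hF'.finite_residueField
  have hq := fun Q : Qs => fil_finrank Q.1 (a := -Q.1.ord (x : K')) (b := 0) (by have := hn Q; omega)
  have := fun Q : Qs => (hq Q).1
  let j : (Q : Qs) → ↥(integralClosure P.O K') →ₗ[k] Fil Q.1 0 := fun Q =>
    { toFun := fun z => ⟨(z : K'), hle z Q⟩
      map_add' := fun _ _ => rfl
      map_smul' := fun c z => rfl }
  let f : ↥(integralClosure P.O K') →ₗ[k] ((Q : Qs) → RQ (Fil Q.1 (-Q.1.ord (x : K'))) (Fil Q.1 0)) :=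
    LinearMap.pi fun Q => (Submodule.mkQ _).comp (j Q)
  have hf : Function.Surjective f := by
    intro r
    choose w hw using fun Q : Qs => Submodule.Quotient.mk_surjective _ (r Q)
    obtain ⟨y, hy⟩ := exists_approx Qs (fun Q => if h : Q ∈ Qs then ((w ⟨Q, h⟩ : Fil Q 0) : K') else 0)
      (fun Q => -Q.ord (x : K'))
    have hy' : ∀ Q (hQ : Q ∈ Qs), Q.1 (y - (w ⟨Q, hQ⟩ : K')) ≤ exp (-Q.ord (x : K')) := fun Q hQ => by
      simpa [hQ] using hy Q hQ
    have hint : IsIntegral P.O y := (h.isIntegral_iff P y).2 fun Q hQ => by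
      have hQ' := (hQs Q).2 hQ
      have h2 := (hy' Q hQ').trans (exp_le_exp.2 (neg_nonpos.2 (hn ⟨Q, hQ'⟩)))
      have h3 := Q.1.map_add (y - (w ⟨Q, hQ'⟩ : K')) (w ⟨Q, hQ'⟩ : K')
      rw [sub_add_cancel] at h3
      exact (h3.trans (max_le h2 (w ⟨Q, hQ'⟩).2)).trans_eq exp_zero
    refine ⟨⟨y, hint⟩, funext fun Q => ?_⟩
    refine Eq.trans ?_ (hw Q)
    exact (Submodule.Quotient.eq _).mpr (hy' Q.1 Q.2)
  have hker : LinearMap.ker f = (Ideal.span {x}).restrictScalars k := by
    ext z
    rw [LinearMap.mem_ker, Submodule.restrictScalars_mem, Ideal.mem_span_singleton, funext_iff]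
    change (∀ Q : Qs, Submodule.Quotient.mk (j Q z) = 0) ↔ _
    simp only [Submodule.Quotient.mk_eq_zero, Submodule.mem_comap]
    change (∀ Q : Qs, Q.1.1 (z : K') ≤ exp (-Q.1.ord (x : K'))) ↔ _
    constructor
    · intro hall
      refine ⟨⟨(z : K') / x, (h.isIntegral_iff P _).2 fun Q hQ => ?_⟩,
        Subtype.ext (mul_div_cancel₀ (z : K') hx0).symm⟩
      rw [map_div₀, div_le_one₀ (zero_lt_iff.2 (val_ne_zero Q hx0)), val_eq Q hx0]
      exact hall ⟨Q, (hQs Q).2 hQ⟩
    · rintro ⟨w, rfl⟩ Q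
      change Q.1.1 ((x : K') * (w : K')) ≤ _
      rw [map_mul, ← val_eq Q.1 hx0]
      exact mul_le_of_le_one_right' ((hle w Q).trans_eq exp_zero)
  have e := finrank_quotient_ideal_eq (V := ↥(integralClosure P.O K'))
    (W := fun Q : Qs => RQ (Fil Q.1 (-Q.1.ord (x : K'))) (Fil Q.1 0)) f hf (Ideal.span {x}) hker
  rw [e, Nat.cast_sum]
  refine Eq.trans ?_ (Finset.sum_coe_sort Qs fun Q => (Q.deg : ℤ) * Q.ord (x : K'))
  refine Finset.sum_congr rfl fun Q _ => ?_
  exact (hq Q).2.trans (by ring)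

theorem FF.deg_mul_ord_norm [FiniteDimensional K K'] (h : FF k K) (P : Place k K)
    (Qs : Finset (Place k K')) (hQs : ∀ Q, Q ∈ Qs ↔ IsOver Q P) (x : K') :
    (P.deg : ℤ) * P.ord (Algebra.norm K x) = ∑ Q ∈ Qs, (Q.deg : ℤ) * Q.ord x := by
  let _ : Algebra P.O K' := ((algebraMap K K').comp P.O.subtype).toAlgebra
  have : IsScalarTower P.O K K' := IsScalarTower.of_algebraMap_eq fun _ => rfl
  rcases eq_or_ne x 0 with rfl | hx
  · simp [Place.ord]
  obtain ⟨t, ht0, ht⟩ := exists_ord_eq P 1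
  have ht' : algebraMap K K' t ≠ 0 := (map_ne_zero _).2 ht0
  -- clear the poles
  set m := ∑ Q ∈ Qs, (Q.ord x).natAbs with hm
  set y := x * algebraMap K K' (t ^ m) with hy
  have htm : algebraMap K K' (t ^ m) ≠ 0 := (map_ne_zero _).2 (pow_ne_zero _ ht0)
  have htle : P.1 (t ^ m) ≤ 1 := by
    rw [val_le_one_iff, ord_pow, ht]; positivity
  have hyint : IsIntegral P.O y := (h.isIntegral_iff P y).2 fun Q hQ => by
    rw [val_le_one_iff, hy, ord_mul Q hx htm, isOver_ord hQ, ord_pow, ht]
    have h1 : (Q.ord x).natAbs ≤ m :=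
      Finset.single_le_sum (f := fun R : Place k K' => (R.ord x).natAbs) (fun _ _ => Nat.zero_le _) ((hQs Q).2 hQ)
    have h2 : (1 : ℤ) ≤ ramIdx Q P := by exact_mod_cast isOverWith_pos (isOverWith_ramIdx hQ)
    nlinarith [le_abs_self (Q.ord x), neg_abs_le (Q.ord x), Int.natCast_natAbs (Q.ord x),
      (Int.ofNat_le.mpr h1)]
  have e1 := h.deg_mul_ord_norm_integral P Qs hQs ⟨y, hyint⟩
    (fun e => mul_ne_zero hx htm (congrArg Subtype.val e))
  have e2 := h.deg_mul_ord_norm_integral P Qs hQs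
    ⟨algebraMap K K' (t ^ m), (h.isIntegral_iff P _).2 fun Q hQ =>
      (isOverWith_le_one_iff (isOverWith_ramIdx hQ) _).2 htle⟩
    (fun e => htm (congrArg Subtype.val e))
  simp only at e1 e2
  have hNx : Algebra.norm K x ≠ 0 := Algebra.norm_ne_zero_iff.2 hx
  have hNt : Algebra.norm K (algebraMap K K' (t ^ m)) ≠ 0 := Algebra.norm_ne_zero_iff.2 htm
  rw [hy, map_mul, ord_mul P hNx hNt, mul_add,
    Finset.sum_congr rfl (fun Q _ => by rw [ord_mul Q hx htm, mul_add]), Finset.sum_add_distrib, e2] at e1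
  linarith

end Groth.Agent.FF30
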