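import Groth.Agent.FF30.PlaneIdeal
import Mathlib.RingTheory.MvPolynomial.Basic
import Mathlib.RingTheory.Polynomial.Basic
import Mathlib.Data.Finset.NatAntidiagonal
import Mathlib.FieldTheory.IsAlgClosed.Basic

/-! Plane models: degree, and the dimension count. -/

open FunFld WithZero MvPolynomial
open scoped Multiplicative IntermediateField

namespace Groth.Agent.FF30

section count

variable (k : Type*) [Field k]

noncomputable def expPairs (t : ℕ) : Finset (ℕ × ℕ) :=
  (Finset.range (t + 1)).biUnion Finset.HasAntidiagonal.antidiagonal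

theorem mem_expPairs {t : ℕ} {p : ℕ × ℕ} : p ∈ expPairs t ↔ p.1 + p.2 ≤ t := by
  simp [expPairs, Finset.mem_biUnion, Nat.lt_succ_iff]

theorem two_mul_card_expPairs (t : ℕ) : 2 * (expPairs t).card = (t + 1) * (t + 2) := by
  induction t with
  | zero => rfl
  | succ t ih =>
    have hd : Disjoint (expPairs t) (Finset.HasAntidiagonal.antidiagonal (t + 1)) := by
      rw [Finset.disjoint_left]
      intro p hp hq
      rw [mem_expPairs] at hp
      rw [Finset.HasAntidiagonal.mem_antidiagonal] at hq
      omega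
    have hu : expPairs (t + 1) = expPairs t ∪ Finset.HasAntidiagonal.antidiagonal (t + 1) := by
      ext p
      simp only [Finset.mem_union, mem_expPairs, Finset.HasAntidiagonal.mem_antidiagonal]
      omega
    rw [hu, Finset.card_union_of_disjoint hd, Finset.Nat.card_antidiagonal]
    nlinarith

theorem two_mul_finrank_restrict (t : ℕ) :
    2 * Module.finrank k (restrictTotalDegree (Fin 2) k t) = (t + 1) * (t + 2) := by
  classical
  rw [← two_mul_card_expPairs t]
  congr 1
  have hsum : ∀ n : Fin 2 →₀ ℕ, (n.sum fun _ e => e) = n 0 + n 1 := fun n => by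
    rw [Finsupp.sum_fintype _ _ (fun _ => rfl), Fin.sum_univ_two]
  let e : {n : Fin 2 →₀ ℕ | (n.sum fun _ e => e) ≤ t} ≃ (expPairs t) :=
    { toFun := fun n => ⟨(n.1 0, n.1 1), mem_expPairs.mpr (hsum n.1 ▸ n.2)⟩
      invFun := fun p => ⟨Finsupp.equivFunOnFinite.symm ![p.1.1, p.1.2], by
        show (Finsupp.sum _ fun _ e => e) ≤ t
        rw [hsum]; simpa using mem_expPairs.mp p.2⟩
      left_inv := fun n => by
        ext i; fin_cases i <;> simp
      right_inv := fun p => by simp }
  unfold restrictTotalDegree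
  rw [Module.finrank_eq_nat_card_basis (basisRestrictSupport k _), Nat.card_congr e,
    Nat.card_eq_finsetCard]

end count

variable {k K : Type*} [Field k] [Field K] [Algebra k K]

theorem FF.planeDiv_apply (hF : FF k K) (x y : K) (P : Place k K) :
    mapDiv k ![(1 : K), x, y] P = max 0 (max (-P.ord x) (-P.ord y)) := by
  obtain ⟨i, hi⟩ := hF.exists_mapDiv_eq ![(1 : K), x, y] P
  have h0 := hF.neg_ord_le_mapDiv ![(1 : K), x, y] P 0
  have h1 := hF.neg_ord_le_mapDiv ![(1 : K), x, y] P 1
  have h2 := hF.neg_ord_le_mapDiv ![(1 : K), x, y] P 2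
  simp only [Matrix.cons_val_zero, Matrix.cons_val_one, Matrix.cons_val_two, Matrix.head_cons,
    Matrix.tail_cons, ord_one] at h0 h1 h2
  fin_cases i <;> simp only [Fin.mk_zero, Fin.mk_one, Matrix.cons_val_zero, Matrix.cons_val_one,
    Matrix.cons_val_two, Matrix.head_cons, Matrix.tail_cons, Fin.reduceFinMk, ord_one] at hi <;> omega

theorem FF.planeDiv_nonneg (hF : FF k K) (x y : K) : 0 ≤ mapDiv k ![(1 : K), x, y] := fun P => by
  rw [hF.planeDiv_apply]; exact le_max_left _ _

theorem FF.planeDiv_deg_nonneg (hF : FF k K) (x y : K) :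
    0 ≤ (mapDiv k ![(1 : K), x, y]).deg := by
  have := deg_mono (hF.planeDiv_nonneg x y)
  simpa [Divisor.deg] using this

theorem FF.val_le_planeDiv (hF : FF k K) (x y : K) (P : Place k K) :
    P.1 x ≤ exp (mapDiv k ![(1 : K), x, y] P) ∧ P.1 y ≤ exp (mapDiv k ![(1 : K), x, y] P) := by
  have := hF.planeDiv_apply x y P
  constructor
  · rcases eq_or_ne x 0 with rfl | hx
    · rw [map_zero]; exact zero_le
    · rw [val_le_exp_iff P hx]; omega
  · rcases eq_or_ne y 0 with rfl | hy
    · rw [map_zero]; exact zero_le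
    · rw [val_le_exp_iff P hy]; omega

theorem FF.aeval_mem_L (hF : FF k K) (x y : K) {t : ℕ} {g : MvPolynomial (Fin 2) k}
    (hg : g.totalDegree ≤ t) : aeval ![x, y] g ∈ L (t • mapDiv k ![(1 : K), x, y]) := by
  intro P
  obtain ⟨hx, hy⟩ := hF.val_le_planeDiv x y P
  have hD := hF.planeDiv_nonneg x y P
  rw [Finsupp.coe_zero, Pi.zero_apply] at hD
  set d := mapDiv k ![(1 : K), x, y] P
  rw [Finsupp.smul_apply, g.as_sum, map_sum]
  refine P.1.map_sum_le fun s hs => ?_
  have hs' : s 0 + s 1 ≤ t := by
    refine le_trans ?_ hg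
    have := le_totalDegree hs
    rwa [Finsupp.sum_fintype _ _ (fun _ => rfl), Fin.sum_univ_two] at this
  rw [aeval_monomial, Finsupp.prod_fintype _ _ (fun _ => pow_zero _), Fin.prod_univ_two, map_mul,
    map_mul, map_pow, map_pow]
  refine (mul_le_of_le_one_left' (P.2.1 _)).trans ?_
  refine (mul_le_mul' (pow_le_pow_left₀ zero_le hx _) (pow_le_pow_left₀ zero_le hy _)).trans ?_
  rw [← exp_nsmul, ← exp_nsmul, ← exp_add, exp_le_exp, nsmul_eq_mul, nsmul_eq_mul, nsmul_eq_mul]
  have : ((s 0 : ℕ) : ℤ) + (s 1 : ℕ) ≤ t := by exact_mod_cast hs'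
  nlinarith

/-- Polynomials of degree at most `t` in `x` and `y`. -/
noncomputable def planeA (k : Type*) {K : Type*} [Field k] [Field K] [Algebra k K] (x y : K)
    (t : ℕ) : Submodule k K :=
  (restrictTotalDegree (Fin 2) k t).map (aeval (R := k) ![x, y]).toLinearMap

theorem mem_planeA {x y : K} {t : ℕ} {z : K} :
    z ∈ planeA k x y t ↔ ∃ g : MvPolynomial (Fin 2) k, g.totalDegree ≤ t ∧ aeval ![x, y] g = z := by
  simp [planeA, Submodule.mem_map, mem_restrictTotalDegree]

theorem planeA_mono (x y : K) {s t : ℕ} (h : s ≤ t) : planeA k x y s ≤ planeA k x y t := by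
  intro z hz
  obtain ⟨g, hg, rfl⟩ := mem_planeA.mp hz
  exact mem_planeA.mpr ⟨g, hg.trans h, rfl⟩

theorem FF.planeA_le_L (hF : FF k K) (x y : K) (t : ℕ) :
    planeA k x y t ≤ L (t • mapDiv k ![(1 : K), x, y]) := by
  intro z hz
  obtain ⟨g, hg, rfl⟩ := mem_planeA.mp hz
  exact hF.aeval_mem_L x y hg

theorem FF.finite_planeA (_hF : FF k K) (x y : K) (t : ℕ) :
    FiniteDimensional k (planeA k x y t) := by
  unfold planeA
  infer_instance

theorem two_mul_finrank_planeA {x y : K} {f : MvPolynomial (Fin 2) k} (hf : f ≠ 0)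
    (hker : RingHom.ker (aeval (R := k) ![x, y]) = Ideal.span {f}) {t : ℕ}
    (ht : f.totalDegree ≤ t) :
    2 * (Module.finrank k (planeA k x y t) : ℤ) =
      2 * f.totalDegree * t + 2 - ((f.totalDegree : ℤ) - 1) * ((f.totalDegree : ℤ) - 2) := by
  set d := f.totalDegree
  set V := restrictTotalDegree (Fin 2) k t
  set ev := (aeval (R := k) ![x, y]).toLinearMap.domRestrict V
  have hrange : LinearMap.range ev = planeA k x y t := by
    rw [LinearMap.range_domRestrict]; rfl
  have hmem : ∀ g ∈ restrictTotalDegree (Fin 2) k (t - d), f * g ∈ V := fun g hg => by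
    have h2 := (mem_restrictTotalDegree _ _ _).mp hg
    refine (mem_restrictTotalDegree _ _ _).mpr ((totalDegree_mul f g).trans ?_)
    omega
  let mulf : restrictTotalDegree (Fin 2) k (t - d) →ₗ[k] V :=
    (LinearMap.mulLeft k f).restrict hmem
  have hinj : Function.Injective mulf := fun a b hab => by
    have := congrArg Subtype.val hab
    exact Subtype.ext (mul_left_cancel₀ hf this)
  have hk : LinearMap.ker ev = LinearMap.range mulf := by
    ext ⟨g, hg⟩
    rw [LinearMap.mem_ker, LinearMap.mem_range]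
    constructor
    · intro h0
      have hmem : g ∈ RingHom.ker (aeval (R := k) ![x, y]) := h0
      rw [hker, Ideal.mem_span_singleton] at hmem
      obtain ⟨q, rfl⟩ := hmem
      refine ⟨⟨q, (mem_restrictTotalDegree _ _ _).mpr ?_⟩, rfl⟩
      rcases eq_or_ne q 0 with rfl | hq
      · simp
      have := (mem_restrictTotalDegree _ _ _).mp hg
      rw [totalDegree_mul_of_isDomain hf hq] at this
      omega
    · rintro ⟨q, hq⟩
      rw [← hq]
      change aeval ![x, y] (f * (q : MvPolynomial (Fin 2) k)) = 0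
      have : f ∈ RingHom.ker (aeval (R := k) ![x, y]) := by
        rw [hker]; exact Ideal.mem_span_singleton_self f
      rw [map_mul, RingHom.mem_ker.mp this, zero_mul]
  have h1 := ev.finrank_range_add_finrank_ker
  rw [hrange, hk, LinearMap.finrank_range_of_inj hinj] at h1
  have h2 := two_mul_finrank_restrict k t
  have h3 := two_mul_finrank_restrict k (t - d)
  change 2 * Module.finrank k V = _ at h2
  have h1' := congrArg (Nat.cast : ℕ → ℤ) h1
  have h2' := congrArg (Nat.cast : ℕ → ℤ) h2
  have h3' := congrArg (Nat.cast : ℕ → ℤ) h3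
  push_cast [Nat.cast_sub ht] at h1' h2' h3'
  linarith [h1', h2', h3']

theorem FF.ell_le_deg_add_one (hF : IsFunctionField k K) {E : Divisor k K} (hE : 0 ≤ E) :
    (ell E : ℤ) ≤ E.deg + 1 := by
  have h1 := (FF.of_isFunctionField hF).ell_sub_le hE
  have h0 : (0 : Divisor k K).deg = 0 := by simp [Divisor.deg]
  rw [ell_zero hF, h0] at h1
  push_cast at h1
  omega

theorem exists_irreducible_relation (h : IsFunctionField k K) (x y : K) :
    ∃ f : MvPolynomial (Fin 2) k, Irreducible f ∧ aeval ![x, y] f = 0 := by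
  have hF : FF k K := h.1
  set D := mapDiv k ![(1 : K), x, y]
  have hI : (RingHom.ker (aeval (R := k) ![x, y])).IsPrime := RingHom.ker_isPrime _
  have hne : RingHom.ker (aeval (R := k) ![x, y]) ≠ ⊥ := by
    intro hbot
    have hinj : Function.Injective (aeval (R := k) ![x, y]) :=
      (RingHom.injective_iff_ker_eq_bot _).mpr hbot
    obtain ⟨n, hn⟩ : ∃ n : ℕ, D.deg = n := ⟨D.deg.toNat, (Int.toNat_of_nonneg (hF.planeDiv_deg_nonneg x y)).symm⟩
    set t := 2 * n + 1
    have := hF.finite_L (t • D)
    have h1 : Module.finrank k (planeA k x y t) = Module.finrank k (restrictTotalDegree (Fin 2) k t) :=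
      (Submodule.equivMapOfInjective _ hinj _).finrank_eq.symm
    have h2 : Module.finrank k (planeA k x y t) ≤ ell (t • D) :=
      Submodule.finrank_mono (hF.planeA_le_L x y t)
    have h3 := FF.ell_le_deg_add_one h (E := t • D) (nsmul_nonneg (hF.planeDiv_nonneg x y) t)
    have h4 := two_mul_finrank_restrict k t
    rw [deg_nsmul, hn] at h3
    have h5 : (2 * ell (t • D) : ℤ) ≥ ((t : ℤ) + 1) * (t + 2) := by
      have : (t + 1) * (t + 2) ≤ 2 * ell (t • D) := by omega
      exact_mod_cast this
    have ht : (t : ℤ) = 2 * n + 1 := by simp [t]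
    nlinarith
  obtain ⟨f, hf, hfp⟩ := Ideal.IsPrime.exists_mem_prime_of_ne_bot hI hne
  exact ⟨f, hfp.irreducible, hf⟩

variable [IsAlgClosed k]

/-- A linear projection with the same pole divisor as the plane model. -/
theorem exists_poleDiv_eq (h : IsFunctionField k K) {x y : K}
    (hxy : IntermediateField.adjoin k ({x, y} : Set K) = ⊤) :
    ∃ s : k, (poleDiv (x + s • y) : Divisor k K) = mapDiv k ![(1 : K), x, y] ∧
      Transcendental k (x + s • y) := by
  classical
  have hF : FF k K := h.1
  set D := mapDiv k ![(1 : K), x, y]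
  let bad := fun Q : Place k K => {s : k | Q.1 (x + s • y) < exp (D Q)}
  have hbad : ∀ Q ∈ D.support, (bad Q).Subsingleton := by
    intro Q hQ s hs s' hs'
    by_contra hne
    have hy : Q.1 y < exp (D Q) := by
      rw [← val_smul Q (sub_ne_zero.mpr hne) y, sub_smul,
        show s • y - s' • y = (x + s • y) - (x + s' • y) by ring]
      exact lt_of_le_of_lt (Q.1.map_sub _ _) (max_lt hs hs')
    have hx : Q.1 x < exp (D Q) := by
      rw [show x = (x + s • y) - s • y by ring]
      exact lt_of_le_of_lt (Q.1.map_sub _ _) (max_lt hs (lt_of_le_of_lt (val_smul_le Q s y) hy))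
    have hD : D Q = max 0 (max (-Q.ord x) (-Q.ord y)) := hF.planeDiv_apply x y Q
    have hD0 := Finsupp.mem_support_iff.mp hQ
    have key : ∀ z : K, Q.1 z < exp (D Q) → Q.ord z = 0 ∨ -Q.ord z < D Q := fun z hz => by
      rcases eq_or_ne z 0 with rfl | hz0
      · exact Or.inl (ord_zero Q)
      · exact Or.inr (by rwa [val_eq Q hz0, exp_lt_exp] at hz)
    rcases key x hx with h1 | h1 <;> rcases key y hy with h2 | h2 <;> omega
  obtain ⟨s, hs⟩ := (Set.Finite.biUnion D.support.finite_toSet fun Q hQ => (hbad Q hQ).finite).exists_notMem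
  have hge : ∀ Q : Place k K, D Q ≠ 0 → exp (D Q) ≤ Q.1 (x + s • y) := fun Q hQ =>
    not_lt.mp fun hlt => hs (Set.mem_biUnion (Finsupp.mem_support_iff.mpr hQ) hlt)
  set w := x + s • y
  have hle : ∀ Q : Place k K, Q.1 w ≤ exp (D Q) := fun Q =>
    (Q.1.map_add _ _).trans (max_le (hF.val_le_planeDiv x y Q).1
      ((val_smul_le Q s y).trans (hF.val_le_planeDiv x y Q).2))
  have hpole : (poleDiv w : Divisor k K) = D := by
    ext Q
    rw [hF.poleDiv_apply]
    have hD : 0 ≤ D Q := hF.planeDiv_nonneg x y Q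
    rcases eq_or_ne w 0 with hw | hw
    · rw [hw, ord_zero]
      by_contra hne
      have hQ : D Q ≠ 0 := by omega
      have := hge Q hQ
      rw [hw, map_zero, le_zero_iff] at this
      exact exp_ne_zero this
    · have h1 := (val_le_exp_iff Q hw (D Q)).mp (hle Q)
      by_cases hQ : D Q = 0
      · omega
      · have h2 := (exp_le_val_iff Q hw (D Q)).mp (hge Q hQ)
        omega
  refine ⟨s, hpole, ?_⟩
  obtain ⟨i, hi⟩ := exists_transcendental_entry h hxy
  obtain ⟨Q, hQ⟩ := hF.exists_place_neg hi
  have hD : 0 < D Q := by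
    have : D Q = max 0 (max (-Q.ord x) (-Q.ord y)) := hF.planeDiv_apply x y Q
    fin_cases i <;> simp at hQ <;> omega
  refine transcendental_of_ord_ne_zero Q ?_
  have h' := hF.poleDiv_apply w Q
  rw [hpole] at h'
  change Q.ord w ≠ 0
  omega

theorem plane_degree_le (h : IsFunctionField k K) {x y : K}
    (hxy : IntermediateField.adjoin k ({x, y} : Set K) = ⊤) {f : MvPolynomial (Fin 2) k}
    (hf : f ≠ 0) (hfxy : aeval ![x, y] f = 0) :
    (mapDiv k ![(1 : K), x, y]).deg ≤ f.totalDegree := by
  have hF : FF k K := h.1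
  obtain ⟨s, hpole, hw⟩ := exists_poleDiv_eq h hxy
  rw [← hpole, hF.deg_poleDiv hw]
  set w := x + s • y with hw_def
  let w' : k⟮w⟯ := ⟨w, IntermediateField.mem_adjoin_simple_self k w⟩
  let ψ : Fin 2 → Polynomial k⟮w⟯ :=
    ![Polynomial.C w' - Polynomial.C (algebraMap k k⟮w⟯ s) * Polynomial.X, Polynomial.X]
  set q : Polynomial k⟮w⟯ := aeval ψ f
  have hq0 : q ≠ 0 := by
    intro hq
    apply hf
    refine MvPolynomial.funext fun v => ?_
    rw [map_zero]
    let φG : Fin 2 → Polynomial k := ![Polynomial.X - Polynomial.C (s * v 1), Polynomial.C (v 1)]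
    let E : Polynomial k⟮w⟯ →ₐ[k] k⟮w⟯ :=
      (Polynomial.aeval (algebraMap k k⟮w⟯ (v 1))).restrictScalars k
    have hE : E.comp (aeval ψ) = (Polynomial.aeval w').comp (aeval φG) := by
      refine MvPolynomial.algHom_ext fun i => ?_
      fin_cases i <;> simp [E, ψ, φG, map_mul]
    have h1 : Polynomial.aeval w' (aeval φG f) = 0 := by
      have := AlgHom.congr_fun hE f
      simp only [AlgHom.comp_apply] at this
      rw [← this]
      change E q = 0
      rw [hq, map_zero]
    have h2 : aeval φG f = 0 := by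
      refine transcendental_iff.mp hw _ ?_
      have := congrArg (IntermediateField.val k⟮w⟯) h1
      rwa [map_zero, ← Polynomial.aeval_algHom_apply] at this
    have hv : (Polynomial.aeval (v 0 + s * v 1)).comp (aeval φG) = aeval v := by
      refine MvPolynomial.algHom_ext fun i => ?_
      fin_cases i <;> simp [φG]
    have := AlgHom.congr_fun hv f
    rw [AlgHom.comp_apply, h2, map_zero] at this
    rw [← MvPolynomial.aeval_eq_eval]
    exact this.symm
  have hroot : Polynomial.aeval y q = 0 := by
    have hc : ((Polynomial.aeval (R := k⟮w⟯) y).restrictScalars k).comp (aeval ψ) =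
        aeval ![x, y] := by
      refine MvPolynomial.algHom_ext fun i => ?_
      fin_cases i
      · simp [ψ, w', hw_def, Algebra.smul_def]
      · simp [ψ]
    have := AlgHom.congr_fun hc f
    rw [hfxy] at this
    exact this
  have htop : IntermediateField.adjoin k⟮w⟯ ({y} : Set K) = ⊤ := by
    rw [← IntermediateField.restrictScalars_eq_top_iff (K := k),
      IntermediateField.adjoin_simple_adjoin_simple, eq_top_iff, ← hxy,
      IntermediateField.adjoin_le_iff]
    have hyw : y ∈ IntermediateField.adjoin k ({w, y} : Set K) :=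
      IntermediateField.subset_adjoin _ _ (Or.inr rfl)
    rintro _ (rfl | rfl)
    · have h1 : w - s • y ∈ IntermediateField.adjoin k ({w, y} : Set K) :=
        sub_mem (IntermediateField.subset_adjoin _ _ (Or.inl rfl))
          ((IntermediateField.adjoin k ({w, y} : Set K)).toSubalgebra.smul_mem hyw s)
      simpa [hw_def] using h1
    · exact hyw
  have hint : IsIntegral k⟮w⟯ y := IsAlgebraic.isIntegral ⟨q, hq0, hroot⟩
  have hfin : Module.finrank k⟮w⟯ K = (minpoly k⟮w⟯ y).natDegree := by
    rw [← IntermediateField.adjoin.finrank hint, htop, IntermediateField.finrank_top']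
  rw [hfin]
  have hle : (minpoly k⟮w⟯ y).natDegree ≤ f.totalDegree := by
    refine (Polynomial.natDegree_le_of_dvd (minpoly.dvd _ _ hroot) hq0).trans ?_
    have hq_def : q = aeval ψ (MvPolynomial.map (algebraMap k k⟮w⟯) f) :=
      (MvPolynomial.aeval_map_algebraMap _ _ _).symm
    rw [hq_def]
    have h1 := MvPolynomial.aeval_natDegree_le (MvPolynomial.map (algebraMap k k⟮w⟯) f)
      (Finset.sup_mono (MvPolynomial.support_map_subset _ _)) ψ (n := 1) (fun i => ?_)
    · simp only [mul_one] at h1; exact h1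
    · fin_cases i
      · simp only [Fin.zero_eta, ψ, Matrix.cons_val_zero]
        refine (Polynomial.natDegree_sub_le _ _).trans (max_le ?_ ?_)
        · simp
        · exact (Polynomial.natDegree_C_mul_le _ _).trans Polynomial.natDegree_X_le
      · simp [ψ]
  exact_mod_cast hle

/-- The degree of a plane model is the degree of its equation. -/
theorem deg_planeDiv (h : IsFunctionField k K) {x y : K}
    (hxy : IntermediateField.adjoin k ({x, y} : Set K) = ⊤) {f : MvPolynomial (Fin 2) k}
    (hf : Irreducible f) (hfxy : aeval ![x, y] f = 0) :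
    (mapDiv k ![(1 : K), x, y]).deg = f.totalDegree := by
  have hF : FF k K := h.1
  refine le_antisymm (plane_degree_le h hxy hf.ne_zero hfxy) ?_
  set D := mapDiv k ![(1 : K), x, y]
  set d := f.totalDegree
  by_contra hlt
  obtain ⟨c, hc⟩ : ∃ c : ℕ, ((d : ℤ) - 1) * ((d : ℤ) - 2) = c := by
    refine ⟨(((d : ℤ) - 1) * ((d : ℤ) - 2)).toNat, (Int.toNat_of_nonneg ?_).symm⟩
    rcases Nat.lt_or_ge d 2 with hd | hd
    · interval_cases d <;> norm_num
    · nlinarith
  set t := d + c + 1
  have := hF.finite_L (t • D)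
  have h1 := two_mul_finrank_planeA hf.ne_zero (ker_eq_span_of_irreducible h hxy hf hfxy)
    (t := t) (by omega)
  have h2 : Module.finrank k (planeA k x y t) ≤ ell (t • D) :=
    Submodule.finrank_mono (hF.planeA_le_L x y t)
  have h3 := FF.ell_le_deg_add_one h (E := t • D) (nsmul_nonneg (hF.planeDiv_nonneg x y) t)
  rw [deg_nsmul] at h3
  rw [hc] at h1
  have h2' : (Module.finrank k (planeA k x y t) : ℤ) ≤ ell (t • D) := by exact_mod_cast h2
  have h4 : (t : ℤ) = d + c + 1 := by simp [t]
  have h5 : (t : ℤ) * D.deg ≤ (t : ℤ) * ((d : ℤ) - 1) :=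
    mul_le_mul_of_nonneg_left (by omega) (by positivity)
  nlinarith

/-- The genus bound of a plane model. -/
theorem two_mul_genus_le (h : IsFunctionField k K) {x y : K}
    (hxy : IntermediateField.adjoin k ({x, y} : Set K) = ⊤) :
    2 * (genus k K : ℤ) ≤ ((mapDiv k ![(1 : K), x, y]).deg - 1) *
      ((mapDiv k ![(1 : K), x, y]).deg - 2) := by
  have hF : FF k K := h.1
  obtain ⟨f, hf, hfxy⟩ := exists_irreducible_relation h x y
  have hdeg := deg_planeDiv h hxy hf hfxy
  have hpos : 0 < f.totalDegree := by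
    by_contra h0
    push Not at h0
    rw [nonpos_iff_eq_zero, totalDegree_eq_zero_iff_eq_C] at h0
    rw [h0, aeval_C, map_eq_zero] at hfxy
    exact hf.ne_zero (by rw [h0, hfxy, map_zero])
  rw [hdeg]
  set d := f.totalDegree
  set D := mapDiv k ![(1 : K), x, y]
  set t := d + 2 * genus k K
  have := hF.finite_L (t • D)
  have h1 := two_mul_finrank_planeA hf.ne_zero (ker_eq_span_of_irreducible h hxy hf hfxy)
    (t := t) (by omega)
  have h2 : Module.finrank k (planeA k x y t) ≤ ell (t • D) :=
    Submodule.finrank_mono (hF.planeA_le_L x y t)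
  have h2' : (Module.finrank k (planeA k x y t) : ℤ) ≤ ell (t • D) := by exact_mod_cast h2
  have h3 := ell_eq_of_deg_gt h (D := t • D) (by
    rw [deg_nsmul, hdeg]
    have : (t : ℤ) = d + 2 * genus k K := by simp [t]
    nlinarith)
  rw [deg_nsmul, hdeg] at h3
  nlinarith

end Groth.Agent.FF30
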