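import Groth.Agent.FF30.Plane
import Groth.Agent.FF30.Jets
import Mathlib.Algebra.BigOperators.Field

/-! The genus of a plane model is maximal exactly for nonsingular models. -/

open FunFld WithZero MvPolynomial
open scoped Multiplicative IntermediateField

namespace Groth.Agent.FF30

variable {k K : Type*} [Field k] [Field K] [Algebra k K]

theorem mul_mem_planeA {x y : K} {a b : ℕ} {u v : K} (hu : u ∈ planeA k x y a)
    (hv : v ∈ planeA k x y b) : u * v ∈ planeA k x y (a + b) := by
  obtain ⟨g, hg, rfl⟩ := mem_planeA.mp hu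
  obtain ⟨g', hg', rfl⟩ := mem_planeA.mp hv
  exact mem_planeA.mpr ⟨g * g', (totalDegree_mul g g').trans (add_le_add hg hg'), map_mul _ _ _⟩

theorem algebraMap_mem_planeA (x y : K) (c : k) : algebraMap k K c ∈ planeA k x y 0 :=
  mem_planeA.mpr ⟨C c, by simp, by simp⟩

theorem fst_mem_planeA (x y : K) : x ∈ planeA k x y 1 :=
  mem_planeA.mpr ⟨X 0, by simp, by simp⟩

theorem snd_mem_planeA (x y : K) : y ∈ planeA k x y 1 :=
  mem_planeA.mpr ⟨X 1, by simp, by simp⟩

theorem one_mem_planeA (x y : K) (t : ℕ) : (1 : K) ∈ planeA k x y t :=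
  planeA_mono x y (Nat.zero_le t) (by simpa using algebraMap_mem_planeA x y (1 : k))

theorem pow_mem_planeA {x y : K} {u : K} (hu : u ∈ planeA k x y 1) (r : ℕ) :
    u ^ r ∈ planeA k x y r := by
  induction r with
  | zero => rw [pow_zero]; exact one_mem_planeA x y 0
  | succ r ih => rw [pow_succ]; exact mul_mem_planeA ih hu

theorem mem_planeA_of_chart_zero {x y : K} {z : K} (hz : z ∈ chart k ![(1 : K), x, y] 0) :
    ∃ u, z ∈ planeA k x y u := by
  refine chart_induction (p := fun z => ∃ u, z ∈ planeA k x y u) hz ?_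
    (fun c => ⟨0, algebraMap_mem_planeA x y c⟩) ?_ ?_
  · intro i
    fin_cases i
    · exact ⟨0, by simpa using one_mem_planeA x y 0⟩
    · exact ⟨1, by simpa using fst_mem_planeA x y⟩
    · exact ⟨1, by simpa using snd_mem_planeA x y⟩
  · rintro a b ⟨u, hu⟩ ⟨v, hv⟩
    exact ⟨u + v, add_mem (planeA_mono x y (Nat.le_add_right u v) hu)
      (planeA_mono x y (Nat.le_add_left v u) hv)⟩
  · rintro a b ⟨u, hu⟩ ⟨v, hv⟩
    exact ⟨u + v, mul_mem_planeA hu hv⟩

/-- A form of degree `t` divided by the `t`-th power of a chosen entry lies in that chart. -/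
theorem div_pow_mem_chart {x y : K} {j : Fin 3} (hj : ![(1 : K), x, y] j ≠ 0) {t : ℕ} {z : K}
    (hz : z ∈ planeA k x y t) : z / ![(1 : K), x, y] j ^ t ∈ chart k ![(1 : K), x, y] j := by
  obtain ⟨g, hg, rfl⟩ := mem_planeA.mp hz
  set φ := ![(1 : K), x, y]
  rw [g.as_sum, map_sum, Finset.sum_div]
  refine sum_mem fun s hs => ?_
  have hs' : s 0 + s 1 ≤ t := by
    refine le_trans ?_ hg
    have := le_totalDegree hs
    rwa [Finsupp.sum_fintype _ _ (fun _ => rfl), Fin.sum_univ_two] at this
  rw [aeval_monomial, Finsupp.prod_fintype _ _ (fun _ => pow_zero _), Fin.prod_univ_two]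
  have heq : algebraMap k K (coeff s g) * (![x, y] 0 ^ s 0 * ![x, y] 1 ^ s 1) / φ j ^ t =
      algebraMap k K (coeff s g) *
        ((φ 1 / φ j) ^ s 0 * (φ 2 / φ j) ^ s 1 * (φ 0 / φ j) ^ (t - s 0 - s 1)) := by
    have e : φ j ^ t = φ j ^ s 0 * φ j ^ s 1 * φ j ^ (t - s 0 - s 1) := by
      rw [← pow_add, ← pow_add]; congr 1; omega
    rw [e]
    simp only [div_pow, φ, Matrix.cons_val_zero, Matrix.cons_val_one, Matrix.cons_val_two,
      Matrix.head_cons, Matrix.tail_cons, one_pow]
    field_simp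
  rw [heq]
  exact mul_mem (Subalgebra.algebraMap_mem _ _) (mul_mem (mul_mem (pow_mem (ratio_mem_chart φ 1 j) _)
    (pow_mem (ratio_mem_chart φ 2 j) _)) (pow_mem (ratio_mem_chart φ 0 j) _))

theorem FF.val_eq_planeDiv (hF : FF k K) {x y : K} {Q : Place k K} {j : Fin 3}
    (hj : IsMin ![(1 : K), x, y] Q j) :
    Q.1 (![(1 : K), x, y] j) = exp (mapDiv k ![(1 : K), x, y] Q) := by
  obtain ⟨hx, hy⟩ := hF.val_le_planeDiv x y Q
  have hD := hF.planeDiv_apply x y Q
  have h0 := hj.2 0
  have h1 := hj.2 1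
  have h2 := hj.2 2
  simp only [Matrix.cons_val_zero, Matrix.cons_val_one, Matrix.cons_val_two, Matrix.head_cons,
    Matrix.tail_cons, map_one] at h0 h1 h2
  refine le_antisymm ?_ ?_
  · fin_cases j
    · simp only [Fin.zero_eta, Matrix.cons_val_zero, map_one]
      rw [← exp_zero, exp_le_exp]; omega
    · simpa using hx
    · simpa using hy
  · rw [val_eq Q hj.1] at h0 h1 h2 ⊢
    rw [exp_le_exp]
    rw [← exp_zero, exp_le_exp] at h0
    have hx' : Q.ord x = 0 ∨ -Q.ord x ≤ -Q.ord (![(1 : K), x, y] j) :=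
      (eq_or_ne x 0).imp (fun e => by rw [e, ord_zero]) fun hx0 => by rwa [val_eq Q hx0, exp_le_exp] at h1
    have hy' : Q.ord y = 0 ∨ -Q.ord y ≤ -Q.ord (![(1 : K), x, y] j) :=
      (eq_or_ne y 0).imp (fun e => by rw [e, ord_zero]) fun hy0 => by rwa [val_eq Q hy0, exp_le_exp] at h2
    omega

theorem IsNonsingularAt.extend {x y w : K} {P : Place k K} (hw : ∀ j, IsMin ![(1 : K), x, y] P j →
      P.1 w ≤ P.1 (![(1 : K), x, y] j))
    (h : IsNonsingularAt ![(1 : K), x, y] P) : IsNonsingularAt ![(1 : K), x, y, w] P := by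
  intro z hz
  obtain ⟨j, hj0, hjmin, u, hu, v, hv, hv1, huv⟩ := h z hz
  have hsub : chart k ![(1 : K), x, y] j ≤ chart k ![(1 : K), x, y, w] j.castSucc := by
    refine Algebra.adjoin_le ?_
    rintro _ ⟨i, rfl⟩
    have : ![(1 : K), x, y] i / ![(1 : K), x, y] j =
        ![(1 : K), x, y, w] i.castSucc / ![(1 : K), x, y, w] j.castSucc := by
      fin_cases i <;> fin_cases j <;> rfl
    change ![(1 : K), x, y] i / ![(1 : K), x, y] j ∈ _
    rw [this]
    exact ratio_mem_chart _ _ _
  have he : ![(1 : K), x, y, w] j.castSucc = ![(1 : K), x, y] j := by fin_cases j <;> rfl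
  refine ⟨j.castSucc, by rw [he]; exact hj0, fun i => ?_, u, hsub hu, v, hsub hv, hv1, huv⟩
  rw [he]
  fin_cases i
  · exact hjmin 0
  · exact hjmin 1
  · exact hjmin 2
  · exact hw j ⟨hj0, hjmin⟩

variable [IsAlgClosed k]

theorem plane_bir {x y : K} (hxy : IntermediateField.adjoin k ({x, y} : Set K) = ⊤) :
    IntermediateField.adjoin k (Set.range fun i => ![(1 : K), x, y] i / ![(1 : K), x, y] 0) = ⊤ := by
  rw [eq_top_iff, ← hxy, IntermediateField.adjoin_le_iff]
  rintro _ (rfl | rfl)
  · exact IntermediateField.subset_adjoin _ _ ⟨1, by simp⟩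
  · exact IntermediateField.subset_adjoin _ _ ⟨2, by simp⟩

theorem two_mul_genus_eq_iff (h : IsFunctionField k K) {x y : K}
    (hxy : IntermediateField.adjoin k ({x, y} : Set K) = ⊤) :
    2 * (genus k K : ℤ) = ((mapDiv k ![(1 : K), x, y]).deg - 1) *
      ((mapDiv k ![(1 : K), x, y]).deg - 2) ↔
      ∀ P : Place k K, IsNonsingularAt ![(1 : K), x, y] P := by
  classical
  have hF : FF k K := h.1
  set φ := ![(1 : K), x, y]
  set D := mapDiv k φ with hD_def
  obtain ⟨f, hf, hfxy⟩ := exists_irreducible_relation h x y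
  have hdeg : D.deg = f.totalDegree := deg_planeDiv h hxy hf hfxy
  have hker := ker_eq_span_of_irreducible h hxy hf hfxy
  set d := f.totalDegree
  have hpos : 0 < d := by
    by_contra h0
    push Not at h0
    rw [nonpos_iff_eq_zero, totalDegree_eq_zero_iff_eq_C] at h0
    rw [h0, aeval_C, map_eq_zero] at hfxy
    exact hf.ne_zero (by rw [h0, hfxy, map_zero])
  set T := d + 2 * genus k K + 1
  have hT : (T : ℤ) = d + 2 * genus k K + 1 := by simp [T]
  have hA : ∀ t : ℕ, T ≤ t → 2 * (Module.finrank k (planeA k x y t) : ℤ) =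
      2 * d * t + 2 - ((d : ℤ) - 1) * ((d : ℤ) - 2) := fun t ht =>
    two_mul_finrank_planeA hf.ne_zero hker (by omega)
  have hL : ∀ t : ℕ, T ≤ t → (ell (t • D) : ℤ) = t * d + 1 - genus k K := by
    intro t ht
    have h3 := ell_eq_of_deg_gt h (D := t • D) (by rw [deg_nsmul, hdeg]; nlinarith)
    rwa [deg_nsmul, hdeg] at h3
  have hAL : ∀ t, planeA k x y t ≤ L (t • D) := fun t => hF.planeA_le_L x y t
  rw [hdeg]
  constructor
  · intro hg P
    obtain ⟨j, hj⟩ := exists_isMin φ ⟨0, by simp [φ]⟩ P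
    set t := T + 2
    have heqAL : planeA k x y t = L (t • D) := by
      have := hF.finite_L (t • D)
      refine Submodule.eq_of_le_of_finrank_le (hAL t) ?_
      have h1 := hA t (by omega)
      have h2 := hL t (by omega)
      unfold ell at h2
      nlinarith
    have hstep : ∀ Q : Place k K, ∃ z ∈ planeA k x y t,
        z ∈ L (t • D - (Finsupp.single P 1 : Divisor k K)) ∧
          Q.1 z = exp ((t • D - (Finsupp.single P 1 : Divisor k K)) Q) := by
      intro Q
      by_contra hcon
      push Not at hcon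
      have hz := (hF.finrank_inf_L_step (planeA k x y t) (t • D - Finsupp.single P 1) Q).2
        (by rintro ⟨l, hl, hl'⟩; exact hcon l hl.1 hl.2 hl')
      rw [heqAL, inf_eq_right.mpr (L_mono (sub_le_self _ (Finsupp.single_nonneg.mpr zero_le_one))),
        inf_eq_right.mpr (L_mono ((sub_le_self _ (Finsupp.single_nonneg.mpr zero_le_one)).trans
          (sub_le_self _ (Finsupp.single_nonneg.mpr zero_le_one))))] at hz
      have ht2 : (2 * (genus k K : ℤ) + 1) ≤ (t : ℤ) * d := by
        have : (t : ℤ) = d + 2 * genus k K + 3 := by simp [t, T]; ring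
        nlinarith
      have e1 := ell_eq_of_deg_gt h (D := t • D - (Finsupp.single P 1 : Divisor k K))
        (by rw [deg_sub, hF.deg_single', deg_nsmul, hdeg]; omega)
      have e2 := ell_eq_of_deg_gt h
        (D := t • D - (Finsupp.single P 1 : Divisor k K) - Finsupp.single Q 1)
        (by rw [deg_sub, deg_sub, hF.deg_single', hF.deg_single', deg_nsmul, hdeg]; omega)
      rw [deg_sub, hF.deg_single'] at e1
      rw [deg_sub, deg_sub, hF.deg_single', hF.deg_single'] at e2
      unfold ell at e1 e2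
      omega
    have hval : ∀ {Q : Place k K}, IsMin φ Q j → Q.1 (φ j ^ t) = exp ((t • D) Q) := by
      intro Q hQ
      rw [map_pow, hF.val_eq_planeDiv hQ, ← exp_nsmul, Finsupp.smul_apply]
    refine nonsingular_of_unique h hj (fun Q hQ => ?_) ?_
    · by_contra hne
      obtain ⟨z, hzA, hzL, hzQ⟩ := hstep Q
      rw [sub_single_apply_ne _ hne] at hzQ
      have hchart := div_pow_mem_chart hj.1 hzA
      have hlt : P.1 (z / φ j ^ t) < 1 := by
        rw [map_div₀, hval hj, div_lt_one₀ (zero_lt_iff.mpr exp_ne_zero)]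
        exact (mem_L_sub_single_iff.mp hzL).2
      have := ((sameImage_iff hF hj).mp hQ _ hchart).2 hlt
      rw [map_div₀, hval (SameImage.isMin hF hj hQ), hzQ, div_self exp_ne_zero] at this
      exact lt_irrefl _ this
    · obtain ⟨z, hzA, -, hzP⟩ := hstep P
      refine ⟨z / φ j ^ t, chart_le_locRing φ P j (div_pow_mem_chart hj.1 hzA), ?_⟩
      rw [map_div₀, hval hj, hzP, sub_single_apply_self, ← exp_sub]
      congr 1
      ring
  · intro hns
    obtain ⟨s, hpole, hw⟩ := exists_poleDiv_eq h hxy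
    set w := x + s • y
    have hwA : w ∈ planeA k x y 1 :=
      add_mem (fst_mem_planeA x y) (Submodule.smul_mem _ s (snd_mem_planeA x y))
    obtain ⟨t₀, ht₀⟩ := exists_generation h hw
    rw [hpole] at ht₀
    change ∀ t : ℕ, t₀ ≤ t → ∀ f ∈ L ((t + 1) • D), ∃ a ∈ L (t • D), ∃ b ∈ L (t • D), f = a + w * b at ht₀
    have hwL : ∀ (t : ℕ) (z : K), z ∈ L (t • D) → w * z ∈ L ((t + 1) • D) := by
      intro t z hz
      have h1 := smul_mem_L_succ hF (x := w) t (f := z) (by rw [hpole]; exact hz)
      rwa [hpole] at h1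
    have hDmono : ∀ {a b : ℕ}, a ≤ b → L (a • D) ≤ L (b • D) := fun {a b} hab =>
      L_mono (nsmul_le_nsmul_left (hF.planeDiv_nonneg x y) hab)
    -- every element of `L(t₀ D)` becomes a form, modulo lower order at infinity
    have hlift : ∀ z ∈ L (t₀ • D), ∃ R : ℕ, ∀ r, R ≤ r →
        ∃ a ∈ planeA k x y (t₀ + r + 1), w ^ (r + 1) * z - a ∈ L ((t₀ + r) • D) := by
      intro z hz
      set ψ := ![(1 : K), x, y, w]
      have hwpole : ∀ Q ∈ D.support, Q.1 w = exp (D Q) ∧ IsMin ψ Q 3 := by
        intro Q hQ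
        have hD0 : 0 < D Q := lt_of_le_of_ne (hF.planeDiv_nonneg x y Q) (Finsupp.mem_support_iff.mp hQ).symm
        have h1 : max (-Q.ord w) 0 = D Q := by rw [← hF.poleDiv_apply, hpole]
        have hw0 : w ≠ 0 := fun h0 => by rw [h0, ord_zero] at h1; omega
        have hval : Q.1 w = exp (D Q) := by rw [val_eq Q hw0]; congr 1; omega
        refine ⟨hval, hw0, fun i => ?_⟩
        obtain ⟨hx, hy⟩ := hF.val_le_planeDiv x y Q
        fin_cases i
        · change Q.1 1 ≤ Q.1 w
          rw [map_one, hval, ← exp_zero, exp_le_exp]; omega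
        · change Q.1 x ≤ Q.1 w
          rw [hval]; exact hx
        · change Q.1 y ≤ Q.1 w
          rw [hval]; exact hy
        · exact le_rfl
      have hψns : ∀ Q ∈ D.support, IsMin ψ Q 3 ∧ IsNonsingularAt ψ Q := by
        intro Q hQ
        refine ⟨(hwpole Q hQ).2, IsNonsingularAt.extend (fun j hj => ?_) (hns Q)⟩
        rw [hF.val_eq_planeDiv hj, (hwpole Q hQ).1]
      set N := ∑ Q ∈ D.support, (D Q).natAbs
      obtain ⟨b, hb, hbS⟩ := hF.exists_jet D.support hψns (fun _ => z / w ^ t₀) (fun Q hQ => by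
        rw [map_div₀, map_pow, (hwpole Q hQ).1, ← exp_nsmul, ← Finsupp.smul_apply]
        exact div_le_one_of_le₀ (hz Q) zero_le) N
      obtain ⟨m, hm⟩ : ∃ m, b * w ^ m ∈ planeA k x y m := by
        refine chart_induction (p := fun b => ∃ m, b * w ^ m ∈ planeA k x y m) hb ?_
          (fun c => ⟨0, by simpa using algebraMap_mem_planeA x y c⟩) ?_ ?_
        · intro i
          have hw0 : w ≠ 0 := fun h0 => hw (h0 ▸ isAlgebraic_zero)
          refine ⟨1, ?_⟩
          rw [pow_one, show ψ i / ψ 3 * w = ψ i from div_mul_cancel₀ _ hw0]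
          fin_cases i
          · exact one_mem_planeA x y 1
          · exact fst_mem_planeA x y
          · exact snd_mem_planeA x y
          · exact hwA
        · rintro a c ⟨p, hp⟩ ⟨q, hq⟩
          refine ⟨p + q, ?_⟩
          rw [add_mul]
          refine add_mem ?_ ?_
          · rw [pow_add, ← mul_assoc]; exact mul_mem_planeA hp (pow_mem_planeA hwA q)
          · rw [add_comm p q, pow_add, ← mul_assoc]; exact mul_mem_planeA hq (pow_mem_planeA hwA p)
        · rintro a c ⟨p, hp⟩ ⟨q, hq⟩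
          refine ⟨p + q, ?_⟩
          rw [pow_add, show a * c * (w ^ p * w ^ q) = (a * w ^ p) * (c * w ^ q) by ring]
          exact mul_mem_planeA hp hq
      refine ⟨m, fun r hr => ⟨b * w ^ (t₀ + r + 1), ?_, ?_⟩⟩
      · obtain ⟨e, he⟩ : ∃ e, t₀ + r + 1 = m + e := ⟨t₀ + r + 1 - m, by omega⟩
        rw [he, pow_add, ← mul_assoc]
        exact mul_mem_planeA hm (pow_mem_planeA hwA e)
      · intro Q
        by_cases hQ : Q ∈ D.support
        · obtain ⟨hwQ, hψQ⟩ := hwpole Q hQ
          have hw0 : w ≠ 0 := hψQ.1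
          have heq : w ^ (r + 1) * z - b * w ^ (t₀ + r + 1) = -(b - z / w ^ t₀) * w ^ (t₀ + r + 1) := by
            field_simp
            ring
          rw [heq, map_mul, Valuation.map_neg, map_pow, hwQ, Finsupp.smul_apply]
          refine (mul_le_mul' (hbS Q hQ) le_rfl).trans ?_
          have hN : (D Q).natAbs ≤ N :=
            Finset.single_le_sum (f := fun R : Place k K => (D R).natAbs) (fun _ _ => Nat.zero_le _) hQ
          rw [← exp_nsmul, ← exp_add, exp_le_exp, nsmul_eq_mul, nsmul_eq_mul]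
          have : D Q ≤ (N : ℤ) := by omega
          push_cast
          nlinarith
        · have hD0 : D Q = 0 := Finsupp.notMem_support_iff.mp hQ
          have hwz : w ^ (r + 1) * z ∈ L ((t₀ + r + 1) • D) := by
            have : ∀ i, w ^ i * z ∈ L ((t₀ + i) • D) := by
              intro i
              induction i with
              | zero => simpa using hz
              | succ i ih => rw [pow_succ', mul_assoc]; exact hwL _ _ ih
            exact this (r + 1)
          have hb' : b * w ^ (t₀ + r + 1) ∈ L ((t₀ + r + 1) • D) := by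
            obtain ⟨e, he⟩ : ∃ e, t₀ + r + 1 = m + e := ⟨t₀ + r + 1 - m, by omega⟩
            rw [he, pow_add, ← mul_assoc]
            exact hAL _ (mul_mem_planeA hm (pow_mem_planeA hwA e))
          have := (L ((t₀ + r + 1) • D)).sub_mem hwz hb' Q
          rw [Finsupp.smul_apply, hD0, smul_zero] at this ⊢
          exact this
    have := hF.finite_L (t₀ • D)
    let bas := Module.finBasis k (L (t₀ • D))
    choose R hR using fun i => hlift ((bas i : L (t₀ • D)) : K) (bas i).2
    set R₀ := ∑ i, R i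
    have hpeel : ∀ r : ℕ, L ((t₀ + r + 1) • D) ≤
        L ((t₀ + r) • D) ⊔ (L (t₀ • D)).map (LinearMap.mulLeft k (w ^ (r + 1))) := by
      intro r
      induction r with
      | zero =>
        intro f hf
        obtain ⟨a, ha, b, hb, rfl⟩ := ht₀ t₀ le_rfl f hf
        exact Submodule.mem_sup.mpr ⟨a, ha, w * b, ⟨b, hb, by simp⟩, rfl⟩
      | succ r ih =>
        intro f hf
        obtain ⟨a, ha, b, hb, rfl⟩ := ht₀ (t₀ + r + 1) (by omega) f hf
        obtain ⟨b₁, hb₁, _, ⟨b₂, hb₂, rfl⟩, rfl⟩ := Submodule.mem_sup.mp (ih hb)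
        refine Submodule.mem_sup.mpr ⟨a + w * b₁, add_mem ha (hwL _ _ hb₁), w ^ (r + 1 + 1) * b₂,
          ⟨b₂, hb₂, rfl⟩, ?_⟩
        simp only [LinearMap.mulLeft_apply]
        ring
    have hbase : L ((t₀ + R₀ + 1) • D) ≤ planeA k x y (t₀ + R₀ + 1) ⊔ L ((t₀ + R₀) • D) := by
      refine (hpeel R₀).trans (sup_le le_sup_right ?_)
      set M := (planeA k x y (t₀ + R₀ + 1) ⊔ L ((t₀ + R₀) • D)).comap
        (LinearMap.mulLeft k (w ^ (R₀ + 1)))
      rw [Submodule.map_le_iff_le_comap]
      have hspan : Submodule.span k (Set.range bas) ≤ M.comap (L (t₀ • D)).subtype := by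
        rw [Submodule.span_le]
        rintro _ ⟨i, rfl⟩
        obtain ⟨a, ha, hdiff⟩ := hR i R₀ (Finset.single_le_sum (fun _ _ => Nat.zero_le _)
          (Finset.mem_univ i))
        exact Submodule.mem_sup.mpr ⟨a, ha, _, hdiff, add_sub_cancel _ _⟩
      intro f hf
      exact hspan (x := ⟨f, hf⟩) (by rw [bas.span_eq]; exact Submodule.mem_top)
    have hstep : ∀ t, t₀ + R₀ ≤ t → L ((t + 1) • D) ≤ planeA k x y (t + 1) ⊔ L (t • D) := by
      intro t ht
      induction t, ht using Nat.le_induction with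
      | base => exact hbase
      | succ t ht ih =>
        intro f hf
        obtain ⟨a, ha, b, hb, rfl⟩ := ht₀ (t + 1) (by omega) f hf
        obtain ⟨b₁, hb₁, b₂, hb₂, rfl⟩ := Submodule.mem_sup.mp (ih hb)
        refine Submodule.mem_sup.mpr ⟨w * b₁, ?_, a + w * b₂, add_mem ha (hwL _ _ hb₂), by ring⟩
        rw [show t + 1 + 1 = 1 + (t + 1) by omega]
        exact mul_mem_planeA hwA hb₁
    set T₂ := T + t₀ + R₀
    have hinter : ∀ t, T₂ ≤ t → planeA k x y (t + 1) ⊓ L (t • D) = planeA k x y t := by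
      intro t ht
      have := hF.finite_L ((t + 1) • D)
      have := hF.finite_L (t • D)
      have := hF.finite_planeA x y (t + 1)
      have hle : planeA k x y t ≤ planeA k x y (t + 1) ⊓ L (t • D) :=
        le_inf (planeA_mono x y (Nat.le_succ t)) (hAL t)
      refine (Submodule.eq_of_le_of_finrank_le hle ?_).symm
      have hsup : planeA k x y (t + 1) ⊔ L (t • D) = L ((t + 1) • D) :=
        le_antisymm (sup_le (hAL _) (hDmono (Nat.le_succ t))) (hstep t (by omega))
      have h1 := Submodule.finrank_sup_add_finrank_inf_eq (planeA k x y (t + 1)) (L (t • D))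
      rw [hsup] at h1
      have h2 := hA t (by omega)
      have h3 := hA (t + 1) (by omega)
      have h4 := hL t (by omega)
      have h5 := hL (t + 1) (by omega)
      unfold ell at h4 h5
      push_cast at h3 h5
      nlinarith
    have hdown : ∀ u, T₂ ≤ u → planeA k x y u ⊓ L (T₂ • D) ≤ planeA k x y T₂ := by
      intro u hu
      induction u, hu using Nat.le_induction with
      | base => exact inf_le_left
      | succ u hu ih =>
        rintro z ⟨hz, hzL⟩
        exact ih ⟨(hinter u hu) ▸ ⟨hz, hDmono hu hzL⟩, hzL⟩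
    have heqT : planeA k x y T₂ = L (T₂ • D) := by
      refine le_antisymm (hAL T₂) fun z hz => ?_
      have hchart : z ∈ chart k φ 0 := by
        refine mem_chart_of_nonsingular h (by simp [φ]) (plane_bir hxy) (fun Q _ => hns Q) fun Q hQ => ?_
        have h1 := hz Q
        have h2 : exp (D Q) = (1 : ℤᵐ⁰) := (hF.val_eq_planeDiv hQ).symm.trans (map_one _)
        rw [← exp_zero, exp_inj] at h2
        rw [Finsupp.smul_apply, h2, smul_zero, exp_zero] at h1
        exact h1
      obtain ⟨u, hu⟩ := mem_planeA_of_chart_zero hchart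
      exact hdown (max u T₂) (le_max_right _ _) ⟨planeA_mono x y (le_max_left _ _) hu, hz⟩
    have h1 := hA T₂ (by omega)
    have h2 := hL T₂ (by omega)
    unfold ell at h2
    rw [heqT] at h1
    nlinarith

end Groth.Agent.FF30
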