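import Groth.Agent.FF30.Ramif
import Groth.Agent.FF30.Approx
import Groth.Agent.FF30.SubField
import Groth.Agent.FF30.AlgClosed
import Groth.Agent.FF30.Geometric
import Groth.Agent.FF30.Differentials
import Mathlib.Algebra.Module.Submodule.Union
import Mathlib.RingTheory.Derivation.Basic

/-! Choosing plane projections of a function field. -/

open FunFld WithZero IntermediateField
open scoped Multiplicative

namespace Groth.Agent.FF30

variable {k K : Type*} [Field k] [Field K] [Algebra k K]

theorem exists_primitive_mem [Infinite k] (L : IntermediateField k K) [FiniteDimensional L K]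
    [Algebra.IsSeparable L K] {U U₀ : Submodule k K} (hU₀ : ¬ U ≤ U₀)
    (hU : IntermediateField.adjoin L (U : Set K) = ⊤) : ∃ u ∈ U, u ∉ U₀ ∧ L⟮u⟯ = ⊤ := by
  classical
  have : Finite (IntermediateField L K) :=
    Field.finite_intermediateField_of_exists_primitive_element L K (Field.exists_primitive_element L K)
  let p : Option {E : IntermediateField L K // E ≠ ⊤} → Submodule k U := fun o =>
    o.elim (U₀.comap U.subtype) fun E => (Subalgebra.toSubmodule (E.1.restrictScalars k).toSubalgebra).comap U.subtype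
  have hp : ∀ i, p i ≠ ⊤ := by
    rintro (_ | ⟨E, hE⟩) htop
    · exact hU₀ fun u hu => by
        have : (⟨u, hu⟩ : U) ∈ p none := by rw [htop]; exact Submodule.mem_top
        exact this
    · refine hE (top_le_iff.1 (hU ▸ IntermediateField.adjoin_le_iff.2 fun u hu => ?_))
      have : (⟨u, hu⟩ : U) ∈ p (some ⟨E, hE⟩) := by rw [htop]; exact Submodule.mem_top
      exact this
  obtain ⟨u, hu⟩ := Submodule.exists_forall_notMem_of_forall_ne_top p hp
  refine ⟨u, u.2, fun h => hu none h, ?_⟩
  by_contra hne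
  exact hu (some ⟨_, hne⟩) (IntermediateField.mem_adjoin_simple_self L (u : K))

theorem transcendental_of_isSeparable (h : IsFunctionField k K) {x : K}
    [Algebra.IsSeparable k⟮x⟯ K] : Transcendental k x := fun ha => by
  obtain ⟨t, ht, -⟩ := h.1
  have : Algebra.IsAlgebraic k k⟮x⟯ := IntermediateField.isAlgebraic_adjoin_simple ha.isIntegral
  exact ht ((Algebra.IsAlgebraic.trans k k⟮x⟯ K).isAlgebraic t)

theorem adjoin_pair_eq_top {x y : K} (h : (k⟮x⟯)⟮y⟯ = ⊤) :
    IntermediateField.adjoin k ({x, y} : Set K) = ⊤ := by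
  rw [← IntermediateField.adjoin_simple_adjoin_simple, h, IntermediateField.restrictScalars_top]

theorem exists_separating_mem [IsAlgClosed k] (hK : IsFunctionField k K) (W : Submodule k K)
    (hW : IntermediateField.adjoin k (W : Set K) = ⊤) :
    ∃ x ∈ W, Algebra.IsSeparable k⟮x⟯ K := by
  have hg : IsGeometric k K := isGeometric_of_closed hK.2
  by_contra hcon
  push Not at hcon
  obtain ⟨z, -, hz⟩ := exists_kaehlerD_ne_zero hK hg
  refine hz ?_
  clear hz
  have hmem : z ∈ IntermediateField.adjoin k (W : Set K) := hW ▸ IntermediateField.mem_top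
  induction hmem using IntermediateField.adjoin_induction with
  | mem u hu =>
    by_contra hne
    exact hcon u hu (isSeparable_of_kaehlerD_ne_zero hK hg hne)
  | algebraMap c => exact Derivation.map_algebraMap _ c
  | add a b _ _ ha hb => rw [map_add, ha, hb, add_zero]
  | inv a _ ha => rw [Derivation.leibniz_inv, ha, smul_zero]
  | mul a b _ _ ha hb => rw [Derivation.leibniz, ha, hb, smul_zero, smul_zero, add_zero]

theorem exists_generator_mem [IsAlgClosed k] (hK : IsFunctionField k K) (W : Submodule k K)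
    (h1 : (1 : K) ∈ W) (hW : IntermediateField.adjoin k (W : Set K) = ⊤) {x : K}
    (hsep : Algebra.IsSeparable k⟮x⟯ K) :
    ∃ y ∈ W, IntermediateField.adjoin k ({x, y} : Set K) = ⊤ := by
  have := hsep
  have := (FF.of_isFunctionField hK).finiteDimensional_adjoin (transcendental_of_isSeparable hK (x := x))
  have hU : IntermediateField.adjoin k⟮x⟯ (W : Set K) = ⊤ := by
    rw [eq_top_iff]
    intro z htop
    clear htop
    have hz : z ∈ IntermediateField.adjoin k (W : Set K) := hW ▸ IntermediateField.mem_top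
    induction hz using IntermediateField.adjoin_induction with
    | mem u hu => exact IntermediateField.subset_adjoin _ _ hu
    | algebraMap c =>
      rw [IsScalarTower.algebraMap_apply k k⟮x⟯ K]
      exact IntermediateField.algebraMap_mem _ _
    | add a b _ _ ha hb => exact add_mem ha hb
    | inv a _ ha => exact inv_mem ha
    | mul a b _ _ ha hb => exact mul_mem ha hb
  obtain ⟨y, hy, -, htop⟩ := exists_primitive_mem k⟮x⟯ (U₀ := ⊥)
    (fun h => one_ne_zero ((Submodule.mem_bot k).1 (h h1))) hU
  exact ⟨y, hy, adjoin_pair_eq_top htop⟩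

theorem ord_gen_sub_eq_one [IsAlgClosed k] (hF : FF k K) {x : K} (hx : Transcendental k x) (c : k)
    (P₀ : Place k k⟮x⟯) (hP : P₀.1 (AdjoinSimple.gen k x - algebraMap k k⟮x⟯ c) < 1) :
    P₀.ord (AdjoinSimple.gen k x - algebraMap k k⟮x⟯ c) = 1 := by
  obtain ⟨hFL, -⟩ := hF.intermediateField k⟮x⟯ (IntermediateField.mem_adjoin_simple_self k x) hx
  set g := AdjoinSimple.gen k x - algebraMap k k⟮x⟯ c
  have htr : Transcendental k g := fun ha => hx (by
    have h2 := (ha.add (isAlgebraic_algebraMap c)).algebraMap (A := K)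
    rw [sub_add_cancel] at h2
    exact h2)
  have htop : k⟮g⟯ = ⊤ := by
    have hg : AdjoinSimple.gen k x ∈ k⟮g⟯ := by
      have := add_mem (IntermediateField.mem_adjoin_simple_self k g) (k⟮g⟯.algebraMap_mem c)
      rwa [sub_add_cancel] at this
    rw [eq_top_iff]
    intro a _
    obtain ⟨u, d, hud⟩ := (IntermediateField.mem_adjoin_simple_iff k _).1 a.2
    have hev : ∀ q : Polynomial k, Polynomial.aeval (AdjoinSimple.gen k x) q ∈ k⟮g⟯ := fun q => by
      induction q using Polynomial.induction_on' with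
      | add p q hp hq => rw [map_add]; exact add_mem hp hq
      | monomial n r =>
        rw [Polynomial.aeval_monomial]
        exact mul_mem (k⟮g⟯.algebraMap_mem r) (pow_mem hg n)
    have ha : a = Polynomial.aeval (AdjoinSimple.gen k x) u / Polynomial.aeval (AdjoinSimple.gen k x) d := by
      apply Subtype.ext
      rw [hud]
      push_cast
      simp
    rw [ha]
    exact div_mem (hev u) (hev d)
  have hg0 : g ≠ 0 := fun e => htr (e ▸ isAlgebraic_zero)
  have hpos : 0 < P₀.ord g := (val_lt_one_iff P₀ hg0).1 hP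
  have h := hFL.sum_deg_mul_ord_le htr {P₀} (by simpa using hpos)
  rw [Finset.sum_singleton, finrank_eq_one_iff_adjoin_top.mpr htop] at h
  have hd : (1 : ℤ) ≤ P₀.deg := by exact_mod_cast hFL.deg_pos P₀
  push_cast at h
  nlinarith

theorem exists_generator_with_uniformizers [IsAlgClosed k] (hK : IsFunctionField k K) {x : K}
    (hsep : Algebra.IsSeparable k⟮x⟯ K) :
    ∃ y : K, IntermediateField.adjoin k ({x, y} : Set K) = ⊤ ∧
      ∀ P : Place k K, ∃ f ∈ Submodule.span k ({1, x, y} : Set K), P.1 f = exp (-1) := by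
  classical
  have := hsep
  have hF : FF k K := hK.1
  have hx : Transcendental k x := transcendental_of_isSeparable hK
  have := hF.finiteDimensional_adjoin hx
  obtain ⟨hFL, -⟩ := hF.intermediateField k⟮x⟯ (IntermediateField.mem_adjoin_simple_self k x) hx
  have hfin : ({P : Place k K | P.ord x < 0} ∪
      {P : Place k K | ¬ ∃ P₀ : Place k k⟮x⟯, IsOverWith P P₀ 1}).Finite :=
    ((hF.finite_support_ord x).subset fun P (hP : P.ord x < 0) => ne_of_lt hP).union
      (hFL.finite_ramified (K' := K))
  set S := hfin.toFinset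
  obtain ⟨Pinf, hPinf⟩ := hF.exists_place_neg hx
  have hPS : Pinf ∈ S := hfin.mem_toFinset.2 (Or.inl hPinf)
  choose t ht0 ht using fun P : Place k K => exists_val_eq P (-1)
  obtain ⟨y₀, hy₀⟩ := exists_approx S t fun _ => -2
  have hy₀' : ∀ P ∈ S, P.1 y₀ = exp (-1) := by
    intro P hP
    have h := P.1.map_add_eq_of_lt_left (x := t P) (y := y₀ - t P)
      (by rw [ht]; exact (hy₀ P hP).trans_lt (exp_lt_exp.2 (by norm_num)))
    rwa [add_sub_cancel, ht] at h
  obtain ⟨θ, hθ⟩ := Field.exists_primitive_element k⟮x⟯ K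
  set N : ℕ := ∑ P ∈ S, (P.ord θ).natAbs + 2 with hN
  choose w hw0 hw using fun P : Place k K => exists_val_eq P (-(N : ℤ))
  obtain ⟨s, hs⟩ := exists_approx S w fun _ => -(N : ℤ) - 1
  have hs' : ∀ P ∈ S, P.1 s = exp (-(N : ℤ)) := by
    intro P hP
    have h := P.1.map_add_eq_of_lt_left (x := w P) (y := s - w P)
      (by rw [hw]; exact (hs P hP).trans_lt (exp_lt_exp.2 (by omega)))
    rwa [add_sub_cancel, hw] at h
  have hs0 : s ≠ 0 := fun e => by
    have := hs' Pinf hPS
    rw [e, map_zero] at this
    exact exp_ne_zero this.symm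
  set U₀ := Submodule.span k ({s, s * θ} : Set K)
  have hU₀ : ∀ v ∈ U₀, ∀ P ∈ S, P.1 v ≤ exp (-2) := by
    intro v hv P hP
    induction hv using Submodule.span_induction with
    | mem u hu =>
      rcases hu with rfl | rfl
      · rw [hs' P hP, exp_le_exp]; omega
      · rcases eq_or_ne θ 0 with h0 | h0
        · simp [h0]
        rw [map_mul, hs' P hP, val_eq P h0, ← exp_add, exp_le_exp]
        have : (P.ord θ).natAbs ≤ ∑ P ∈ S, (P.ord θ).natAbs :=
          Finset.single_le_sum (f := fun P : Place k K => (P.ord θ).natAbs) (fun _ _ => Nat.zero_le _) hP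
        omega
    | zero => simp
    | add a b _ _ ha hb => exact (P.1.map_add _ _).trans (max_le ha hb)
    | smul c a _ ha => exact (val_smul_le P _ _).trans ha
  set U := Submodule.span k ({y₀} : Set K) ⊔ U₀
  have hy₀U : y₀ ∈ U := Submodule.mem_sup_left (Submodule.mem_span_singleton_self _)
  have hnot : ¬ U ≤ U₀ := fun h => by
    have := hU₀ y₀ (h hy₀U) Pinf hPS
    rw [hy₀' Pinf hPS, exp_le_exp] at this
    omega
  have hUtop : IntermediateField.adjoin k⟮x⟯ (U : Set K) = ⊤ := by
    rw [eq_top_iff, ← hθ, IntermediateField.adjoin_simple_le_iff]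
    have h1 : s ∈ IntermediateField.adjoin k⟮x⟯ (U : Set K) :=
      IntermediateField.subset_adjoin _ _ (Submodule.mem_sup_right (Submodule.subset_span (by simp)))
    have h2 : s * θ ∈ IntermediateField.adjoin k⟮x⟯ (U : Set K) :=
      IntermediateField.subset_adjoin _ _ (Submodule.mem_sup_right (Submodule.subset_span (by simp)))
    have := div_mem h2 h1
    rwa [mul_div_cancel_left₀ _ hs0] at this
  obtain ⟨y, hyU, hy0, htop⟩ := exists_primitive_mem k⟮x⟯ hnot hUtop
  refine ⟨y, adjoin_pair_eq_top htop, fun P => ?_⟩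
  by_cases hP : P ∈ S
  · refine ⟨y, Submodule.subset_span (by simp), ?_⟩
    obtain ⟨a, ha, v, hv, rfl⟩ := Submodule.mem_sup.1 hyU
    obtain ⟨r, rfl⟩ := Submodule.mem_span_singleton.1 ha
    have hr : r ≠ 0 := fun e => hy0 (by simpa [e] using hv)
    have h1 : P.1 (r • y₀) = exp (-1) := by
      rw [Algebra.smul_def, map_mul, val_algebraMap P hr, one_mul, hy₀' P hP]
    have h := P.1.map_add_eq_of_lt_left (x := r • y₀) (y := v)
      (by rw [h1]; exact (hU₀ v hv P hP).trans_lt (exp_lt_exp.2 (by norm_num)))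
    rw [h, h1]
  · simp only [S, Set.Finite.mem_toFinset, Set.mem_union, Set.mem_ofPred_eq, not_or, not_lt, not_not] at hP
    obtain ⟨hPx, P₀, hP₀⟩ := hP
    obtain ⟨c, hc⟩ := hF.exists_sub_lt P ((val_le_one_iff P).2 hPx)
    refine ⟨x - algebraMap k K c, sub_mem (Submodule.subset_span (by simp)) ?_, ?_⟩
    · rw [Algebra.algebraMap_eq_smul_one]
      exact Submodule.smul_mem _ c (Submodule.subset_span (by simp))
    have heq : P.1 (x - algebraMap k K c) =
        P₀.1 (AdjoinSimple.gen k x - algebraMap k k⟮x⟯ c) := by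
      have := hP₀ (AdjoinSimple.gen k x - algebraMap k k⟮x⟯ c)
      rw [pow_one] at this
      exact this
    rw [heq] at hc ⊢
    have hne : AdjoinSimple.gen k x - algebraMap k k⟮x⟯ c ≠ 0 := fun e => by
      have h2 := congrArg (algebraMap k⟮x⟯ K) e
      rw [map_sub, map_zero, ← IsScalarTower.algebraMap_apply] at h2
      exact hx ((sub_eq_zero.1 h2 : x = algebraMap k K c) ▸ isAlgebraic_algebraMap c)
    rw [val_eq _ hne, ord_gen_sub_eq_one hF hx c P₀ hc]

end Groth.Agent.FF30
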