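import Mathlib.RingTheory.MvPolynomial.Homogeneous
import Mathlib.Algebra.MvPolynomial.Eval

/-! Homogeneous polynomials under scaling. -/

open MvPolynomial

namespace Groth.Agent.FF30

theorem aeval_mul_left_of_homog {R S σ : Type*} [CommSemiring R] [CommSemiring S] [Algebra R S]
    {g : MvPolynomial σ R} {m : ℕ} (hg : g.IsHomogeneous m) (a : S) (v : σ → S) :
    aeval (fun i => a * v i) g = a ^ m * aeval v g := by
  classical
  rw [aeval_def, aeval_def, eval₂_eq, eval₂_eq, Finset.mul_sum]
  refine Finset.sum_congr rfl fun d hd => ?_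
  have hdeg : ∑ i ∈ d.support, d i = m := (hg.degree_eq_sum_deg_support hd).symm
  simp only [mul_pow, Finset.prod_mul_distrib, Finset.prod_pow_eq_pow_sum, hdeg]
  ring

end Groth.Agent.FF30
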