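import Groth.Agent.FF30.Embed
import Groth.Agent.FF30.Poly
import Mathlib.RingTheory.KrullDimension.Polynomial
import Mathlib.RingTheory.KrullDimension.Field
import Mathlib.Algebra.MvPolynomial.Funext
import Mathlib.Algebra.MvPolynomial.NoZeroDivisors
import Mathlib.RingTheory.UniqueFactorizationDomain.Ideal
import Mathlib.RingTheory.Polynomial.UniqueFactorization

/-! The ideal of a plane curve. -/

open FunFld WithZero MvPolynomial
open scoped Multiplicative

namespace Groth.Agent.FF30

/-- A strict chain of primes is no longer than the dimension. -/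
theorem chain_le_dim {R : Type*} [CommRing R] {n : ℕ} (p : Fin (n + 1) → PrimeSpectrum R)
    (hp : StrictMono p) {d : ℕ} (hd : ringKrullDim R = d) : n ≤ d := by
  have h : ((LTSeries.mk n p hp).length : WithBot ℕ∞) ≤ ringKrullDim R :=
    Order.LTSeries.length_le_krullDim _
  rw [hd] at h
  change ((n : ℕ) : WithBot ℕ∞) ≤ (d : WithBot ℕ∞) at h
  exact_mod_cast h

theorem mvDim (k : Type*) [Field k] (m : ℕ) :
    ringKrullDim (MvPolynomial (Fin m) k) = m := by
  rw [MvPolynomial.ringKrullDim_of_isNoetherianRing, ringKrullDim_eq_zero_of_field, zero_add,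
    Nat.card_fin]

variable {k K : Type*} [Field k] [Field K] [Algebra k K]

theorem val_aeval_sub_lt {σ : Type*} (P : Place k K) (z : σ → K) (a : σ → k)
    (h : ∀ i, P.1 (z i - algebraMap k K (a i)) < 1) (g : MvPolynomial σ k) :
    P.1 (aeval z g - algebraMap k K (eval a g)) < 1 := by
  have hz : ∀ i, P.1 (z i) ≤ 1 := fun i => by
    rw [show z i = (z i - algebraMap k K (a i)) + algebraMap k K (a i) by ring]
    exact (P.1.map_add _ _).trans (max_le (h i).le (P.2.1 _))
  induction g using MvPolynomial.induction_on with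
  | C c => simp
  | add p q hp hq =>
    rw [map_add, map_add, map_add, add_sub_add_comm]
    exact lt_of_le_of_lt (P.1.map_add _ _) (max_lt hp hq)
  | mul_X p i hp =>
    rw [map_mul, map_mul, map_mul, aeval_X, eval_X,
      show aeval z p * z i - algebraMap k K (eval a p) * algebraMap k K (a i) =
        (aeval z p - algebraMap k K (eval a p)) * z i +
          algebraMap k K (eval a p) * (z i - algebraMap k K (a i)) by ring]
    refine lt_of_le_of_lt (P.1.map_add _ _) (max_lt ?_ ?_) <;> rw [map_mul]
    · exact lt_of_le_of_lt (mul_le_of_le_one_right' (hz i)) hp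
    · exact lt_of_le_of_lt (mul_le_of_le_one_left' (P.2.1 _)) (h i)

theorem eval_eq_zero_of_aeval {σ : Type*} (P : Place k K) {z : σ → K} {a : σ → k}
    (h : ∀ i, P.1 (z i - algebraMap k K (a i)) < 1) {g : MvPolynomial σ k}
    (hg : aeval z g = 0) : eval a g = 0 := by
  by_contra h0
  have := val_aeval_sub_lt P z a h g
  rw [hg, zero_sub, Valuation.map_neg, val_algebraMap P h0] at this
  exact lt_irrefl _ this

variable [IsAlgClosed k]

/-- A place at which given functions are finite, with their values. -/
theorem FF.exists_finite_point (hF : FF k K) {σ : Type*} [Finite σ] (z : σ → K) :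
    ∃ (P : Place k K) (a : σ → k), ∀ i, P.1 (z i - algebraMap k K (a i)) < 1 := by
  have := hF.infinite_places
  obtain ⟨P, hP⟩ := (Set.finite_iUnion fun i => hF.finite_one_lt (z i)).exists_notMem
  rw [Set.mem_iUnion] at hP
  push Not at hP
  choose a ha using fun i => hF.exists_sub_lt P (x := z i) (not_lt.mp (hP i))
  exact ⟨P, a, ha⟩

theorem exists_transcendental_entry (h : IsFunctionField k K) {x y : K}
    (hxy : IntermediateField.adjoin k ({x, y} : Set K) = ⊤) :
    ∃ i : Fin 2, Transcendental k (![x, y] i) := by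
  by_contra hcon
  push Not at hcon
  have hall : ∀ z : K, z ∈ Set.range (algebraMap k K) := by
    intro z
    have hle : IntermediateField.adjoin k ({x, y} : Set K) ≤ ⊥ := by
      rw [IntermediateField.adjoin_le_iff]
      rintro _ (rfl | rfl)
      · exact IntermediateField.mem_bot.mpr (h.2 _ (not_not.mp (hcon 0)))
      · exact IntermediateField.mem_bot.mpr (h.2 _ (not_not.mp (hcon 1)))
    exact IntermediateField.mem_bot.mp (hle (hxy ▸ IntermediateField.mem_top))
  obtain ⟨z, hz, -⟩ := h.1
  obtain ⟨c, rfl⟩ := hall z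
  exact hz (isAlgebraic_algebraMap c)

/-- Any irreducible relation generates the ideal of relations of `(x, y)`. -/
theorem ker_eq_span_of_irreducible (h : IsFunctionField k K) {x y : K}
    (hxy : IntermediateField.adjoin k ({x, y} : Set K) = ⊤) {f : MvPolynomial (Fin 2) k}
    (hf : Irreducible f) (hfxy : aeval ![x, y] f = 0) :
    RingHom.ker (aeval (R := k) ![x, y]) = Ideal.span {f} := by
  have hF : FF k K := h.1
  set I := RingHom.ker (aeval (R := k) ![x, y])
  have hfI : Ideal.span {f} ≤ I := (Ideal.span_singleton_le_iff_mem _).mpr hfxy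
  refine (le_antisymm hfI ?_).symm
  by_contra hne
  have hI : I.IsPrime := RingHom.ker_isPrime _
  obtain ⟨P, a, ha⟩ := hF.exists_finite_point ![x, y]
  set J := RingHom.ker (aeval (R := k) a)
  have hJ : J.IsPrime := RingHom.ker_isPrime _
  have hIJ : I ≤ J := fun g hg => by
    rw [RingHom.mem_ker, MvPolynomial.aeval_eq_eval]
    exact eval_eq_zero_of_aeval P ha hg
  obtain ⟨i, hi⟩ := exists_transcendental_entry h hxy
  have hIJ' : ¬ J ≤ I := by
    intro hle
    have hmem : X i - C (a i) ∈ J := by simp [J, RingHom.mem_ker]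
    have := hle hmem
    simp only [I, RingHom.mem_ker, map_sub, aeval_X, aeval_C, sub_eq_zero] at this
    exact hi (this ▸ isAlgebraic_algebraMap _)
  have hfp : (Ideal.span {f}).IsPrime :=
    (Ideal.span_singleton_prime hf.ne_zero).mpr hf.prime
  let p : Fin 4 → PrimeSpectrum (MvPolynomial (Fin 2) k) :=
    ![⟨⊥, Ideal.isPrime_bot⟩, ⟨_, hfp⟩, ⟨I, hI⟩, ⟨J, hJ⟩]
  have hp : StrictMono p := by
    refine Fin.strictMono_iff_lt_succ.mpr fun i => ?_
    fin_cases i <;> refine lt_of_le_not_ge ?_ ?_
    · exact bot_le
    · exact fun hle => hf.ne_zero (Ideal.span_singleton_eq_bot.mp (le_bot_iff.mp hle))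
    · exact hfI
    · exact fun hle => hne hle
    · exact hIJ
    · exact hIJ'
  have := chain_le_dim p hp (mvDim k 2)
  omega

end Groth.Agent.FF30
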