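import Groth.Agent.FF30.ConstFinite
import Groth.Agent.FF30.SubField
import Groth.Agent.FF30.AlgClosed
import Mathlib.RingTheory.Polynomial.IsIntegral

/-! `k[x, y]` as an intersection over the places of `k(x)`. -/

open FunFld WithZero Polynomial IntermediateField

namespace Groth.Agent.FF30

variable {k K : Type*} [Field k] [IsAlgClosed k] [Field K] [Algebra k K]

theorem mem_adjoin_of_no_finite_pole (hF : FF k K) {x : K} (hx : Transcendental k x) {a : k⟮x⟯}
    (ha : ∀ P : Place k k⟮x⟯, P.1 (AdjoinSimple.gen k x) ≤ 1 → P.1 a ≤ 1) :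
    (a : K) ∈ Algebra.adjoin k ({x} : Set K) := by
  obtain ⟨hFL, -⟩ := hF.intermediateField k⟮x⟯ (IntermediateField.mem_adjoin_simple_self k x) hx
  set g := AdjoinSimple.gen k x
  have hg : ∀ q : k[X], ((aeval g q : k⟮x⟯) : K) = aeval x q := fun q =>
    (aeval_algHom_apply k⟮x⟯.val g q).symm
  obtain ⟨u, d, hud⟩ := (IntermediateField.mem_adjoin_simple_iff k _).1 a.2
  rcases eq_or_ne d 0 with rfl | hd0
  · rw [hud, map_zero, div_zero]; exact zero_mem _
  obtain ⟨u', d', hcop, hu, hd'⟩ := exists_coprime_fraction u d hd0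
  have ha' : (a : K) * aeval x d' = aeval x u' := by
    rw [hud, div_mul_eq_mul_div, div_eq_iff (fun e => hd0 (transcendental_iff.1 hx d e)), ← map_mul,
      ← map_mul, hu]
  by_cases hdeg : d'.degree = 0
  · rw [eq_C_of_degree_eq_zero hdeg, aeval_C] at ha'
    have hc : d'.coeff 0 ≠ 0 := fun e => hd' (by rw [eq_C_of_degree_eq_zero hdeg, e, map_zero])
    have : (a : K) = aeval x u' * algebraMap k K (d'.coeff 0)⁻¹ := by
      rw [← ha', mul_assoc, ← map_mul, mul_inv_cancel₀ hc, map_one, mul_one]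
    rw [this]
    exact mul_mem (Polynomial.aeval_mem_adjoin_singleton k x) (Subalgebra.algebraMap_mem _ _)
  exfalso
  obtain ⟨c, hc⟩ := IsAlgClosed.exists_root d' hdeg
  have htr : Transcendental k (g - algebraMap k k⟮x⟯ c) := fun halg => hx (by
    have h2 := (halg.add (isAlgebraic_algebraMap c)).algebraMap (A := K)
    rw [sub_add_cancel] at h2
    exact h2)
  obtain ⟨P, hP⟩ := hFL.exists_place_pos htr
  have hP' : P.1 (g - algebraMap k k⟮x⟯ c) < 1 :=
    (val_lt_one_iff P fun e => by rw [e] at htr; exact htr isAlgebraic_zero).2 hP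
  have hg1 : P.1 g ≤ 1 := by
    have heq : g = (g - algebraMap k k⟮x⟯ c) + algebraMap k k⟮x⟯ c := (sub_add_cancel _ _).symm
    rw [heq]
    exact (P.1.map_add _ _).trans (max_le hP'.le (P.2.1 c))
  have hpoly : ∀ q : k[X], P.1 (aeval g q - algebraMap k k⟮x⟯ (q.eval c)) < 1 := by
    intro q
    obtain ⟨m, hm⟩ := (X_sub_C_dvd_sub_C_eval (p := q) (a := c))
    have := congrArg (aeval g) hm
    simp only [map_sub, aeval_C, map_mul, aeval_X] at this
    rw [this, map_mul, mul_comm]
    exact mul_lt_one_aux (val_aeval_le_one P.1 P.2.1 hg1 m) hP'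
  have h1 : P.1 (aeval g d') < 1 := by
    have := hpoly d'
    rwa [hc.eq_zero, map_zero, sub_zero] at this
  have h2 : P.1 (aeval g u') < 1 := by
    have heq : aeval g u' = a * aeval g d' := by
      apply Subtype.ext
      push_cast
      rw [hg, hg, ha']
    rw [heq, map_mul]
    exact mul_lt_one_aux (ha P hg1) h1
  have hu0 : u'.eval c = 0 := by
    by_contra hne'
    have h4 : P.1 (algebraMap k k⟮x⟯ (u'.eval c)) < 1 := by
      rw [show algebraMap k k⟮x⟯ (u'.eval c) =
        aeval g u' - (aeval g u' - algebraMap k k⟮x⟯ (u'.eval c)) by ring]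
      exact (P.1.map_sub _ _).trans_lt (max_lt h2 (hpoly u'))
    rw [val_algebraMap _ hne'] at h4
    exact lt_irrefl _ h4
  obtain ⟨s, t, hst⟩ := hcop
  have h5 := congrArg (Polynomial.eval c) hst
  simp [hu0, hc.eq_zero] at h5

theorem adjoin_pair_eq_iInter (hK : IsFunctionField k K) {x y : K} (hx : Transcendental k x)
    (hxy : IntermediateField.adjoin k ({x, y} : Set K) = ⊤)
    (hy : IsIntegral (Algebra.adjoin k ({x} : Set K)) y) :
    (Algebra.adjoin k ({x, y} : Set K) : Set K) =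
      ⋂ (P : Place k k⟮x⟯) (_ : P.1 (AdjoinSimple.gen k x) ≤ 1),
        (Subring.closure ((algebraMap k⟮x⟯ K '' (P.O : Set _)) ∪ {y}) : Set K) := by
  classical
  have hF : FF k K := hK.1
  ext z
  simp only [Set.mem_iInter, SetLike.mem_coe]
  constructor
  · intro hz P hP
    induction hz using Algebra.adjoin_induction with
    | mem u hu =>
      rcases hu with rfl | rfl
      · exact Subring.subset_closure (Or.inl ⟨AdjoinSimple.gen k u, hP, rfl⟩)
      · exact Subring.subset_closure (Or.inr rfl)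
    | algebraMap c =>
      exact Subring.subset_closure (Or.inl ⟨algebraMap k k⟮x⟯ c, P.2.1 c, rfl⟩)
    | add a b _ _ ha hb => exact add_mem ha hb
    | mul a b _ _ ha hb => exact mul_mem ha hb
  intro hz
  have hle : Algebra.adjoin k ({x} : Set K) ≤ k⟮x⟯.toSubalgebra :=
    Algebra.adjoin_le fun u hu => by rw [hu]; exact IntermediateField.mem_adjoin_simple_self k x
  let ι : Algebra.adjoin k ({x} : Set K) →+* k⟮x⟯ := (Subalgebra.inclusion hle).toRingHom
  obtain ⟨p, hpm, hpy⟩ := hy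
  set f : (k⟮x⟯)[X] := p.map ι
  have hf : f.Monic := hpm.map ι
  have hfy : aeval y f = 0 := by
    rw [aeval_def, Polynomial.eval₂_map]
    exact hpy
  have hyi : IsIntegral k⟮x⟯ y := ⟨f, hf, hfy⟩
  set m := minpoly k⟮x⟯ y
  have htop : (k⟮x⟯)⟮y⟯ = ⊤ := by
    apply IntermediateField.restrictScalars_injective k
    rw [IntermediateField.adjoin_simple_adjoin_simple, hxy, IntermediateField.restrictScalars_top]
  obtain ⟨q₀, hq₀⟩ : ∃ q : (k⟮x⟯)[X], aeval y q = z := by
    have hz' : z ∈ ((k⟮x⟯)⟮y⟯).toSubalgebra := by rw [htop]; exact Algebra.mem_top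
    rw [IntermediateField.adjoin_simple_toSubalgebra_of_isAlgebraic hyi.isAlgebraic] at hz'
    exact Algebra.adjoin_mem_exists_aeval _ y hz'
  set r := q₀ %ₘ m with hr
  have hry : aeval y r = z := by
    rw [hr, aeval_modByMonic_eq_self_of_root (minpoly.aeval _ _), hq₀]
  have huniq : ∀ q : (k⟮x⟯)[X], aeval y q = z → q %ₘ m = r := fun q hq => by
    refine sub_eq_zero.1 ?_
    rw [hr, ← sub_modByMonic, (Polynomial.modByMonic_eq_zero_iff_dvd (minpoly.monic hyi))]
    exact minpoly.dvd _ _ (by rw [map_sub, hq, hq₀, sub_self])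
  -- the coefficients of `m` are regular at the finite places
  have hm1 : ∀ P : Place k k⟮x⟯, P.1 (AdjoinSimple.gen k x) ≤ 1 → ∀ i, m.coeff i ∈ P.O := by
    intro P hP i
    have hfc : f ∈ lifts (algebraMap P.O k⟮x⟯) := (lifts_iff_coeff_lifts f).2 fun l => by
      suffices hmem : f.coeff l ∈ P.O from ⟨⟨_, hmem⟩, rfl⟩
      rw [coeff_map]
      have hc := (p.coeff l).2
      obtain ⟨w, hw⟩ := Algebra.adjoin_mem_exists_aeval k x hc
      have heq : ι (p.coeff l) = aeval (AdjoinSimple.gen k x) w := by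
        apply Subtype.ext
        change ((p.coeff l : Algebra.adjoin k ({x} : Set K)) : K) = _
        rw [← hw]
        exact aeval_algHom_apply k⟮x⟯.val (AdjoinSimple.gen k x) w
      change P.1 (ι (p.coeff l)) ≤ 1
      rw [heq]
      exact val_aeval_le_one P.1 P.2.1 hP w
    obtain ⟨f₀, hf₀, -, hf₀m⟩ := lifts_and_degree_eq_and_monic hfc hf
    have hint := Polynomial.isIntegral_coeff_of_dvd f₀ m hf₀m (minpoly.monic hyi)
      (hf₀.symm ▸ minpoly.dvd _ _ hfy) i
    obtain ⟨w, hw⟩ := IsIntegrallyClosed.isIntegral_iff.1 hint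
    exact hw ▸ w.2
  have hcoef : ∀ i, (r.coeff i : K) ∈ Algebra.adjoin k ({x} : Set K) := by
    intro i
    refine mem_adjoin_of_no_finite_pole hF hx fun P hP => ?_
    have hz1 := hz P hP
    have hml : m ∈ lifts (algebraMap P.O k⟮x⟯) :=
      (lifts_iff_coeff_lifts m).2 fun l => ⟨⟨_, hm1 P hP l⟩, rfl⟩
    obtain ⟨m₀, hm₀, -, hm₀m⟩ := lifts_and_degree_eq_and_monic hml (minpoly.monic hyi)
    have hrange : Subring.closure ((algebraMap k⟮x⟯ K '' (P.O : Set _)) ∪ {y}) ≤
        (eval₂RingHom ((algebraMap k⟮x⟯ K).comp (algebraMap P.O k⟮x⟯)) y).range := by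
      rw [Subring.closure_le]
      rintro _ (⟨c, hc, rfl⟩ | rfl)
      · exact ⟨C ⟨c, hc⟩, by simp⟩
      · exact ⟨X, by simp⟩
    obtain ⟨q, hq⟩ := hrange hz1
    have h1 := huniq (q.map (algebraMap P.O k⟮x⟯)) (by
      rw [aeval_def, Polynomial.eval₂_map]; exact hq)
    rw [← hm₀, ← map_modByMonic _ hm₀m] at h1
    rw [← h1, coeff_map]
    exact (((q %ₘ m₀).coeff i).2 : P.1 _ ≤ 1)
  rw [← hry, aeval_eq_sum_range]
  refine sum_mem fun i _ => ?_
  rw [Algebra.smul_def]
  exact mul_mem (Algebra.adjoin_mono (by simp) (hcoef i))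
    (pow_mem (Algebra.subset_adjoin (by simp)) i)

end Groth.Agent.FF30
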