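import Groth.Agent.FF30.GeometricCrit
import Groth.Agent.FF30.PlaneIdeal
import Groth.Agent.FF30.Plane
import Groth.Agent.Exp31.Separating
import Mathlib.RingTheory.TensorProduct.MvPolynomial
import Mathlib.RingTheory.Jacobson.Ring
import Mathlib.LinearAlgebra.TensorProduct.RightExactness
import Mathlib.RingTheory.AlgebraicIndependent.Transcendental
import Mathlib.FieldTheory.PrimitiveElement

/-! Absolutely irreducible plane models of geometric function fields. -/

open FunFld MvPolynomial IntermediateField
open scoped TensorProduct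

namespace Groth.Agent.FF30

universe u v

variable {k : Type u} {K : Type v} [Field k] [Field K] [Algebra k K]

/-- The kernel of evaluation after extending the constants, corestricted. -/
theorem ker_tensor_aeval {σ : Type*} (z : σ → K) {f : MvPolynomial σ k}
    (hker : RingHom.ker (aeval (R := k) z) = Ideal.span {f}) (k' : Type*) [Field k'] [Algebra k k'] :
    ∃ χ : MvPolynomial σ k' →ₐ[k'] k' ⊗[k] (aeval (R := k) z).range,
      Function.Surjective χ ∧ RingHom.ker χ = Ideal.span {MvPolynomial.map (algebraMap k k') f} := by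
  set φ := aeval (R := k) z
  let e : k' ⊗[k] MvPolynomial σ k ≃ₐ[k'] MvPolynomial σ k' := algebraTensorAlgEquiv k k'
  let θ : k' ⊗[k] MvPolynomial σ k →ₐ[k'] k' ⊗[k] φ.range :=
    Algebra.TensorProduct.map (AlgHom.id k' k') φ.rangeRestrict
  have hsurj : Function.Surjective φ.rangeRestrict := φ.rangeRestrict_surjective
  refine ⟨θ.comp e.symm.toAlgHom, ?_, ?_⟩
  · exact (Algebra.TensorProduct.map_surjective (AlgHom.id k' k') φ.rangeRestrict
      Function.surjective_id hsurj).comp e.symm.surjective
  · have hθ : RingHom.ker θ = Ideal.span {(1 : k') ⊗ₜ[k] f} := by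
      have h1 := Algebra.TensorProduct.lTensor_ker (A := k') φ.rangeRestrict hsurj
      have h2 : RingHom.ker φ.rangeRestrict = Ideal.span {f} := by
        rw [← hker]
        ext g
        simp [RingHom.mem_ker, Subtype.ext_iff, φ]
      rw [h2, Ideal.map_span, Set.image_singleton] at h1
      exact h1
    ext g
    rw [RingHom.mem_ker, AlgHom.comp_apply, ← RingHom.mem_ker, hθ, Ideal.mem_span_singleton,
      Ideal.mem_span_singleton, ← algebraTensorAlgEquiv_symm_map]
    exact map_dvd_iff e.symm

/-- After extending the constants, an absolutely irreducible model gives a domain. -/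
theorem isDomain_tensor_range {σ : Type*} (z : σ → K) {f : MvPolynomial σ k}
    (hker : RingHom.ker (aeval (R := k) z) = Ideal.span {f}) (k' : Type*) [Field k'] [Algebra k k']
    (hirr : Irreducible (MvPolynomial.map (algebraMap k k') f)) :
    IsDomain (k' ⊗[k] (aeval (R := k) z).range) := by
  obtain ⟨χ, hχ, hkχ⟩ := ker_tensor_aeval z hker k'
  have hp : (RingHom.ker χ.toRingHom).IsPrime := by
    have h1 : (Ideal.span {MvPolynomial.map (algebraMap k k') f}).IsPrime :=
      (Ideal.span_singleton_prime hirr.ne_zero).mpr hirr.prime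
    rw [← hkχ] at h1
    exact h1
  have := Ideal.Quotient.isDomain (RingHom.ker χ.toRingHom)
  let e := RingHom.quotientKerEquivOfSurjective (f := χ.toRingHom) hχ
  exact e.symm.injective.isDomain e.symm.toRingHom

theorem irreducible_map_of_isGeometric {σ : Type*} (z : σ → K) {f : MvPolynomial σ k} (hf : f ≠ 0)
    (hker : RingHom.ker (aeval (R := k) z) = Ideal.span {f}) (hg : IsGeometric k K)
    (k' : Type u) [Field k'] [Algebra k k'] (hfin : FiniteDimensional k k') :
    Irreducible (MvPolynomial.map (algebraMap k k') f) := by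
  obtain ⟨χ, -, hkχ⟩ := ker_tensor_aeval z hker k'
  have : IsDomain (k' ⊗[k] K) := (hg k' hfin).isDomain
  let ι : k' ⊗[k] (aeval (R := k) z).range →ₐ[k] k' ⊗[k] K :=
    Algebra.TensorProduct.map (AlgHom.id k k') (aeval (R := k) z).range.val
  have hι : Function.Injective ι :=
    Module.Flat.lTensor_preserves_injective_linearMap (M := k')
      (aeval (R := k) z).range.val.toLinearMap Subtype.val_injective
  have : IsDomain (k' ⊗[k] (aeval (R := k) z).range) := hι.isDomain ι.toRingHom
  have h1 : (RingHom.ker χ).IsPrime := RingHom.ker_isPrime _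
  have hf' : MvPolynomial.map (algebraMap k k') f ≠ 0 :=
    (map_ne_zero_iff _ (MvPolynomial.map_injective _ (algebraMap k k').injective)).2 hf
  rw [hkχ, Ideal.span_singleton_prime hf'] at h1
  exact h1.irreducible

theorem isGeometric_of_absolutely_irreducible {x y : K} {f : MvPolynomial (Fin 2) k}
    (hxy : IntermediateField.adjoin k ({x, y} : Set K) = ⊤)
    (hirr : ∀ (k' : Type u) [Field k'] [Algebra k k'], FiniteDimensional k k' →
      Irreducible (MvPolynomial.map (algebraMap k k') f))
    (hker : RingHom.ker (aeval (R := k) ![x, y]) = Ideal.span {f}) : IsGeometric k K := by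
  intro k' _ _ hfin
  have := isDomain_tensor_range ![x, y] hker k' (hirr k' hfin)
  have : IsDomain (k' ⊗[k] K) := by
    refine isDomain_tensor_of_fractions (aeval (R := k) ![x, y]).range.val Subtype.val_injective fun w => ?_
    have hw : w ∈ IntermediateField.adjoin k (Set.range ![x, y]) := by
      rw [Matrix.range_cons, Matrix.range_cons, Matrix.range_empty, Set.union_empty, Set.singleton_union,
        hxy]
      exact IntermediateField.mem_top
    obtain ⟨r, s, hw⟩ := (IntermediateField.mem_adjoin_range_iff k _ w).1 hw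
    by_cases hs : aeval ![x, y] s = 0
    · exact ⟨0, 1, by simp, by simp [hw, hs]⟩
    · refine ⟨⟨_, r, rfl⟩, ⟨_, s, rfl⟩, hs, ?_⟩
      change w * aeval ![x, y] s = aeval ![x, y] r
      rw [hw, div_mul_cancel₀ _ hs]
  exact isField_tensor_of_isDomain

theorem closed_of_isGeometric (hg : IsGeometric k K) {z : K} (hz : IsAlgebraic k z) :
    z ∈ Set.range (algebraMap k K) := by
  classical
  have hzi := hz.isIntegral
  have : Fact (Irreducible (minpoly k z)) := ⟨minpoly.irreducible hzi⟩
  let ι : AdjoinRoot (minpoly k z) →ₐ[k] K :=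
    AdjoinRoot.liftAlgHom _ (Algebra.ofId k K) z (by exact minpoly.aeval k z)
  have : FiniteDimensional k (AdjoinRoot (minpoly k z)) :=
    (AdjoinRoot.powerBasis (minpoly.ne_zero hzi)).finite
  let _ : Field (AdjoinRoot (minpoly k z) ⊗[k] K) := (hg _ this).toField
  let μ : AdjoinRoot (minpoly k z) ⊗[k] K →ₐ[k] K := Algebra.TensorProduct.productMap ι (AlgHom.id k K)
  set r := AdjoinRoot.root (minpoly k z)
  have heq : r ⊗ₜ[k] (1 : K) = (1 : AdjoinRoot (minpoly k z)) ⊗ₜ[k] z := by
    apply μ.toRingHom.injective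
    change μ _ = μ _
    simp only [μ, Algebra.TensorProduct.productMap_apply_tmul, map_one, one_mul, AlgHom.id_apply, mul_one]
    exact AdjoinRoot.liftAlgHom_root _ _ _ _
  by_contra hcon
  have hz' : z ∉ Submodule.span k ({1} : Set K) := by
    rw [Submodule.mem_span_singleton]
    rintro ⟨c, hc⟩
    exact hcon ⟨c, by rw [← hc, Algebra.smul_def, mul_one]⟩
  obtain ⟨ℓ, hℓz, hℓ⟩ := Submodule.exists_dual_map_eq_bot_of_notMem hz' inferInstance
  have hℓ1 : ℓ 1 = 0 := by
    have : ℓ 1 ∈ (Submodule.span k ({1} : Set K)).map ℓ := ⟨1, Submodule.mem_span_singleton_self _, rfl⟩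
    rwa [hℓ, Submodule.mem_bot] at this
  have := congrArg (fun w => TensorProduct.rid k _ (ℓ.lTensor (AdjoinRoot (minpoly k z)) w)) heq
  simp only [LinearMap.lTensor_tmul, TensorProduct.rid_tmul, hℓ1, zero_smul] at this
  exact hℓz ((smul_eq_zero.1 this.symm).resolve_right one_ne_zero)

theorem isAlgebraic_of_relation {x y : K} (hx : Transcendental k x) {f : MvPolynomial (Fin 2) k}
    (hf : f ≠ 0) (hfxy : aeval ![x, y] f = 0) : IsAlgebraic k⟮x⟯ y := by
  by_contra h
  refine hf (AlgebraicIndependent.eq_zero_of_aeval_eq_zero ?_ _ hfxy)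
  rw [AlgebraicIndependent.iff_transcendental_adjoin_image 1]
  have : Subsingleton {j : Fin 2 // j ≠ 1} := ⟨fun a b => Subtype.ext (by
    have := a.2; have := b.2; omega)⟩
  refine ⟨(algebraicIndependent_singleton_iff ⟨0, by decide⟩).2 (by simpa using hx), ?_⟩
  have himg : (![x, y] : Fin 2 → K) '' {1}ᶜ = {x} := by
    ext w
    simp [Fin.exists_fin_two, eq_comm]
  rw [himg]
  exact fun h' => h (IntermediateField.isAlgebraic_adjoin_iff.mpr (by simpa using h'))

theorem finiteDimensional_adjoin_of_relation {x y : K} (hx : Transcendental k x)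
    (hxy : IntermediateField.adjoin k ({x, y} : Set K) = ⊤) {f : MvPolynomial (Fin 2) k}
    (hf : f ≠ 0) (hfxy : aeval ![x, y] f = 0) : FiniteDimensional k⟮x⟯ K := by
  have hy := isAlgebraic_of_relation hx hf hfxy
  have := IntermediateField.adjoin.finiteDimensional hy.isIntegral
  have htop : (k⟮x⟯)⟮y⟯ = ⊤ := by
    apply IntermediateField.restrictScalars_injective k
    rw [IntermediateField.adjoin_simple_adjoin_simple, hxy, IntermediateField.restrictScalars_top]
  rw [htop] at this
  exact IntermediateField.topEquiv.toLinearEquiv.finiteDimensional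

theorem isFunctionField_and_isGeometric_of_model {x y : K} {f : MvPolynomial (Fin 2) k}
    (hxy : IntermediateField.adjoin k ({x, y} : Set K) = ⊤)
    (hirr : ∀ (k' : Type u) [Field k'] [Algebra k k'], FiniteDimensional k k' →
      Irreducible (MvPolynomial.map (algebraMap k k') f))
    (hker : RingHom.ker (aeval (R := k) ![x, y]) = Ideal.span {f}) :
    IsFunctionField k K ∧ IsGeometric k K := by
  have hg := isGeometric_of_absolutely_irreducible hxy hirr hker
  refine ⟨⟨?_, fun z hz => closed_of_isGeometric hg hz⟩, hg⟩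
  have hfi : Irreducible f := by simpa [MvPolynomial.map_id] using hirr k inferInstance
  have hfxy : aeval ![x, y] f = 0 := by
    rw [← RingHom.mem_ker, hker]
    exact Ideal.mem_span_singleton_self f
  by_cases hx : Transcendental k x
  · exact ⟨x, hx, finiteDimensional_adjoin_of_relation hx hxy hfi.ne_zero hfxy⟩
  by_cases hy : Transcendental k y
  · refine ⟨y, hy, finiteDimensional_adjoin_of_relation hy (by rwa [Set.pair_comm]) (f := rename (Equiv.swap 0 1) f)
      (fun e => hfi.ne_zero (rename_injective _ (Equiv.injective _) (e.trans (map_zero _).symm))) ?_⟩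
    rw [aeval_rename, show (![y, x] ∘ ⇑(Equiv.swap (0 : Fin 2) 1)) = ![x, y] by
      funext i; fin_cases i <;> simp]
    exact hfxy
  exfalso
  -- both algebraic: impossible
  obtain ⟨a, ha⟩ := closed_of_isGeometric hg (not_not.1 hx)
  obtain ⟨b, hb⟩ := closed_of_isGeometric hg (not_not.1 hy)
  have hX : (X 0 - C a : MvPolynomial (Fin 2) k) ∈ Ideal.span {f} := by
    rw [← hker, RingHom.mem_ker]; simp [ha]
  have hY : (X 1 - C b : MvPolynomial (Fin 2) k) ∈ Ideal.span {f} := by
    rw [← hker, RingHom.mem_ker]; simp [hb]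
  rw [Ideal.mem_span_singleton] at hX hY
  obtain ⟨p, hp⟩ := hX
  obtain ⟨q, hq⟩ := hY
  have hfn : f.totalDegree ≠ 0 := fun h => by
    rw [totalDegree_eq_zero_iff_eq_C] at h
    rcases eq_or_ne (coeff 0 f) 0 with h0 | h0
    · exact hfi.ne_zero (by rw [h, h0, map_zero])
    · exact hfi.not_isUnit (by rw [h]; exact (IsUnit.mk0 _ h0).map C)
  have h1 : (X 0 - C a : MvPolynomial (Fin 2) k).totalDegree ≤ 1 :=
    (totalDegree_sub _ _).trans (by simp)
  have hX0 : (X 0 - C a : MvPolynomial (Fin 2) k) ≠ 0 := fun e => by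
    have := congrArg (eval ![a + 1, b]) e; simp at this
  have hp0 : p ≠ 0 := by rintro rfl; exact hX0 (by rw [hp, mul_zero])
  have hpd : p.totalDegree = 0 := by
    have h2 := totalDegree_mul_of_isDomain hfi.ne_zero hp0
    rw [← hp] at h2
    omega
  rw [totalDegree_eq_zero_iff_eq_C] at hpd
  rw [hpd] at hp
  have he1 := congrArg (eval ![a, b + 1]) hp
  have he2 := congrArg (eval ![a, b + 1]) hq
  simp only [map_sub, eval_X, eval_C, map_mul, Matrix.cons_val_zero, Matrix.cons_val_one,
    sub_self] at he1 he2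
  have hc : coeff 0 p ≠ 0 := fun h0 => hp0 (by rw [hpd, h0, map_zero])
  rw [(mul_eq_zero.1 he1.symm).resolve_right hc, zero_mul, add_sub_cancel_left] at he2
  exact one_ne_zero he2

theorem ker_eq_span_of_transcendental {x y : K} (hx : Transcendental k x) {f : MvPolynomial (Fin 2) k}
    (hf : Irreducible f) (hfxy : aeval ![x, y] f = 0) :
    RingHom.ker (aeval (R := k) ![x, y]) = Ideal.span {f} := by
  set I := RingHom.ker (aeval (R := k) ![x, y])
  have hfI : Ideal.span {f} ≤ I := (Ideal.span_singleton_le_iff_mem _).mpr hfxy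
  refine (le_antisymm hfI ?_).symm
  by_contra hne
  have hI : I.IsPrime := RingHom.ker_isPrime _
  obtain ⟨J, hJ, hIJ⟩ := Ideal.exists_le_maximal I hI.ne_top
  by_cases hJI : J ≤ I
  · have hmax : I.IsMaximal := le_antisymm hJI hIJ ▸ hJ
    let _ : Field (MvPolynomial (Fin 2) k ⧸ I) := Ideal.Quotient.field I
    have := finite_of_finite_type_of_isJacobsonRing k (MvPolynomial (Fin 2) k ⧸ I)
    have h1 : IsIntegral k (Ideal.Quotient.mk I (X 0)) := Algebra.IsIntegral.isIntegral _
    have h2 := h1.map (Ideal.Quotient.liftₐ I (aeval (R := k) ![x, y]) fun a ha => ha)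
    rw [Ideal.Quotient.liftₐ_apply, Ideal.Quotient.lift_mk] at h2
    refine hx ?_
    simpa using h2.isAlgebraic
  have hfp : (Ideal.span {f}).IsPrime :=
    (Ideal.span_singleton_prime hf.ne_zero).mpr hf.prime
  let p : Fin 4 → PrimeSpectrum (MvPolynomial (Fin 2) k) :=
    ![⟨⊥, Ideal.isPrime_bot⟩, ⟨_, hfp⟩, ⟨I, hI⟩, ⟨J, hJ.isPrime⟩]
  have hp : StrictMono p := by
    refine Fin.strictMono_iff_lt_succ.mpr fun i => ?_
    fin_cases i <;> refine lt_of_le_not_ge ?_ ?_
    · exact bot_le
    · exact fun hle => hf.ne_zero (Ideal.span_singleton_eq_bot.mp (le_bot_iff.mp hle))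
    · exact hfI
    · exact fun hle => hne hle
    · exact hIJ
    · exact hJI
  have := chain_le_dim p hp (mvDim k 2)
  omega

theorem exists_model (hK : IsFunctionField k K) (hg : IsGeometric k K) :
    ∃ (x y : K) (f : MvPolynomial (Fin 2) k),
      IntermediateField.adjoin k ({x, y} : Set K) = ⊤ ∧
      (∀ (k' : Type u) [Field k'] [Algebra k k'], FiniteDimensional k k' →
        Irreducible (MvPolynomial.map (algebraMap k k') f)) ∧
      RingHom.ker (aeval (R := k) ![x, y]) = Ideal.span {f} := by
  obtain ⟨x, hx, hfin, hsep⟩ := Exp31.exists_separating hK hg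
  have := hfin
  have := hsep
  obtain ⟨y, hy⟩ := Field.exists_primitive_element k⟮x⟯ K
  obtain ⟨f, hf, hfxy⟩ := exists_irreducible_relation hK x y
  have hker := ker_eq_span_of_transcendental hx hf hfxy
  refine ⟨x, y, f, ?_, fun k' _ _ hfin' => irreducible_map_of_isGeometric _ hf.ne_zero hker hg k' hfin', hker⟩
  rw [← IntermediateField.adjoin_simple_adjoin_simple, hy, IntermediateField.restrictScalars_top]

end Groth.Agent.FF30
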