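import Groth.Agent.FF30.PlaneIdeal
import Groth.Agent.FF30.Plane
import Groth.Agent.FF30.Conductor
import Groth.Agent.FF30.Nonsing
import Groth.Agent.FF30.AD
import Mathlib.RingTheory.Localization.AtPrime.Basic
import Mathlib.LinearAlgebra.Isomorphisms

/-! Intersection multiplicities on plane curves. -/

open FunFld WithZero MvPolynomial
open scoped Multiplicative

namespace Groth.Agent.FF30

theorem finrank_map_mkQ_eq {k V : Type*} [Field k] [AddCommGroup V] [Module k V] (T : V →ₗ[k] V)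
    (hT : Function.Injective T) (U : Submodule k V) (hTU : U.map T ≤ U)
    [Module.Finite k (V ⧸ U.map T)] :
    Module.finrank k (U.map (U.map T).mkQ) = Module.finrank k (V ⧸ LinearMap.range T) := by
  set A := U.map T
  have h1 : Module.finrank k ((V ⧸ A) ⧸ U.map A.mkQ) + Module.finrank k (U.map A.mkQ) =
      Module.finrank k (V ⧸ A) := Submodule.finrank_quotient_add_finrank _
  have h2 : Module.finrank k ((V ⧸ A) ⧸ (LinearMap.range T).map A.mkQ) +
      Module.finrank k ((LinearMap.range T).map A.mkQ) = Module.finrank k (V ⧸ A) :=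
    Submodule.finrank_quotient_add_finrank _
  rw [(Submodule.quotientQuotientEquivQuotient A U hTU).finrank_eq] at h1
  rw [(Submodule.quotientQuotientEquivQuotient A (LinearMap.range T) (LinearMap.map_le_range)).finrank_eq]
    at h2
  have h3 : Module.finrank k ((LinearMap.range T).map A.mkQ) = Module.finrank k (V ⧸ U) := by
    rw [← LinearMap.range_comp, ← (A.mkQ.comp T).quotKerEquivRange.finrank_eq]
    have hker : LinearMap.ker (A.mkQ.comp T) = U := by
      rw [LinearMap.ker_comp, Submodule.ker_mkQ]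
      exact Submodule.comap_map_eq_of_injective hT U
    rw [hker]
  omega

theorem finrank_quot_of_surjective {k ι V : Type*} [Field k] [Fintype ι] {W : ι → Type*}
    [AddCommGroup V] [Module k V] [∀ i, AddCommGroup (W i)] [∀ i, Module k (W i)]
    [∀ i, Module.Finite k (W i)] (f : V →ₗ[k] ((i : ι) → W i)) (hf : Function.Surjective f)
    {N : Submodule k V} (hker : LinearMap.ker f = N) :
    Module.Finite k (V ⧸ N) ∧ Module.finrank k (V ⧸ N) = ∑ i, Module.finrank k (W i) := by
  subst hker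
  let e := f.quotKerEquivOfSurjective hf
  exact ⟨Module.Finite.equiv e.symm, e.finrank_eq.trans (Module.finrank_pi_fintype k)⟩

variable {k K : Type*} [Field k] [IsAlgClosed k] [Field K] [Algebra k K]

/-- The functions regular at finitely many places. -/
def regAt (S : Finset (Place k K)) : Submodule k K := ⨅ Q ∈ S, Fil Q 0

omit [IsAlgClosed k] in
theorem mem_regAt {S : Finset (Place k K)} {z : K} : z ∈ regAt S ↔ ∀ Q ∈ S, Q.1 z ≤ 1 := by
  simp [regAt, Submodule.mem_iInf, mem_Fil]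

omit [IsAlgClosed k] in
theorem mul_mem_regAt {S : Finset (Place k K)} {h : K} (hh : ∀ Q ∈ S, Q.1 h ≤ 1) (v : regAt S) :
    h * (v : K) ∈ regAt S :=
  mem_regAt.2 fun Q hQ => by rw [map_mul]; exact mul_le_one' (hh Q hQ) (mem_regAt.1 v.2 Q hQ)

/-- Multiplication by a regular function. -/
noncomputable def regMul (S : Finset (Place k K)) (h : K) (hh : ∀ Q ∈ S, Q.1 h ≤ 1) :
    regAt S →ₗ[k] regAt S :=
  ((LinearMap.mulLeft k h).comp (regAt S).subtype).codRestrict _ fun v => mul_mem_regAt hh v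

omit [IsAlgClosed k] in
@[simp] theorem coe_regMul (S : Finset (Place k K)) (h : K) (hh : ∀ Q ∈ S, Q.1 h ≤ 1) (v : regAt S) :
    (regMul S h hh v : K) = h * (v : K) := rfl

theorem FF.finrank_regAt_quot (hF : FF k K) (S : Finset (Place k K)) {h : K} (h0 : h ≠ 0)
    (hh : ∀ Q ∈ S, Q.1 h ≤ 1) :
    Module.Finite k (regAt S ⧸ LinearMap.range (regMul S h hh)) ∧
      (Module.finrank k (regAt S ⧸ LinearMap.range (regMul S h hh)) : ℤ) = ∑ Q ∈ S, Q.ord h := by
  have := hF.finite_residueField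
  let a : Place k K → ℤ := fun Q => -Q.ord h
  have hab : ∀ Q ∈ S, a Q ≤ (fun _ => (0 : ℤ)) Q := fun Q hQ => by
    have := (val_le_one_iff Q).1 (hh Q hQ)
    simp only [a]; omega
  let lm : regAt S →ₗ[k] ((P : S) → RQ (Fil P.1 (a P.1)) (Fil P.1 0)) :=
    locMap S a (fun _ => 0) (regAt S) (fun _ hP => iInf₂_le _ hP)
  have hsurj : Function.Surjective lm := locMap_surjective S a (fun _ => 0) hab
  have hker : LinearMap.ker lm = LinearMap.range (regMul S h hh) := by
    ext v
    constructor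
    · intro hv
      have hv' : ∀ Q ∈ S, Q.1 (v : K) ≤ exp (-Q.ord h) := fun Q hQ =>
        (Submodule.Quotient.mk_eq_zero _).1 (congrFun (LinearMap.mem_ker.1 hv) ⟨Q, hQ⟩)
      refine ⟨⟨(v : K) / h, mem_regAt.2 fun Q hQ => ?_⟩, Subtype.ext ?_⟩
      · rw [map_div₀, val_eq Q h0]
        exact div_le_one_of_le₀ (hv' Q hQ) zero_le
      · rw [coe_regMul]; field_simp
    · rintro ⟨w, rfl⟩
      rw [LinearMap.mem_ker]
      funext Q
      refine (Submodule.Quotient.mk_eq_zero _).2 ?_
      change Q.1.1 (h * (w : K)) ≤ exp (-Q.1.ord h)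
      rw [map_mul, ← val_eq Q.1 h0]
      exact mul_le_of_le_one_right' (mem_regAt.1 w.2 Q.1 Q.2)
  have hq : ∀ Q : S, Module.Finite k (RQ (Fil Q.1 (a Q.1)) (Fil Q.1 0)) ∧
      (Module.finrank k (RQ (Fil Q.1 (a Q.1)) (Fil Q.1 0)) : ℤ) = (0 - a Q.1) * Q.1.deg :=
    fun Q => fil_finrank Q.1 (hab Q.1 Q.2)
  have : ∀ Q : S, Module.Finite k (RQ (Fil Q.1 (a Q.1)) (Fil Q.1 0)) := fun Q => (hq Q).1
  have hrk := finrank_quot_of_surjective (W := fun P : S => RQ (Fil P.1 (a P.1)) (Fil P.1 0))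
    lm hsurj hker
  refine ⟨hrk.1, ?_⟩
  refine (congrArg Nat.cast hrk.2).trans ?_
  rw [Nat.cast_sum, ← Finset.sum_coe_sort S fun Q => Q.ord h]
  refine Finset.sum_congr rfl fun Q _ => (hq Q).2.trans ?_
  rw [hF.deg_eq_one]
  simp [a]

theorem intersectionMult (hK : IsFunctionField k K) {x y : K}
    (hxy : IntermediateField.adjoin k ({x, y} : Set K) = ⊤) {f g : MvPolynomial (Fin 2) k}
    (hf : Irreducible f) (hfxy : aeval ![x, y] f = 0) (hgxy : aeval ![x, y] g ≠ 0) (P : Place k K)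
    (c : Fin 2 → k) (hc : ∀ i, P.1 (![x, y] i - algebraMap k K (c i)) < 1)
    (M : Ideal (MvPolynomial (Fin 2) k)) [M.IsMaximal]
    (hM : M = Ideal.span {X 0 - C (c 0), X 1 - C (c 1)}) :
    ∑ᶠ Q ∈ {Q : Place k K | SameImage ![(1 : K), x, y] P Q}, Q.ord (aeval ![x, y] g) =
      (Module.finrank k (Localization.AtPrime M ⧸
        Ideal.map (algebraMap (MvPolynomial (Fin 2) k) (Localization.AtPrime M))
          (Ideal.span {f, g})) : ℤ) := by
  classical
  have hF : FF k K := hK.1
  set φ : Fin 3 → K := ![(1 : K), x, y] with hφ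
  set ev := aeval (R := k) ![x, y]
  have hPz : ∀ i, P.1 (![x, y] i) ≤ 1 := fun i => by
    rw [show ![x, y] i = (![x, y] i - algebraMap k K (c i)) + algebraMap k K (c i) by ring]
    exact (P.1.map_add _ _).trans (max_le (hc i).le (P.2.1 _))
  have hPmin : IsMin φ P 0 := ⟨one_ne_zero, fun i => by
    fin_cases i
    · exact le_rfl
    · simpa [φ] using hPz 0
    · simpa [φ] using hPz 1⟩
  have hev : ∀ a, ev a ∈ chart k φ 0 := fun a => by
    induction a using MvPolynomial.induction_on with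
    | C r => simp only [ev, algHom_C]; exact Subalgebra.algebraMap_mem _ r
    | add p q hp hq => rw [map_add]; exact add_mem hp hq
    | mul_X p i hp =>
      rw [map_mul, aeval_X]
      refine mul_mem hp ?_
      fin_cases i
      · simpa [φ] using ratio_mem_chart (k := k) φ 1 0
      · simpa [φ] using ratio_mem_chart (k := k) φ 2 0
  have hchart : ∀ u ∈ chart k φ 0, ∃ a, ev a = u := fun u hu => by
    have hle : chart k φ 0 ≤ ev.range := Algebra.adjoin_le (by
      rintro _ ⟨i, rfl⟩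
      fin_cases i
      · exact ⟨1, by simp [φ]⟩
      · exact ⟨X 0, by simp [φ, ev]⟩
      · exact ⟨X 1, by simp [φ, ev]⟩)
    exact hle hu
  -- the maximal ideal of the point
  have hMc : ∀ s, s ∈ M ↔ eval c s = 0 := by
    have hle : M ≤ RingHom.ker (eval c) := by
      rw [hM, Ideal.span_le]
      rintro _ (rfl | rfl) <;> simp
    have heq : M = RingHom.ker (eval c) :=
      Ideal.IsMaximal.eq_of_le inferInstance (RingHom.ker_ne_top _) hle
    intro s
    rw [heq, RingHom.mem_ker]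
  have hPev : ∀ s, P.1 (ev s) = 1 ↔ eval c s ≠ 0 := fun s => by
    have h1 := val_aeval_sub_lt P ![x, y] c hc s
    constructor
    · intro h2 h3
      rw [h3, map_zero, sub_zero, h2] at h1
      exact lt_irrefl _ h1
    · intro h2
      have h4 := P.1.map_add_eq_of_lt_left (x := algebraMap k K (eval c s))
        (y := ev s - algebraMap k K (eval c s)) (by rwa [val_algebraMap P h2])
      rwa [add_sub_cancel, val_algebraMap P h2] at h4
  have hunit : ∀ s : M.primeCompl, IsUnit (ev s) := fun s => isUnit_iff_ne_zero.2 fun h => by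
    have := (hPev s).2 fun h0 => s.2 ((hMc s).2 h0)
    rw [h, map_zero] at this
    exact zero_ne_one this
  let θ : Localization.AtPrime M →ₐ[k] K := IsLocalization.liftAlgHom (M := M.primeCompl) (f := ev) hunit
  have hθalg : ∀ a, θ (algebraMap _ _ a) = ev a := fun a => by simp [θ]
  have hθmk : ∀ a (s : M.primeCompl), θ (IsLocalization.mk' _ a s) * ev s = ev a := fun a s => by
    rw [← hθalg, ← map_mul, IsLocalization.mk'_spec, hθalg]
  have hθmem : ∀ q, θ q ∈ locRing φ P 0 := fun q => by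
    obtain ⟨a, s, rfl⟩ := IsLocalization.exists_mk'_eq M.primeCompl q
    exact ⟨ev a, hev a, ev s, hev s, (hPev s).2 fun h0 => s.2 ((hMc s).2 h0), hθmk a s⟩
  have hθrange : ∀ z ∈ locRing φ P 0, ∃ q, θ q = z := by
    rintro z ⟨u, hu, w, hw, hw1, huw⟩
    obtain ⟨a, rfl⟩ := hchart u hu
    obtain ⟨s, rfl⟩ := hchart w hw
    have hs : s ∈ M.primeCompl := fun h => (hPev s).1 hw1 ((hMc s).1 h)
    refine ⟨IsLocalization.mk' _ a ⟨s, hs⟩, ?_⟩
    refine mul_right_cancel₀ (isUnit_iff_ne_zero.1 (hunit ⟨s, hs⟩)) ?_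
    rw [hθmk, huw]
  -- the fibre
  have hSsub : ∀ Q, SameImage φ P Q → IsMin φ Q 0 ∧ ∀ a ∈ chart k φ 0, P.1 a < 1 → Q.1 a < 1 := fun Q hQ =>
    ⟨SameImage.isMin hF hPmin hQ, fun a ha => (((sameImage_iff hF hPmin).1 hQ) a ha).2⟩
  have hfinS : {Q : Place k K | SameImage φ P Q}.Finite := by
    obtain ⟨i, hi⟩ := exists_transcendental_entry hK hxy
    refine (hF.zeros_finite (![x, y] i - algebraMap k K (c i))).subset fun Q hQ => ?_
    have hmem : ![x, y] i - algebraMap k K (c i) ∈ chart k φ 0 := by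
      have h1 := hev (X i - C (c i))
      simp only [ev, map_sub, aeval_X, algHom_C] at h1
      exact h1
    have hlt := (hSsub Q hQ).2 _ hmem (hc i)
    refine (val_lt_one_iff Q fun e => hi ?_).1 hlt
    rw [sub_eq_zero.1 e]
    exact isAlgebraic_algebraMap _
  set S := hfinS.toFinset
  have memS : ∀ Q, Q ∈ S ↔ SameImage φ P Q := fun Q => hfinS.mem_toFinset
  have hchartS : ∀ u ∈ chart k φ 0, ∀ Q ∈ S, Q.1 u ≤ 1 := fun u hu Q hQ =>
    (hSsub Q ((memS Q).1 hQ)).1.chart_le hu
  have hone : ∀ u ∈ chart k φ 0, P.1 u = 1 → ∀ Q ∈ S, Q.1 u = 1 := by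
    intro u hu h1 Q hQ
    obtain ⟨d, hd⟩ := hF.exists_sub_lt P (hPmin.chart_le hu)
    have hd0 : d ≠ 0 := by rintro rfl; rw [map_zero, sub_zero, h1] at hd; exact lt_irrefl _ hd
    have h2 := (hSsub Q ((memS Q).1 hQ)).2 _ (sub_mem hu (Subalgebra.algebraMap_mem _ d)) hd
    have h4 := Q.1.map_add_eq_of_lt_left (x := algebraMap k K d)
      (y := u - algebraMap k K d) (by rwa [val_algebraMap Q hd0])
    rwa [add_sub_cancel, val_algebraMap Q hd0] at h4
  have hlocS : ∀ z ∈ locRing φ P 0, ∀ Q ∈ S, Q.1 z ≤ 1 := by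
    rintro z ⟨u, hu, w, hw, hw1, huw⟩ Q hQ
    have := hchartS u hu Q hQ
    rwa [← huw, map_mul, hone w hw hw1 Q hQ, mul_one] at this
  -- the conductor
  have hrange : (Set.range fun i => φ i / φ 0) ⊇ {x, y} := by
    rintro _ (rfl | rfl)
    · exact ⟨1, by simp [φ]⟩
    · exact ⟨2, by simp [φ]⟩
  have hbir : IntermediateField.adjoin k (Set.range fun i => φ i / φ 0) = ⊤ :=
    top_le_iff.1 (hxy ▸ IntermediateField.adjoin.mono k _ _ hrange)
  obtain ⟨d, hd, hd0, hdc⟩ := exists_conductor hK φ 0 one_ne_zero hbir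
  have hcond : ∀ z ∈ regAt S, d * z ∈ locRing φ P 0 := by
    intro z hz
    set T : Finset (Place k K) := (hF.finite_one_lt z).toFinset.filter fun Q => IsMin φ Q 0
    have hT : ∀ Q, Q ∈ T ↔ 1 < Q.1 z ∧ IsMin φ Q 0 := fun Q => by
      simp [T, (hF.finite_one_lt z).mem_toFinset]
    obtain ⟨w, hw, hw1, hwT⟩ := hF.exists_sep_pow hPmin T (fun Q hQ => ⟨((hT Q).1 hQ).2, fun hsame =>
      not_lt.2 (mem_regAt.1 hz Q ((memS Q).2 hsame)) ((hT Q).1 hQ).1⟩) (∑ Q ∈ T, (Q.ord z).natAbs)
    refine ⟨d * (z * w), hdc (z * w) fun Q hQ => ?_, w, hw, hw1, by ring⟩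
    rw [map_mul]
    rcases le_or_gt (Q.1 z) 1 with h | h
    · exact mul_le_one' h (hQ.chart_le hw)
    · refine (mul_le_mul' le_rfl (hwT Q ((hT Q).2 ⟨h, hQ⟩))).trans ?_
      have hz0 : z ≠ 0 := fun e => by rw [e, map_zero] at h; exact not_lt_zero h
      rw [val_eq Q hz0, ← exp_add, ← exp_zero, exp_le_exp]
      have : (Q.ord z).natAbs ≤ ∑ R ∈ T, (R.ord z).natAbs :=
        Finset.single_le_sum (f := fun R : Place k K => (R.ord z).natAbs) (fun _ _ => Nat.zero_le _)
          ((hT Q).2 ⟨h, hQ⟩)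
      omega
  -- linear algebra
  set h := ev g
  have hh : ∀ Q ∈ S, Q.1 h ≤ 1 := hchartS h (hev g)
  set U : Submodule k (regAt S) := (Subalgebra.toSubmodule (locRing φ P 0)).comap (regAt S).subtype
  have hU : ∀ v : regAt S, v ∈ U ↔ (v : K) ∈ locRing φ P 0 := fun v => Iff.rfl
  set T := regMul S h hh
  have hTU : U.map T ≤ U := by
    rintro _ ⟨v, hv, rfl⟩
    exact mul_mem (chart_le_locRing φ P 0 (hev g)) ((hU v).1 hv)
  have hTinj : Function.Injective T := fun v w e => Subtype.ext <| by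
    have := congrArg (Subtype.val : regAt S → K) e
    simpa [T, mul_right_inj' hgxy] using this
  have hhd : ∀ Q ∈ S, Q.1 (h * d) ≤ 1 := fun Q hQ => by
    rw [map_mul]; exact mul_le_one' (hh Q hQ) (hchartS d hd Q hQ)
  have : Module.Finite k (regAt S ⧸ U.map T) := by
    have hle : LinearMap.range (regMul S (h * d) hhd) ≤ U.map T := by
      rintro _ ⟨v, rfl⟩
      have hmem := hcond v v.2
      refine ⟨⟨d * (v : K), mem_regAt.2 (hlocS _ hmem)⟩, hmem, Subtype.ext ?_⟩
      simp [T, mul_assoc]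
    have := (hF.finrank_regAt_quot S (mul_ne_zero hgxy hd0) hhd).1
    exact Module.Finite.of_surjective (Submodule.factor hle) (Submodule.factor_surjective hle)
  let θV : Localization.AtPrime M →ₗ[k] regAt S :=
    θ.toLinearMap.codRestrict _ fun q => mem_regAt.2 (hlocS _ (hθmem q))
  have hθV : LinearMap.range θV = U := by
    ext v
    constructor
    · rintro ⟨q, rfl⟩; exact hθmem q
    · intro hv
      obtain ⟨q, hq⟩ := hθrange _ ((hU v).1 hv)
      exact ⟨q, Subtype.ext hq⟩
  set ψ := (U.map T).mkQ.comp θV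
  have hker : RingHom.ker ev = Ideal.span {f} := ker_eq_span_of_irreducible hK hxy hf hfxy
  set J := Ideal.map (algebraMap (MvPolynomial (Fin 2) k) (Localization.AtPrime M)) (Ideal.span {f, g})
  have hψ : LinearMap.ker ψ = J.restrictScalars k := by
    have hker' : ∀ q, θ q = 0 → q ∈ J := by
      intro q hq
      obtain ⟨a, s, rfl⟩ := IsLocalization.exists_mk'_eq M.primeCompl q
      have ha : a ∈ RingHom.ker ev := by rw [RingHom.mem_ker, ← hθmk a s, hq, zero_mul]
      rw [hker] at ha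
      rw [IsLocalization.mk'_eq_mul_mk'_one]
      exact Ideal.mul_mem_right _ _ (Ideal.mem_map_of_mem _ (Ideal.span_mono (by simp) ha))
    ext q
    rw [LinearMap.mem_ker, LinearMap.comp_apply, Submodule.mkQ_apply, Submodule.Quotient.mk_eq_zero,
      Submodule.restrictScalars_mem]
    constructor
    · rintro ⟨v, hv, hvq⟩
      obtain ⟨q', hq'⟩ := hθrange _ ((hU v).1 hv)
      have hq0 : θ (q - algebraMap _ _ g * q') = 0 := by
        rw [map_sub, map_mul, hθalg, hq', sub_eq_zero]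
        exact (congrArg (Subtype.val : regAt S → K) hvq).symm
      have hg' : algebraMap _ _ g * q' ∈ J :=
        Ideal.mul_mem_right _ _ (Ideal.mem_map_of_mem _ (Ideal.subset_span (by simp)))
      simpa using J.add_mem (hker' _ hq0) hg'
    · intro hq
      rw [show J = Ideal.span {algebraMap _ (Localization.AtPrime M) f, algebraMap _ _ g} by
        simp [J, Ideal.map_span, Set.image_pair], Ideal.mem_span_pair] at hq
      obtain ⟨a, b, rfl⟩ := hq
      refine ⟨θV b, hθV ▸ ⟨b, rfl⟩, Subtype.ext ?_⟩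
      change h * θ b = θ _
      have hev0 : ev f = 0 := hfxy
      rw [map_add, map_mul, map_mul, hθalg, hθalg, hev0, mul_zero, zero_add, mul_comm]
  rw [finsum_mem_eq_finite_toFinset_sum _ hfinS, ← (hF.finrank_regAt_quot S hgxy hh).2]
  congr 1
  rw [← finrank_map_mkQ_eq T hTinj U hTU, ← (Submodule.Quotient.restrictScalarsEquiv k J).finrank_eq,
    ← (Submodule.quotEquivOfEq _ _ hψ).finrank_eq, ψ.quotKerEquivRange.finrank_eq]
  rw [LinearMap.range_comp, hθV]

end Groth.Agent.FF30
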