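import Mathlib.Analysis.Complex.Polynomial.Basic
import Mathlib.Analysis.SpecificLimits.Normed
import Mathlib.Topology.MetricSpace.Sequences
import Mathlib.RingTheory.PowerSeries.Derivative
import Mathlib.Algebra.Polynomial.Splits

/-! Power sums of complex numbers and products `∏ (1 - β t)`. -/

open scoped Topology
open Filter

namespace Groth.Agent.FF30

/-- Simultaneous approximate periods on the circle. -/
theorem exists_pow_near_one {σ : Type*} [Fintype σ] (w : σ → ℂ) (hw : ∀ i, ‖w i‖ = 1) {ε : ℝ}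
    (hε : 0 < ε) (N : ℕ) : ∃ n, N ≤ n ∧ ∀ i, ‖w i ^ n - 1‖ < ε := by
  obtain ⟨a, -, φ, hφ, hlim⟩ := tendsto_subseq_of_bounded (x := fun n : ℕ => fun i => w i ^ n)
    (s := Metric.closedBall (0 : σ → ℂ) 1) Metric.isBounded_closedBall (fun n => by
      rw [Metric.mem_closedBall, dist_zero_right, pi_norm_le_iff_of_nonneg zero_le_one]
      intro i
      rw [norm_pow, hw i, one_pow])
  obtain ⟨j₀, hj₀⟩ := Metric.cauchySeq_iff'.mp hlim.cauchySeq ε hε
  refine ⟨φ (φ j₀ + N + j₀) - φ j₀, ?_, fun i => ?_⟩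
  · have : φ j₀ + N + j₀ ≤ φ (φ j₀ + N + j₀) := hφ.id_le _
    omega
  · have h1 := hj₀ (φ j₀ + N + j₀) (by omega)
    have h2 : φ j₀ ≤ φ (φ j₀ + N + j₀) := hφ.monotone (by omega)
    have h3 : dist (w i ^ φ (φ j₀ + N + j₀)) (w i ^ φ j₀) < ε :=
      lt_of_le_of_lt (dist_le_pi_dist (fun i => w i ^ φ (φ j₀ + N + j₀)) (fun i => w i ^ φ j₀) i) h1
    rw [dist_eq_norm] at h3
    have h4 : w i ^ φ (φ j₀ + N + j₀) - w i ^ φ j₀ =
        w i ^ φ j₀ * (w i ^ (φ (φ j₀ + N + j₀) - φ j₀) - 1) := by
      rw [mul_sub, mul_one, ← pow_add, Nat.add_sub_cancel' h2]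
    rw [h4, norm_mul, norm_pow, hw i, one_pow, one_mul] at h3
    exact h3

/-- Power sums bounded above by `C Rⁿ` force all terms to have modulus at most `R`. -/
theorem norm_le_of_powsum_re_le {σ : Type*} [Fintype σ] (β : σ → ℂ) {R C : ℝ} (hR : 0 ≤ R) (N : ℕ)
    (h : ∀ n, N ≤ n → (∑ i, β i ^ n).re ≤ C * R ^ n) (i : σ) : ‖β i‖ ≤ R := by
  classical
  by_contra hlt
  push Not at hlt
  obtain ⟨i₀, -, hmax⟩ := Finset.exists_max_image Finset.univ (fun j => ‖β j‖) ⟨i, Finset.mem_univ i⟩
  set M := ‖β i₀‖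
  have hRM : R < M := lt_of_lt_of_le hlt (hmax i (Finset.mem_univ i))
  have hM : 0 < M := lt_of_le_of_lt hR hRM
  set T := Finset.univ.filter fun j => ‖β j‖ = M
  have hT : i₀ ∈ T := by simp [T, M]
  have hsmall : ∀ᶠ n : ℕ in atTop,
      (∑ j ∈ Finset.univ.filter (fun j => ¬ ‖β j‖ = M), (‖β j‖ / M) ^ n) + |C| * (R / M) ^ n <
        1 / 2 := by
    have h0 : Tendsto (fun n : ℕ =>
        (∑ j ∈ Finset.univ.filter (fun j => ¬ ‖β j‖ = M), (‖β j‖ / M) ^ n) + |C| * (R / M) ^ n)
        atTop (𝓝 ((∑ _j ∈ Finset.univ.filter (fun j => ¬ ‖β j‖ = M), (0 : ℝ)) + |C| * 0)) := by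
      refine Tendsto.add (tendsto_finsetSum _ fun j hj => ?_) (Tendsto.const_mul _ ?_)
      · refine tendsto_pow_atTop_nhds_zero_of_lt_one (by positivity) ?_
        rw [div_lt_one hM]
        exact lt_of_le_of_ne (hmax j (Finset.mem_univ j)) (Finset.mem_filter.mp hj).2
      · exact tendsto_pow_atTop_nhds_zero_of_lt_one (by positivity) ((div_lt_one hM).mpr hRM)
    simp only [Finset.sum_const_zero, mul_zero, add_zero] at h0
    exact h0.eventually_lt_const (by norm_num)
  obtain ⟨N₁, hN₁⟩ := eventually_atTop.mp hsmall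
  have hw : ∀ j : T, ‖β j.1 / (M : ℂ)‖ = 1 := fun j => by
    rw [norm_div, Complex.norm_real, Real.norm_eq_abs, abs_of_pos hM,
      (Finset.mem_filter.mp j.2).2, div_self hM.ne']
  obtain ⟨n, hn, hnear⟩ := exists_pow_near_one (fun j : T => β j.1 / (M : ℂ)) hw
    (show (0 : ℝ) < 1 / 4 by norm_num) (N + N₁)
  have hMn : (0 : ℝ) < M ^ n := pow_pos hM n
  have hbig : ∀ j ∈ T, (3 / 4) * M ^ n ≤ (β j ^ n).re := by
    intro j hj
    have h1 := (Complex.abs_re_le_norm _).trans (hnear ⟨j, hj⟩).le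
    have h2 : β j ^ n = ((M ^ n : ℝ) : ℂ) * (β j / (M : ℂ)) ^ n := by
      rw [Complex.ofReal_pow, ← mul_pow, mul_div_cancel₀ _ (Complex.ofReal_ne_zero.mpr hM.ne')]
    rw [h2, Complex.re_ofReal_mul]
    rw [Complex.sub_re, Complex.one_re] at h1
    have h3 := (abs_le.mp h1).1
    nlinarith
  have hrest : -((∑ j ∈ Finset.univ.filter (fun j => ¬ ‖β j‖ = M), (‖β j‖ / M) ^ n) * M ^ n) ≤
      ∑ j ∈ Finset.univ.filter (fun j => ¬ ‖β j‖ = M), (β j ^ n).re := by
    rw [Finset.sum_mul, ← Finset.sum_neg_distrib]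
    refine Finset.sum_le_sum fun j _ => ?_
    rw [div_pow, div_mul_cancel₀ _ hMn.ne', ← norm_pow]
    exact (abs_le.mp (Complex.abs_re_le_norm _)).1
  have hsum := h n (by omega)
  rw [Complex.re_sum, ← Finset.sum_filter_add_sum_filter_not Finset.univ (fun j => ‖β j‖ = M)] at hsum
  have hfirst : (3 / 4) * M ^ n ≤ ∑ j ∈ T, (β j ^ n).re :=
    (hbig i₀ hT).trans (Finset.single_le_sum (f := fun j => (β j ^ n).re)
      (fun j hj => le_trans (by positivity) (hbig j hj)) hT)
  have hC : C * R ^ n ≤ |C| * (R / M) ^ n * M ^ n := by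
    rw [div_pow, mul_assoc, div_mul_cancel₀ _ hMn.ne']
    exact mul_le_mul_of_nonneg_right (le_abs_self C) (pow_nonneg hR n)
  have hlt2 := mul_lt_mul_of_pos_right (hN₁ n (by omega)) hMn
  linarith

/-- Power sums of numbers `≠ R` of modulus at most `R` are not eventually `≥ c Rⁿ`. -/
theorem not_powsum_re_ge {σ : Type*} [Fintype σ] (β : σ → ℂ) {R c : ℝ} (hR : 0 < R) (hc : 0 < c)
    (hle : ∀ i, ‖β i‖ ≤ R) (hne : ∀ i, β i ≠ (R : ℂ)) (N : ℕ) :
    ¬ ∀ n, N ≤ n → c * R ^ n ≤ (∑ i, β i ^ n).re := by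
  intro h
  set w := fun i => β i / (R : ℂ)
  set B := ∑ i, 2 / ‖w i - 1‖
  obtain ⟨L, hL⟩ := exists_nat_gt (B / c)
  have hw1 : ∀ i, w i ≠ 1 := fun i h1 => hne i
    ((div_eq_one_iff_eq (Complex.ofReal_ne_zero.mpr hR.ne')).mp h1)
  have hwle : ∀ i, ‖w i‖ ≤ 1 := fun i => by
    rw [norm_div, Complex.norm_real, Real.norm_eq_abs, abs_of_pos hR]
    exact div_le_one_of_le₀ (hle i) hR.le
  have hlow : (L : ℝ) * c ≤ (∑ i, ∑ n ∈ Finset.range L, w i ^ (N + n)).re := by
    rw [Finset.sum_comm, Complex.re_sum]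
    have h1 : ∀ n ∈ Finset.range L, c ≤ (∑ i, w i ^ (N + n)).re := by
      intro n _
      have h2 := h (N + n) (by omega)
      have h3 : ∑ i, w i ^ (N + n) = (((R ^ (N + n))⁻¹ : ℝ) : ℂ) * ∑ i, β i ^ (N + n) := by
        rw [Finset.mul_sum]
        refine Finset.sum_congr rfl fun i _ => ?_
        simp only [w, div_pow, Complex.ofReal_inv, Complex.ofReal_pow]
        rw [div_eq_inv_mul]
      rw [h3, Complex.re_ofReal_mul, le_inv_mul_iff₀ (pow_pos hR _)]
      linarith [mul_comm c (R ^ (N + n))]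
    have h4 := Finset.sum_le_sum h1
    simpa using h4
  have hup : (∑ i, ∑ n ∈ Finset.range L, w i ^ (N + n)).re ≤ B := by
    refine (Complex.re_le_norm _).trans ((norm_sum_le _ _).trans (Finset.sum_le_sum fun i _ => ?_))
    simp only [pow_add, ← Finset.mul_sum, geom_sum_eq (hw1 i), norm_mul, norm_pow, norm_div]
    refine (mul_le_of_le_one_left (by positivity) (pow_le_one₀ (norm_nonneg _) (hwle i))).trans ?_
    gcongr
    refine (norm_sub_le _ _).trans ?_
    rw [norm_pow, norm_one]
    linarith [pow_le_one₀ (n := L) (norm_nonneg (w i)) (hwle i)]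
  have := (div_lt_iff₀ hc).mp hL
  linarith

open PowerSeries in
/-- The logarithmic derivative of `∏ (1 - β t)`. -/
theorem logDeriv_prod {σ : Type*} [DecidableEq σ] (s : Finset σ) (β : σ → ℂ) :
    X * (d⁄dX ℂ (∏ i ∈ s, (1 - C (β i) * X))) =
      -((∏ i ∈ s, (1 - C (β i) * X)) *
        PowerSeries.mk fun n => if n = 0 then 0 else ∑ i ∈ s, β i ^ n) := by
  induction s using Finset.induction_on with
  | empty => ext n; simp
  | @insert a s ha ih =>
    set P := ∏ i ∈ s, (1 - C (β i) * X)
    have h1 : X * (d⁄dX ℂ (1 - C (β a) * X)) =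
        -((1 - C (β a) * X) * PowerSeries.mk fun n => if n = 0 then 0 else β a ^ n) := by
      rw [map_sub, Derivation.map_one_eq_zero, zero_sub, Derivation.leibniz, derivative_C,
        derivative_X]
      ext n
      rcases n with _ | n
      · simp
      · simp only [smul_eq_mul, smul_zero, add_zero, mul_one, mul_neg, map_neg, sub_mul, one_mul,
          map_sub, mul_assoc, coeff_succ_X_mul, coeff_mk, coeff_C_mul, coeff_C]
        rcases n with _ | n
        · simp
        · simp [pow_succ, mul_comm]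
    have h2 : (PowerSeries.mk fun n => if n = 0 then (0 : ℂ) else ∑ i ∈ insert a s, β i ^ n) =
        (PowerSeries.mk fun n => if n = 0 then (0 : ℂ) else β a ^ n) +
        (PowerSeries.mk fun n => if n = 0 then (0 : ℂ) else ∑ i ∈ s, β i ^ n) := by
      ext n
      rw [map_add, coeff_mk, coeff_mk, coeff_mk]
      split_ifs
      · rw [add_zero]
      · rw [Finset.sum_insert ha]
    rw [Finset.prod_insert ha, Derivation.leibniz, h2, smul_eq_mul, smul_eq_mul]
    linear_combination P * h1 + (1 - C (β a) * X) * ih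

open Polynomial in
/-- A polynomial with constant term one is a product `∏ (1 - β X)`. -/
theorem exists_prod_one_sub (P : ℂ[X]) (h0 : P.coeff 0 = 1) :
    ∃ β : Fin P.natDegree → ℂ, (∀ i, β i ≠ 0) ∧ P = ∏ i, (1 - C (β i) * X) := by
  have hP0 : P ≠ 0 := fun h => by simp [h] at h0
  have hs : P.Splits := IsAlgClosed.splits P
  have hcard : P.roots.toList.length = P.natDegree := by
    rw [Multiset.length_toList, ← hs.natDegree_eq_card_roots]
  set r : Fin P.natDegree → ℂ := fun i => P.roots.toList.get (i.cast hcard.symm)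
  have hprod : P = C P.leadingCoeff * ∏ i, (X - C (r i)) := by
    conv_lhs => rw [hs.eq_prod_roots]
    congr 1
    rw [← Fin.prod_congr' _ hcard, ← List.prod_ofFn]
    rw [show (fun i : Fin P.roots.toList.length => X - C (r (Fin.cast hcard i))) =
      (fun x : ℂ => X - C x) ∘ P.roots.toList.get from funext fun i => by simp [r],
      ← List.map_ofFn, List.ofFn_get, ← Multiset.prod_coe, ← Multiset.map_coe, Multiset.coe_toList]
  have hr : ∀ i, r i ≠ 0 := by
    intro i hi
    have h1 := congrArg (fun q : ℂ[X] => q.coeff 0) hprod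
    simp only [h0, coeff_C_mul, coeff_zero_prod, coeff_sub, coeff_X_zero, coeff_C_zero] at h1
    rw [Finset.prod_eq_zero (Finset.mem_univ i) (by simp [hi]), mul_zero] at h1
    exact one_ne_zero h1
  refine ⟨fun i => (r i)⁻¹, fun i => inv_ne_zero (hr i), ?_⟩
  have hC : ∀ i, X - C (r i) = C (-r i) * (1 - C (r i)⁻¹ * X) := fun i => by
    rw [mul_sub, ← mul_assoc, ← C_mul, mul_one, neg_mul, mul_inv_cancel₀ (hr i)]
    simp
    ring
  have h2 : P = C (P.leadingCoeff * ∏ i, -r i) * ∏ i, (1 - C (r i)⁻¹ * X) := by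
    conv_lhs => rw [hprod]
    simp only [hC, Finset.prod_mul_distrib, C_mul, map_prod, mul_assoc]
  have h3 : P.leadingCoeff * ∏ i, -r i = 1 := by
    have h1 := congrArg (fun q : ℂ[X] => q.coeff 0) h2
    simp only [h0, coeff_C_mul, coeff_zero_prod, coeff_sub, coeff_one_zero, coeff_X_zero, mul_zero,
      sub_zero, Finset.prod_const_one, mul_one] at h1
    exact h1.symm
  rwa [h3, C_1, one_mul] at h2

/-- Numbering a multiset closed under `x ↦ q / x` by pairs. -/
theorem exists_paired (g : ℕ) :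
    ∀ (q : ℂ) (S : Multiset ℂ), q ≠ 0 → S.card = 2 * g → (∀ x ∈ S, x ≠ 0) →
      S.map (fun x => q / x) = S → S.prod = q ^ g →
      ∃ α : Fin (2 * g) → ℂ, Finset.univ.val.map α = S ∧ ∀ i, α i * α i.rev = q := by
  induction g with
  | zero =>
    intro q S _ hS _ _ _
    refine ⟨fun i => Fin.elim0 i, ?_, fun i => Fin.elim0 i⟩
    have hS0 : S = 0 := Multiset.card_eq_zero.mp (by simpa using hS)
    rw [hS0]
    rfl
  | succ g ih =>
    intro q S hq hS h0 hinv hprod
    obtain ⟨x, hx⟩ : ∃ x ∈ S, q / x ∈ S.erase x := by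
      by_contra hcon
      push Not at hcon
      have hself : ∀ x ∈ S, q / x = x := fun x hx => by
        by_contra hne
        exact hcon x hx ((Multiset.mem_erase_of_ne hne).mpr (hinv ▸ Multiset.mem_map_of_mem _ hx))
      have hnd : S.Nodup := by
        rw [Multiset.nodup_iff_count_le_one]
        intro x
        by_contra hlt
        push Not at hlt
        have hx : x ∈ S := Multiset.count_pos.mp (by omega)
        refine hcon x hx ?_
        rw [hself x hx, ← Multiset.count_pos, Multiset.count_erase_self]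
        omega
      have hcard : S.card ≤ 2 := by
        obtain ⟨x₀, hx₀⟩ := Multiset.card_pos_iff_exists_mem.mp (by omega : 0 < S.card)
        rw [← Multiset.toFinset_card_of_nodup hnd]
        refine (Finset.card_le_card (t := {x₀, -x₀}) fun y hy => ?_).trans Finset.card_le_two
        rw [Multiset.mem_toFinset] at hy
        have e1 := (div_eq_iff (h0 y hy)).mp (hself y hy)
        have e2 := (div_eq_iff (h0 x₀ hx₀)).mp (hself x₀ hx₀)
        simpa [Finset.mem_insert] using mul_self_eq_mul_self_iff.mp (e1.symm.trans e2)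
      obtain ⟨a, b, rfl⟩ := Multiset.card_eq_two.mp (by omega : S.card = 2)
      have hg : g = 0 := by simp at hS; omega
      subst hg
      have hab : a ≠ b := by
        intro he
        simp [he] at hnd
      have ea := (div_eq_iff (h0 a (by simp))).mp (hself a (by simp))
      have eb := (div_eq_iff (h0 b (by simp))).mp (hself b (by simp))
      have hneg : b = -a := ((mul_self_eq_mul_self_iff.mp (eb.symm.trans ea)).resolve_left fun h => hab h.symm)
      simp only [Multiset.insert_eq_cons, Multiset.prod_cons, Multiset.prod_singleton, zero_add,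
        pow_one, hneg, mul_neg, ← ea] at hprod
      exact hq (by linear_combination (-1 / 2 : ℂ) * hprod)
    obtain ⟨hx, hy⟩ := hx
    set S' := (S.erase x).erase (q / x)
    have hS' : S = x ::ₘ (q / x) ::ₘ S' := by
      rw [Multiset.cons_erase hy, Multiset.cons_erase hx]
    have hx0 := h0 x hx
    have hmem' : ∀ z ∈ S', z ∈ S := fun z hz => Multiset.mem_of_mem_erase (Multiset.mem_of_mem_erase hz)
    have hinv' : S'.map (fun z => q / z) = S' := by
      have h1 := hinv
      rw [hS', Multiset.map_cons, Multiset.map_cons, div_div_cancel₀ hq, Multiset.cons_swap,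
        Multiset.cons_inj_right, Multiset.cons_inj_right] at h1
      exact h1
    obtain ⟨α, hα, hpair⟩ := ih q S' hq
      (by rw [hS', Multiset.card_cons, Multiset.card_cons] at hS; omega)
      (fun z hz => h0 z (hmem' z hz)) hinv' (by
        have h1 := hprod
        rw [hS', Multiset.prod_cons, Multiset.prod_cons, ← mul_assoc, mul_div_cancel₀ _ hx0,
          pow_succ'] at h1
        exact mul_left_cancel₀ hq h1)
    let β : Fin (2 * g + 1 + 1) → ℂ := Fin.cons x (Fin.snoc α (q / x))
    have he : 2 * (g + 1) = 2 * g + 1 + 1 := by ring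
    refine ⟨fun i => β (i.cast he), ?_, fun i => ?_⟩
    · rw [hS', ← hα]
      have h1 : Finset.univ.val.map β = x ::ₘ (q / x) ::ₘ Finset.univ.val.map α := by
        simp only [β, Fin.univ_val_map, List.ofFn_cons, List.ofFn_succ' (f := Fin.snoc α (q / x)),
          Fin.snoc_castSucc, Fin.snoc_last, List.concat_eq_append, ← Multiset.cons_coe,
          ← Multiset.coe_add, Multiset.coe_singleton, Multiset.coe_nil, add_zero]
        rw [add_comm, Multiset.cons_add, zero_add]
      rw [← h1]
      simp [Fin.univ_val_map, List.ofFn_congr he.symm]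
    · dsimp only
      rw [Fin.cast_rev]
      generalize i.cast he = j
      simp only [β]
      refine Fin.cases ?_ (fun j => ?_) j
      · rw [Fin.rev_zero, Fin.cons_zero, ← Fin.succ_last, Fin.cons_succ, Fin.snoc_last,
          mul_div_cancel₀ _ hx0]
      · rw [Fin.cons_succ, Fin.rev_succ]
        refine Fin.lastCases ?_ (fun j => ?_) j
        · rw [Fin.snoc_last, Fin.rev_last, Fin.castSucc_zero, Fin.cons_zero, div_mul_cancel₀ _ hx0]
        · rw [Fin.snoc_castSucc, Fin.rev_castSucc, ← Fin.succ_castSucc, Fin.cons_succ,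
            Fin.snoc_castSucc]
          exact hpair j

end Groth.Agent.FF30
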