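import Groth.Agent.FF30.IntClosure
import Groth.Agent.FF30.Ramif
import Groth.Agent.FF30.AlgClosed
import Groth.Agent.FF30.RR
import Mathlib.FieldTheory.Minpoly.IsIntegrallyClosed
import Mathlib.FieldTheory.Minpoly.Field

/-! Quadratic extensions `y² + ε y = f` of function fields. -/

open FunFld WithZero Polynomial
open scoped Multiplicative

namespace Groth.Agent.FF30

section basic

variable {F K : Type*} [Field F] [Field K] [Algebra F K]

theorem exists_repr_quadratic (hdeg : Module.finrank F K = 2) {y : K}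
    (hy : y ∉ Set.range (algebraMap F K)) (z : K) :
    ∃ u v : F, z = algebraMap F K u + algebraMap F K v * y := by
  classical
  have hli : LinearIndependent F ![(1 : K), y] := by
    rw [LinearIndependent.pair_iff]
    intro a b hab
    rw [Algebra.smul_def, Algebra.smul_def, mul_one] at hab
    have hb : b = 0 := by
      by_contra hb
      refine hy ⟨-a / b, ?_⟩
      have hb' : algebraMap F K b ≠ 0 := by simpa using hb
      rw [map_div₀, map_neg, div_eq_iff hb']
      linear_combination -hab
    subst hb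
    simp only [map_zero, zero_mul, add_zero, map_eq_zero] at hab
    exact ⟨hab, rfl⟩
  have hspan := hli.span_eq_top_of_card_eq_finrank (by rw [Fintype.card_fin, hdeg])
  have hz : z ∈ Submodule.span F (Set.range ![(1 : K), y]) := hspan ▸ Submodule.mem_top
  rw [Submodule.mem_span_range_iff_exists_fun] at hz
  obtain ⟨c, hc⟩ := hz
  refine ⟨c 0, c 1, ?_⟩
  rw [← hc, Fin.sum_univ_two]
  simp [Algebra.smul_def]

theorem repr_unique {y : K} (hy : y ∉ Set.range (algebraMap F K)) {u v u' v' : F}
    (h : algebraMap F K u + algebraMap F K v * y = algebraMap F K u' + algebraMap F K v' * y) :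
    u = u' ∧ v = v' := by
  have hv : v = v' := by
    by_contra hne
    refine hy ⟨(u' - u) / (v - v'), ?_⟩
    have h0 : algebraMap F K v - algebraMap F K v' ≠ 0 := by rwa [sub_ne_zero, (algebraMap F K).injective.ne_iff]
    rw [map_div₀, map_sub, map_sub, div_eq_iff h0]
    linear_combination -h
  subst hv
  exact ⟨(algebraMap F K).injective (add_right_cancel h), rfl⟩

theorem finite_of_finrank_two (hdeg : Module.finrank F K = 2) : FiniteDimensional F K :=
  Module.finite_of_finrank_pos (by omega)

theorem adjoin_eq_top_quadratic (hdeg : Module.finrank F K = 2) {y : K}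
    (hy : y ∉ Set.range (algebraMap F K)) : Algebra.adjoin F ({y} : Set K) = ⊤ := by
  rw [eq_top_iff]
  intro z _
  obtain ⟨u, v, rfl⟩ := exists_repr_quadratic hdeg hy z
  exact add_mem (Subalgebra.algebraMap_mem _ u)
    (mul_mem (Subalgebra.algebraMap_mem _ v) (Algebra.self_mem_adjoin_singleton F y))

theorem intermediate_eq_top_quadratic (hdeg : Module.finrank F K = 2) {y : K}
    (hy : y ∉ Set.range (algebraMap F K)) : IntermediateField.adjoin F ({y} : Set K) = ⊤ :=
  IntermediateField.adjoin_eq_top_of_algebra _ _ (adjoin_eq_top_quadratic hdeg hy)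

theorem minpoly_quadratic {w : K} (hw : w ∉ Set.range (algebraMap F K)) {S N : F}
    (h : w ^ 2 - algebraMap F K S * w + algebraMap F K N = 0) :
    minpoly F w = X ^ 2 - C S * X + C N := by
  have hm : (X ^ 2 - C S * X + C N : F[X]).Monic := by monicity!
  have hd : (X ^ 2 - C S * X + C N : F[X]).natDegree = 2 := by compute_degree!
  have haev : aeval w (X ^ 2 - C S * X + C N : F[X]) = 0 := by simpa using h
  have hint : IsIntegral F w := ⟨_, hm, haev⟩
  refine (Polynomial.eq_of_monic_of_dvd_of_natDegree_le (minpoly.monic hint) hm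
    (minpoly.dvd F w haev) ?_).symm
  rw [hd]
  exact minpoly.two_le_natDegree_iff hint |>.mpr hw

end basic

variable {k F K : Type*} [Field k] [Field F] [Algebra k F] [Field K] [Algebra k K] [Algebra F K]
  [IsScalarTower k F K]

theorem algebraO (P : Place k F) :
    ∃ (_ : Algebra P.O K), IsScalarTower P.O F K :=
  ⟨((algebraMap F K).comp P.O.subtype).toAlgebra, by
    let _ : Algebra P.O K := ((algebraMap F K).comp P.O.subtype).toAlgebra
    exact IsScalarTower.of_algebraMap_eq fun _ => rfl⟩

/-- Regularity above a place, by the trace and the norm. -/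
theorem FF.quadratic_regular (hF : FF k F) (hdeg : Module.finrank F K = 2) (P : Place k F) {w : K}
    (hw : w ∉ Set.range (algebraMap F K)) {S N : F}
    (h : w ^ 2 - algebraMap F K S * w + algebraMap F K N = 0) :
    (∀ Q : Place k K, IsOver Q P → Q.1 w ≤ 1) ↔ P.1 S ≤ 1 ∧ P.1 N ≤ 1 := by
  have := finite_of_finrank_two hdeg
  obtain ⟨_, _⟩ := algebraO (K := K) P
  rw [← hF.isIntegral_iff P w]
  constructor
  · intro hint
    have h1 := minpoly.isIntegrallyClosed_eq_field_fractions' F hint
    rw [minpoly_quadratic hw h] at h1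
    have hS := congrArg (fun q : F[X] => q.coeff 1) h1
    have hN := congrArg (fun q : F[X] => q.coeff 0) h1
    simp [coeff_X_pow] at hS hN
    refine ⟨?_, hN ▸ ((minpoly P.O w).coeff 0).2⟩
    rw [← Valuation.map_neg, hS]
    exact ((minpoly P.O w).coeff 1).2
  · rintro ⟨hS, hN⟩
    refine ⟨X ^ 2 - C (⟨S, hS⟩ : P.O) * X + C (⟨N, hN⟩ : P.O), by monicity!, ?_⟩
    simp only [eval₂_add, eval₂_sub, eval₂_pow, eval₂_X, eval₂_mul, eval₂_C, algebraMap_O]
    exact h

theorem quadratic_relation {y : K} {ε f u v : F}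
    (heq : y ^ 2 + algebraMap F K ε * y = algebraMap F K f) :
    (algebraMap F K u + algebraMap F K v * y) ^ 2 -
      algebraMap F K (2 * u - ε * v) * (algebraMap F K u + algebraMap F K v * y) +
      algebraMap F K (u ^ 2 - ε * u * v - v ^ 2 * f) = 0 := by
  simp only [map_sub, map_mul, map_pow, map_ofNat]
  linear_combination (algebraMap F K v) ^ 2 * heq

/-- `L` of a pulled back divisor, by trace and norm. -/
theorem FF.mem_L_conorm_iff (hF : FF k F) (hdeg : Module.finrank F K = 2) {y : K}
    (hy : y ∉ Set.range (algebraMap F K)) {ε f : F}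
    (heq : y ^ 2 + algebraMap F K ε * y = algebraMap F K f) (A : Divisor k F) (u v : F) :
    algebraMap F K u + algebraMap F K v * y ∈ L (conorm K A) ↔
      ∀ P : Place k F, P.1 (2 * u - ε * v) ≤ exp (A P) ∧
        P.1 (u ^ 2 - ε * u * v - v ^ 2 * f) ≤ exp (A P) * exp (A P) ∧ (v = 0 → P.1 u ≤ exp (A P)) := by
  have := finite_of_finrank_two hdeg
  set w := algebraMap F K u + algebraMap F K v * y
  have key : ∀ P : Place k F, (∀ Q : Place k K, IsOver Q P → Q.1 w ≤ exp (conorm K A Q)) ↔
      (P.1 (2 * u - ε * v) ≤ exp (A P) ∧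
        P.1 (u ^ 2 - ε * u * v - v ^ 2 * f) ≤ exp (A P) * exp (A P) ∧ (v = 0 → P.1 u ≤ exp (A P))) := by
    intro P
    obtain ⟨c, hc0, hc⟩ := exists_val_eq P (-A P)
    have hPc : ∀ z : F, P.1 (c * z) ≤ 1 ↔ P.1 z ≤ exp (A P) := fun z => by
      rw [map_mul, hc, ← mul_le_mul_iff_right₀ (show (0 : WithZero (Multiplicative ℤ)) < exp (-A P) from exp_pos)
        (b := P.1 z) (c := exp (A P))]
      rw [← exp_add, neg_add_cancel, exp_zero]
    have hQc : (∀ Q : Place k K, IsOver Q P → Q.1 w ≤ exp (conorm K A Q)) ↔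
        ∀ Q : Place k K, IsOver Q P → Q.1 (algebraMap F K c * w) ≤ 1 := by
      refine forall₂_congr fun Q hQ => ?_
      obtain ⟨e, he⟩ := hQ
      rw [hF.conorm_apply A he, map_mul, he c, hc, ← exp_nsmul, nsmul_eq_mul,
        ← mul_le_mul_iff_right₀ (show (0 : WithZero (Multiplicative ℤ)) < exp ((e : ℤ) * -A P) from exp_pos)
        (b := Q.1 w) (c := exp ((e : ℤ) * A P))]
      rw [← exp_add, ← mul_add, neg_add_cancel, mul_zero, exp_zero]
    rw [hQc]
    rcases eq_or_ne v 0 with rfl | hv
    · have hw : algebraMap F K c * w = algebraMap F K (c * u) := by simp [w, map_mul]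
      rw [hw]
      constructor
      · intro h
        obtain ⟨Q, e, he⟩ := hF.exists_over (K' := K) P
        have h1 : P.1 u ≤ exp (A P) := (hPc u).mp ((isOverWith_le_one_iff he _).mp (h Q ⟨e, he⟩))
        refine ⟨?_, ?_, fun _ => h1⟩
        · rw [mul_zero, sub_zero, two_mul]
          exact (P.1.map_add _ _).trans (max_le h1 h1)
        · rw [mul_zero, sub_zero, zero_pow two_ne_zero, zero_mul, sub_zero, sq, map_mul]
          exact mul_le_mul' h1 h1
      · rintro ⟨-, -, h1⟩ Q ⟨e, he⟩
        exact (isOverWith_le_one_iff he _).mpr ((hPc u).mpr (h1 rfl))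
    · have hw : algebraMap F K c * w ∉ Set.range (algebraMap F K) := by
        rintro ⟨r, hr⟩
        simp only [w, mul_add, ← mul_assoc, ← map_mul] at hr
        have := repr_unique hy (u := r) (v := 0) (u' := c * u) (v' := c * v) (by simpa using hr)
        exact mul_ne_zero hc0 hv this.2.symm
      rw [hF.quadratic_regular hdeg P hw (S := c * (2 * u - ε * v))
        (N := c * (c * (u ^ 2 - ε * u * v - v ^ 2 * f))) (by
          have h := quadratic_relation (u := u) (v := v) heq
          rw [map_mul (algebraMap F K) c, map_mul (algebraMap F K) c, map_mul (algebraMap F K) c]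
          linear_combination (algebraMap F K c) ^ 2 * h), hPc, hPc]
      have hiff : ∀ z : F, P.1 (c * z) ≤ exp (A P) ↔ P.1 z ≤ exp (A P) * exp (A P) := fun z => by
        rw [map_mul, hc, ← mul_le_mul_iff_right₀ (show (0 : WithZero (Multiplicative ℤ)) < exp (-A P) from exp_pos)
          (b := P.1 z) (c := exp (A P) * exp (A P))]
        rw [← mul_assoc, ← exp_add, neg_add_cancel, exp_zero, one_mul]
      rw [hiff]
      exact ⟨fun h => ⟨h.1, h.2, fun h0 => absurd h0 hv⟩, fun h => ⟨h.1, h.2.1⟩⟩
  constructor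
  · exact fun h P => (key P).mp fun Q _ => h Q
  · intro h Q
    obtain ⟨P, e, -, he⟩ := hF.exists_isOverWith Q
    exact (key P).mpr (h P) Q ⟨e, he⟩

/-- A quadratic extension splits `L` as a direct sum. -/
theorem ell_conorm_eq_add (hF : FF k F) (hdeg : Module.finrank F K = 2) {y : K}
    (hy : y ∉ Set.range (algebraMap F K)) (A B B' : Divisor k F)
    (h : ∀ u v : F, algebraMap F K u + algebraMap F K v * y ∈ L (conorm K A) ↔ u ∈ L B ∧ v ∈ L B') :
    ell (conorm K A) = ell B + ell B' := by
  have := hF.finite_L B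
  have := hF.finite_L B'
  let Φ : (L B × L B') →ₗ[k] L (conorm K A) :=
    { toFun := fun p => ⟨algebraMap F K p.1 + algebraMap F K p.2 * y, (h _ _).mpr ⟨p.1.2, p.2.2⟩⟩
      map_add' := fun p q => Subtype.ext (by simp [add_mul]; abel)
      map_smul' := fun c p => Subtype.ext (by
        simp only [Prod.smul_fst, Prod.smul_snd, Submodule.coe_smul, RingHom.id_apply, smul_add]
        rw [Algebra.smul_def c (algebraMap F K _), Algebra.smul_def c (_ * y), Algebra.smul_def c,
          Algebra.smul_def c, map_mul, map_mul, ← IsScalarTower.algebraMap_apply, mul_assoc]) }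
  have hbij : Function.Bijective Φ := by
    constructor
    · rintro ⟨a, b⟩ ⟨a', b'⟩ he
      obtain ⟨h1, h2⟩ := repr_unique hy (congrArg Subtype.val he)
      exact Prod.ext (Subtype.ext h1) (Subtype.ext h2)
    · rintro ⟨z, hz⟩
      obtain ⟨u, v, rfl⟩ := exists_repr_quadratic hdeg hy z
      exact ⟨(⟨u, ((h u v).mp hz).1⟩, ⟨v, ((h u v).mp hz).2⟩), rfl⟩
  rw [ell, ← (LinearEquiv.ofBijective Φ hbij).finrank_eq, Module.finrank_prod]
  rfl

/-- Degrees grow along extensions. -/
theorem deg_le_of_isOver (hF : FF k F) [FiniteDimensional F K] {Q : Place k K} {P : Place k F}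
    (hQ : IsOver Q P) : P.deg ≤ Q.deg := by
  have h := isOverWith_ramIdx hQ
  have := (hF.extension K).finite_residueField Q
  let g : P.O →+* Q.O := ((algebraMap F K).comp P.O.subtype).codRestrict Q.O.toSubring fun a =>
    (isOverWith_le_one_iff h _).mpr a.2
  have : IsLocalHom g := ⟨fun a ha => by
    by_contra hna
    have hlt : P.1 (a : F) < 1 :=
      (Valuation.mem_maximalIdeal_iff (v := P.1)).mp ((IsLocalRing.mem_maximalIdeal a).mpr hna)
    have hQlt : Q.1 ((g a : Q.O) : K) < 1 := by
      change Q.1 (algebraMap F K (a : F)) < 1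
      rw [h, pow_lt_one_iff_of_nonneg zero_le (isOverWith_pos h).ne']
      exact hlt
    exact (IsLocalRing.mem_maximalIdeal (g a)).mp ((Valuation.mem_maximalIdeal_iff (v := Q.1)).mpr hQlt) ha⟩
  let φ : IsLocalRing.ResidueField P.O →ₐ[k] IsLocalRing.ResidueField Q.O :=
    { IsLocalRing.ResidueField.map g with
      commutes' := fun c => by
        change IsLocalRing.residue Q.O (g (algebraMap k P.O c)) = IsLocalRing.residue Q.O (algebraMap k Q.O c)
        congr 1
        exact Subtype.ext (IsScalarTower.algebraMap_apply k F K c).symm }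
  have hmodP : (IsLocalRing.instModuleResidueFieldOfAlgebra P.O : Module k (IsLocalRing.ResidueField P.O)) =
      Algebra.toModule :=
    Module.ext' _ _ fun c r => (residue_smul_eq_mul P c r).trans (Algebra.smul_def c r).symm
  have hmodQ : (IsLocalRing.instModuleResidueFieldOfAlgebra Q.O : Module k (IsLocalRing.ResidueField Q.O)) =
      Algebra.toModule :=
    Module.ext' _ _ fun c r => (residue_smul_eq_mul Q c r).trans (Algebra.smul_def c r).symm
  have hP : P.deg = @Module.finrank k (IsLocalRing.ResidueField P.O) _ _ Algebra.toModule := by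
    rw [← hmodP]; rfl
  have hQ' : Q.deg = @Module.finrank k (IsLocalRing.ResidueField Q.O) _ _ Algebra.toModule := by
    rw [← hmodQ]; rfl
  have hfin : @Module.Finite k (IsLocalRing.ResidueField Q.O) _ _ Algebra.toModule :=
    hmodQ ▸ (hF.extension K).finite_residueField Q
  rw [hP, hQ']
  exact LinearMap.finrank_le_finrank_of_injective (f := φ.toLinearMap) φ.toRingHom.injective

/-- All ramification indices even forces total ramification. -/
theorem ramified_of_even (hF : FF k F) (hdeg : Module.finrank F K = 2) (P₀ : Place k F)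
    (heven : ∀ (Q : Place k K) (e : ℕ), IsOverWith Q P₀ e → 2 ∣ e) :
    (∃! Q : Place k K, IsOver Q P₀) ∧
      ∀ Q : Place k K, IsOver Q P₀ → IsOverWith Q P₀ 2 ∧ Q.deg = P₀.deg := by
  classical
  have := finite_of_finrank_two hdeg
  have hK := hF.extension K
  set T := (hF.finite_setOf_isOver (K' := K) P₀).toFinset
  have hT : ∀ Q, Q ∈ T ↔ IsOver Q P₀ := fun Q => (hF.finite_setOf_isOver P₀).mem_toFinset
  have hsum := hF.sum_ramIdx_mul_deg P₀ T hT
  rw [hdeg] at hsum
  have hd0 := hF.deg_pos P₀
  have hge : ∀ Q : Place k K, IsOver Q P₀ → 2 ≤ ramIdx Q P₀ ∧ P₀.deg ≤ Q.deg := by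
    intro Q hQ
    have h1 := isOverWith_ramIdx hQ
    have h2 := Nat.le_of_dvd (isOverWith_pos h1) (heven Q _ h1)
    exact ⟨h2, deg_le_of_isOver hF hQ⟩
  have hcard : T.card = 1 := by
    have h1 : T.card * (2 * P₀.deg) ≤ 2 * P₀.deg := by
      rw [← smul_eq_mul, ← Finset.sum_const]
      refine le_trans (Finset.sum_le_sum fun Q hQ => ?_) hsum.le
      exact Nat.mul_le_mul (hge Q ((hT Q).mp hQ)).1 (hge Q ((hT Q).mp hQ)).2
    obtain ⟨Q, hQ⟩ := hF.exists_over (K' := K) P₀
    have : 0 < T.card := Finset.card_pos.mpr ⟨Q, (hT Q).mpr hQ⟩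
    nlinarith
  obtain ⟨Q₀, hQ₀⟩ := Finset.card_eq_one.mp hcard
  have hu : ∀ Q, IsOver Q P₀ → Q = Q₀ := fun Q hQ => by
    have := (hT Q).mpr hQ
    rw [hQ₀] at this
    exact Finset.mem_singleton.mp this
  have hQ₀' : IsOver Q₀ P₀ := (hT Q₀).mp (hQ₀ ▸ Finset.mem_singleton_self Q₀)
  refine ⟨⟨Q₀, hQ₀', fun Q hQ => hu Q hQ⟩, fun Q hQ => ?_⟩
  obtain rfl := hu Q hQ
  rw [hQ₀, Finset.sum_singleton] at hsum
  obtain ⟨h1, h2⟩ := hge Q hQ
  have he : ramIdx Q P₀ = 2 := by nlinarith
  refine ⟨he ▸ isOverWith_ramIdx hQ, ?_⟩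
  rw [he] at hsum
  omega

end Groth.Agent.FF30
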