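import Groth.Agent.FF30.Rational
import Groth.Agent.FF30.RR
import Mathlib.FieldTheory.RatFunc.Basic
import Mathlib.FieldTheory.RatFunc.AsPolynomial
import Mathlib.RingTheory.UniqueFactorizationDomain.Basic

/-! The places of the rational function field. -/

open FunFld WithZero IntermediateField Polynomial
open scoped Multiplicative IntermediateField

namespace Groth.Agent.FF30

variable (k : Type*) [Field k]

theorem ratFunc_adjoin_X : k⟮(RatFunc.X : RatFunc k)⟯ = ⊤ := by
  rw [eq_top_iff]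
  intro z _
  rw [← z.num_div_denom]
  refine div_mem ?_ ?_ <;>
  · rw [← RatFunc.aeval_X_left_eq_algebraMap]
    exact IntermediateField.algebra_adjoin_le_adjoin k _ (Polynomial.aeval_mem_adjoin_singleton k _)

theorem ratFunc_ff : FF k (RatFunc k) := by
  refine ⟨RatFunc.X, ?_, ?_⟩
  · rw [transcendental_iff]
    intro p hp
    rw [RatFunc.aeval_X_left_eq_algebraMap] at hp
    exact (map_eq_zero_iff _ (RatFunc.algebraMap_injective k)).mp hp
  · rw [ratFunc_adjoin_X k]
    exact Module.Finite.of_surjective (Algebra.linearMap _ (RatFunc k)) fun z => ⟨⟨z, trivial⟩, rfl⟩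

variable {k}

local notation "ι" => algebraMap (Polynomial k) (RatFunc k)

theorem val_poly_le_one (P : Place k (RatFunc k)) (hX : 0 ≤ P.ord RatFunc.X) (g : k[X]) :
    P.1 (ι g) ≤ 1 := by
  rw [← RatFunc.aeval_X_left_eq_algebraMap]
  exact val_aeval_le_one P.1 P.2.1 ((val_le_one_iff P).mpr hX) g

theorem ord_poly_nonneg (P : Place k (RatFunc k)) (hX : 0 ≤ P.ord RatFunc.X) (g : k[X]) :
    0 ≤ P.ord (ι g) := (val_le_one_iff P).mp (val_poly_le_one P hX g)

theorem ratFunc_X_ne_zero : (RatFunc.X : RatFunc k) ≠ 0 := RatFunc.X_ne_zero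

theorem ord_poly_inf (P : Place k (RatFunc k)) (hX : P.ord RatFunc.X < 0) {g : k[X]} (hg : g ≠ 0) :
    P.ord (ι g) = g.natDegree * P.ord RatFunc.X := by
  rw [← RatFunc.aeval_X_left_eq_algebraMap, Polynomial.aeval_eq_sum_range]
  set x : RatFunc k := RatFunc.X
  have hx : x ≠ 0 := ratFunc_X_ne_zero
  have hmem : g.natDegree ∈ Finset.range (g.natDegree + 1) := Finset.self_mem_range_succ _
  have hlead : g.coeff g.natDegree ≠ 0 := by simpa using hg
  have hval : P.1 (∑ i ∈ Finset.range (g.natDegree + 1), g.coeff i • x ^ i) =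
      P.1 (g.coeff g.natDegree • x ^ g.natDegree) := by
    refine Valuation.map_sum_eq_of_lt P.1 hmem fun i hi => ?_
    rw [Finset.mem_sdiff, Finset.mem_range, Finset.mem_singleton] at hi
    refine lt_of_le_of_lt (val_smul_le P _ _) ?_
    rw [val_smul P hlead, val_eq P (pow_ne_zero _ hx), val_eq P (pow_ne_zero _ hx), ord_pow,
      ord_pow, exp_lt_exp]
    have : i < g.natDegree := by omega
    have : (i : ℤ) < g.natDegree := by exact_mod_cast this
    nlinarith
  rw [val_smul P hlead] at hval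
  rw [← ord_pow]
  simp only [Place.ord, hval]

/-- The order at the infinite place. -/
theorem ord_inf (P : Place k (RatFunc k)) (hX : P.ord RatFunc.X < 0) :
    P.ord RatFunc.X = -1 := by
  obtain ⟨z, hz0, hz⟩ := exists_ord_eq P 1
  rw [← z.num_div_denom, ord_div P (by simpa using RatFunc.num_ne_zero hz0)
    (by simpa using z.denom_ne_zero), ord_poly_inf P hX (RatFunc.num_ne_zero hz0),
    ord_poly_inf P hX z.denom_ne_zero, ← sub_mul] at hz
  rcases Int.eq_one_or_neg_one_of_mul_eq_one' hz with ⟨-, h⟩ | ⟨-, h⟩ <;> omega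

theorem place_eq_of_ord_poly {P Q : Place k (RatFunc k)} (h : ∀ g : k[X], g ≠ 0 → P.ord (ι g) = Q.ord (ι g)) :
    P = Q := by
  refine eq_of_val_le_one_imp fun z hz => ?_
  rcases eq_or_ne z 0 with rfl | hz0
  · simp
  rw [val_le_one_iff] at hz ⊢
  rw [← z.num_div_denom, ord_div _ (by simpa using RatFunc.num_ne_zero hz0)
    (by simpa using z.denom_ne_zero)] at hz ⊢
  rw [← h _ (RatFunc.num_ne_zero hz0), ← h _ z.denom_ne_zero]
  exact hz

theorem inf_unique {P Q : Place k (RatFunc k)} (hP : P.ord RatFunc.X < 0) (hQ : Q.ord RatFunc.X < 0) :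
    P = Q :=
  place_eq_of_ord_poly fun g hg => by
    rw [ord_poly_inf P hP hg, ord_poly_inf Q hQ hg, ord_inf P hP, ord_inf Q hQ]

variable (k) in
theorem exists_inf :
    ∃ P : Place k (RatFunc k), P.ord RatFunc.X < 0 ∧ P.deg = 1 := by
  classical
  have hF := ratFunc_ff k
  have hT : Transcendental k (RatFunc.X : RatFunc k) := by
    rw [transcendental_iff]
    intro p hp
    rw [RatFunc.aeval_X_left_eq_algebraMap] at hp
    exact (map_eq_zero_iff _ (RatFunc.algebraMap_injective k)).mp hp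
  have h := hF.deg_poleDiv hT
  rw [finrank_eq_one_iff_adjoin_top.mpr (ratFunc_adjoin_X k)] at h
  obtain ⟨P, hP, he⟩ := hF.eq_single_of_deg_one (D := poleDiv RatFunc.X) le_sup_right (by exact_mod_cast h)
  refine ⟨P, ?_, hP⟩
  have h1 := congrArg (fun D : Divisor k (RatFunc k) => D P) he
  simp only [hF.poleDiv_apply, Finsupp.single_eq_same] at h1
  omega

theorem deg_inf {P : Place k (RatFunc k)} (hP : P.ord RatFunc.X < 0) : P.deg = 1 := by
  obtain ⟨Q, hQ, hdeg⟩ := exists_inf k
  rwa [inf_unique hP hQ]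

variable (k) in
theorem ratFunc_isFunctionField : IsFunctionField k (RatFunc k) := by
  refine ⟨ratFunc_ff k, fun z hz => ?_⟩
  rcases eq_or_ne z 0 with rfl | hz0
  · exact ⟨0, map_zero _⟩
  obtain ⟨P, hP, -⟩ := exists_inf k
  have hdeg : ∀ w : RatFunc k, IsAlgebraic k w → w ≠ 0 → w.num.natDegree = w.denom.natDegree := by
    intro w hw hw0
    have h1 := (val_eq_one_iff P hw0).mp (val_eq_one_of_isAlgebraic P hw hw0)
    rw [← w.num_div_denom, ord_div P (by simpa using RatFunc.num_ne_zero hw0)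
      (by simpa using w.denom_ne_zero), ord_poly_inf P hP (RatFunc.num_ne_zero hw0),
      ord_poly_inf P hP w.denom_ne_zero, ord_inf P hP] at h1
    omega
  -- subtract the leading ratio: the difference would still have numerator of denominator degree
  set c := z.num.leadingCoeff
  have hden : z.denom.Monic := RatFunc.monic_denom z
  by_contra hne
  have hw : z - algebraMap k (RatFunc k) c ≠ 0 := fun h0 => hne ⟨c, (sub_eq_zero.mp h0).symm⟩
  have hwa : IsAlgebraic k (z - algebraMap k (RatFunc k) c) := hz.sub (isAlgebraic_algebraMap c)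
  have h1 := (val_eq_one_iff P hw).mp (val_eq_one_of_isAlgebraic P hwa hw)
  have heq : z - algebraMap k (RatFunc k) c = ι (z.num - Polynomial.C c * z.denom) / ι z.denom := by
    rw [map_sub, map_mul, sub_div, z.num_div_denom, mul_div_assoc, div_self (by simpa using z.denom_ne_zero),
      mul_one]
    rfl
  have hn0 : z.num - Polynomial.C c * z.denom ≠ 0 := fun h0 => hw (by rw [heq, h0, map_zero, zero_div])
  rw [heq, ord_div P ((map_ne_zero_iff _ (RatFunc.algebraMap_injective k)).mpr hn0) (by simpa using z.denom_ne_zero), ord_poly_inf P hP hn0,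
    ord_poly_inf P hP z.denom_ne_zero, ord_inf P hP] at h1
  have hd0 := hdeg z hz hz0
  have hlt : (z.num - Polynomial.C c * z.denom).degree < z.num.degree := by
    refine Polynomial.degree_sub_lt ?_ (RatFunc.num_ne_zero hz0) ?_
    · rw [Polynomial.degree_C_mul (Polynomial.leadingCoeff_ne_zero.mpr (RatFunc.num_ne_zero hz0)),
        Polynomial.degree_eq_natDegree (RatFunc.num_ne_zero hz0),
        Polynomial.degree_eq_natDegree z.denom_ne_zero, hd0]
    · rw [Polynomial.leadingCoeff_mul, Polynomial.leadingCoeff_C, hden.leadingCoeff, mul_one]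
  have := Polynomial.natDegree_lt_natDegree hn0 hlt
  omega

variable (k) in
theorem ratFunc_genus : genus k (RatFunc k) = 0 :=
  ((genus_zero_and_exists_deg_one_iff' (ratFunc_isFunctionField k)).mpr
    ⟨RatFunc.X, ratFunc_adjoin_X k⟩).1

theorem ord_X_nonneg_of_lt (P : Place k (RatFunc k)) {p : k[X]} (hp : p ≠ 0)
    (h : P.1 (ι p) < 1) : 0 ≤ P.ord RatFunc.X := by
  by_contra hX
  rw [not_le] at hX
  have h1 := (val_lt_one_iff P (by simpa using hp)).mp h
  rw [ord_poly_inf P hX hp, ord_inf P hX] at h1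
  omega

theorem ord_poly_eq_zero (P : Place k (RatFunc k)) {p g : k[X]} (hp : Irreducible p)
    (h : P.1 (ι p) < 1) (hg : ¬ p ∣ g) : P.ord (ι g) = 0 := by
  have hX := ord_X_nonneg_of_lt P hp.ne_zero h
  obtain ⟨a, b, hab⟩ := (hp.coprime_iff_not_dvd.mpr hg)
  refine le_antisymm ?_ (ord_poly_nonneg P hX g)
  by_contra hlt
  rw [not_le] at hlt
  have hg' : P.1 (ι g) < 1 := by
    refine (val_lt_one_iff P fun h0 => ?_).mpr hlt
    rw [h0, ord_zero] at hlt
    omega
  have : P.1 (ι (a * p + b * g)) < 1 := by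
    rw [map_add, map_mul, map_mul]
    refine lt_of_le_of_lt (P.1.map_add _ _) (max_lt ?_ ?_) <;> rw [map_mul]
    · exact lt_of_le_of_lt (mul_le_of_le_one_left' (val_poly_le_one P hX a)) h
    · exact lt_of_le_of_lt (mul_le_of_le_one_left' (val_poly_le_one P hX b)) hg'
  rw [hab, map_one, map_one] at this
  exact lt_irrefl _ this

theorem exists_pow_mul {p g : k[X]} (hp : Irreducible p) (hg : g ≠ 0) :
    ∃ (m : ℕ) (u : k[X]), g = p ^ m * u ∧ ¬ p ∣ u := by
  obtain ⟨m, u, hu, he⟩ := WfDvdMonoid.max_power_factor hg hp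
  exact ⟨m, u, he, hu⟩

theorem ord_irreducible (P : Place k (RatFunc k)) {p : k[X]} (hp : Irreducible p)
    (h : P.1 (ι p) < 1) : P.ord (ι p) = 1 := by
  have hp0 : ι p ≠ 0 := by simpa using hp.ne_zero
  have hpos := (val_lt_one_iff P hp0).mp h
  have hmul : ∀ g : k[X], g ≠ 0 → ∃ m : ℕ, P.ord (ι g) = m * P.ord (ι p) := by
    intro g hg
    obtain ⟨m, u, rfl, hu⟩ := exists_pow_mul hp hg
    refine ⟨m, ?_⟩
    rw [map_mul, map_pow, ord_mul P (pow_ne_zero _ hp0) (by simpa using (mul_ne_zero_iff.mp hg).2),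
      ord_pow, ord_poly_eq_zero P hp h hu, add_zero]
  obtain ⟨z, hz0, hz⟩ := exists_ord_eq P 1
  rw [← z.num_div_denom, ord_div P (by simpa using RatFunc.num_ne_zero hz0)
    (by simpa using z.denom_ne_zero)] at hz
  obtain ⟨m, hm⟩ := hmul _ (RatFunc.num_ne_zero hz0)
  obtain ⟨m', hm'⟩ := hmul _ z.denom_ne_zero
  rw [hm, hm', ← sub_mul] at hz
  rcases Int.eq_one_or_neg_one_of_mul_eq_one' hz with ⟨-, h1⟩ | ⟨-, h1⟩ <;> omega

theorem exists_irreducible_of_finite (P : Place k (RatFunc k)) (hX : 0 ≤ P.ord RatFunc.X) :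
    ∃ p : k[X], Irreducible p ∧ P.1 (ι p) < 1 := by
  by_contra hcon
  push Not at hcon
  have hzero : ∀ g : k[X], g ≠ 0 → P.ord (ι g) = 0 := by
    intro g hg
    induction g using UniqueFactorizationMonoid.induction_on_prime with
    | h₁ => exact absurd rfl hg
    | h₂ u hu =>
      obtain ⟨c, -, rfl⟩ := Polynomial.isUnit_iff.mp hu
      rw [show ι (Polynomial.C c) = algebraMap k (RatFunc k) c from rfl, ord_algebraMap]
    | h₃ a p ha hp ih =>
      have hp0 : ι p ≠ 0 := by simpa using hp.ne_zero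
      have h1 : P.ord (ι p) = 0 := by
        refine le_antisymm ?_ (ord_poly_nonneg P hX p)
        by_contra hlt
        exact absurd ((val_lt_one_iff P hp0).mpr (not_le.mp hlt)) (not_lt.mpr (hcon p hp.irreducible))
      rw [map_mul, ord_mul P hp0 (by simpa using ha), h1, ih ha, add_zero]
  obtain ⟨z, hz0, hz⟩ := exists_ord_eq P 1
  rw [← z.num_div_denom, ord_div P (by simpa using RatFunc.num_ne_zero hz0)
    (by simpa using z.denom_ne_zero), hzero _ (RatFunc.num_ne_zero hz0), hzero _ z.denom_ne_zero] at hz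
  omega

theorem ord_squarefree_le_one (P : Place k (RatFunc k)) (hX : 0 ≤ P.ord RatFunc.X) {f : k[X]}
    (hf : Squarefree f) (hf0 : f ≠ 0) : P.ord (ι f) ≤ 1 := by
  obtain ⟨p, hp, hPp⟩ := exists_irreducible_of_finite P hX
  obtain ⟨m, u, rfl, hu⟩ := exists_pow_mul hp hf0
  have hm : m ≤ 1 := by
    by_contra hlt
    have hd : p * p ∣ p ^ m * u := by
      refine Dvd.dvd.mul_right ?_ u
      rw [← sq]
      exact pow_dvd_pow p (by omega)
    exact hp.not_isUnit (hf p hd)
  rw [map_mul, map_pow, ord_mul P (pow_ne_zero _ (by simpa using hp.ne_zero))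
    (by simpa using (mul_ne_zero_iff.mp hf0).2), ord_pow, ord_irreducible P hp hPp,
    ord_poly_eq_zero P hp hPp hu]
  omega

end Groth.Agent.FF30
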