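import Groth.Agent.FF30.Quadratic
import Groth.Agent.FF30.RatPlaces
import Mathlib.Algebra.CharP.Two
import Mathlib.Algebra.Squarefree.Basic

/-! Hyperelliptic and Artin-Schreier extensions of the rational function field. -/

open FunFld WithZero Polynomial
open scoped Multiplicative

namespace Groth.Agent.FF30

variable {k K : Type*} [Field k] [Field K] [Algebra k K] [Algebra (RatFunc k) K]
  [IsScalarTower k (RatFunc k) K]

local notation "ι" => algebraMap (Polynomial k) (RatFunc k)

theorem genus_of_split (hK : IsFunctionField k K) (hdeg : Module.finrank (RatFunc k) K = 2) {y : K}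
    (hy : y ∉ Set.range (algebraMap (RatFunc k) K)) (E : Divisor k (RatFunc k))
    (h : ∀ (A : Divisor k (RatFunc k)) (u v : RatFunc k),
      algebraMap (RatFunc k) K u + algebraMap (RatFunc k) K v * y ∈ L (conorm K A) ↔
        u ∈ L A ∧ v ∈ L (A + E)) :
    (genus k K : ℤ) = -1 - E.deg := by
  classical
  have := finite_of_finrank_two hdeg
  have hF := ratFunc_isFunctionField k
  obtain ⟨Pinf, hX, hP⟩ := exists_inf k
  set n := genus k K + E.deg.natAbs
  set A : Divisor k (RatFunc k) := Finsupp.single Pinf (n : ℤ)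
  have hA : A.deg = n := by rw [deg_single, hP]; simp
  have h1 := ell_conorm_eq_add (ratFunc_ff k) hdeg hy A A (A + E) (h A)
  have h2 : (conorm K A).deg = 2 * n := by rw [(ratFunc_ff k).deg_conorm, hdeg, hA]; norm_num
  have h3 := ell_eq_of_deg_gt hK (D := conorm K A) (by rw [h2]; omega)
  have h4 := ell_eq_of_deg_gt hF (D := A) (by rw [hA, ratFunc_genus]; omega)
  have h5 := ell_eq_of_deg_gt hF (D := A + E) (by rw [deg_add, hA, ratFunc_genus]; omega)
  rw [hA, ratFunc_genus] at h4
  rw [deg_add, hA, ratFunc_genus] at h5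
  rw [h2] at h3
  omega

theorem isFunctionField_of_split (hdeg : Module.finrank (RatFunc k) K = 2) {y : K}
    (hy : y ∉ Set.range (algebraMap (RatFunc k) K)) (E : Divisor k (RatFunc k)) (hE : E.deg < 0)
    (h : ∀ (A : Divisor k (RatFunc k)) (u v : RatFunc k),
      algebraMap (RatFunc k) K u + algebraMap (RatFunc k) K v * y ∈ L (conorm K A) ↔
        u ∈ L A ∧ v ∈ L (A + E)) : IsFunctionField k K := by
  have := finite_of_finrank_two hdeg
  have hF := ratFunc_isFunctionField k
  refine ⟨(ratFunc_ff k).extension K, fun z hz => ?_⟩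
  obtain ⟨u, v, rfl⟩ := exists_repr_quadratic hdeg hy z
  obtain ⟨hu, hv⟩ := (h 0 u v).mp fun Q => by
    refine (val_le_one_of_isIntegral Q hz.isIntegral).trans (le_of_eq ?_)
    rw [show conorm K (0 : Divisor k (RatFunc k)) = 0 by simp [conorm], Finsupp.zero_apply, exp_zero]
  rw [zero_add, (ratFunc_ff k).L_eq_bot_of_deg_neg hE, Submodule.mem_bot] at hv
  rw [L_zero' hF, mem_one_iff] at hu
  obtain ⟨c, rfl⟩ := hu
  exact ⟨c, by rw [hv, map_zero, zero_mul, add_zero, ← IsScalarTower.algebraMap_apply]⟩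

section hyper

variable {y : K} {f : k[X]}

theorem two_ne_zero_ratFunc (h2 : ringChar k ≠ 2) : (2 : RatFunc k) ≠ 0 := by
  have h : (2 : k) ≠ 0 := Ring.two_ne_zero h2
  rw [← map_ofNat (algebraMap k (RatFunc k)) 2]
  exact (_root_.map_ne_zero _).mpr h

theorem y_notMem (hf : Squarefree f) (hd : 1 ≤ f.natDegree)
    (heq : y ^ 2 = algebraMap (RatFunc k) K (ι f)) : y ∉ Set.range (algebraMap (RatFunc k) K) := by
  rintro ⟨r, rfl⟩
  rw [← map_pow, (algebraMap (RatFunc k) K).injective.eq_iff] at heq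
  obtain ⟨p, hp, hpf⟩ := WfDvdMonoid.exists_irreducible_factor (a := f)
    (fun hu => by have := natDegree_eq_zero_of_isUnit hu; omega) (by rintro rfl; simp at hd)
  have hF := ratFunc_ff k
  obtain ⟨P, hP⟩ := hF.exists_place_pos (x := ι p) (by
    rw [transcendental_iff]
    intro q hq
    rw [← RatFunc.aeval_X_left_eq_algebraMap, ← aeval_comp, RatFunc.aeval_X_left_eq_algebraMap] at hq
    have h0 := (map_eq_zero_iff _ (RatFunc.algebraMap_injective k)).mp hq
    rcases comp_eq_zero_iff.mp h0 with h0 | ⟨-, h0⟩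
    · exact h0
    · exfalso
      have := hp.natDegree_pos
      rw [h0, natDegree_C] at this
      omega)
  have hPlt : P.1 (ι p) < 1 := (val_lt_one_iff P (by simpa using hp.ne_zero)).mpr hP
  obtain ⟨g, rfl⟩ := hpf
  have hg : ¬ p ∣ g := fun hdvd => hp.not_isUnit (hf p (mul_dvd_mul_left p hdvd))
  have h1 := congrArg P.ord heq
  rw [ord_pow, map_mul, ord_mul P (by simpa using hp.ne_zero)
    ((map_ne_zero_iff _ (RatFunc.algebraMap_injective k)).mpr fun h => hg (by rw [h]; exact dvd_zero p)),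
    ord_irreducible P hp hPlt, ord_poly_eq_zero P hp hPlt hg] at h1
  omega

/-- The divisor `⌊ord f / 2⌋`. -/
noncomputable def hyperDiv (f : k[X]) : Divisor k (RatFunc k) :=
  Finsupp.mapRange (fun n : ℤ => n / 2) (by simp) (div k (ι f))

theorem hyperDiv_apply (f : k[X]) (P : Place k (RatFunc k)) : hyperDiv f P = P.ord (ι f) / 2 := by
  rw [hyperDiv, Finsupp.mapRange_apply, (ratFunc_ff k).div_apply]

theorem hyperDiv_deg (hf : Squarefree f) (hd : 1 ≤ f.natDegree) :
    (hyperDiv f).deg = (-(f.natDegree : ℤ)) / 2 := by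
  classical
  have hf0 : f ≠ 0 := by rintro rfl; simp at hd
  obtain ⟨Pinf, hX, hP⟩ := exists_inf k
  have : hyperDiv f = Finsupp.single Pinf ((-(f.natDegree : ℤ)) / 2) := by
    refine Finsupp.ext fun P => ?_
    rw [hyperDiv_apply, Finsupp.single_apply]
    split_ifs with h
    · subst h
      rw [ord_poly_inf Pinf hX hf0, ord_inf Pinf hX, mul_neg_one]
    · have hPX : 0 ≤ P.ord RatFunc.X := by
        by_contra hlt
        exact h (inf_unique hX (not_le.mp hlt))
      have h1 := ord_poly_nonneg P hPX f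
      have h2 := ord_squarefree_le_one P hPX hf hf0
      omega
  rw [this, deg_single, hP]
  simp

theorem mem_L_hyper (h2 : ringChar k ≠ 2) (hdeg : Module.finrank (RatFunc k) K = 2)
    (hf : Squarefree f) (hd : 1 ≤ f.natDegree) (heq : y ^ 2 = algebraMap (RatFunc k) K (ι f))
    (A : Divisor k (RatFunc k)) (u v : RatFunc k) :
    algebraMap (RatFunc k) K u + algebraMap (RatFunc k) K v * y ∈ L (conorm K A) ↔
      u ∈ L A ∧ v ∈ L (A + hyperDiv f) := by
  have hy := y_notMem hf hd heq
  have hfne : ι f ≠ 0 := by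
    have : f ≠ 0 := by rintro rfl; simp at hd
    simpa using this
  rw [(ratFunc_ff k).mem_L_conorm_iff hdeg hy (ε := 0) (f := ι f) (by simpa using heq) A u v]
  rw [mem_L, mem_L, ← forall_and]
  refine forall_congr' fun P => ?_
  have h2' := two_ne_zero_ratFunc (k := k) h2
  have htwo : P.1 (2 * u) = P.1 u := by
    have h2k : (2 : k) ≠ 0 := Ring.two_ne_zero h2
    rw [map_mul, ← map_ofNat (algebraMap k (RatFunc k)) 2, val_algebraMap P h2k, one_mul]
  simp only [zero_mul, sub_zero, htwo, Finsupp.add_apply, hyperDiv_apply]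
  have hiff : P.1 (v ^ 2 * ι f) ≤ exp (A P) * exp (A P) ↔ P.1 v ≤ exp (A P + P.ord (ι f) / 2) := by
    rcases eq_or_ne v 0 with rfl | hv
    · simp [zero_pow two_ne_zero]
    rw [val_eq P (mul_ne_zero (pow_ne_zero 2 hv) hfne), val_eq P hv, ← exp_add, exp_le_exp, exp_le_exp,
      ord_mul P (pow_ne_zero 2 hv) hfne, ord_pow]
    push_cast
    omega
  constructor
  · rintro ⟨hu, hN, -⟩
    refine ⟨hu, hiff.mp ?_⟩
    have : v ^ 2 * ι f = u ^ 2 - (u ^ 2 - v ^ 2 * ι f) := by ring
    rw [this]
    refine (P.1.map_sub _ _).trans (max_le ?_ hN)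
    rw [sq, map_mul]
    exact mul_le_mul' hu hu
  · rintro ⟨hu, hv⟩
    refine ⟨hu, (P.1.map_sub _ _).trans (max_le ?_ (hiff.mpr hv)), fun _ => hu⟩
    rw [sq, map_mul]
    exact mul_le_mul' hu hu

theorem hyper_isFunctionField (h2 : ringChar k ≠ 2) (hdeg : Module.finrank (RatFunc k) K = 2)
    (hf : Squarefree f) (hd : 1 ≤ f.natDegree) (heq : y ^ 2 = algebraMap (RatFunc k) K (ι f)) :
    IsFunctionField k K :=
  isFunctionField_of_split hdeg (y_notMem hf hd heq) (hyperDiv f)
    (by rw [hyperDiv_deg hf hd]; omega) (mem_L_hyper h2 hdeg hf hd heq)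

theorem hyper_genus (hK : IsFunctionField k K) (h2 : ringChar k ≠ 2)
    (hdeg : Module.finrank (RatFunc k) K = 2) (hf : Squarefree f) (hd : 1 ≤ f.natDegree)
    (heq : y ^ 2 = algebraMap (RatFunc k) K (ι f)) : genus k K = (f.natDegree - 1) / 2 := by
  have := genus_of_split hK hdeg (y_notMem hf hd heq) _ (mem_L_hyper h2 hdeg hf hd heq)
  rw [hyperDiv_deg hf hd] at this
  omega

theorem ord_y (heq : y ^ 2 = algebraMap (RatFunc k) K (ι f)) {Q : Place k K}
    {P : Place k (RatFunc k)} {e : ℕ} (hQ : IsOverWith Q P e) :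
    2 * Q.ord y = e * P.ord (ι f) := by
  rw [← isOverWith_ord hQ, ← heq, ord_pow]
  norm_num

theorem hyper_ramified (hdeg : Module.finrank (RatFunc k) K = 2) (hf : Squarefree f)
    (heq : y ^ 2 = algebraMap (RatFunc k) K (ι f)) {p : k[X]} (hp : Irreducible p) (hpf : p ∣ f)
    (P₀ : Place k (RatFunc k)) (hP₀ : P₀.1 (ι p) < 1) :
    (∃! P : Place k K, IsOver P P₀) ∧
      ∀ P : Place k K, IsOver P P₀ → IsOverWith P P₀ 2 ∧ P.deg = P₀.deg := by
  refine ramified_of_even (ratFunc_ff k) hdeg P₀ fun Q e hQ => ?_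
  obtain ⟨g, rfl⟩ := hpf
  have hg : ¬ p ∣ g := fun hdvd => hp.not_isUnit (hf p (mul_dvd_mul_left p hdvd))
  have h1 := ord_y heq hQ
  rw [map_mul, ord_mul P₀ (by simpa using hp.ne_zero)
    ((map_ne_zero_iff _ (RatFunc.algebraMap_injective k)).mpr fun h => hg (by rw [h]; exact dvd_zero p)),
    ord_irreducible P₀ hp hP₀, ord_poly_eq_zero P₀ hp hP₀ hg] at h1
  omega

end hyper

/-- An element `w` with unit derivative of the equation is unramified. -/
theorem unramified_of_monic (hdeg : Module.finrank (RatFunc k) K = 2) {w : K}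
    (hw : w ∉ Set.range (algebraMap (RatFunc k) K)) {S N : RatFunc k}
    (h : w ^ 2 - algebraMap (RatFunc k) K S * w + algebraMap (RatFunc k) K N = 0)
    (P₀ : Place k (RatFunc k)) (hS : P₀.1 S ≤ 1) (hN : P₀.1 N ≤ 1) [Algebra.IsSeparable (RatFunc k) K]
    {Q : Place k K} {e : ℕ} (hQ : IsOverWith Q P₀ e)
    (hder : Q.1 (2 * w - algebraMap (RatFunc k) K S) = 1) : IsOverWith Q P₀ 1 := by
  have := finite_of_finrank_two hdeg
  obtain ⟨_, _⟩ := algebraO (K := K) P₀
  have he : e = 1 := by
    refine (ratFunc_ff k).ramIdx_eq_one_of_deriv P₀ (adjoin_eq_top_quadratic hdeg hw)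
      (f := X ^ 2 - C (⟨S, hS⟩ : P₀.O) * X + C (⟨N, hN⟩ : P₀.O)) (by monicity!) ?_ hQ ?_
    · rw [minpoly_quadratic hw h]
      simp only [Polynomial.map_add, Polynomial.map_sub, Polynomial.map_pow, Polynomial.map_X,
        Polynomial.map_mul, Polynomial.map_C]
      rfl
    · rw [minpoly_quadratic hw h]
      simpa [map_ofNat, one_add_one_eq_two] using hder
  exact he ▸ hQ

theorem hyper_inf (h2 : ringChar k ≠ 2) {y : K} {f : k[X]}
    (hdeg : Module.finrank (RatFunc k) K = 2) (hf : Squarefree f)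
    (hd : 1 ≤ f.natDegree) (heq : y ^ 2 = algebraMap (RatFunc k) K (ι f))
    (Pinf : Place k (RatFunc k)) (hinf : Pinf.ord (RatFunc.X : RatFunc k) < 0) :
    (Odd f.natDegree → (∃! P : Place k K, IsOver P Pinf) ∧
      ∀ P : Place k K, IsOver P Pinf → IsOverWith P Pinf 2 ∧ P.deg = 1) ∧
    (Even f.natDegree → (conorm K (Finsupp.single Pinf 1)).deg = 2 ∧
      ∀ P : Place k K, IsOver P Pinf → IsOverWith P Pinf 1) := by
  have hf0 : f ≠ 0 := by rintro rfl; simp at hd
  have hordf : Pinf.ord (ι f) = -(f.natDegree : ℤ) := by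
    rw [ord_poly_inf Pinf hinf hf0, ord_inf Pinf hinf, mul_neg_one]
  have := finite_of_finrank_two hdeg
  constructor
  · intro hodd
    obtain ⟨h1, h3⟩ := ramified_of_even (ratFunc_ff k) (K := K) hdeg Pinf fun Q e hQ => by
      have h1 := ord_y heq hQ
      rw [hordf] at h1
      obtain ⟨m, hm⟩ := hodd
      rw [hm] at h1
      push_cast at h1
      have : (2 : ℤ) ∣ e := ⟨-(Q.ord y) - e * m, by linarith⟩
      exact_mod_cast this
    exact ⟨h1, fun P hP => ⟨(h3 P hP).1, (h3 P hP).2.trans (deg_inf hinf)⟩⟩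
  · intro heven
    refine ⟨by rw [(ratFunc_ff k).deg_conorm, hdeg, deg_single, deg_inf hinf]; norm_num, fun Q hQ => ?_⟩
    obtain ⟨m, hm⟩ := heven
    obtain ⟨e, he⟩ := hQ
    set x : RatFunc k := RatFunc.X ^ m
    have hx : x ≠ 0 := pow_ne_zero _ ratFunc_X_ne_zero
    have hy := y_notMem hf hd heq
    set w := y * (algebraMap (RatFunc k) K x)⁻¹
    have hx' : algebraMap (RatFunc k) K x ≠ 0 := by simpa using hx
    have hw : w ∉ Set.range (algebraMap (RatFunc k) K) := by
      rintro ⟨r, hr⟩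
      exact hy ⟨r * x, by rw [map_mul, hr]; simp [w, hx']⟩
    set N : RatFunc k := -(ι f / (x * x))
    have hrel : w ^ 2 - algebraMap (RatFunc k) K 0 * w + algebraMap (RatFunc k) K N = 0 := by
      simp only [w, N, map_neg, map_div₀, map_mul, map_zero, zero_mul, sub_zero, ← heq]
      field_simp
      ring
    have hN0 : ι f / (x * x) ≠ 0 := div_ne_zero (by simpa using hf0) (mul_ne_zero hx hx)
    have hN : Pinf.1 N = 1 := by
      rw [Valuation.map_neg, val_eq_one_iff Pinf hN0, ord_div Pinf (by simpa using hf0) (mul_ne_zero hx hx),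
        ord_mul Pinf hx hx, hordf, ord_pow, ord_inf Pinf hinf, hm]
      push_cast
      ring
    have hsep : Algebra.IsSeparable (RatFunc k) K := by
      refine ⟨fun z => ?_⟩
      have hchar := two_ne_zero_ratFunc (k := k) h2
      obtain ⟨u, v, rfl⟩ := exists_repr_quadratic hdeg hy z
      rcases eq_or_ne v 0 with rfl | hv
      · rw [map_zero, zero_mul, add_zero]
        exact isSeparable_algebraMap _
      have hmem : algebraMap (RatFunc k) K u + algebraMap (RatFunc k) K v * y ∉
          Set.range (algebraMap (RatFunc k) K) := by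
        rintro ⟨r, hr⟩
        exact hv (repr_unique hy (u := r) (v := 0) (by simpa using hr)).2.symm
      have hrel' := quadratic_relation (K := K) (y := y) (ε := (0 : RatFunc k)) (f := ι f) (u := u) (v := v)
        (by simpa using heq)
      rw [IsSeparable, minpoly_quadratic hmem hrel', Polynomial.separable_def]
      set S := 2 * u - 0 * v
      set N' := u ^ 2 - 0 * u * v - v ^ 2 * ι f
      have hdisc : S ^ 2 - 4 * N' ≠ 0 := by
        simp only [S, N']
        rw [show (2 * u - 0 * v) ^ 2 - 4 * (u ^ 2 - 0 * u * v - v ^ 2 * ι f) = 2 * 2 * (v ^ 2 * ι f) by ring]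
        exact mul_ne_zero (mul_ne_zero hchar hchar) (mul_ne_zero (pow_ne_zero 2 hv) (by simpa using hf0))
      refine ⟨C (-4 / (S ^ 2 - 4 * N')), C (1 / (S ^ 2 - 4 * N')) * (2 * X - C S), ?_⟩
      simp only [derivative_add, derivative_sub, derivative_X_pow, derivative_mul, derivative_C, derivative_X,
        zero_mul, zero_add, mul_one, add_zero]
      have hC : C (1 / (S ^ 2 - 4 * N')) * (C S * C S - 4 * C N') = 1 := by
        rw [← map_mul C S S, show (4 : (RatFunc k)[X]) = C (4 : RatFunc k) from (map_ofNat C 4).symm,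
          ← map_mul C, ← map_sub C, ← map_mul C, one_div, ← sq, inv_mul_cancel₀ hdisc, map_one]
      have h4 : C (-4 / (S ^ 2 - 4 * N')) = -4 * C (1 / (S ^ 2 - 4 * N')) := by
        rw [show (-4 : (RatFunc k)[X]) = C (-4 : RatFunc k) by rw [map_neg, map_ofNat], ← map_mul C, mul_one_div]
      rw [h4, show C ((2 : ℕ) : RatFunc k) * X ^ (2 - 1) = 2 * X by simp [map_ofNat]]
      linear_combination hC
    refine unramified_of_monic hdeg hw hrel Pinf (by simp) hN.le he ?_
    rw [map_zero, sub_zero, map_mul]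
    have h2K : Q.1 (2 : K) = 1 := by
      rw [← map_ofNat (algebraMap k K) 2]
      exact val_algebraMap Q (Ring.two_ne_zero h2)
    rw [h2K, one_mul]
    have hw2 : Q.1 w ^ 2 = 1 := by
      rw [← map_pow, show w ^ 2 = algebraMap (RatFunc k) K (-N) by
        rw [map_neg]; linear_combination hrel + (map_zero (algebraMap (RatFunc k) K)) * w,
        he, Valuation.map_neg, hN, one_pow]
    exact (pow_eq_one_iff_of_nonneg zero_le two_ne_zero).mp hw2

theorem exists_sq_squarefree {h : k[X]} (h0 : h ≠ 0) :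
    ∃ s f : k[X], Squarefree f ∧ h = s * s * f := by
  suffices key : ∀ n (h : k[X]), h ≠ 0 → h.natDegree = n → ∃ s f : k[X], Squarefree f ∧ h = s * s * f from
    key _ h h0 rfl
  intro n
  induction n using Nat.strong_induction_on with
  | _ n ih =>
    intro h h0 hn
    by_cases hsq : Squarefree h
    · exact ⟨1, h, hsq, by ring⟩
    · simp only [Squarefree, not_forall] at hsq
      obtain ⟨a, ⟨b, hb⟩, hu⟩ := hsq
      have ha0 : a ≠ 0 := by rintro rfl; simp at hb; exact h0 hb
      have hb0 : b ≠ 0 := by rintro rfl; simp at hb; exact h0 hb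
      have hdeg : 0 < a.natDegree := natDegree_pos_iff_degree_pos.mpr
        (degree_pos_of_ne_zero_of_nonunit ha0 hu)
      have hlt : b.natDegree < n := by
        rw [← hn, hb, natDegree_mul (mul_ne_zero ha0 ha0) hb0, natDegree_mul ha0 ha0]
        omega
      obtain ⟨s, f, hf, rfl⟩ := ih _ hlt b hb0 rfl
      exact ⟨a * s, f, hf, by rw [hb]; ring⟩

omit [Algebra k K] [IsScalarTower k (RatFunc k) K] in
theorem exists_sq_eq (h2 : ringChar k ≠ 2) (hdeg : Module.finrank (RatFunc k) K = 2) :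
    ∃ (y : K) (f : k[X]), Squarefree f ∧ y ^ 2 = algebraMap (RatFunc k) K (ι f) ∧
      IntermediateField.adjoin (RatFunc k) ({y} : Set K) = ⊤ := by
  have := finite_of_finrank_two hdeg
  have hchar := two_ne_zero_ratFunc (k := k) h2
  obtain ⟨z, hz⟩ : ∃ z : K, z ∉ Set.range (algebraMap (RatFunc k) K) := by
    by_contra hcon
    push Not at hcon
    have h1 : (⊥ : Subalgebra (RatFunc k) K) = ⊤ :=
      eq_top_iff.mpr fun z _ => Algebra.mem_bot.mpr (hcon z)
    rw [Subalgebra.bot_eq_top_iff_finrank_eq_one] at h1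
    omega
  have hint : IsIntegral (RatFunc k) z := IsIntegral.of_finite _ z
  have hd2 : (minpoly (RatFunc k) z).natDegree = 2 :=
    le_antisymm (hdeg ▸ minpoly.natDegree_le z) ((minpoly.two_le_natDegree_iff hint).mpr hz)
  set b := (minpoly (RatFunc k) z).coeff 1
  set c := (minpoly (RatFunc k) z).coeff 0
  have hrel : z ^ 2 + algebraMap (RatFunc k) K b * z + algebraMap (RatFunc k) K c = 0 := by
    have h := minpoly.aeval (RatFunc k) z
    rw [aeval_eq_sum_range, hd2, Finset.sum_range_succ, Finset.sum_range_succ, Finset.sum_range_one] at h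
    have hlead : (minpoly (RatFunc k) z).coeff 2 = 1 := hd2 ▸ (minpoly.monic hint).coeff_natDegree
    simp only [Algebra.smul_def, hlead, map_one] at h
    linear_combination h
  set r : RatFunc k := b ^ 2 / 4 - c
  set w := z + algebraMap (RatFunc k) K (b / 2)
  have hK2 : (2 : K) ≠ 0 := by
    rw [← map_ofNat (algebraMap (RatFunc k) K) 2]
    simpa using hchar
  have hw2 : w ^ 2 = algebraMap (RatFunc k) K r := by
    have h4 : (4 : RatFunc k) = 2 * 2 := by norm_num
    simp only [w, r, h4, map_sub, map_div₀, map_mul, map_pow, map_ofNat]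
    field_simp
    linear_combination (4 : K) * hrel
  have hw : w ∉ Set.range (algebraMap (RatFunc k) K) := fun ⟨q, hq⟩ =>
    hz ⟨q - b / 2, by rw [map_sub, hq]; simp [w]⟩
  have hr0 : r ≠ 0 := fun h0 => hw ⟨0, by
    rw [h0, map_zero] at hw2
    rw [map_zero, pow_eq_zero_iff two_ne_zero |>.mp hw2]⟩
  obtain ⟨s, f, hf, hsf⟩ := exists_sq_squarefree (h := r.num * r.denom)
    (mul_ne_zero (RatFunc.num_ne_zero hr0) r.denom_ne_zero)
  have hs0 : ι s ≠ 0 := by
    refine (map_ne_zero_iff _ (RatFunc.algebraMap_injective k)).mpr ?_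
    rintro rfl
    simp [RatFunc.num_ne_zero hr0, r.denom_ne_zero] at hsf
  have hden : ι r.denom ≠ 0 := by simpa using r.denom_ne_zero
  set q : RatFunc k := ι r.denom / ι s
  have hq0 : q ≠ 0 := div_ne_zero hden hs0
  refine ⟨algebraMap (RatFunc k) K q * w, f, hf, ?_, intermediate_eq_top_quadratic hdeg ?_⟩
  · rw [mul_pow, hw2, ← map_pow, ← map_mul]
    congr 1
    have h1 : r * ι r.denom = ι r.num := by
      rw [← eq_div_iff hden]; exact r.num_div_denom.symm
    have h3 : ι r.num * ι r.denom = ι s * ι s * ι f := by rw [← map_mul, hsf, map_mul, map_mul]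
    simp only [q, div_pow]
    field_simp
    linear_combination h3 + (ι r.denom) * h1
  · rintro ⟨t, ht⟩
    refine hw ⟨t / q, ?_⟩
    rw [map_div₀, ht, mul_div_cancel_left₀]
    simpa using hq0

end Groth.Agent.FF30
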