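import Mathlib.LinearAlgebra.FiniteDimensional.Lemmas
import Mathlib.RingTheory.Finiteness.Cardinality
import Mathlib.RingTheory.Noetherian.Basic

/-! Dimension of a quotient of two nested subspaces. -/

namespace Groth.Agent.FF30

variable {k M : Type*} [Field k] [AddCommGroup M] [Module k M]

/-- The quotient `B / (A ∩ B)`. -/
abbrev RQ (A B : Submodule k M) : Type _ := ↥B ⧸ Submodule.comap B.subtype A

variable {A B C : Submodule k M}

/-- `B/A → C/A` for `B ≤ C`. -/
def rqIncl (A : Submodule k M) (h : B ≤ C) : RQ A B →ₗ[k] RQ A C :=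
  Submodule.mapQ _ _ (Submodule.inclusion h) (fun _ hx => hx)

/-- `C/A → C/B` for `A ≤ B`. -/
def rqProj (C : Submodule k M) (h : A ≤ B) : RQ A C →ₗ[k] RQ B C :=
  Submodule.mapQ _ _ LinearMap.id (fun _ hx => h hx)

theorem rqIncl_injective (h : B ≤ C) : Function.Injective (rqIncl A h) := by
  rw [injective_iff_map_eq_zero]
  intro x hx
  obtain ⟨x, rfl⟩ := Submodule.Quotient.mk_surjective _ x
  have hx' : Submodule.inclusion h x ∈ Submodule.comap C.subtype A :=
    (Submodule.Quotient.mk_eq_zero _).mp hx
  rw [Submodule.Quotient.mk_eq_zero]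
  exact hx'

theorem rqProj_surjective (C : Submodule k M) (h : A ≤ B) : Function.Surjective (rqProj C h) := by
  intro x
  obtain ⟨x, rfl⟩ := Submodule.Quotient.mk_surjective _ x
  exact ⟨Submodule.Quotient.mk x, rfl⟩

theorem ker_rqProj (hAB : A ≤ B) (hBC : B ≤ C) :
    LinearMap.ker (rqProj C hAB) = LinearMap.range (rqIncl A hBC) := by
  ext x
  obtain ⟨x, rfl⟩ := Submodule.Quotient.mk_surjective _ x
  rw [LinearMap.mem_ker, rqProj, Submodule.mapQ_apply, Submodule.Quotient.mk_eq_zero]
  constructor
  · intro hx
    exact ⟨Submodule.Quotient.mk ⟨x, hx⟩, rfl⟩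
  · rintro ⟨y, hy⟩
    obtain ⟨y, rfl⟩ := Submodule.Quotient.mk_surjective _ y
    change (x : M) ∈ B
    have hy' : (y : M) - x ∈ A :=
      (Submodule.Quotient.eq (Submodule.comap C.subtype A) (x := Submodule.inclusion hBC y) (y := x)).mp hy
    simpa using B.sub_mem y.2 (hAB hy')

theorem rq_finite_trans (hAB : A ≤ B) (hBC : B ≤ C) [Module.Finite k (RQ A B)]
    [Module.Finite k (RQ B C)] : Module.Finite k (RQ A C) := by
  have : Module.Finite k (LinearMap.ker (rqProj C hAB)) := by
    rw [ker_rqProj hAB hBC]; infer_instance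
  have := Module.Finite.equiv
    ((rqProj C hAB).quotKerEquivOfSurjective (rqProj_surjective C hAB)).symm
  exact Module.Finite.of_submodule_quotient (LinearMap.ker (rqProj C hAB))

theorem rq_finrank_trans (hAB : A ≤ B) (hBC : B ≤ C) [Module.Finite k (RQ A B)]
    [Module.Finite k (RQ B C)] :
    Module.finrank k (RQ A C) = Module.finrank k (RQ A B) + Module.finrank k (RQ B C) := by
  have := rq_finite_trans hAB hBC
  have h := (rqProj C hAB).finrank_range_add_finrank_ker
  rw [LinearMap.range_eq_top.mpr (rqProj_surjective C hAB), finrank_top, ker_rqProj hAB hBC,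
    LinearMap.finrank_range_of_inj (rqIncl_injective hBC)] at h
  omega

theorem rq_finite_self : Module.Finite k (RQ A A) := by
  have : Subsingleton (RQ A A) := by
    rw [Submodule.Quotient.subsingleton_iff]; simp
  infer_instance

theorem rq_finrank_self : Module.finrank k (RQ A A) = 0 := by
  have : Subsingleton (RQ A A) := by
    rw [Submodule.Quotient.subsingleton_iff]; simp
  exact Module.finrank_zero_of_subsingleton

theorem finite_of_rq [Module.Finite k A] [Module.Finite k (RQ A B)] (hAB : A ≤ B) :
    Module.Finite k B := by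
  have : Module.Finite k (Submodule.comap B.subtype A) :=
    Module.Finite.equiv (Submodule.comapSubtypeEquivOfLe hAB).symm
  exact Module.Finite.of_submodule_quotient (Submodule.comap B.subtype A)

theorem finrank_of_rq [Module.Finite k B] (hAB : A ≤ B) :
    Module.finrank k (RQ A B) + Module.finrank k A = Module.finrank k B := by
  have := Submodule.finrank_quotient_add_finrank (Submodule.comap B.subtype A)
  rw [(Submodule.comapSubtypeEquivOfLe hAB).finrank_eq] at this
  exact this

end Groth.Agent.FF30
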