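import Groth.Agent.FF30.Jacobian

/-! Values in residue fields over an algebraically closed constant field. -/

open FunFld WithZero MvPolynomial
open scoped Multiplicative

namespace Groth.Agent.FF30

variable {k K : Type*} [Field k] [Field K] [Algebra k K]

theorem residue_eq_of_sub_lt (P : Place k K) (y : P.O) (c : k)
    (h : P.1 ((y : K) - algebraMap k K c) < 1) :
    IsLocalRing.residue P.O y = algebraMap k (IsLocalRing.ResidueField P.O) c := by
  have h1 : y - algebraMap k P.O c ∈ IsLocalRing.maximalIdeal P.O :=
    (Valuation.mem_maximalIdeal_iff (v := P.1)).mpr h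
  rw [← IsLocalRing.residue_eq_zero_iff, map_sub, sub_eq_zero] at h1
  exact h1

theorem aeval_residue_eq {σ : Type*} (P : Place k K) (y : σ → P.O) (c : σ → k)
    (h : ∀ i, P.1 ((y i : K) - algebraMap k K (c i)) < 1) (g : MvPolynomial σ k) :
    aeval (fun i => IsLocalRing.residue P.O (y i)) g =
      algebraMap k (IsLocalRing.ResidueField P.O) (eval c g) := by
  induction g using MvPolynomial.induction_on with
  | C r => rw [aeval_C, eval_C]
  | add p q hp hq => rw [map_add, map_add, map_add, hp, hq]
  | mul_X p i hp => rw [map_mul, map_mul, map_mul, aeval_X, eval_X, hp, residue_eq_of_sub_lt P _ _ (h i)]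

end Groth.Agent.FF30
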