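import Groth.Agent.FF30.ConstFinite
import Groth.Agent.FF30.AlgClosed
import Groth.Agent.FF30.Inertia
import Mathlib.FieldTheory.Perfect
import Mathlib.FieldTheory.Finite.Basic
import Mathlib.FieldTheory.SeparableClosure

/-! Places with separable residue field. -/

open FunFld WithZero Polynomial IntermediateField

namespace Groth.Agent.FF30

universe u v

variable {k : Type u} {K : Type v} [Field k] [Field K] [Algebra k K]

theorem infinite_monic_irreducible (k : Type*) [Field k] :
    {p : k[X] | p.Monic ∧ Irreducible p}.Infinite := by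
  intro hfin
  set S := hfin.toFinset
  have hX : (X : k[X]) ∈ S := hfin.mem_toFinset.2 ⟨monic_X, irreducible_X⟩
  have hmon : (∏ p ∈ S, p).Monic := monic_prod_of_monic _ _ fun p hp => (hfin.mem_toFinset.1 hp).1
  have hdeg : 0 < (∏ p ∈ S, p).natDegree := by
    rw [natDegree_prod_of_monic _ _ fun p hp => (hfin.mem_toFinset.1 hp).1]
    exact lt_of_lt_of_le (by rw [natDegree_X]; exact one_pos)
      (Finset.single_le_sum (f := fun p : k[X] => p.natDegree) (fun _ _ => Nat.zero_le _) hX)
  have hu : ¬ IsUnit (∏ p ∈ S, p + 1) := fun hu => by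
    have := natDegree_eq_zero_of_isUnit hu
    rw [natDegree_add_eq_left_of_natDegree_lt (by rwa [natDegree_one])] at this
    omega
  obtain ⟨q, hq, hqi, hqd⟩ := exists_monic_irreducible_factor _ hu
  have hq' : q ∣ ∏ p ∈ S, p := Finset.dvd_prod_of_mem _ (hfin.mem_toFinset.2 ⟨hq, hqi⟩)
  exact hqi.not_isUnit (isUnit_of_dvd_one ((dvd_add_right hq').1 hqd))

theorem FF.infinite_setOf_places (h : FF k K) : (Set.univ : Set (Place k K)).Infinite := by
  obtain ⟨t, ht, -⟩ := id h
  have htr : ∀ p : {p : k[X] | p.Monic ∧ Irreducible p}, Transcendental k (aeval t (p : k[X])) := by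
    rintro ⟨p, hp⟩ ha
    obtain ⟨g, hg0, hg⟩ := ha
    rw [← aeval_comp] at hg
    have := transcendental_iff.1 ht _ hg
    rcases comp_eq_zero_iff.1 this with h1 | ⟨-, h1⟩
    · exact hg0 h1
    · have := congrArg natDegree h1
      rw [natDegree_C] at this
      exact hp.2.natDegree_pos.ne' this
  choose f hf using fun p => h.exists_place_pos (htr p)
  have : Infinite {p : k[X] | p.Monic ∧ Irreducible p} := (infinite_monic_irreducible k).to_subtype
  refine Set.infinite_of_injective_forall_mem (f := f) (fun p q hpq => ?_) fun _ => Set.mem_univ _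
  by_contra hne
  set P := f p
  have hp : P.1 (aeval t (p : k[X])) < 1 := (val_lt_one_iff P fun e => by
    have := hf p; rw [e, ord_zero] at this; exact lt_irrefl _ this).2 (hf p)
  have hq : P.1 (aeval t (q : k[X])) < 1 := by
    have hq' := hf q
    rw [← hpq] at hq'
    exact (val_lt_one_iff P fun e => by rw [e, ord_zero] at hq'; exact lt_irrefl _ hq').2 hq'
  have ht1 : P.1 t ≤ 1 := by
    by_contra hgt
    rw [not_le] at hgt
    have hlt : P.1 t⁻¹ < 1 := by rw [map_inv₀]; exact inv_lt_one_of_one_lt₀ hgt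
    -- the leading term dominates
    have h1 : P.1 (aeval t (p : k[X]) - t ^ (p : k[X]).natDegree) < P.1 (t ^ (p : k[X]).natDegree) := by
      have : aeval t (p : k[X]) - t ^ (p : k[X]).natDegree = aeval t ((p : k[X]).eraseLead) := by
        have h5 := congrArg (aeval t) (p : k[X]).eraseLead_add_C_mul_X_pow
        rw [p.2.1.leadingCoeff, map_one, one_mul, map_add, map_pow, aeval_X] at h5
        linear_combination -h5
      rw [this, aeval_eq_sum_range]
      refine Valuation.map_sum_lt _ (val_ne_zero P (pow_ne_zero _ fun e => by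
        rw [e, map_zero] at hgt; exact not_lt_zero hgt)) fun i hi => ?_
      refine (val_smul_le P _ _).trans_lt ?_
      rw [map_pow, map_pow]
      refine pow_lt_pow_right₀ hgt ?_
      have h2 := eraseLead_natDegree_le (p : k[X])
      have h3 := p.2.2.natDegree_pos
      rw [Finset.mem_range] at hi
      omega
    have h4 := P.1.map_add_eq_of_lt_left h1
    rw [add_sub_cancel] at h4
    rw [h4, map_pow] at hp
    exact absurd hp (not_lt.2 (one_le_pow₀ hgt.le))
  have hcop : IsCoprime (p : k[X]) (q : k[X]) := by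
    refine (p.2.2.coprime_iff_not_dvd).2 fun hdvd => hne (Subtype.ext ?_)
    exact eq_of_monic_of_associated p.2.1 q.2.1 (p.2.2.associated_of_dvd q.2.2 hdvd)
  obtain ⟨a, c, hac⟩ := hcop
  have h1 := congrArg (fun r => P.1 (aeval t r)) hac
  simp only [map_add, map_mul, map_one] at h1
  exact absurd h1 (ne_of_lt ((P.1.map_add _ _).trans_lt (max_lt
    (by rw [map_mul]; exact mul_lt_one_aux (val_aeval_le_one P.1 P.2.1 ht1 a) hp)
    (by rw [map_mul]; exact mul_lt_one_aux (val_aeval_le_one P.1 P.2.1 ht1 c) hq))))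

theorem infinite_separable_places (hK : IsFunctionField k K) (hg : IsGeometric k K) :
    {P : Place k K | Algebra.IsSeparable k (IsLocalRing.ResidueField P.O)}.Infinite := by
  classical
  have hF : FF k K := hK.1
  rcases finite_or_infinite k with hk | hk
  · refine hF.infinite_setOf_places.mono fun P _ => ?_
    have hfin := hF.finite_residueField P
    change Algebra.IsSeparable k (IsLocalRing.ResidueField P.O)
    have : Algebra.IsAlgebraic k (IsLocalRing.ResidueField P.O) :=
      ⟨fun r => (FF.isIntegral_residue hF P r).isAlgebraic⟩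
    exact Algebra.IsAlgebraic.isSeparable_of_perfectField
  obtain ⟨x, hx, hfin, hsep⟩ := Exp31.exists_separating hK hg
  have := hfin
  have := hsep
  set L := k⟮x⟯
  obtain ⟨hFL, -⟩ := hF.intermediateField L (IntermediateField.mem_adjoin_simple_self k x) hx
  obtain ⟨y, hy⟩ := Field.exists_primitive_element L K
  have hyi : IsIntegral L y := Algebra.IsIntegral.isIntegral y
  have hytop : Algebra.adjoin L ({y} : Set K) = ⊤ := by
    rw [← IntermediateField.adjoin_simple_toSubalgebra_of_isAlgebraic hyi.isAlgebraic, hy,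
      IntermediateField.top_toSubalgebra]
  set f := minpoly L y with hf
  have hD0 : aeval y (derivative f) ≠ 0 :=
    (Algebra.IsSeparable.isSeparable L y).aeval_derivative_ne_zero (minpoly.aeval L y)
  set B := {P : Place k K | P.ord (aeval y (derivative f)) ≠ 0} ∪
    ⋃ l ∈ Finset.range (f.natDegree + 1), {P | 1 < P.1 (f.coeff l : K)}
  have hB : B.Finite := (hF.finite_support_ord _).union
    (Set.Finite.biUnion (Finset.finite_toSet _) fun l _ => (hF.finite_support_ord _).subset fun P hP => by
      have hP' : 1 < P.1 (f.coeff l : K) := hP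
      have := (one_lt_val_iff P).mp hP'
      simp only [Function.mem_support]
      exact ne_of_lt this)
  have htr : ∀ c : k, Transcendental k (x - algebraMap k K c) := fun c ha => hx (by
    have := ha.add (isAlgebraic_algebraMap (R := k) (A := K) c)
    rwa [sub_add_cancel] at this)
  choose Pc hPc using fun c => hF.exists_place_pos (htr c)
  have hPc' : ∀ c, (Pc c).1 (x - algebraMap k K c) < 1 := fun c =>
    (val_lt_one_iff _ fun e => by have := hPc c; rw [e, ord_zero] at this; exact lt_irrefl _ this).2 (hPc c)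
  have hinj : Function.Injective Pc := by
    intro a b hab
    by_contra hne
    have h1 := hPc' a
    have h2 := hPc' b
    rw [← hab] at h2
    have h3 : (Pc a).1 (algebraMap k K (b - a)) < 1 := by
      rw [map_sub, show algebraMap k K b - algebraMap k K a =
        (x - algebraMap k K a) - (x - algebraMap k K b) by ring]
      exact (Valuation.map_sub _ _ _).trans_lt (max_lt h1 h2)
    rw [val_algebraMap _ (sub_ne_zero.2 (Ne.symm hne))] at h3
    exact lt_irrefl _ h3
  refine ((Set.infinite_range_of_injective hinj).sdiff hB).mono ?_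
  rintro P ⟨⟨c, rfl⟩, hPB⟩
  set P := Pc c
  have hxc := hPc' c
  simp only [B, Set.mem_union, not_or, Set.mem_setOf_eq, Set.mem_iUnion, not_exists, not_lt, not_not] at hPB
  obtain ⟨hDP, hcoef⟩ := hPB
  obtain ⟨P₀, e, -, he⟩ := hFL.exists_isOverWith P
  have hf1 : ∀ l, P₀.1 (f.coeff l) ≤ 1 := fun l => by
    refine (isOverWith_le_one_iff he _).1 ?_
    by_cases hl : l ∈ Finset.range (f.natDegree + 1)
    · exact hcoef l hl
    · rw [coeff_eq_zero_of_natDegree_lt (by simpa using hl)]
      simp
  let g : L := IntermediateField.AdjoinSimple.gen k x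
  have hg1 : P₀.1 g ≤ 1 := by
    refine (isOverWith_le_one_iff he g).1 ?_
    change P.1 x ≤ 1
    have hx_eq : x = (x - algebraMap k K c) + algebraMap k K c := (sub_add_cancel _ _).symm
    rw [hx_eq]
    exact (P.1.map_add _ _).trans (max_le hxc.le (P.2.1 c))
  -- elements of `L` are congruent to constants
  have hconst : ∀ a : L, P₀.1 a ≤ 1 → ∃ r : k, P.1 ((a : K) - algebraMap k K r) < 1 := by
    intro a ha
    have hpoly : ∀ q : k[X], P.1 (aeval x q - algebraMap k K (q.eval c)) < 1 := by
      intro q
      obtain ⟨m, hm⟩ := (X_sub_C_dvd_sub_C_eval (p := q) (a := c))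
      have := congrArg (aeval x) hm
      simp only [map_sub, aeval_C, map_mul, aeval_X] at this
      rw [this, map_mul, mul_comm]
      refine mul_lt_one_aux (val_aeval_le_one P.1 P.2.1 ?_ m) hxc
      exact (isOverWith_le_one_iff he g).2 hg1
    obtain ⟨u, d, hud⟩ := (IntermediateField.mem_adjoin_simple_iff k _).1 a.2
    rcases eq_or_ne d 0 with rfl | hd0
    · exact ⟨0, by simp [hud]⟩
    obtain ⟨u', d', hcop, hu, hd'⟩ := exists_coprime_fraction u d hd0
    have hne : aeval x d' ≠ 0 := fun e => hd' (transcendental_iff.1 hx d' e)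
    have ha' : (a : K) * aeval x d' = aeval x u' := by
      rw [hud, div_mul_eq_mul_div, div_eq_iff (fun e => hd0 (transcendental_iff.1 hx d e)), ← map_mul,
        ← map_mul, hu]
    have haP : P.1 (a : K) ≤ 1 := (isOverWith_le_one_iff he a).2 ha
    have hdc : d'.eval c ≠ 0 := by
      intro h0
      have h1 := hpoly d'
      rw [h0, map_zero, sub_zero] at h1
      have h2 : P.1 (aeval x u') < 1 := by
        rw [← ha', map_mul]
        exact mul_lt_one_aux haP h1
      have h3 := hpoly u'
      have hu0 : u'.eval c = 0 := by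
        by_contra hne'
        have h4 : P.1 (algebraMap k K (u'.eval c)) < 1 := by
          rw [show algebraMap k K (u'.eval c) = aeval x u' - (aeval x u' - algebraMap k K (u'.eval c)) by ring]
          exact (P.1.map_sub _ _).trans_lt (max_lt h2 h3)
        rw [val_algebraMap _ hne'] at h4
        exact lt_irrefl _ h4
      obtain ⟨s, t, hst⟩ := hcop
      have h5 := congrArg (Polynomial.eval c) hst
      simp [hu0, h0] at h5
    refine ⟨u'.eval c / d'.eval c, ?_⟩
    have h1 : P.1 (aeval x d') = 1 := by
      have hlt : P.1 (aeval x d' - algebraMap k K (d'.eval c)) < P.1 (algebraMap k K (d'.eval c)) := by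
        rw [val_algebraMap _ hdc]; exact hpoly d'
      have h2 := P.1.map_add_eq_of_lt_left hlt
      rwa [add_sub_cancel, val_algebraMap _ hdc] at h2
    have hc0 : algebraMap k K (d'.eval c) ≠ 0 := (_root_.map_ne_zero _).2 hdc
    have key : ((a : K) - algebraMap k K (u'.eval c / d'.eval c)) * aeval x d' =
        (aeval x u' - algebraMap k K (u'.eval c)) -
          algebraMap k K (u'.eval c / d'.eval c) * (aeval x d' - algebraMap k K (d'.eval c)) := by
      have : algebraMap k K (u'.eval c / d'.eval c) * algebraMap k K (d'.eval c) =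
          algebraMap k K (u'.eval c) := by rw [← map_mul, div_mul_cancel₀ _ hdc]
      rw [sub_mul, ha']
      linear_combination -this
    have h6 := congrArg P.1 key
    rw [map_mul, h1, mul_one] at h6
    rw [h6]
    refine (P.1.map_sub _ _).trans_lt (max_lt (hpoly u') ?_)
    rw [map_mul]
    exact mul_lt_one_aux (P.2.1 _) (hpoly d')
  -- the residue field is generated by the residue of `y`
  let _ : Algebra P₀.O K := ((algebraMap L K).comp P₀.O.subtype).toAlgebra
  have : IsScalarTower P₀.O L K := IsScalarTower.of_algebraMap_eq fun _ => rfl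
  have hlift : f ∈ lifts (algebraMap P₀.O L) := (lifts_iff_coeff_lifts f).2 fun l => ⟨⟨_, hf1 l⟩, rfl⟩
  obtain ⟨f₀, hf₀, -, hf₀m⟩ := lifts_and_degree_eq_and_monic hlift (minpoly.monic hyi)
  have hyint : IsIntegral P₀.O y := ⟨f₀, hf₀m, by
    change aeval y f₀ = 0
    rw [← aeval_map_algebraMap L, hf₀]
    exact minpoly.aeval L y⟩
  let incl : P₀.O →+* P.O := overHom ⟨e, he⟩
  let ρ : P₀.O →+* IsLocalRing.ResidueField P.O := (IsLocalRing.residue P.O).comp incl
  have hρ : ∀ a, ρ a ∈ Set.range (algebraMap k (IsLocalRing.ResidueField P.O)) := by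
    intro a
    obtain ⟨r, hr⟩ := hconst (a : L) a.2
    refine ⟨r, ?_⟩
    change IsLocalRing.residue P.O (algebraMap k P.O r) = IsLocalRing.residue P.O (incl a)
    rw [← sub_eq_zero, ← map_sub, IsLocalRing.residue_eq_zero_iff, Valuation.mem_maximalIdeal_iff]
    change P.1 (algebraMap k K r - (algebraMap L K (a : L))) < 1
    rw [Valuation.map_sub_swap]
    exact hr
  obtain ⟨fb, hfb, -, hfbm⟩ := lifts_and_degree_eq_and_monic
    ((lifts_iff_coeff_lifts (f₀.map ρ)).2 fun l => by rw [coeff_map]; exact hρ _) (hf₀m.map ρ)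
  let yO : P.O := ⟨y, (hFL.isIntegral_iff P₀ y).1 hyint P ⟨e, he⟩⟩
  set yb := IsLocalRing.residue P.O yO
  have hev : ∀ q : Polynomial P₀.O, ∃ hq : P.1 (aeval y q) ≤ 1,
      eval₂ ρ yb q = IsLocalRing.residue P.O ⟨aeval y q, hq⟩ := by
    intro q
    have h1 : eval₂ ρ yb q = IsLocalRing.residue P.O (eval₂ incl yO q) := (hom_eval₂ q incl _ yO).symm
    have h2 : ((eval₂ incl yO q : P.O) : K) = aeval y q := by
      change P.O.subtype (eval₂ incl yO q) = eval₂ (algebraMap P₀.O K) y q
      rw [hom_eval₂]
      rfl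
    exact ⟨h2 ▸ (eval₂ incl yO q).2, h1.trans (congrArg _ (Subtype.ext h2))⟩
  have haev : ∀ q : k[X], ∀ q₀ : Polynomial P₀.O,
      q.map (algebraMap k (IsLocalRing.ResidueField P.O)) = q₀.map ρ → aeval yb q = eval₂ ρ yb q₀ := by
    intro q q₀ hq
    rw [aeval_def, ← eval_map, hq, eval_map]
  have hroot : aeval yb fb = 0 := by
    rw [haev fb f₀ hfb]
    obtain ⟨hq, h⟩ := hev f₀
    rw [h, IsLocalRing.residue_eq_zero_iff, Valuation.mem_maximalIdeal_iff]
    change P.1 (aeval y f₀) < 1
    rw [← aeval_map_algebraMap L, hf₀, minpoly.aeval, map_zero]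
    exact zero_lt_one
  have hder : aeval yb (derivative fb) ≠ 0 := by
    rw [haev (derivative fb) (derivative f₀) (by rw [← derivative_map, hfb, derivative_map])]
    obtain ⟨hq, h⟩ := hev (derivative f₀)
    rw [h, Ne, IsLocalRing.residue_eq_zero_iff, Valuation.mem_maximalIdeal_iff]
    change ¬ P.1 (aeval y (derivative f₀)) < 1
    rw [← aeval_map_algebraMap L, ← derivative_map, hf₀, (val_eq_one_iff P hD0).2 hDP]
    exact lt_irrefl _
  have hybi : IsIntegral k yb := FF.isIntegral_residue hF P yb
  have hybsep : IsSeparable k yb := by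
    change (minpoly k yb).Separable
    rw [separable_iff_derivative_ne_zero (minpoly.irreducible hybi)]
    intro h0
    obtain ⟨m, hm⟩ := minpoly.dvd k yb hroot
    refine hder ?_
    rw [hm, derivative_mul, h0, zero_mul, zero_add, map_mul, minpoly.aeval, zero_mul]
  set S := separableClosure k (IsLocalRing.ResidueField P.O)
  have hyS : yb ∈ S := mem_separableClosure_iff.2 hybsep
  have hρS : ∀ a, ρ a ∈ S := fun a => by
    obtain ⟨r, hr⟩ := hρ a
    rw [← hr]; exact S.algebraMap_mem r
  have hevS : ∀ q : Polynomial P₀.O, eval₂ ρ yb q ∈ S := fun q => by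
    rw [eval₂_eq_sum_range]
    exact sum_mem fun l _ => mul_mem (hρS _) (pow_mem hyS _)
  refine ⟨fun z => mem_separableClosure_iff.1 ?_⟩
  obtain ⟨⟨z, hz⟩, rfl⟩ := IsLocalRing.residue_surjective z
  -- localise
  set T := (hFL.finite_setOf_isOver (K' := K) P₀).toFinset
  have memT : ∀ R, R ∈ T ↔ IsOver R P₀ := fun R => (hFL.finite_setOf_isOver P₀).mem_toFinset
  set N := ∑ R ∈ T, (R.ord z).natAbs + 1 with hN
  obtain ⟨s, hsP, hsR⟩ := exists_delta P (T.erase P) (T.notMem_erase P) N
  have hs_lt : P.1 (s - 1) < 1 := hsP.trans_lt (by rw [← exp_zero, exp_lt_exp]; omega)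
  have hs1 : P.1 s = 1 := by
    have h3 := P.1.map_add_eq_of_lt_left (x := (1 : K)) (y := s - 1) (by rwa [map_one])
    rwa [add_sub_cancel, map_one] at h3
  have hwint : IsIntegral P₀.O (s * z) := by
    refine (hFL.isIntegral_iff P₀ _).2 fun R hR => ?_
    rw [map_mul]
    by_cases hRP : R = P
    · subst hRP
      rw [hs1, one_mul]
      exact hz
    · rcases eq_or_ne z 0 with h0 | hz0
      · simp [h0]
      rw [val_eq R hz0]
      refine (mul_le_mul' (hsR R (Finset.mem_erase.2 ⟨hRP, (memT R).2 hR⟩)) le_rfl).trans ?_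
      rw [← exp_add, ← exp_zero, exp_le_exp]
      have h1 : (R.ord z).natAbs ≤ ∑ R ∈ T, (R.ord z).natAbs :=
        Finset.single_le_sum (f := fun R : Place k K => (R.ord z).natAbs) (fun _ _ => Nat.zero_le _)
          ((memT R).2 hR)
      omega
  have hDz := deriv_mul_mem_adjoin P₀ hytop hyint hwint
  obtain ⟨q, hq⟩ := Algebra.adjoin_mem_exists_aeval P₀.O y hDz
  obtain ⟨hq1, hqres⟩ := hev q
  obtain ⟨hd1, hdres⟩ := hev (derivative f₀)
  have hzS : IsLocalRing.residue P.O ⟨z, hz⟩ * eval₂ ρ yb (derivative f₀) = eval₂ ρ yb q := by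
    rw [hdres, hqres, ← map_mul, ← sub_eq_zero, ← map_sub, IsLocalRing.residue_eq_zero_iff,
      Valuation.mem_maximalIdeal_iff]
    change P.1 (z * aeval y (derivative f₀) - aeval y q) < 1
    rw [hq, ← aeval_map_algebraMap L, ← derivative_map, hf₀,
      show z * aeval y (derivative f) - aeval y (derivative f) * (s * z) =
        aeval y (derivative f) * z * -(s - 1) by ring, map_mul, map_mul, Valuation.map_neg,
      (val_eq_one_iff P hD0).2 hDP, one_mul]
    exact mul_lt_one_aux hz hs_lt
  have hne : eval₂ ρ yb (derivative f₀) ≠ 0 := by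
    rw [← haev (derivative fb) (derivative f₀) (by rw [← derivative_map, hfb, derivative_map])]
    exact hder
  rw [(eq_div_iff hne).2 hzS]
  exact div_mem (hevS q) (hevS _)

end Groth.Agent.FF30
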