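import Groth.Agent.FF30.Gaps
import Groth.Agent.SV31.Deg
import Groth.Agent.SV31.Classical
import Groth.Agent.SV31.Orders
import Mathlib.Tactic.FieldSimp
import Mathlib.Algebra.Order.BigOperators.Group.Finset

/-! Counting strong fixed points of an endomorphism. -/

open FunFld WithZero

namespace Groth.Agent.FF30

variable {k K : Type*} [Field k] [Field K] [Algebra k K]

theorem not_isGap_of_ge (h : IsFunctionField k K) (P : Place k K) (hdeg : P.deg = 1) {m : ℕ}
    (hm1 : 1 ≤ m) (hm : 2 * genus k K ≤ m) : ¬ IsGap P m := by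
  intro hgap
  have h1 := ell_eq_of_deg_gt h (D := Finsupp.single P (m : ℤ)) (by rw [deg_single, hdeg]; omega)
  have h2 := ell_eq_of_deg_gt h (D := Finsupp.single P ((m : ℤ) - 1)) (by rw [deg_single, hdeg]; omega)
  rw [deg_single, hdeg] at h1 h2
  have h3 : ell (Finsupp.single P (m : ℤ) : Divisor k K) = ell (Finsupp.single P ((m : ℤ) - 1)) := by
    rw [ell, ell, hgap]
  omega

theorem orders_add_rev_le {n N : ℕ} {J : Fin n → ℕ} (hJ : StrictMono J) (hN : ∀ l, J l ≤ N)
    (l : Fin n) : J l + (n - 1 - (l : ℕ)) ≤ N := by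
  have hmono : StrictMono fun i : Fin n => N - J i.rev := fun a b hab => by
    have := hJ (Fin.rev_lt_rev.mpr hab)
    have := hN a.rev
    change N - J a.rev < N - J b.rev
    omega
  have h := SV31.coe_le_of_strictMono hmono l.rev
  simp only [Fin.rev_rev, Fin.val_rev] at h
  have := hN l
  omega

theorem orders_eq_of_range {n m : ℕ} {J : Fin n → ℕ} (hJ : StrictMono J) (hpos : ∀ l, 0 < J l)
    (hr : ∀ j, 1 ≤ j → j ≤ m → j ∈ Set.range J) (l : Fin n) (hl : (l : ℕ) < m) :
    J l = (l : ℕ) + 1 := by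
  induction l using WellFoundedLT.induction with
  | ind l ih =>
    obtain ⟨i, hi⟩ := hr ((l : ℕ) + 1) (by omega) (by omega)
    have hlow : ∀ j : Fin n, (j : ℕ) + 1 ≤ J j := fun j => by
      have hmono : StrictMono fun a : Fin n => J a - 1 := fun a b hab => by
        have := hJ hab
        have := hpos a
        change J a - 1 < J b - 1
        omega
      have := SV31.coe_le_of_strictMono hmono j
      have := hpos j
      omega
    have hil : i ≤ l := Fin.le_def.mpr (by have := hlow i; omega)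
    rcases hil.lt_or_eq with h | h
    · have := ih i h (by have : (i : ℕ) < l := h; omega)
      have : (i : ℕ) < l := h
      omega
    · rw [← h] at hi ⊢; exact hi

theorem two_mul_sum_id (n : ℕ) : 2 * ∑ l : Fin n, ((l : ℕ) : ℤ) = (n : ℤ) * ((n : ℤ) - 1) := by
  induction n with
  | zero => simp
  | succ n ih => rw [Fin.sum_univ_castSucc]; simp only [Fin.val_castSucc, Fin.val_last]; push_cast; linarith

theorem two_mul_sum_orders_le {n g : ℕ} (hgn : g ≤ n) {I : Fin n → ℤ}
    (h1 : ∀ l : Fin n, (l : ℕ) < n - g → I l ≤ ((l : ℕ) : ℤ))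
    (h2 : ∀ l : Fin n, I l ≤ ((l : ℕ) : ℤ) + g) :
    2 * ∑ l, I l ≤ (n : ℤ) * ((n : ℤ) - 1) + 2 * ((g : ℤ) * g) := by
  obtain ⟨a, rfl⟩ : ∃ a, n = a + g := ⟨n - g, by omega⟩
  rw [← two_mul_sum_id, Fin.sum_univ_add, Fin.sum_univ_add]
  have hA : ∑ i : Fin a, I (Fin.castAdd g i) ≤ ∑ i : Fin a, ((Fin.castAdd g i : ℕ) : ℤ) :=
    Finset.sum_le_sum fun i _ => h1 _ (by simp)
  have hB : ∑ i : Fin g, I (Fin.natAdd a i) ≤ ∑ i : Fin g, (((Fin.natAdd a i : ℕ) : ℤ) + g) :=
    Finset.sum_le_sum fun i _ => h2 _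
  rw [Finset.sum_add_distrib, Finset.sum_const, Finset.card_univ, Fintype.card_fin, nsmul_eq_mul] at hB
  linarith

theorem strong_fixed_places_bound [IsAlgClosed k] (hK : IsFunctionField k K) (τ : K →ₐ[k] K) (n : ℕ)
    (hn : genus k K < n) :
    {P : Place k K | IsStrongFixedPt τ P}.Finite ∧
    (Set.ncard {P : Place k K | IsStrongFixedPt τ P} : ℝ) ≤
      1 + Module.finrank τ.fieldRange K +
        (n + (Module.finrank τ.fieldRange K : ℝ) / n) * genus k K +
        2 * (genus k K : ℝ) ^ 2 * (genus k K - 1) / n := by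
  have hF : FF k K := hK.1
  set g := genus k K with hg
  set d := Module.finrank τ.fieldRange K
  set S := {P : Place k K | IsStrongFixedPt τ P}
  have hn0 : 0 < n := by omega
  have hnR : (0 : ℝ) < n := by exact_mod_cast hn0
  suffices key : S.Finite ∧ (n : ℤ) * (S.ncard : ℤ) ≤
      (n : ℤ) * (1 + d) + g * (n : ℤ) ^ 2 + d * g + 2 * (g : ℤ) ^ 2 * ((g : ℤ) - 1) by
    refine ⟨key.1, ?_⟩
    have h := (Int.cast_le (R := ℝ)).mpr key.2
    push_cast at h
    rw [← mul_le_mul_iff_right₀ hnR]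
    refine h.trans (le_of_eq ?_)
    field_simp
    ring
  rcases S.eq_empty_or_nonempty with hS | ⟨P₀, hP₀⟩
  · rw [hS]
    refine ⟨Set.finite_empty, ?_⟩
    simp only [Set.ncard_empty, Nat.cast_zero, mul_zero]
    rcases Nat.eq_zero_or_pos g with h | h
    · rw [h]; simp; positivity
    · have : (0 : ℤ) ≤ (g : ℤ) - 1 := by omega
      positivity
  obtain ⟨t, -, ht⟩ := exists_uniformizer P₀
  obtain ⟨H, hH⟩ := SV31.exists_hasse_param hK ht
  obtain ⟨ψ, hψ⟩ := SV31.exists_localData hK ht hH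
  have hdeg1 : P₀.deg = 1 := hF.deg_eq_one P₀
  set D : Divisor k K := Finsupp.single P₀ ((n + g : ℕ) : ℤ) with hD
  have hDdeg : D.deg = ((n + g : ℕ) : ℤ) := by rw [hD, deg_single, hdeg1]; simp
  have hell : ell D = n + 1 := by
    have := ell_eq_of_deg_gt hK (D := D) (by rw [hDdeg]; omega)
    rw [hDdeg] at this
    omega
  have : FiniteDimensional k (L D) := Module.finite_of_finrank_pos (by rw [← ell, hell]; omega)
  let b := Module.finBasisOfFinrankEq k (L D) hell
  set φ : Fin (n + 1) → K := fun i => (b i : K) with hφdef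
  have hφ : LinearIndependent k φ := b.linearIndependent.map' (L D).subtype (L D).ker_subtype
  have hspan : Submodule.span k (Set.range φ) = L D := by
    rw [hφdef, show Set.range (fun i => (b i : K)) = (L D).subtype '' Set.range b from Set.range_comp _ _,
      ← Submodule.map_span, b.span_eq, Submodule.map_top, Submodule.range_subtype]
  -- nongaps
  have hz : ∀ m : ℕ, m ≤ n + g → 2 * g ≤ m →
      ∃ z ∈ L D, P₀.1 z = exp (m : ℤ) := by
    intro m hm hm2
    rcases Nat.eq_zero_or_pos m with rfl | hm1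
    · refine ⟨1, fun Q => ?_, by simp⟩
      rw [map_one, ← exp_zero, exp_le_exp, hD]
      classical
      rw [Finsupp.single_apply]
      split <;> omega
    · obtain ⟨f, hf, hfQ⟩ := (not_isGap_iff hF P₀ hm1).mp (not_isGap_of_ge hK P₀ hdeg1 hm1 hm2)
      have hf0 : f ≠ 0 := fun e => by subst e; rw [ord_zero] at hf; omega
      refine ⟨f, (mem_L_iff_ord hf0).mpr fun Q => ?_, by rw [val_eq P₀ hf0, hf, neg_neg]⟩
      by_cases hQ : Q = P₀
      · subst hQ; rw [hD, Finsupp.single_eq_same, hf]; omega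
      · rw [hD, Finsupp.single_eq_of_ne hQ]; simpa using hfQ Q hQ
  obtain ⟨u, huL, hu⟩ := hz (n + g) le_rfl (by omega)
  have hu0 : u ≠ 0 := fun e => by rw [e, map_zero] at hu; exact exp_ne_zero hu.symm
  have hy : u⁻¹ ≠ 0 := inv_ne_zero hu0
  set φ' := u⁻¹ • φ with hφ'
  have hli : LinearIndependent k φ' :=
    hφ.map' (LinearMap.mulLeft k u⁻¹) (LinearMap.ker_eq_bot.mpr fun a c h => mul_left_cancel₀ hy h)
  have hspan' : Submodule.span k (Set.range φ') = (L D).map (LinearMap.mulLeft k u⁻¹) := by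
    rw [← hspan, Submodule.map_span, ← Set.range_comp]; rfl
  have heff : (1 : K) ∈ Submodule.span k (Set.range φ') := by
    rw [hspan']; exact ⟨u, huL, by simp [hu0]⟩
  have hnorm : ∀ i, P₀.1 (φ' i) ≤ 1 := fun i => by
    have h1 : P₀.1 (φ i) ≤ exp ((n + g : ℕ) : ℤ) := by
      refine ((b i).2 P₀).trans_eq (congrArg exp ?_)
      rw [hD, Finsupp.single_eq_same]
    change P₀.1 (u⁻¹ * φ i) ≤ 1
    rw [map_mul, map_inv₀, hu, ← exp_neg]
    refine (mul_le_mul' le_rfl h1).trans_eq ?_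
    rw [← exp_add, neg_add_cancel, exp_zero]
  have hmap : (mapDiv k φ').deg ≤ ((n + g : ℕ) : ℤ) := by
    rw [hφ', SV31.deg_mapDiv_smul hK hφ hy, ← hDdeg]
    refine deg_mono fun Q => ?_
    obtain ⟨i, hi⟩ := SV31.exists_val_eq_mapDiv hK φ hφ.ne_zero Q
    exact exp_le_exp.mp (hi ▸ (b i).2 Q)
  obtain ⟨J', hJ'⟩ := SV31.exists_isOrders (SV31.span_coefCol hψ hli hnorm) (n := n) (by simp)
    (SV31.coefCol_zero_ne hψ heff)
  obtain ⟨J, hJ⟩ := SV31.exists_orders hK hli τ hH
  obtain ⟨Φ, hΦ⟩ := SV31.exists_expansion_family hK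
  obtain ⟨hfin, hbound⟩ := SV31.strong_fixed_bound hK Φ hΦ τ hH hli hJ hn0
  refine ⟨hfin, hbound.trans ?_⟩
  have hpos : ∀ l, 0 < J' l := fun l =>
    ((SV31.isJump_coefCol_iff hψ hnorm (J' l)).1 ((hJ'.2 _).1 ⟨l, rfl⟩)).1
  have htop : ∀ l, J' l ≤ n + g := fun l => by
    have := (SV31.orders_at_le_deg hK hψ hli hnorm heff hJ' l).trans hmap
    exact_mod_cast this
  have hrange : ∀ j, 1 ≤ j → j ≤ n - g → j ∈ Set.range J' := by
    intro j hj1 hj2
    rw [hJ'.2 j, SV31.isJump_coefCol_iff hψ hnorm j]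
    obtain ⟨z, hzL, hz'⟩ := hz (n + g - j) (by omega) (by omega)
    refine ⟨hj1, u⁻¹ * z, by rw [hspan']; exact ⟨z, hzL, rfl⟩, ?_⟩
    rw [map_mul, map_inv₀, hu, hz', ← exp_neg, ← exp_add]
    congr 1
    omega
  have hd : (0 : ℤ) ≤ (n : ℤ) + d := by positivity
  refine (Int.add_le_add_right (mul_le_mul_of_nonneg_left hmap hd) _).trans ?_
  have hlow : ((n : ℤ) * ((n : ℤ) - 1)) ≤ 2 * ∑ l, (J l : ℤ) := by
    rw [← two_mul_sum_id]
    exact mul_le_mul_of_nonneg_left (Finset.sum_le_sum fun l _ => by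
      exact_mod_cast SV31.coe_le_of_strictMono hJ.1 l) (by norm_num)
  rcases Nat.eq_zero_or_pos g with hg0 | hg1
  · rw [hg0]
    push_cast
    nlinarith
  have hrel : ∀ l, J l + J' ⟨0, hn0⟩ ≤ J' l :=
    SV31.orders_add_le_strong hK hP₀ hn0 hli heff hnorm ht hψ hJ hJ'
  have hup := two_mul_sum_orders_le (g := g) (by omega) (I := fun l => (J l : ℤ))
    (fun l hl => by
      have := hrel l
      have := hpos ⟨0, hn0⟩
      have := orders_eq_of_range hJ'.1 hpos hrange l hl
      omega)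
    (fun l => by
      have := hrel l
      have := hpos ⟨0, hn0⟩
      have := orders_add_rev_le hJ'.1 htop l
      have := l.isLt
      omega)
  have hg2 : (0 : ℤ) ≤ (g : ℤ) - 1 := by omega
  push_cast
  nlinarith [mul_le_mul_of_nonneg_left hup hg2]

end Groth.Agent.FF30
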