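import Groth.Agent.FF30.MapDiv
import Groth.Agent.FF30.SubField
import Mathlib.RingTheory.Finiteness.Basic

/-! The degree of a map composed with an embedding of function fields. -/

open FunFld IntermediateField

namespace Groth.Agent.FF30

variable {k K K' : Type*} [Field k] [Field K] [Field K'] [Algebra k K] [Algebra k K']

theorem finite_fieldRange (hK : FF k K) (hK' : FF k K') (τ : K →ₐ[k] K') :
    FiniteDimensional τ.fieldRange K' := by
  obtain ⟨x, hx, -⟩ := hK
  refine (hK'.intermediateField τ.fieldRange (x := τ x) ⟨x, rfl⟩ fun ha => hx ?_).2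
  exact (isAlgebraic_algHom_iff τ τ.toRingHom.injective).mp ha

/-- The degree of a twisted map. -/
theorem deg_mapDiv_comp {ι : Type*} [Fintype ι] [Nonempty ι] (hK : FF k K) (hK' : FF k K')
    (τ : K →ₐ[k] K') (φ : ι → K) :
    (mapDiv k (τ ∘ φ)).deg = Module.finrank τ.fieldRange K' * (mapDiv k φ).deg := by
  let : Algebra K K' := τ.toRingHom.toAlgebra
  have : IsScalarTower k K K' := IsScalarTower.of_algebraMap_eq fun c => (τ.commutes c).symm
  let e : K ≃+* τ.fieldRange := (AlgEquiv.ofInjectiveField τ).toRingEquiv
  have hcomm : (algebraMap τ.fieldRange K').comp (e : K →+* τ.fieldRange) =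
      (RingEquiv.refl K' : K' →+* K').comp (algebraMap K K') := RingHom.ext fun _ => rfl
  have hfr : Module.finrank K K' = Module.finrank τ.fieldRange K' :=
    Algebra.finrank_eq_of_equiv_equiv e (RingEquiv.refl K') hcomm
  have := finite_fieldRange hK hK' τ
  have : FiniteDimensional K K' := Module.Finite.of_equiv_equiv e.symm (RingEquiv.refl K')
    (RingHom.ext fun z => by
      change algebraMap K K' (e.symm z) = (z : K')
      exact congrArg Subtype.val (e.apply_symm_apply z))
  rw [show τ ∘ φ = fun i => algebraMap K K' (φ i) from rfl, hK.mapDiv_algebraMap, hK.deg_conorm, hfr]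

end Groth.Agent.FF30
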