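import Groth.Agent.FF30.Differentials
import Groth.Agent.FF30.Inertia
import Groth.Agent.FF30.SubField
import Mathlib.FieldTheory.PurelyInseparable.PerfectClosure
import Mathlib.FieldTheory.Perfect

/-! Uniformizers at places with separable residue field. -/

open FunFld IntermediateField WithZero

namespace Groth.Agent.FF30

universe u v

variable {k : Type u} {K : Type v} [Field k] [Field K] [Algebra k K]

/-- A uniformizer at a place with separable residue field is not in `k K^p`. -/
theorem uniformizer_notMem_powField (p : ℕ) [hp : Fact p.Prime] [CharP K p]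
    (hK : IsFunctionField k K) (hg : IsGeometric k K) (P : Place k K)
    [Algebra.IsSeparable k (IsLocalRing.ResidueField P.O)] {t : K} (ht : P.1 t = exp (-1)) :
    t ∉ powField k K p := by
  intro htL
  obtain ⟨-, -, -, -, hfr, -⟩ := powField_data p hK hg
  set L := powField k K p
  have ht1 : P.ord t = 1 := by rw [ord_eq_of_val_eq P ht]; rfl
  obtain ⟨hL, hfd⟩ := (FF.of_isFunctionField hK).intermediateField L htL
    (transcendental_of_ord_ne_zero P (by rw [ht1]; exact one_ne_zero))
  have := hfd
  obtain ⟨P₀, e, he0, he⟩ := hL.exists_isOverWith P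
  have hover : IsOver P P₀ := ⟨e, he⟩
  -- unramified
  have he1 : e = 1 := by
    have h := isOverWith_ord he (⟨t, htL⟩ : L)
    change P.ord t = _ at h
    rw [ht1] at h
    have h' : (e : ℤ) ∣ 1 := ⟨_, h⟩
    exact_mod_cast Int.eq_one_of_dvd_one (by positivity) h'
  have hram : ramIdx P P₀ = 1 := by rw [ramIdx_eq he, he1]
  -- only place above
  have huniq : ∀ Q, IsOver Q P₀ → Q = P := fun Q hQ => by
    refine eq_of_val_le_one_imp fun x hx => ?_
    have hxp : x ^ p ∈ L := IntermediateField.subset_adjoin k _ ⟨x, rfl⟩
    have h1 : P₀.1 ⟨x ^ p, hxp⟩ ≤ 1 := by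
      rw [← isOverWith_le_one_iff (isOverWith_ramIdx hQ)]
      change Q.1 (x ^ p) ≤ 1
      rw [map_pow]
      exact pow_le_one₀ zero_le hx
    rw [← isOverWith_le_one_iff he] at h1
    change P.1 (x ^ p) ≤ 1 at h1
    rw [map_pow] at h1
    exact (pow_le_one_iff hp.out.ne_zero).mp h1
  have hdeg := hL.sum_ramIdx_mul_deg (K' := K) P₀ {P} (fun Q => by
    rw [Finset.mem_singleton]; exact ⟨fun h => h ▸ hover, huniq Q⟩)
  rw [Finset.sum_singleton, hram, one_mul, hfr] at hdeg
  -- equal residue fields
  have : IsLocalHom (overHom hover) := overHom_isLocalHom hover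
  let φ := IsLocalRing.ResidueField.map (overHom hover)
  let φl : IsLocalRing.ResidueField P₀.O →ₗ[k] IsLocalRing.ResidueField P.O :=
    { toFun := φ
      map_add' := map_add φ
      map_smul' := fun c x => by
        obtain ⟨a, rfl⟩ := IsLocalRing.residue_surjective x
        change IsLocalRing.residue P.O (overHom hover (c • a)) =
          IsLocalRing.residue P.O (c • overHom hover a)
        refine congrArg _ (Subtype.ext ?_)
        rfl }
  have hfin := hL.finite_residueField P₀
  have hcharκ : CharP k p := (algebraMap k K).charP (algebraMap k K).injective p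
  have hexp : ExpChar k p := ExpChar.prime hp.out
  have hfinP := (FF.of_isFunctionField hK).finite_residueField P
  have hsurj : Function.Surjective φl := by
    intro y
    change ∃ a, φ a = y
    have h := Field.span_map_pow_expChar_pow_eq_top_of_isSeparable (F := k)
      (ι := IsLocalRing.ResidueField P.O) (v := id) p 1 (by rw [Set.range_id, Submodule.span_univ])
    have hy := h.ge (Submodule.mem_top (x := y))
    induction hy using Submodule.span_induction with
    | zero => exact ⟨0, map_zero φ⟩
    | add a b _ _ ha hb =>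
      obtain ⟨a', rfl⟩ := ha; obtain ⟨b', rfl⟩ := hb
      exact ⟨a' + b', map_add φ a' b'⟩
    | smul c a _ ha =>
      obtain ⟨a', rfl⟩ := ha
      refine ⟨algebraMap k (IsLocalRing.ResidueField P₀.O) c * a', ?_⟩
      rw [map_mul, Algebra.smul_def]
      rfl
    | mem w hw =>
    obtain ⟨x, rfl⟩ := hw
    obtain ⟨z, rfl⟩ := IsLocalRing.residue_surjective x
    have hzp : (z : K) ^ p ∈ L := IntermediateField.subset_adjoin k _ ⟨(z : K), rfl⟩
    have h1 : P₀.1 ⟨(z : K) ^ p, hzp⟩ ≤ 1 := by
      rw [← isOverWith_le_one_iff he]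
      change P.1 ((z : K) ^ p) ≤ 1
      rw [map_pow]
      exact pow_le_one₀ zero_le z.2
    refine ⟨IsLocalRing.residue P₀.O ⟨_, h1⟩, ?_⟩
    change φ (IsLocalRing.residue P₀.O ⟨_, h1⟩) = _
    rw [IsLocalRing.ResidueField.map_residue, pow_one]
    change _ = IsLocalRing.residue P.O z ^ p
    rw [← map_pow]
    rfl
  have hle : P.deg ≤ P₀.deg := LinearMap.finrank_le_finrank_of_surjective hsurj
  have hpos := hL.deg_pos P₀
  have h2 := hp.out.two_le
  nlinarith

theorem kaehlerD_uniformizer_ne_zero (hK : IsFunctionField k K) (hg : IsGeometric k K)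
    (P : Place k K) [Algebra.IsSeparable k (IsLocalRing.ResidueField P.O)] {t : K}
    (ht : P.1 t = exp (-1)) : KaehlerDifferential.D k K t ≠ 0 := by
  intro hD
  obtain ⟨q, hq⟩ := CharP.exists K
  rcases CharP.char_is_prime_or_zero K q with hq' | rfl
  · have := Fact.mk hq'
    exact uniformizer_notMem_powField q hK hg P ht ((mem_powField_iff q hK hg t).1.mpr hD)
  · have : CharZero K := CharP.charP_to_charZero K
    have htr := transcendental_of_ord_ne_zero P (x := t) (by rw [ord_eq_of_val_eq P ht]; simp)
    have := (FF.of_isFunctionField hK).finiteDimensional_adjoin htr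
    have hsep : Algebra.IsSeparable k⟮t⟯ K := inferInstance
    obtain ⟨t₁, H, hsep₁, hH⟩ := Exp31.exists_hasse hK hg
    have h1 := congrArg (hasseDer hH).liftKaehlerDifferential hD
    rw [Derivation.liftKaehlerDifferential_comp_D, map_zero] at h1
    have h2 := Exp31.derivation_eq_zero (k := k) (t := t) (RingHom.id K)
      (hasseDer hH).toLinearMap.toAddMonoidHom (fun a b => (hasseDer hH).leibniz a b)
      (fun c => (hasseDer hH).map_algebraMap c) h1 t₁
    change hasseDer hH t₁ = 0 at h2
    rw [hasseDer_apply, Exp31.hasseD_one_self hH] at h2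
    exact one_ne_zero h2

end Groth.Agent.FF30
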