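import Groth.Agent.FF30.Frob
import Groth.Agent.FF30.PowerSum
import Mathlib.RingTheory.PowerSeries.Trunc

/-! The zeta series of a function field over a finite field. -/

open FunFld

namespace Groth.Agent.FF30

variable {k K : Type*} [Field k] [Finite k] [Field K] [Algebra k K]

/-- The class sums along the multiples of `D₁`. -/
noncomputable def zA (D₁ : Divisor k K) (m : ℤ) : ℚ := classA (m • D₁)

/-- The coefficients of the numerator. -/
noncomputable def zL (D₁ : Divisor k K) (δ : ℕ) (m : ℤ) : ℚ :=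
  (zA D₁ m - (1 + (Nat.card k : ℚ) ^ δ) * zA D₁ (m - 1) + (Nat.card k : ℚ) ^ δ * zA D₁ (m - 2)) /
    ((Nat.card k : ℚ) - 1)

/-- The numerator in the variable `t ^ δ`. -/
noncomputable def zSer (k K : Type*) [Field k] [Field K] [Algebra k K] (δ : ℕ) : PowerSeries ℤ :=
  (1 - PowerSeries.X) * (1 - PowerSeries.C ((Nat.card k : ℤ) ^ δ) * PowerSeries.X) *
    PowerSeries.mk fun m => (effDivCount k K (δ * m) : ℤ)

omit [Finite k] in
theorem zSer_one : zSer k K 1 = numerZ k K := by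
  simp [zSer, numerZ, zetaZ]

omit [Finite k] in
theorem deg_zsmul' (D : Divisor k K) (m : ℤ) : (m • D).deg = m * D.deg := by
  rw [← degHom_eq, map_zsmul, degHom_eq, smul_eq_mul]

theorem one_lt_card_cast : (1 : ℚ) < (Nat.card k : ℚ) := by
  exact_mod_cast (Finite.one_lt_card : 1 < Nat.card k)

theorem effDivCount_zero (h : FF k K) : effDivCount k K 0 = 1 := by
  rw [effDivCount, Nat.card_eq_one_iff_unique]
  refine ⟨⟨fun E E' => Subtype.ext ?_⟩, ⟨⟨0, le_rfl, by simp [Divisor.deg]⟩⟩⟩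
  have key : ∀ D : Divisor k K, 0 ≤ D → D.deg = 0 → D = 0 := fun D hD hdeg => by
    ext P
    have h1 := (Finset.sum_eq_zero_iff_of_nonneg (f := fun R => D R * (R.deg : ℤ))
      (fun R _ => mul_nonneg (hD R) (Int.natCast_nonneg _))).mp hdeg P
    by_cases hP : P ∈ D.support
    · exact (mul_eq_zero.mp (h1 hP)).resolve_right (by exact_mod_cast (h.deg_pos P).ne')
    · exact Finsupp.notMem_support_iff.mp hP
  rw [key E.1 E.2.1 (by exact_mod_cast E.2.2), key E'.1 E'.2.1 (by exact_mod_cast E'.2.2)]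

section data

variable (hK : IsFunctionField k K) {D₁ : Divisor k K} {δ : ℕ} (hD₁ : D₁.deg = δ)

include hK hD₁

theorem zA_natCast (m : ℕ) :
    zA D₁ m = ((Nat.card k : ℚ) - 1) * effDivCount k K (δ * m) + classNum k K := by
  have h := effDivCount_formula hK (n := δ * m) (D := (m : ℤ) • D₁)
    (by rw [deg_zsmul', hD₁]; push_cast; ring)
  rw [zA, ← h]
  push_cast [Nat.cast_sub (show 1 ≤ Nat.card k from Nat.card_pos)]
  ring

theorem zA_neg (hδ : 0 < δ) {m : ℤ} (hm : m < 0) : zA D₁ m = classNum k K := by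
  rw [zA, classA_of_neg hK]
  rw [deg_zsmul', hD₁]
  exact mul_neg_of_neg_of_pos hm (by exact_mod_cast hδ)

theorem zA_large (m : ℕ) (hm : 2 * genus k K ≤ δ * m + 1) :
    zA D₁ m = classNum k K * (Nat.card k : ℚ) ^ ((δ * m : ℤ) + 1 - genus k K) := by
  rw [zA, classA_of_large hK (n := δ * m) (by rw [deg_zsmul', hD₁]; push_cast; ring) hm]
  push_cast
  rw [← zpow_natCast]
  congr 2
  rw [Nat.cast_sub (by omega)]
  push_cast
  ring

theorem zA_succ (m : ℕ) (hm : 2 * genus k K ≤ δ * m + 1) :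
    zA D₁ ((m + 1 : ℕ) : ℤ) = (Nat.card k : ℚ) ^ δ * zA D₁ m := by
  have h1 : δ * m ≤ δ * (m + 1) := Nat.mul_le_mul_left _ (Nat.le_succ m)
  rw [zA_large hK hD₁ m hm, zA_large hK hD₁ (m + 1) (by omega), mul_left_comm, ← zpow_natCast,
    ← zpow_add₀ (zero_lt_one.trans one_lt_card_cast).ne']
  congr 2
  push_cast
  ring

theorem coeff_zSer (hδ : 0 < δ) (m : ℕ) :
    ((PowerSeries.coeff m (zSer k K δ) : ℤ) : ℚ) = zL D₁ δ m := by
  have h1 : ((Nat.card k : ℚ) - 1) ≠ 0 := (sub_pos.mpr one_lt_card_cast).ne'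
  have hz : zSer k K δ = (1 - PowerSeries.C (1 + (Nat.card k : ℤ) ^ δ) * PowerSeries.X +
      PowerSeries.C ((Nat.card k : ℤ) ^ δ) * (PowerSeries.X * PowerSeries.X)) *
        PowerSeries.mk fun m => (effDivCount k K (δ * m) : ℤ) := by
    rw [zSer, map_add, map_one]
    ring
  rw [hz, zL, eq_div_iff h1]
  rcases m with _ | _ | m
  · simp only [sub_mul, add_mul, one_mul, map_add, map_sub, mul_assoc, PowerSeries.coeff_mk,
      PowerSeries.coeff_C_mul, PowerSeries.coeff_zero_X_mul, Nat.cast_zero, mul_zero, sub_zero,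
      add_zero]
    rw [zA_neg hK hD₁ hδ (show (0 : ℤ) - 1 < 0 by omega),
      zA_neg hK hD₁ hδ (show (0 : ℤ) - 2 < 0 by omega)]
    have h0 := zA_natCast hK hD₁ 0
    simp only [Nat.cast_zero, mul_zero] at h0
    rw [h0]
    push_cast
    ring
  · simp only [sub_mul, add_mul, one_mul, map_add, map_sub, mul_assoc, PowerSeries.coeff_mk,
      PowerSeries.coeff_C_mul, PowerSeries.coeff_succ_X_mul, PowerSeries.coeff_zero_X_mul,
      zero_add, Nat.cast_one, mul_zero, mul_one, add_zero]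
    rw [zA_neg hK hD₁ hδ (show (1 : ℤ) - 2 < 0 by omega)]
    have h0 := zA_natCast hK hD₁ 0
    have h1 := zA_natCast hK hD₁ 1
    simp only [Nat.cast_zero, mul_zero, Nat.cast_one, mul_one] at h0 h1
    rw [show (1 : ℤ) - 1 = 0 by ring, h0, h1]
    push_cast
    ring
  · simp only [sub_mul, add_mul, one_mul, map_add, map_sub, mul_assoc, PowerSeries.coeff_mk,
      PowerSeries.coeff_C_mul, PowerSeries.coeff_succ_X_mul]
    rw [show ((m + 1 + 1 : ℕ) : ℤ) - 1 = ((m + 1 : ℕ) : ℤ) by push_cast; ring,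
      show ((m + 1 + 1 : ℕ) : ℤ) - 2 = ((m : ℕ) : ℤ) by push_cast; ring,
      zA_natCast hK hD₁ (m + 1 + 1), zA_natCast hK hD₁ (m + 1), zA_natCast hK hD₁ m]
    push_cast
    ring

theorem zL_large (hδ : 0 < δ) (m : ℕ) (hm : 2 * genus k K + 3 ≤ m) : zL D₁ δ m = 0 := by
  have hle : ∀ n, n ≤ δ * n := fun n => Nat.le_mul_of_pos_left n hδ
  obtain ⟨n, rfl⟩ : ∃ n, m = n + 1 + 1 := ⟨m - 2, by omega⟩
  have h0 := hle n
  have h1 := hle (n + 1)
  rw [zL, show ((n + 1 + 1 : ℕ) : ℤ) - 1 = ((n + 1 : ℕ) : ℤ) by push_cast; ring,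
    show ((n + 1 + 1 : ℕ) : ℤ) - 2 = ((n : ℕ) : ℤ) by push_cast; ring,
    zA_succ hK hD₁ (n + 1) (by omega), zA_succ hK hD₁ n (by omega), div_eq_zero_iff]
  left
  ring

theorem sum_zL (hδ : 0 < δ) :
    ∑ m ∈ Finset.range (2 * genus k K + 3), zL D₁ δ (m : ℤ) =
      classNum k K * ((Nat.card k : ℚ) ^ δ - 1) / ((Nat.card k : ℚ) - 1) := by
  set Q := (Nat.card k : ℚ) ^ δ
  set f := fun i : ℕ => zA D₁ ((i : ℤ) - 1) - Q * zA D₁ ((i : ℤ) - 2) with hf
  have hterm : ∀ m : ℕ, zL D₁ δ (m : ℤ) = (f (m + 1) - f m) / ((Nat.card k : ℚ) - 1) := fun m => by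
    simp only [f, zL, Q, Nat.cast_succ, add_sub_cancel_right]
    rw [show (m : ℤ) + 1 - 2 = m - 1 by ring]
    ring
  rw [Finset.sum_congr rfl fun m _ => hterm m, ← Finset.sum_div, Finset.sum_range_sub]
  congr 1
  simp only [hf]
  have h1 : zA D₁ (((2 * genus k K + 3 : ℕ) : ℤ) - 1) = Q * zA D₁ (((2 * genus k K + 3 : ℕ) : ℤ) - 2) := by
    have hle := Nat.le_mul_of_pos_left (2 * genus k K + 1) hδ
    have := zA_succ hK hD₁ (2 * genus k K + 1) (by omega)
    convert this using 3 <;> push_cast <;> ring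
  rw [h1, zA_neg hK hD₁ hδ (show ((0 : ℕ) : ℤ) - 1 < 0 by omega),
    zA_neg hK hD₁ hδ (show ((0 : ℕ) : ℤ) - 2 < 0 by omega)]
  ring

theorem sum_zL_div_ne_zero (hδ : 0 < δ) :
    ∑ m ∈ Finset.range (2 * genus k K + 3), zL D₁ δ (m : ℤ) / ((Nat.card k : ℚ) ^ δ) ^ m ≠ 0 := by
  set Q := (Nat.card k : ℚ) ^ δ
  have hQ : 1 < Q := one_lt_pow₀ one_lt_card_cast hδ.ne'
  have hQ0 : Q ≠ 0 := (zero_lt_one.trans hQ).ne'
  set f := fun i : ℕ => Q * (zA D₁ ((i : ℤ) - 1) - zA D₁ ((i : ℤ) - 2)) / Q ^ i with hf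
  have hterm : ∀ m : ℕ, zL D₁ δ (m : ℤ) / Q ^ m = (f (m + 1) - f m) / ((Nat.card k : ℚ) - 1) :=
    fun m => by
      simp only [f, zL, Nat.cast_succ, add_sub_cancel_right]
      rw [show (m : ℤ) + 1 - 2 = m - 1 by ring, pow_succ]
      field_simp
      ring
  rw [Finset.sum_congr rfl fun m _ => hterm m, ← Finset.sum_div, Finset.sum_range_sub]
  have h0 : f 0 = 0 := by
    simp only [hf]
    rw [zA_neg hK hD₁ hδ (show ((0 : ℕ) : ℤ) - 1 < 0 by omega),
      zA_neg hK hD₁ hδ (show ((0 : ℕ) : ℤ) - 2 < 0 by omega)]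
    simp
  have hle := Nat.le_mul_of_pos_left (2 * genus k K + 1) hδ
  have h1 : zA D₁ (((2 * genus k K + 3 : ℕ) : ℤ) - 1) = Q * zA D₁ (((2 * genus k K + 3 : ℕ) : ℤ) - 2) := by
    have := zA_succ hK hD₁ (2 * genus k K + 1) (by omega)
    convert this using 3 <;> push_cast <;> ring
  have h2 : 0 < zA D₁ (((2 * genus k K + 3 : ℕ) : ℤ) - 2) := by
    rw [show ((2 * genus k K + 3 : ℕ) : ℤ) - 2 = ((2 * genus k K + 1 : ℕ) : ℤ) by push_cast; ring,
      zA_large hK hD₁ _ (by omega)]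
    exact mul_pos (by exact_mod_cast classNum_pos hK) (zpow_pos (zero_lt_one.trans one_lt_card_cast) _)
  rw [h0, sub_zero]
  simp only [hf]
  rw [h1]
  refine div_ne_zero (div_ne_zero (mul_ne_zero hQ0 ?_) (pow_ne_zero _ hQ0))
    (sub_pos.mpr one_lt_card_cast).ne'
  nlinarith

end data

omit [Finite k] in
theorem exists_deg_gen (h : FF k K) :
    ∃ (δ : ℕ) (D₁ : Divisor k K), 0 < δ ∧ D₁.deg = δ ∧ ∀ D : Divisor k K, (δ : ℤ) ∣ D.deg := by
  classical
  obtain ⟨P⟩ := h.nonempty_place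
  have hex : ∃ n : ℕ, 0 < n ∧ ∃ D : Divisor k K, D.deg = n :=
    ⟨P.deg, h.deg_pos P, Finsupp.single P 1, by simp [Divisor.deg]⟩
  obtain ⟨hpos, D₁, hD₁⟩ := Nat.find_spec hex
  refine ⟨Nat.find hex, D₁, hpos, hD₁, fun D => ?_⟩
  rw [Int.dvd_iff_emod_eq_zero]
  have h0 := Int.emod_nonneg D.deg (show (Nat.find hex : ℤ) ≠ 0 by omega)
  have hlt := Int.emod_lt_of_pos D.deg (show 0 < (Nat.find hex : ℤ) by omega)
  by_contra hne
  refine Nat.find_min hex (m := (D.deg % (Nat.find hex : ℤ)).toNat) (by omega)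
    ⟨by omega, D - (D.deg / (Nat.find hex : ℤ)) • D₁, ?_⟩
  rw [deg_sub, deg_zsmul', hD₁, Int.toNat_of_nonneg h0, Int.emod_def, mul_comm]

omit [Finite k] in
theorem frobSum_eq_zero {δ : ℕ} (hδdvd : ∀ D : Divisor k K, (δ : ℤ) ∣ D.deg) {j : ℕ} (hj : ¬ δ ∣ j) :
    frobSum k K j = 0 := by
  classical
  refine finsum_mem_of_eqOn_zero fun P (hP : P.deg ∣ j) => absurd ?_ hj
  have h1 := hδdvd (Finsupp.single P 1)
  simp only [Divisor.deg, Finsupp.sum_single_index, zero_mul, one_mul] at h1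
  exact (Int.natCast_dvd_natCast.mp h1).trans hP

theorem euler_rec_dvd (h : FF k K) {δ : ℕ} (hδ : 0 < δ) (hδdvd : ∀ D : Divisor k K, (δ : ℤ) ∣ D.deg)
    (m : ℕ) : δ * m * effDivCount k K (δ * m) =
      ∑ i ∈ Finset.Icc 1 m, frobSum k K (δ * i) * effDivCount k K (δ * (m - i)) := by
  classical
  rw [euler_rec h (δ * m)]
  rw [← Finset.sum_filter_of_ne (p := fun j => δ ∣ j) fun j _ hne => by
    by_contra hj
    exact hne (by rw [frobSum_eq_zero hδdvd hj, zero_mul])]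
  refine Finset.sum_nbij' (fun j => j / δ) (fun i => δ * i) ?_ ?_ ?_ ?_ ?_
  · intro j hj
    simp only [Finset.mem_filter, Finset.mem_Icc] at hj
    obtain ⟨⟨h1, h2⟩, i, rfl⟩ := hj
    simp only [Finset.mem_Icc, Nat.mul_div_cancel_left _ hδ]
    exact ⟨Nat.pos_of_mul_pos_left h1, Nat.le_of_mul_le_mul_left h2 hδ⟩
  · intro i hi
    simp only [Finset.mem_Icc] at hi
    simp only [Finset.mem_filter, Finset.mem_Icc]
    exact ⟨⟨Nat.mul_pos hδ hi.1, Nat.mul_le_mul_left _ hi.2⟩, dvd_mul_right _ _⟩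
  · intro j hj
    simp only [Finset.mem_filter] at hj
    exact Nat.mul_div_cancel' hj.2
  · intro i _
    exact Nat.mul_div_cancel_left _ hδ
  · intro j hj
    simp only [Finset.mem_filter] at hj
    obtain ⟨i, rfl⟩ := hj.2
    rw [Nat.mul_div_cancel_left _ hδ, Nat.mul_sub]

open PowerSeries in
/-- Power sums of the reciprocal roots count the places. -/
theorem frobSum_eq_of_roots (h : FF k K) {δ : ℕ} (hδ : 0 < δ)
    (hδdvd : ∀ D : Divisor k K, (δ : ℤ) ∣ D.deg) {σ : Type*} [Fintype σ] [DecidableEq σ] (β : σ → ℂ)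
    (hβ : PowerSeries.map (Int.castRingHom ℂ) (zSer k K δ) = ∏ i, (1 - C (β i) * X))
    (j : ℕ) (hj : j ≠ 0) :
    (frobSum k K (δ * j) : ℂ) = δ * (1 + ((Nat.card k : ℂ) ^ δ) ^ j - ∑ i, β i ^ j) := by
  set Q := (Nat.card k : ℂ) ^ δ
  set B : PowerSeries ℂ := PowerSeries.mk fun m => (effDivCount k K (δ * m) : ℂ)
  set u : PowerSeries ℂ := ∏ b : Bool, (1 - C (bif b then 1 else Q) * X) with hu
  have hL : (∏ i, (1 - C (β i) * X)) = u * B := by
    rw [← hβ, zSer, map_mul, map_mul, hu, Fintype.prod_bool]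
    congr 1
    simp [Q]
  set S : PowerSeries ℂ := PowerSeries.mk fun m => if m = 0 then 0 else (frobSum k K (δ * m) : ℂ)
  have hB : C (δ : ℂ) * (X * d⁄dX ℂ B) = S * B := by
    ext m
    rcases m with _ | m
    · simp [S, coeff_mul]
    rw [coeff_C_mul, coeff_succ_X_mul, coeff_derivative, coeff_mk, coeff_mul,
      Finset.Nat.sum_antidiagonal_eq_sum_range_succ_mk]
    simp only [S, B, coeff_mk, ite_mul, zero_mul]
    rw [Finset.sum_ite, Finset.sum_const_zero, zero_add]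
    have h1 := congrArg (Nat.cast : ℕ → ℂ) (euler_rec_dvd h hδ hδdvd (m + 1))
    push_cast at h1
    rw [show Finset.filter (fun x => ¬ x = 0) (Finset.range (m + 1).succ) = Finset.Icc 1 (m + 1) by
      ext x; simp; omega, ← h1]
    ring
  have h1 := logDeriv_prod (Finset.univ : Finset σ) β
  have h2 := logDeriv_prod (Finset.univ : Finset Bool) fun b => bif b then 1 else Q
  rw [hL, Derivation.leibniz, smul_eq_mul, smul_eq_mul] at h1
  rw [← hu] at h2
  set Pβ : PowerSeries ℂ := PowerSeries.mk fun n => if n = 0 then (0 : ℂ) else ∑ i, β i ^ n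
  set Pu : PowerSeries ℂ := PowerSeries.mk fun n => if n = 0 then (0 : ℂ) else
    ∑ b : Bool, (bif b then 1 else Q) ^ n
  have h3 : (∏ i, (1 - C (β i) * X)) * (S - C (δ : ℂ) * (Pu - Pβ)) = 0 := by
    rw [hL]
    linear_combination C (δ : ℂ) * h1 - u * hB - (B * C (δ : ℂ)) * h2
  have hne : (∏ i, (1 - C (β i) * X)) ≠ 0 := fun h0 => by
    simpa using congrArg constantCoeff h0
  have h4 := congrArg (coeff j) (sub_eq_zero.mp ((mul_eq_zero.mp h3).resolve_left hne))
  simp only [S, Pu, Pβ, coeff_mk, coeff_C_mul, map_sub, if_neg hj, Fintype.sum_bool, one_pow,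
    cond_true, cond_false] at h4
  exact h4

open Polynomial in
/-- A numerator polynomial for any index. -/
theorem exists_poly_roots (hK : IsFunctionField k K) {D₁ : Divisor k K} {δ : ℕ} (hD₁ : D₁.deg = δ)
    (hδ : 0 < δ) :
    ∃ p : Polynomial ℤ, (p : PowerSeries ℤ) = zSer k K δ ∧ p.natDegree < 2 * genus k K + 3 ∧
      ∃ β : Fin (p.map (Int.castRingHom ℂ)).natDegree → ℂ,
        (∀ i, β i ≠ 0) ∧ (∀ i, β i ≠ ((Nat.card k : ℂ) ^ δ)) ∧
        p.map (Int.castRingHom ℂ) = ∏ i, (1 - C (β i) * X) ∧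
        PowerSeries.map (Int.castRingHom ℂ) (zSer k K δ) =
          ∏ i, (1 - PowerSeries.C (β i) * PowerSeries.X) := by
  set M := 2 * genus k K + 3
  set p := PowerSeries.trunc M (zSer k K δ) with hp
  have hcoe : (p : PowerSeries ℤ) = zSer k K δ := by
    ext m
    rw [Polynomial.coeff_coe, hp, PowerSeries.coeff_trunc]
    split_ifs with hm
    · rfl
    · have h1 := coeff_zSer hK hD₁ hδ m
      rw [zL_large hK hD₁ hδ m (by omega), Int.cast_eq_zero] at h1
      exact h1.symm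
  have hdeg : p.natDegree < M := PowerSeries.natDegree_trunc_lt (zSer k K δ) (2 * genus k K + 2)
  have hp0 : p.coeff 0 = 1 := by
    rw [← Polynomial.coeff_coe, hcoe]
    simp [zSer, effDivCount_zero hK.1]
  have hP0 : (p.map (Int.castRingHom ℂ)).coeff 0 = 1 := by simp [hp0]
  obtain ⟨β, hβ0, hβ⟩ := exists_prod_one_sub _ hP0
  refine ⟨p, hcoe, hdeg, β, hβ0, fun i hi => ?_, hβ, ?_⟩
  · have h1 : (p.map (Int.castRingHom ℂ)).eval ((Nat.card k : ℂ) ^ δ)⁻¹ = 0 := by
      rw [hβ, eval_prod]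
      refine Finset.prod_eq_zero (Finset.mem_univ i) ?_
      simp only [eval_sub, eval_one, eval_mul, eval_C, eval_X]
      rw [hi, mul_inv_cancel₀, sub_self]
      exact pow_ne_zero _ (Nat.cast_ne_zero.mpr Nat.card_pos.ne')
    rw [eval_eq_sum_range' (n := M) (by rw [natDegree_map_eq_of_injective Int.cast_injective]; exact hdeg)] at h1
    refine sum_zL_div_ne_zero hK hD₁ hδ ?_
    have h2 : ((∑ m ∈ Finset.range M, zL D₁ δ (m : ℤ) / ((Nat.card k : ℚ) ^ δ) ^ m : ℚ) : ℂ) = 0 := by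
      rw [← h1]
      push_cast
      refine Finset.sum_congr rfl fun m _ => ?_
      rw [← coeff_zSer hK hD₁ hδ m, ← hcoe, Polynomial.coeff_coe, coeff_map, inv_pow, ← div_eq_mul_inv]
      simp
    exact_mod_cast h2
  · rw [← hcoe, ← Polynomial.polynomial_map_coe]
    refine (congrArg (fun r : Polynomial ℂ => (r : PowerSeries ℂ)) hβ).trans ?_
    rw [← Polynomial.coeToPowerSeries.ringHom_apply, map_prod]
    simp

/-- Over a finite field there is a divisor of degree one. -/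
theorem exists_deg_one (hK : IsFunctionField k K) : ∃ D : Divisor k K, D.deg = 1 := by
  classical
  obtain ⟨δ, D₁, hδ, hD₁, hdvd⟩ := exists_deg_gen hK.1
  obtain rfl | hδ2 : δ = 1 ∨ 2 ≤ δ := by omega
  · exact ⟨D₁, by exact_mod_cast hD₁⟩
  exfalso
  obtain ⟨p, -, -, β, -, hne, -, hser⟩ := exists_poly_roots hK hD₁ hδ
  have hF := frobSum_eq_of_roots hK.1 hδ hdvd β hser
  obtain ⟨C, N, hub⟩ := frobSum_le hK
  set q : ℝ := (Nat.card k : ℝ)
  have hq : 1 < q := Nat.one_lt_cast.mpr (Finite.one_lt_card : 1 < Nat.card k)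
  set R : ℝ := q ^ δ
  have hR : 1 < R := one_lt_pow₀ hq hδ.ne'
  have hre : ∀ n, n ≠ 0 → (∑ i, β i ^ n).re = 1 + R ^ n - (frobSum k K (δ * n) : ℝ) / δ := by
    intro n hn
    have h1 := congrArg Complex.re (hF n hn)
    rw [show ((Nat.card k : ℂ) ^ δ) ^ n = ((R ^ n : ℝ) : ℂ) by simp [R, q]] at h1
    simp only [Complex.natCast_re, Complex.mul_re, Complex.natCast_im, zero_mul, sub_zero,
      Complex.sub_re, Complex.add_re, Complex.one_re, Complex.ofReal_re] at h1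
    rw [h1, mul_div_cancel_left₀ _ (by exact_mod_cast hδ.ne' : (δ : ℝ) ≠ 0)]
    ring
  have hle : ∀ i, ‖β i‖ ≤ R := norm_le_of_powsum_re_le β (C := 2) (by linarith) 1 fun n hn => by
    rw [hre n (by omega)]
    have h1 : 1 ≤ R ^ n := one_le_pow₀ hR.le
    have h2 : 0 ≤ (frobSum k K (δ * n) : ℝ) / δ := by positivity
    linarith
  have hδR : (2 : ℝ) ≤ δ := by exact_mod_cast hδ2
  have hsq : Real.sqrt q ^ δ < R := by
    refine pow_lt_pow_left₀ ?_ (Real.sqrt_nonneg _) hδ.ne'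
    exact Real.sqrt_lt_self_iff.mpr hq
  have hlim : Filter.Tendsto (fun n : ℕ => |C| * (Real.sqrt q ^ δ / R) ^ n) Filter.atTop (nhds 0) := by
    simpa using (tendsto_pow_atTop_nhds_zero_of_lt_one (by positivity)
      ((div_lt_one (by linarith)).mpr hsq)).const_mul |C|
  obtain ⟨N', hN'⟩ := Filter.eventually_atTop.mp (hlim.eventually_lt_const (show (0 : ℝ) < 1 / 4 by norm_num))
  refine not_powsum_re_ge β (R := R) (c := 1 / 4) (by linarith) (by norm_num) hle
    (fun i => by simpa [R, q] using hne i) (N + N' + 1) fun n hn => ?_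
  have hu := hub (δ * n) (le_trans (by omega) (Nat.le_mul_of_pos_left n hδ))
  rw [pow_mul, pow_mul] at hu
  rw [hre n (by omega)]
  have hC : C * (Real.sqrt q ^ δ) ^ n ≤ 1 / 4 * R ^ n := by
    refine (mul_le_mul_of_nonneg_right (le_abs_self C) (by positivity)).trans ?_
    have := mul_le_mul_of_nonneg_right (hN' n (by omega)).le (pow_nonneg (show (0:ℝ) ≤ R by linarith) n)
    rwa [div_pow, mul_assoc, div_mul_cancel₀ _ (by positivity)] at this
  have hdiv : (frobSum k K (δ * n) : ℝ) / δ ≤ 3 / 4 * R ^ n := by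
    rw [div_le_iff₀ (by linarith)]
    nlinarith [pow_pos (show (0:ℝ) < R by linarith) n]
  linarith

end Groth.Agent.FF30
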